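import Cfsg.Agent.Lib.Lie.Ico.GroupDefs

/-!
Kernel checks: conjugacy reduction and powers.
-/

set_option autoImplicit false
set_option maxRecDepth 100000
set_option maxHeartbeats 0

namespace Cfsg.Agent.Lie.J2Cert

open Cfsg.Agent.Lie.Janko (M7)

theorem conj_ok0 : ((List.range 1890).all fun i => conjCheck i) = true := by decide +kernel

theorem conj_ok1 : ((List.range 1890).all fun i => conjCheck (1890 + i)) = true := by decide +kernel

theorem pow_ok0 : ((List.range 1560).all fun k => powCheck k) = true := by decide +kernel

theorem pow_ok1 : ((List.range 1560).all fun k => powCheck (1560 + k)) = true := by decide +kernel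

theorem pow_ok2 : ((List.range 1560).all fun k => powCheck (3120 + k)) = true := by decide +kernel

theorem pow_ok3 : ((List.range 1560).all fun k => powCheck (4680 + k)) = true := by decide +kernel

theorem witness_ok : (witnesses.all fun p =>
    let g := (borel.get p.2.1).mul (reps.get p.2.2)
    Nat.blt p.2.1 160 && Nat.blt p.2.2 3780 && isPlusMinus (g.pow p.1) &&
      (p.1.primeFactorsList.all fun q => !(isPlusMinus (g.pow (p.1 / q))))) = true := by
  decide +kernel

theorem witness_list : witnesses.map (fun p => p.1) = [7, 8, 10, 12, 15] := by decide +kernel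

end Cfsg.Agent.Lie.J2Cert
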