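import Cfsg.Agent.Lib.Lie.Ico.GroupDefs

/-!
Kernel checks of the modular certificate of the double cover of the Hall–Janko group.
-/

set_option autoImplicit false
set_option maxRecDepth 100000
set_option maxHeartbeats 0

namespace Cfsg.Agent.Lie.J2Cert

open Cfsg.Agent.Lie.Janko (M7)

theorem schX_ok0 : ((List.range 1260).all fun i => schXCheck i) = true := by decide +kernel

theorem schX_ok1 : ((List.range 1260).all fun i => schXCheck (1260 + i)) = true := by decide +kernel

theorem schX_ok2 : ((List.range 1260).all fun i => schXCheck (2520 + i)) = true := by decide +kernel

theorem schY_ok0 : ((List.range 1260).all fun i => schYCheck i) = true := by decide +kernel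

theorem schY_ok1 : ((List.range 1260).all fun i => schYCheck (1260 + i)) = true := by decide +kernel

theorem schY_ok2 : ((List.range 1260).all fun i => schYCheck (2520 + i)) = true := by decide +kernel

theorem tree_ok0 : ((List.range 1889).all fun i => treeCheck (i + 1)) = true := by decide +kernel

theorem tree_ok1 : ((List.range 1890).all fun i => treeCheck (1890 + i)) = true := by decide +kernel

theorem good_ok : (List.range 3780).all goodCheck = true := by decide +kernel

theorem borel_good_ok : ((List.range 160).all fun k => (borel.get k).goodB) = true := by decide +kernel

theorem borel_ok : (List.range 160).all borelCheck = true := by decide +kernel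

theorem borel_line_ok : (List.range 160).all borelLineCheck = true := by decide +kernel

theorem borel_distinct : ((List.range 160).all fun k => (List.range 160).all fun l =>
    Nat.beq k l || !((borel.get k).beq (borel.get l))) = true := by
  decide +kernel

theorem borel_distinct_neg : ((List.range 160).all fun k =>
    let n := negMat.mul (borel.get k)
    (List.range 160).all fun l => !(n.beq (borel.get l))) = true := by
  decide +kernel

end Cfsg.Agent.Lie.J2Cert
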