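import Cfsg.Agent.Lib.Lie.Ico.GroupDefs

/-!
Kernel checks: the orbit of lines, the centre and the reflections.
-/

set_option autoImplicit false
set_option maxRecDepth 100000
set_option maxHeartbeats 0

namespace Cfsg.Agent.Lie.J2Cert

open Cfsg.Agent.Lie.Janko (M7)

theorem line_ok : (List.range 3780).all lineCheck = true := by decide +kernel

theorem order_ok : (List.range 3779).all orderCheck = true := by decide +kernel

theorem cand_ok : (List.range 3780).all candCheck = true := by decide +kernel

theorem center_ok : (List.range 320).all centerCheck = true := by decide +kernel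

theorem refl_ok : ((List.range 314).all fun j => reflCheck (j + 1)) = true := by decide +kernel

theorem refl_good_ok : ((List.range 315).all fun j => (reflMat.get j).goodB) = true := by decide +kernel

theorem misc_ok : (reps.get 0).beq M7.one && (borel.get 0).beq M7.one && (xMat.goodB && yMat.goodB && negMat.goodB) &&
    (negMat.mul negMat).beq M7.one && (negMat.mul xMat).beq (xMat.mul negMat) &&
    (negMat.mul yMat).beq (yMat.mul negMat) && ((evalWord minusWord).pow minusPow).beq negMat &&
    (reflMat.get 0).beq (sgn rootCoset.2.2 ((borel.get rootCoset.1).mul (reps.get rootCoset.2.1))) &&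
    (Nat.blt rootCoset.1 160 && Nat.blt rootCoset.2.1 3780) &&
    ((reflMat.get (genIdx.getD 0 0)).mul (reflMat.get (genIdx.getD 1 0))).beq xMat &&
    ((reflMat.get (genIdx.getD 2 0)).mul (reflMat.get (genIdx.getD 3 0))).beq yMat &&
    decide (centerCand.length = 2) && (Nat.blt (bGen false) 160 && Nat.blt (bGen true) 160) &&
    Nat.beq (Janko.red baseVec) baseVec = true := by
  decide +kernel

end Cfsg.Agent.Lie.J2Cert
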