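import Mathlib
import Cfsg.Prelude.Def_Spor_J2

/-!
Icosians with integer coordinates: doubled quaternion coordinates in `ℤ[τ]`.
-/

set_option autoImplicit false

noncomputable section

namespace Cfsg.Agent.Lie.Ico

open Quaternion Cfsg.Spor

/-- A quaternion with coordinates `a + b τ`, listed as eight integers. -/
@[ext]
structure SQ : Type where
  w : ℤ
  w' : ℤ
  x : ℤ
  x' : ℤ
  y : ℤ
  y' : ℤ
  z : ℤ
  z' : ℤ
deriving DecidableEq

namespace SQ

/-- The sum. -/
def add (p q : SQ) : SQ :=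
  ⟨p.w + q.w, p.w' + q.w', p.x + q.x, p.x' + q.x', p.y + q.y, p.y' + q.y', p.z + q.z, p.z' + q.z'⟩

/-- The negative. -/
def neg (p : SQ) : SQ := ⟨-p.w, -p.w', -p.x, -p.x', -p.y, -p.y', -p.z, -p.z'⟩

/-- The difference. -/
def sub (p q : SQ) : SQ :=
  ⟨p.w - q.w, p.w' - q.w', p.x - q.x, p.x' - q.x', p.y - q.y, p.y' - q.y', p.z - q.z, p.z' - q.z'⟩

/-- An integer multiple. -/
def smul (n : ℤ) (p : SQ) : SQ :=
  ⟨n * p.w, n * p.w', n * p.x, n * p.x', n * p.y, n * p.y', n * p.z, n * p.z'⟩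

/-- The conjugate. -/
def conj (p : SQ) : SQ := ⟨p.w, p.w', -p.x, -p.x', -p.y, -p.y', -p.z, -p.z'⟩

/-- The product. -/
def mul (p q : SQ) : SQ :=
  ⟨(p.w * q.w + p.w' * q.w') - (p.x * q.x + p.x' * q.x') - (p.y * q.y + p.y' * q.y') - (p.z * q.z + p.z' * q.z'),
   (p.w * q.w' + p.w' * q.w + p.w' * q.w') - (p.x * q.x' + p.x' * q.x + p.x' * q.x') -
    (p.y * q.y' + p.y' * q.y + p.y' * q.y') - (p.z * q.z' + p.z' * q.z + p.z' * q.z'),
   (p.w * q.x + p.w' * q.x') + (p.x * q.w + p.x' * q.w') + (p.y * q.z + p.y' * q.z') - (p.z * q.y + p.z' * q.y'),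
   (p.w * q.x' + p.w' * q.x + p.w' * q.x') + (p.x * q.w' + p.x' * q.w + p.x' * q.w') +
    (p.y * q.z' + p.y' * q.z + p.y' * q.z') - (p.z * q.y' + p.z' * q.y + p.z' * q.y'),
   (p.w * q.y + p.w' * q.y') - (p.x * q.z + p.x' * q.z') + (p.y * q.w + p.y' * q.w') + (p.z * q.x + p.z' * q.x'),
   (p.w * q.y' + p.w' * q.y + p.w' * q.y') - (p.x * q.z' + p.x' * q.z + p.x' * q.z') +
    (p.y * q.w' + p.y' * q.w + p.y' * q.w') + (p.z * q.x' + p.z' * q.x + p.z' * q.x'),
   (p.w * q.z + p.w' * q.z') + (p.x * q.y + p.x' * q.y') - (p.y * q.x + p.y' * q.x') + (p.z * q.w + p.z' * q.w'),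
   (p.w * q.z' + p.w' * q.z + p.w' * q.z') + (p.x * q.y' + p.x' * q.y + p.x' * q.y') -
    (p.y * q.x' + p.y' * q.x + p.y' * q.x') + (p.z * q.w' + p.z' * q.w + p.z' * q.w')⟩

/-- The quaternion. -/
def toH (p : SQ) : ℍ[ℝ] := ⟨p.w + p.w' * tau, p.x + p.x' * tau, p.y + p.y' * tau, p.z + p.z' * tau⟩

/-- Half of the quaternion. -/
def val (p : SQ) : ℍ[ℝ] := (1 / 2 : ℝ) • p.toH

@[simp] theorem re_toH (p : SQ) : p.toH.re = p.w + p.w' * tau := rfl

@[simp] theorem imI_toH (p : SQ) : p.toH.imI = p.x + p.x' * tau := rfl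

@[simp] theorem imJ_toH (p : SQ) : p.toH.imJ = p.y + p.y' * tau := rfl

@[simp] theorem imK_toH (p : SQ) : p.toH.imK = p.z + p.z' * tau := rfl

@[simp] theorem re_val (p : SQ) : p.val.re = (p.w + p.w' * tau) / 2 := by simp [val]; ring

@[simp] theorem imI_val (p : SQ) : p.val.imI = (p.x + p.x' * tau) / 2 := by simp [val]; ring

@[simp] theorem imJ_val (p : SQ) : p.val.imJ = (p.y + p.y' * tau) / 2 := by simp [val]; ring

@[simp] theorem imK_val (p : SQ) : p.val.imK = (p.z + p.z' * tau) / 2 := by simp [val]; ring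

theorem tau_sq : tau * tau = tau + 1 := by
  have h : Real.sqrt 5 * Real.sqrt 5 = 5 := Real.mul_self_sqrt (by norm_num)
  simp only [tau]
  linear_combination (1 / 4 : ℝ) * h

theorem tau_irrational : Irrational tau := by
  have : tau = Real.goldenRatio := rfl
  rw [this]
  exact Real.goldenRatio_irrational

theorem toH_add (p q : SQ) : (p.add q).toH = p.toH + q.toH := by
  apply Quaternion.ext <;> simp [add] <;> ring

theorem toH_sub (p q : SQ) : (p.sub q).toH = p.toH - q.toH := by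
  apply Quaternion.ext <;> simp [sub] <;> ring

theorem toH_neg (p : SQ) : p.neg.toH = -p.toH := by
  apply Quaternion.ext <;> simp [neg] <;> ring

theorem toH_smul (n : ℤ) (p : SQ) : (p.smul n).toH = (n : ℝ) • p.toH := by
  apply Quaternion.ext <;> simp [smul] <;> ring

theorem toH_conj (p : SQ) : p.conj.toH = star p.toH := by
  apply Quaternion.ext <;> simp [conj] <;> ring

theorem toH_mul (p q : SQ) : (p.mul q).toH = p.toH * q.toH := by
  have h : tau ^ 2 = tau + 1 := by rw [pow_two, tau_sq]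
  apply Quaternion.ext <;> simp [mul] <;> ring_nf <;> rw [h] <;> ring

theorem coord_inj {a b c d : ℤ} (h : (a : ℝ) + b * tau = c + d * tau) : a = c ∧ b = d := by
  have hb : b = d := by
    by_contra hne
    have h1 : tau * ((b - d : ℤ) : ℝ) = ((c - a : ℤ) : ℝ) := by push_cast; linear_combination h
    exact (tau_irrational.mul_intCast (sub_ne_zero.2 hne)).ne_int _ h1
  subst hb
  exact ⟨by exact_mod_cast (add_right_cancel h : (a : ℝ) = c), rfl⟩

theorem toH_injective : Function.Injective toH := by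
  intro p q h
  obtain ⟨h1, h2⟩ := coord_inj (show (p.w : ℝ) + p.w' * tau = q.w + q.w' * tau from congrArg (·.re) h)
  obtain ⟨h3, h4⟩ := coord_inj (show (p.x : ℝ) + p.x' * tau = q.x + q.x' * tau from congrArg (·.imI) h)
  obtain ⟨h5, h6⟩ := coord_inj (show (p.y : ℝ) + p.y' * tau = q.y + q.y' * tau from congrArg (·.imJ) h)
  obtain ⟨h7, h8⟩ := coord_inj (show (p.z : ℝ) + p.z' * tau = q.z + q.z' * tau from congrArg (·.imK) h)
  exact SQ.ext h1 h2 h3 h4 h5 h6 h7 h8

theorem val_injective : Function.Injective val := fun p q h =>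
  toH_injective (smul_right_injective ℍ[ℝ] (show (1 / 2 : ℝ) ≠ 0 by norm_num) h)

theorem val_add (p q : SQ) : (p.add q).val = p.val + q.val := by simp [val, toH_add, smul_add]

theorem val_sub (p q : SQ) : (p.sub q).val = p.val - q.val := by simp [val, toH_sub, smul_sub]

theorem val_neg (p : SQ) : p.neg.val = -p.val := by simp [val, toH_neg]

theorem val_conj (p : SQ) : p.conj.val = star p.val := by simp [val, toH_conj]

/-- Halved multiplication. -/
theorem val_mul_of {p q r : SQ} (h : p.mul q = r.smul 2) : p.val * q.val = r.val := by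
  have e := congrArg toH h
  rw [toH_mul, toH_smul] at e
  rw [val, val, val, smul_mul_smul_comm, e, smul_smul]
  norm_num

/-- Membership in the icosian ring in coordinates. -/
def inI (p : SQ) : Prop :=
  (p.w + p.w' + p.x' + p.z) % 2 = 0 ∧ (p.w' + p.x + p.x' + p.y) % 2 = 0 ∧
    (p.x' + p.y + p.z + p.z') % 2 = 0 ∧ (p.w' + p.y + p.y' + p.z) % 2 = 0

instance (p : SQ) : Decidable p.inI := by unfold inI; infer_instance

theorem inI_add {p q : SQ} (hp : p.inI) (hq : q.inI) : (p.add q).inI := by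
  simp only [inI, add] at *
  omega

theorem inI_sub {p q : SQ} (hp : p.inI) (hq : q.inI) : (p.sub q).inI := by
  simp only [inI, sub] at *
  omega

theorem inI_neg {p : SQ} (hp : p.inI) : p.neg.inI := by
  simp only [inI, neg] at *
  omega

theorem inI_conj {p : SQ} (hp : p.inI) : p.conj.inI := by
  simp only [inI, conj] at *
  omega

end SQ

end Cfsg.Agent.Lie.Ico
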