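import Mathlib
import Cfsg.Agent.Lib.Lie.Ico.Scaled

/-!
The icosian ring and its two ideals of norm 2 in integer coordinates.
-/

set_option autoImplicit false
set_option maxHeartbeats 800000

noncomputable section

namespace Cfsg.Agent.Lie.Ico

open Quaternion Cfsg.Spor

namespace SQ

/-- The basis `1, i, g, ig, gi, igi, gig, igig`. -/
def basis : Fin 8 → SQ :=
  ![⟨2, 0, 0, 0, 0, 0, 0, 0⟩, ⟨0, 0, 2, 0, 0, 0, 0, 0⟩, ⟨1, 0, 1, -1, 0, 0, 0, 1⟩, ⟨-1, 1, 1, 0, 0, -1, 0, 0⟩,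
    ⟨-1, 1, 1, 0, 0, 1, 0, 0⟩, ⟨-1, 0, -1, 1, 0, 0, 0, 1⟩, ⟨-1, 1, 0, 1, 0, 0, 1, 0⟩, ⟨0, -1, -1, 1, -1, 0, 0, 0⟩]

/-- The scaled `i`. -/
def qi : SQ := ⟨0, 0, 2, 0, 0, 0, 0, 0⟩

/-- The scaled generator of order ten. -/
def qg : SQ := ⟨1, 0, 1, -1, 0, 0, 0, 1⟩

/-- The scaled `h`. -/
def hh : SQ := ⟨1, -2, 1, 0, 1, 0, 1, 0⟩

theorem val_qi : qi.val = qI := by
  apply Quaternion.ext <;> simp [qi, qI]

theorem val_qg : qg.val = ⟨1 / 2, sig / 2, 0, tau / 2⟩ := by
  apply Quaternion.ext <;> simp [qg, sig, tau] <;> ring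

theorem val_one : (⟨2, 0, 0, 0, 0, 0, 0, 0⟩ : SQ).val = 1 := by
  apply Quaternion.ext <;> simp

theorem val_hh : hh.val = icoH := by
  apply Quaternion.ext <;> simp [hh, icoH, tau] <;> ring

theorem val_mem_basis (k : Fin 8) : (basis k).val ∈ icosians := by
  have hi : qi.val ∈ icosians := val_qi ▸ Subring.subset_closure (Or.inl rfl)
  have hg : qg.val ∈ icosians := val_qg ▸ Subring.subset_closure (Or.inr rfl)
  have h0 : (basis 0).val ∈ icosians := val_one ▸ one_mem _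
  have h1 : (basis 1).val ∈ icosians := hi
  have h2 : (basis 2).val ∈ icosians := hg
  have h3 : (basis 3).val ∈ icosians := val_mul_of (by decide : qi.mul qg = (basis 3).smul 2) ▸ mul_mem hi hg
  have h4 : (basis 4).val ∈ icosians := val_mul_of (by decide : qg.mul qi = (basis 4).smul 2) ▸ mul_mem hg hi
  have h5 : (basis 5).val ∈ icosians := val_mul_of (by decide : (basis 3).mul qi = (basis 5).smul 2) ▸ mul_mem h3 hi
  have h6 : (basis 6).val ∈ icosians := val_mul_of (by decide : (basis 4).mul qg = (basis 6).smul 2) ▸ mul_mem h4 hg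
  have h7 : (basis 7).val ∈ icosians := val_mul_of (by decide : (basis 5).mul qg = (basis 7).smul 2) ▸ mul_mem h5 hg
  fin_cases k
  exacts [h0, h1, h2, h3, h4, h5, h6, h7]

/-- An integer combination of the basis. -/
def comb (c : Fin 8 → ℤ) : SQ :=
  ⟨2 * c 0 + c 2 - c 3 - c 4 - c 5 - c 6, c 3 + c 4 + c 6 - c 7, 2 * c 1 + c 2 + c 3 + c 4 - c 5 - c 7,
    -c 2 + c 5 + c 6 + c 7, -c 7, -c 3 + c 4, c 6, c 2 + c 5⟩

theorem toH_comb (c : Fin 8 → ℤ) : (comb c).toH = ∑ k, (c k : ℝ) • (basis k).toH := by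
  apply Quaternion.ext <;> simp [comb, basis, Fin.sum_univ_eight] <;> ring

theorem val_comb (c : Fin 8 → ℤ) : (comb c).val = ∑ k, (c k : ℝ) • (basis k).val := by
  rw [val, toH_comb, Finset.smul_sum]
  exact Finset.sum_congr rfl fun k _ => by rw [val, smul_comm]

theorem exists_comb {p : SQ} (hp : p.inI) : ∃ c : Fin 8 → ℤ, p = comb c := by
  refine ⟨![(p.w + p.w' + p.x' - p.z) / 2, (-p.w' + p.x + p.x' + p.y) / 2, (-p.x' - p.y + p.z + p.z') / 2,
    (p.w' - p.y - p.y' - p.z) / 2, (p.w' - p.y + p.y' - p.z) / 2, (p.x' + p.y - p.z + p.z') / 2, p.z, -p.y], ?_⟩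
  obtain ⟨h1, h2, h3, h4⟩ := hp
  apply SQ.ext <;> simp [comb] <;> omega

theorem val_mem_icosians {p : SQ} (hp : p.inI) : p.val ∈ icosians := by
  obtain ⟨c, rfl⟩ := exists_comb hp
  rw [val_comb]
  refine sum_mem fun k _ => ?_
  rw [← Int.cast_smul_eq_zsmul ℝ (c k) ((basis k).val) |>.symm]
  exact zsmul_mem (val_mem_basis k) _

theorem exists_of_mem {x : ℍ[ℝ]} (hx : x ∈ icosians) : ∃ p : SQ, p.inI ∧ p.val = x := by
  let S : AddSubgroup ℍ[ℝ] := AddSubgroup.closure (Set.range fun k => (basis k).val)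
  have hS : ∀ y ∈ icosians, ∀ z ∈ S, z * y ∈ S := by
    intro y hy
    induction hy using Subring.closure_induction with
    | mem g hg =>
      intro z hz
      induction hz using AddSubgroup.closure_induction with
      | mem b hb =>
        obtain ⟨k, rfl⟩ := hb
        have hgen : ∀ (q r : SQ) (c : Fin 8 → ℤ), (basis k).mul q = r.smul 2 → r = comb c →
            (basis k).val * q.val ∈ S := by
          intro q r c e1 e2
          rw [val_mul_of e1, e2, val_comb]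
          refine sum_mem fun j _ => ?_
          rw [← Int.cast_smul_eq_zsmul ℝ (c j) ((basis j).val) |>.symm]
          exact zsmul_mem (show (basis j).val ∈ S from AddSubgroup.subset_closure ⟨j, rfl⟩) _
        rcases hg with hg | hg
        · rw [hg, ← val_qi]
          fin_cases k
          · exact hgen qi (comb ![0, 1, 0, 0, 0, 0, 0, 0]) _ (by decide) rfl
          · exact hgen qi ⟨-2, 0, 0, 0, 0, 0, 0, 0⟩ ![-1, 0, 0, 0, 0, 0, 0, 0] (by decide) (by decide)
          · exact hgen qi (basis 4) ![0, 0, 0, 0, 1, 0, 0, 0] (by decide) (by decide)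
          · exact hgen qi (basis 5) ![0, 0, 0, 0, 0, 1, 0, 0] (by decide) (by decide)
          · exact hgen qi (basis 2).neg ![0, 0, -1, 0, 0, 0, 0, 0] (by decide) (by decide)
          · exact hgen qi (basis 3).neg ![0, 0, 0, -1, 0, 0, 0, 0] (by decide) (by decide)
          · exact hgen qi (comb ![0, 1, -1, -1, -1, 1, 0, -1]) _ (by decide) rfl
          · exact hgen qi (comb ![-1, 0, 1, -1, -1, -1, 1, 0]) _ (by decide) rfl
        · rw [Set.mem_singleton_iff.1 hg, ← val_qg]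
          fin_cases k
          · exact hgen qg (comb ![0, 0, 1, 0, 0, 0, 0, 0]) _ (by decide) rfl
          · exact hgen qg (basis 3) ![0, 0, 0, 1, 0, 0, 0, 0] (by decide) (by decide)
          · exact hgen qg (comb ![-1, 0, 1, 0, 0, 0, 0, 0]) _ (by decide) rfl
          · exact hgen qg (comb ![0, -1, 0, 1, 0, 0, 0, 0]) _ (by decide) rfl
          · exact hgen qg (basis 6) ![0, 0, 0, 0, 0, 0, 1, 0] (by decide) (by decide)
          · exact hgen qg (basis 7) ![0, 0, 0, 0, 0, 0, 0, 1] (by decide) (by decide)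
          · exact hgen qg (comb ![0, 0, 0, 0, -1, 0, 1, 0]) _ (by decide) rfl
          · exact hgen qg (comb ![0, 0, 0, 0, 0, -1, 0, 1]) _ (by decide) rfl
      | zero => rw [zero_mul]; exact zero_mem _
      | add a b _ _ ia ib => rw [add_mul]; exact add_mem ia ib
      | neg a _ ia => rw [neg_mul]; exact neg_mem ia
    | zero => exact fun z _ => by rw [mul_zero]; exact zero_mem _
    | one => exact fun z hz => by rwa [mul_one]
    | add a b _ _ ia ib => exact fun z hz => by rw [mul_add]; exact add_mem (ia z hz) (ib z hz)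
    | neg a _ ia => exact fun z hz => by rw [mul_neg]; exact neg_mem (ia z hz)
    | mul a b _ _ ia ib => exact fun z hz => by rw [← mul_assoc]; exact ib _ (ia z hz)
  have hxS : x ∈ S := by
    have h1 : (basis 0).val * x ∈ S := hS x hx _ (AddSubgroup.subset_closure ⟨0, rfl⟩)
    rwa [show (basis 0).val = 1 from val_one, one_mul] at h1
  clear hS hx
  induction hxS using AddSubgroup.closure_induction with
  | mem b hb =>
    obtain ⟨k, rfl⟩ := hb
    exact ⟨basis k, by fin_cases k <;> decide, rfl⟩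
  | zero => exact ⟨⟨0, 0, 0, 0, 0, 0, 0, 0⟩, by decide, by apply Quaternion.ext <;> simp⟩
  | add a b _ _ ia ib =>
    obtain ⟨p, hp, rfl⟩ := ia
    obtain ⟨q, hq, rfl⟩ := ib
    exact ⟨p.add q, inI_add hp hq, val_add p q⟩
  | neg a _ ia =>
    obtain ⟨p, hp, rfl⟩ := ia
    exact ⟨p.neg, inI_neg hp, val_neg p⟩

theorem val_mem_iff (p : SQ) : p.val ∈ icosians ↔ p.inI :=
  ⟨fun h => by obtain ⟨q, hq, e⟩ := exists_of_mem h; exact val_injective e ▸ hq, val_mem_icosians⟩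

/-- Coefficients in the monomial basis. -/
def coef (p : SQ) : Fin 8 → ℤ :=
  ![(p.w + p.w' + p.x' - p.z) / 2, (-p.w' + p.x + p.x' + p.y) / 2, (-p.x' - p.y + p.z + p.z') / 2,
    (p.w' - p.y - p.y' - p.z) / 2, (p.w' - p.y + p.y' - p.z) / 2, (p.x' + p.y - p.z + p.z') / 2, p.z, -p.y]

theorem coef_comb (c : Fin 8 → ℤ) : coef (comb c) = c := by
  funext k
  fin_cases k <;> simp [coef, comb] <;> omega

/-- The class of an icosian modulo `I h`, as a number below 16. -/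
def clsH (p : SQ) : ℤ :=
  (coef p 2 + coef p 4) % 2 + 2 * ((coef p 3 + coef p 5) % 2) + 4 * ((coef p 6 + coef p 7) % 2) +
    8 * ((coef p 0 + coef p 1 + coef p 6) % 2)

/-- The class of an icosian modulo `I h̄`, as a number below 16. -/
def clsC (p : SQ) : ℤ :=
  (coef p 0 + coef p 1) % 2 + 2 * ((coef p 2 + coef p 3) % 2) + 4 * ((coef p 2 + coef p 4 + coef p 5) % 2) +
    8 * ((coef p 0 + coef p 2 + coef p 6 + coef p 7) % 2)

theorem mul_eq_of_val {p q r : SQ} (e : r.val = p.val * q.val) : p.mul q = r.smul 2 := by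
  refine toH_injective ?_
  rw [toH_mul, toH_smul]
  simp only [val, smul_mul_smul_comm] at e
  have := congrArg (fun x : ℍ[ℝ] => (4 : ℝ) • x) e
  simp only [smul_smul] at this
  norm_num at this
  rw [← this]
  norm_num

/-- Right multiplication by `h` in coefficients. -/
def timesH (c : Fin 8 → ℤ) : Fin 8 → ℤ :=
  ![-c 0 - 2 * c 1 - c 2 - c 3 - c 4 + c 5 - c 6 + c 7, 2 * c 0 - c 1 + c 2 - c 3 - c 4 - c 5 - c 6 - c 7,
    2 * c 1 + c 3 + c 4 - c 5, -2 * c 0 - c 2 + c 4 + c 5, -2 * c 0 + c 3 + c 4 + c 5, -2 * c 1 - c 2 - c 4 + c 5,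
    c 0 + c 1 - 2 * c 5, -c 0 + c 1 + 2 * c 4]

/-- Right multiplication by `h̄` in coefficients. -/
def timesHC (c : Fin 8 → ℤ) : Fin 8 → ℤ :=
  ![c 2 - c 3 - c 4 + c 5 - c 6 + c 7, c 2 + c 3 - c 4 - c 5 - c 6 - c 7, -c 2 - c 3 + c 4 - c 5,
    c 2 - c 3 + c 4 + c 5, -c 3 + c 5 + 2 * c 7, c 2 - c 4 - 2 * c 6, -c 0 - c 1 - 2 * c 2 + c 6,
    c 0 - c 1 - 2 * c 3 + c 7]

theorem comb_mul_hh (c : Fin 8 → ℤ) : (comb c).mul hh = (comb (timesH c)).smul 2 := by
  simp only [comb, timesH, hh, mul, smul, SQ.mk.injEq, Matrix.cons_val]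
  refine ⟨?_, ?_, ?_, ?_, ?_, ?_, ?_, ?_⟩ <;> ring

theorem comb_mul_hc (c : Fin 8 → ℤ) : (comb c).mul hh.conj = (comb (timesHC c)).smul 2 := by
  simp only [comb, timesHC, hh, conj, mul, smul, SQ.mk.injEq, Matrix.cons_val]
  refine ⟨?_, ?_, ?_, ?_, ?_, ?_, ?_, ?_⟩ <;> ring

theorem smul_two_comb_inj {c d : Fin 8 → ℤ} (h : (comb c).smul 2 = (comb d).smul 2) : c = d := by
  have e : comb c = comb d := by
    simp only [smul, SQ.mk.injEq] at h
    obtain ⟨h0, h1, h2, h3, h4, h5, h6, h7⟩ := h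
    apply SQ.ext <;> omega
  rw [← coef_comb c, e, coef_comb]

theorem mem_leftIdeal_hh {p : SQ} (hp : p.inI) : p.val ∈ leftIdeal icoH ↔ clsH p = 0 := by
  obtain ⟨d, rfl⟩ := exists_comb hp
  constructor
  · rintro ⟨a, ha, e⟩
    obtain ⟨q, hq, rfl⟩ := exists_of_mem ha
    rw [← val_hh] at e
    obtain ⟨c, rfl⟩ := exists_comb hq
    have e2 : (comb c).mul hh = (comb d).smul 2 := mul_eq_of_val e
    rw [comb_mul_hh] at e2
    rw [← smul_two_comb_inj e2]
    simp only [clsH, coef_comb, timesH, Matrix.cons_val]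
    omega
  · intro h
    simp only [clsH, coef_comb] at h
    obtain ⟨k0, k1, k2, k3⟩ : (d 2 + d 4) % 2 = 0 ∧
        (d 3 + d 5) % 2 = 0 ∧
        (d 6 + d 7) % 2 = 0 ∧
        (d 0 + d 1 + d 6) % 2 = 0 := by omega
    clear h
    let e : Fin 8 → ℤ := ![(d 2 - d 3 - d 4 + d 5 - d 6 + d 7) / 2, (d 2 + d 3 - d 4 - d 5 - d 6 - d 7) / 2, (-d 2 - d 3 + d 4 - d 5) / 2,
      (d 2 - d 3 + d 4 + d 5) / 2, (-d 3 + d 5 + 2 * d 7) / 2, (d 2 - d 4 - 2 * d 6) / 2,
      (-d 0 - d 1 - 2 * d 2 + d 6) / 2, (d 0 - d 1 - 2 * d 3 + d 7) / 2]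
    refine ⟨(comb e).val, ?_, ?_⟩
    · rw [val_comb]
      refine sum_mem fun j _ => ?_
      rw [← Int.cast_smul_eq_zsmul ℝ (e j) ((basis j).val) |>.symm]
      exact zsmul_mem (val_mem_basis j) _
    · rw [← val_hh]
      refine (val_mul_of ?_).symm
      rw [comb_mul_hh, show timesH e = d from ?_]
      funext j
      fin_cases j <;> simp [timesH, e] <;> omega

theorem mem_leftIdeal_hc {p : SQ} (hp : p.inI) : p.val ∈ leftIdeal (star icoH) ↔ clsC p = 0 := by
  obtain ⟨d, rfl⟩ := exists_comb hp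
  constructor
  · rintro ⟨a, ha, e⟩
    obtain ⟨q, hq, rfl⟩ := exists_of_mem ha
    rw [← val_hh, ← val_conj] at e
    obtain ⟨c, rfl⟩ := exists_comb hq
    have e2 : (comb c).mul hh.conj = (comb d).smul 2 := mul_eq_of_val e
    rw [comb_mul_hc] at e2
    rw [← smul_two_comb_inj e2]
    simp only [clsC, coef_comb, timesHC, Matrix.cons_val]
    omega
  · intro h
    simp only [clsC, coef_comb] at h
    obtain ⟨k0, k1, k2, k3⟩ : (d 0 + d 1) % 2 = 0 ∧
        (d 2 + d 3) % 2 = 0 ∧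
        (d 2 + d 4 + d 5) % 2 = 0 ∧
        (d 0 + d 2 + d 6 + d 7) % 2 = 0 := by omega
    clear h
    let e : Fin 8 → ℤ := ![(-d 0 - 2 * d 1 - d 2 - d 3 - d 4 + d 5 - d 6 + d 7) / 2, (2 * d 0 - d 1 + d 2 - d 3 - d 4 - d 5 - d 6 - d 7) / 2,
      (2 * d 1 + d 3 + d 4 - d 5) / 2, (-2 * d 0 - d 2 + d 4 + d 5) / 2, (-2 * d 0 + d 3 + d 4 + d 5) / 2,
      (-2 * d 1 - d 2 - d 4 + d 5) / 2, (d 0 + d 1 - 2 * d 5) / 2, (-d 0 + d 1 + 2 * d 4) / 2]
    refine ⟨(comb e).val, ?_, ?_⟩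
    · rw [val_comb]
      refine sum_mem fun j _ => ?_
      rw [← Int.cast_smul_eq_zsmul ℝ (e j) ((basis j).val) |>.symm]
      exact zsmul_mem (val_mem_basis j) _
    · rw [← val_hh, ← val_conj]
      refine (val_mul_of ?_).symm
      rw [comb_mul_hc, show timesHC e = d from ?_]
      funext j
      fin_cases j <;> simp [timesHC, e] <;> omega

theorem sub_mem_leftIdeal_hh {p q : SQ} (hp : p.inI) (hq : q.inI) :
    p.val - q.val ∈ leftIdeal icoH ↔ clsH p = clsH q := by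
  rw [← val_sub, mem_leftIdeal_hh (inI_sub hp hq)]
  obtain ⟨c, rfl⟩ := exists_comb hp
  obtain ⟨d, rfl⟩ := exists_comb hq
  have e : (comb c).sub (comb d) = comb (c - d) := by
    apply SQ.ext <;> simp [comb, sub] <;> ring
  simp only [e, clsH, coef_comb, Pi.sub_apply]
  clear e hp hq
  constructor <;> intro h <;> omega

end SQ

end Cfsg.Agent.Lie.Ico
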