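import Mathlib
import Cfsg.Agent.Lib.Lie.Ico.Ring

/-!
Reduction of scaled icosians modulo a prime above 11, and the matrices of reflections.
-/

set_option autoImplicit false
set_option maxHeartbeats 800000

namespace Cfsg.Agent.Lie.Ico

/-- Reduction of `a + b τ`, with `τ = 8`. -/
def sc (a b : ℤ) : ZMod 11 := (a : ZMod 11) + 8 * (b : ZMod 11)

/-- A quaternion modulo 11 as a 2 × 2 matrix. -/
def quatMat (W X Y Z : ZMod 11) : Matrix (Fin 2) (Fin 2) (ZMod 11) :=
  !![W + Y - 3 * Z, -X + 3 * Y + Z; X + 3 * Y + Z, W - Y + 3 * Z]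

/-- Reduction of a scaled quaternion. -/
def phi (p : SQ) : Matrix (Fin 2) (Fin 2) (ZMod 11) :=
  quatMat (sc p.w p.w') (sc p.x p.x') (sc p.y p.y') (sc p.z p.z')

theorem eleven_zero : (11 : ZMod 11) = 0 := by decide

theorem sc_mul (a b c d : ℤ) : sc a b * sc c d = sc (a * c + b * d) (a * d + b * c + b * d) := by
  simp only [sc]
  push_cast
  have h : (8 : ZMod 11) * 8 = 8 + 1 := by decide
  linear_combination ((b : ZMod 11) * (d : ZMod 11)) * h

theorem sc_add (a b c d : ℤ) : sc (a + c) (b + d) = sc a b + sc c d := by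
  simp only [sc]; push_cast; ring

theorem sc_sub (a b c d : ℤ) : sc (a - c) (b - d) = sc a b - sc c d := by
  simp only [sc]; push_cast; ring

theorem quatMat_mul (W X Y Z W' X' Y' Z' : ZMod 11) :
    quatMat W X Y Z * quatMat W' X' Y' Z' = quatMat (W * W' - X * X' - Y * Y' - Z * Z')
      (W * X' + X * W' + Y * Z' - Z * Y') (W * Y' - X * Z' + Y * W' + Z * X') (W * Z' + X * Y' - Y * X' + Z * W') := by
  have h : (11 : ZMod 11) = 0 := eleven_zero
  ext i j
  fin_cases i <;> fin_cases j <;> simp [quatMat, Matrix.mul_apply, Fin.sum_univ_two] <;> ring_nf <;> reduce_mod_char <;> ring_nf <;> reduce_mod_char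

theorem phi_mul (p q : SQ) : phi (p.mul q) = phi p * phi q := by
  simp only [phi, SQ.mul, quatMat_mul, sc_add, sc_sub, ← sc_mul]
  congr 1 <;> (simp only [sc]; push_cast; ring_nf; reduce_mod_char)

theorem phi_add (p q : SQ) : phi (p.add q) = phi p + phi q := by
  ext i j
  fin_cases i <;> fin_cases j <;> simp [phi, quatMat, sc, SQ.add] <;> ring

theorem phi_sub (p q : SQ) : phi (p.sub q) = phi p - phi q := by
  ext i j
  fin_cases i <;> fin_cases j <;> simp [phi, quatMat, sc, SQ.sub] <;> ring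

theorem phi_smul (n : ℤ) (p : SQ) : phi (p.smul n) = (n : ZMod 11) • phi p := by
  ext i j
  fin_cases i <;> fin_cases j <;> simp [phi, quatMat, sc, SQ.smul] <;> ring

/-- The coordinate of a row or column index. -/
def blockIdx (r : Fin 7) : Fin 3 := ⟨r.val / 2 % 3, Nat.mod_lt _ (by norm_num)⟩

/-- The position inside a block. -/
def innerIdx (r : Fin 7) : Fin 2 := ⟨r.val % 2, Nat.mod_lt _ (by norm_num)⟩

/-- The reduction of a scaled vector, with a zero seventh row. -/
def phiV (p : Fin 3 → SQ) : Matrix (Fin 7) (Fin 2) (ZMod 11) :=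
  Matrix.of fun r i => if r.val < 6 then phi (p (blockIdx r)) i (innerIdx r) else 0

/-- The padded matrix of the reflection in a scaled vector. -/
def reflModel (s : Fin 3 → SQ) : Matrix (Fin 7) (Fin 7) (ZMod 11) :=
  Matrix.of fun r c => (if r = c then 1 else 0) -
    if r.val < 6 ∧ c.val < 6 then
      7 * (phi ((s (blockIdx c)).conj) * phi (s (blockIdx r))) (innerIdx c) (innerIdx r)
    else 0

theorem phiV_refl {p q s : Fin 3 → SQ}
    (h : ∀ t, (q t).smul 8 = ((p t).smul 8).sub
      (((((p 0).mul (s 0).conj).add ((p 1).mul (s 1).conj)).add ((p 2).mul (s 2).conj)).mul (s t))) :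
    phiV q = reflModel s * phiV p := by
  have h7 : ∀ t, phi (q t) = phi (p t) - (7 : ZMod 11) •
      ((phi (p 0) * (phi (s 0).conj * phi (s t))) + (phi (p 1) * (phi (s 1).conj * phi (s t))) +
        (phi (p 2) * (phi (s 2).conj * phi (s t)))) := by
    intro t
    have e := congrArg phi (h t)
    rw [phi_sub, phi_smul, phi_smul, phi_mul, phi_add, phi_add, phi_mul, phi_mul, phi_mul] at e
    have e' := congrArg (fun M : Matrix (Fin 2) (Fin 2) (ZMod 11) => (7 : ZMod 11) • M) e
    simp only [smul_sub, smul_smul, Int.cast_ofNat] at e'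
    rw [show (7 : ZMod 11) * 8 = 1 from by decide, one_smul, one_smul] at e'
    rw [e', Matrix.add_mul, Matrix.add_mul, Matrix.mul_assoc, Matrix.mul_assoc, Matrix.mul_assoc]
  ext r i
  simp only [Matrix.mul_apply, Fin.sum_univ_seven]
  fin_cases r <;>
    simp [phiV, reflModel, blockIdx, innerIdx, h7, Matrix.mul_apply, Fin.sum_univ_two] <;> ring

end Cfsg.Agent.Lie.Ico
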