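import Cfsg.Agent.Lib.Lie.Ico.EnumDefs

/-!
Kernel runs of the searches for minimal vectors.
-/

set_option autoImplicit false
set_option maxRecDepth 100000
set_option maxHeartbeats 0

namespace Cfsg.Agent.Lie.Ico

theorem keySum_ok : keySum = true := by decide +kernel

theorem entries_ok0 : ((bucketTable.take 40).all fun e => e.2.all entryCheck) = true := by decide +kernel

theorem entries_ok1 : (((bucketTable.drop 40).take 40).all fun e => e.2.all entryCheck) = true := by decide +kernel

theorem entries_ok2 : ((bucketTable.drop 80).all fun e => e.2.all entryCheck) = true := by decide +kernel

theorem units_ok : unitList.all unitCheck = true ∧ unitList.length = 120 := by decide +kernel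

theorem reps_ok : repList.all repCheck = true ∧ repList.length = 51 := by decide +kernel

theorem first_ok : repList.all firstSearch = true := by decide +kernel

theorem second_ok : repList.all secondSearch = true := by decide +kernel

theorem third_ok : repList.all thirdSearch = true := by decide +kernel

theorem lines_ok : lineList.all lineCheckIco = true ∧ lineList.length = 315 := by decide +kernel

end Cfsg.Agent.Lie.Ico
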