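import Cfsg.Agent.Lib.Lie.Ico.EnumDefs

/-!
Kernel runs of the searches for minimal vectors.
-/

set_option autoImplicit false
set_option maxRecDepth 100000
set_option maxHeartbeats 0

namespace Cfsg.Agent.Lie.Ico

theorem sweep_0_0 : sweepAt (0) (0) = true := by decide +kernel

theorem sweep_0_1 : sweepAt (0) (1) = true := by decide +kernel

theorem sweep_0_m1 : sweepAt (0) (-1) = true := by decide +kernel

theorem sweep_0_2 : sweepAt (0) (2) = true := by decide +kernel

theorem sweep_0_m2 : sweepAt (0) (-2) = true := by decide +kernel

theorem sweep_0_3 : sweepAt (0) (3) = true := by decide +kernel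

theorem sweep_0_m3 : sweepAt (0) (-3) = true := by decide +kernel

theorem sweep_0_4 : sweepAt (0) (4) = true := by decide +kernel

theorem sweep_0_m4 : sweepAt (0) (-4) = true := by decide +kernel

theorem sweep_1_0 : sweepAt (1) (0) = true := by decide +kernel

theorem sweep_1_1 : sweepAt (1) (1) = true := by decide +kernel

theorem sweep_1_m1 : sweepAt (1) (-1) = true := by decide +kernel

theorem sweep_1_2 : sweepAt (1) (2) = true := by decide +kernel

theorem sweep_1_m2 : sweepAt (1) (-2) = true := by decide +kernel

theorem sweep_1_3 : sweepAt (1) (3) = true := by decide +kernel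

theorem sweep_1_m3 : sweepAt (1) (-3) = true := by decide +kernel

theorem sweep_m1_0 : sweepAt (-1) (0) = true := by decide +kernel

theorem sweep_m1_1 : sweepAt (-1) (1) = true := by decide +kernel

theorem sweep_m1_m1 : sweepAt (-1) (-1) = true := by decide +kernel

theorem sweep_m1_2 : sweepAt (-1) (2) = true := by decide +kernel

theorem sweep_m1_m2 : sweepAt (-1) (-2) = true := by decide +kernel

theorem sweep_m1_3 : sweepAt (-1) (3) = true := by decide +kernel

theorem sweep_m1_m3 : sweepAt (-1) (-3) = true := by decide +kernel

theorem sweep_2 : sweepRow (2) = true := by decide +kernel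

theorem sweep_m2 : sweepRow (-2) = true := by decide +kernel

theorem sweep_3 : sweepRow (3) = true := by decide +kernel

theorem sweep_m3 : sweepRow (-3) = true := by decide +kernel

theorem sweep_4 : sweepRow (4) = true := by decide +kernel

theorem sweep_m4 : sweepRow (-4) = true := by decide +kernel

end Cfsg.Agent.Lie.Ico
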