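import Mathlib
import Cfsg.Agent.Lib.Lie.Ico.EnumChecks
import Cfsg.Agent.Lib.Lie.Ico.EnumSweep

/-!
Every minimal vector of the icosian lattice is a unit multiple of one of 315 listed vectors.
-/

set_option autoImplicit false
set_option maxRecDepth 20000
set_option maxHeartbeats 1000000

noncomputable section

namespace Cfsg.Agent.Lie.Ico

open Quaternion Cfsg.Spor SQ

theorem zeq_iff {a b : ℤ} : zeq a b = true ↔ a = b := by
  cases a <;> cases b <;> simp [zeq]

theorem beq_iff {p q : SQ} : p.beq q = true ↔ p = q := by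
  simp [SQ.beq, zeq_iff, SQ.ext_iff, and_assoc]

theorem mem_smalls {a : ℤ} (h : a * a ≤ 16) : a ∈ smalls := by
  have h1 : a ≤ 4 := by nlinarith
  have h2 : -4 ≤ a := by nlinarith
  interval_cases a <;> decide

theorem mem_within {a n : ℤ} (hn : n ≤ 16) (h : a * a ≤ n) : a ∈ within n :=
  List.mem_filter.2 ⟨mem_smalls (h.trans hn), by simpa using h⟩

theorem mem_withinPar {a n s : ℤ} (hn : n ≤ 16) (h : a * a ≤ n) (hs : (a + s) % 2 = 0) : a ∈ withinPar n s :=
  List.mem_filter.2 ⟨mem_within hn h, zeq_iff.2 hs⟩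

theorem sweepAt_all {a a' : ℤ} (h : a * a + a' * a' ≤ 16) : sweepAt a a' = true := by
  have ha := mem_smalls (show a * a ≤ 16 by nlinarith)
  have ha' := mem_smalls (show a' * a' ≤ 16 by nlinarith)
  have hrow : ∀ b, sweepRow b = true → b = a → sweepAt a a' = true := by
    intro b hb e
    subst e
    exact List.all_eq_true.1 hb a' (mem_within (by nlinarith) (by linarith))
  simp only [smalls, List.mem_cons, List.not_mem_nil, or_false] at ha ha'
  rcases ha with rfl | rfl | rfl | rfl | rfl | rfl | rfl | rfl | rfl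
  · rcases ha' with rfl | rfl | rfl | rfl | rfl | rfl | rfl | rfl | rfl
    · exact sweep_0_0
    · exact sweep_0_1
    · exact sweep_0_m1
    · exact sweep_0_2
    · exact sweep_0_m2
    · exact sweep_0_3
    · exact sweep_0_m3
    · exact sweep_0_4
    · exact sweep_0_m4
  · rcases ha' with rfl | rfl | rfl | rfl | rfl | rfl | rfl | rfl | rfl
    · exact sweep_1_0
    · exact sweep_1_1
    · exact sweep_1_m1
    · exact sweep_1_2
    · exact sweep_1_m2
    · exact sweep_1_3
    · exact sweep_1_m3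
    · norm_num at h
    · norm_num at h
  · rcases ha' with rfl | rfl | rfl | rfl | rfl | rfl | rfl | rfl | rfl
    · exact sweep_m1_0
    · exact sweep_m1_1
    · exact sweep_m1_m1
    · exact sweep_m1_2
    · exact sweep_m1_m2
    · exact sweep_m1_3
    · exact sweep_m1_m3
    · norm_num at h
    · norm_num at h
  · exact hrow _ sweep_2 rfl
  · exact hrow _ sweep_m2 rfl
  · exact hrow _ sweep_3 rfl
  · exact hrow _ sweep_m3 rfl
  · exact hrow _ sweep_4 rfl
  · exact hrow _ sweep_m4 rfl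

theorem leaf_ok {p : SQ} (hp : p.inI) (hn : nA p ≤ 16) : leafCheck p = true := by
  obtain ⟨h1, h2, h3, h4⟩ := hp
  have s1 := mul_self_nonneg p.w; have s2 := mul_self_nonneg p.w'
  have s3 := mul_self_nonneg p.x; have s4 := mul_self_nonneg p.x'
  have s5 := mul_self_nonneg p.y; have s6 := mul_self_nonneg p.y'
  have s7 := mul_self_nonneg p.z; have s8 := mul_self_nonneg p.z'
  simp only [nA] at hn
  have h := sweepAt_all (show p.w * p.w + p.w' * p.w' ≤ 16 by linarith)
  have k1 := List.all_eq_true.1 h p.x (mem_within (by linarith) (by linarith))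
  have k2 := List.all_eq_true.1 k1 p.x' (mem_within (by linarith) (by linarith))
  have k3 := List.all_eq_true.1 k2 p.y (mem_withinPar (by linarith) (by linarith) (by omega))
  have k4 := List.all_eq_true.1 k3 p.z (mem_withinPar (by linarith) (by linarith) (by omega))
  have k5 := List.all_eq_true.1 k4 p.z' (mem_withinPar (by linarith) (by linarith) (by omega))
  exact List.all_eq_true.1 k5 p.y' (mem_withinPar (by linarith) (by linarith) (by omega))

/-- The norm of a scaled vector. -/
theorem val_mul_star_val (p : SQ) :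
    p.val * star p.val = (((nA p : ℝ) + nB p * tau) / 4 : ℝ) • (1 : ℍ[ℝ]) := by
  have h : tau ^ 2 = tau + 1 := by rw [pow_two, tau_sq]
  apply Quaternion.ext <;> simp [nA, nB] <;> ring_nf <;> rw [h] <;> ring

theorem bucket_mem {k : ℤ × ℤ × ℤ} {x : SQ × ℕ × ℕ} (hx : x ∈ bucket k) :
    ∃ e ∈ bucketTable, e.1 = k ∧ x ∈ e.2 := by
  unfold bucket at hx
  split at hx
  · next e he =>
    refine ⟨e, List.mem_of_find?_eq_some he, ?_, hx⟩
    have := List.find?_some he
    simp only [Bool.and_eq_true, zeq_iff] at this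
    exact Prod.ext this.1 (Prod.ext this.2.1 this.2.2)
  · simp at hx

theorem entries_all {e : (ℤ × ℤ × ℤ) × List (SQ × ℕ × ℕ)} (he : e ∈ bucketTable) : e.2.all entryCheck = true := by
  rw [← List.take_append_drop 40 bucketTable, List.mem_append] at he
  rcases he with h | h
  · exact List.all_eq_true.1 entries_ok0 e h
  rw [← List.take_append_drop 40 (bucketTable.drop 40), List.mem_append] at h
  rcases h with h | h
  · exact List.all_eq_true.1 entries_ok1 e h
  · rw [List.drop_drop] at h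
    exact List.all_eq_true.1 entries_ok2 e h

/-- The scaled zero. -/
abbrev zeroSQ : SQ := ⟨0, 0, 0, 0, 0, 0, 0, 0⟩

theorem val_zeroSQ : zeroSQ.val = 0 := by
  apply Quaternion.ext <;> simp

/-- A listed line as a vector. -/
def lineVec (l : SQ × SQ × SQ) : Fin 3 → ℍ[ℝ] := ![l.1.val, l.2.1.val, l.2.2.val]

theorem qip_three (x y : Fin 3 → ℍ[ℝ]) : qip x y = x 0 * star (y 0) + x 1 * star (y 1) + x 2 * star (y 2) := by
  simp [qip, Fin.sum_univ_three]

theorem qip_val {p q r : SQ} : qip ![p.val, q.val, r.val] ![p.val, q.val, r.val] = 4 ↔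
    nA p + nA q + nA r = 16 ∧ nB p + nB q + nB r = 0 := by
  rw [qip_three]
  simp only [Matrix.cons_val]
  rw [val_mul_star_val, val_mul_star_val, val_mul_star_val, ← add_smul, ← add_smul]
  constructor
  · intro h
    have h' := congrArg (·.re) h
    simp only [Quaternion.re_smul, Quaternion.re_one, smul_eq_mul, mul_one] at h'
    rw [show (4 : ℍ[ℝ]).re = 4 from rfl] at h'
    refine coord_inj ?_
    push_cast
    linarith
  · rintro ⟨h1, h2⟩
    have h1' : (nA p : ℝ) + nA q + nA r = 16 := by exact_mod_cast h1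
    have h2' : (nB p : ℝ) + nB q + nB r = 0 := by exact_mod_cast h2
    rw [show ((nA p : ℝ) + nB p * tau) / 4 + (nA q + nB q * tau) / 4 + (nA r + nB r * tau) / 4 = 4 by
      linear_combination (1 / 4 : ℝ) * h1' + (tau / 4) * h2']
    apply Quaternion.ext <;> simp <;> rfl

/-- The conditions on a scaled triple. -/
def IsMinTriple (p q r : SQ) : Prop :=
  p.inI ∧ q.inI ∧ r.inI ∧ clsH p = clsH q ∧ clsH q = clsH r ∧ clsC ((p.add q).add r) = 0 ∧
    nA p + nA q + nA r = 16 ∧ nB p + nB q + nB r = 0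

theorem isMinTriple_iff {p q r : SQ} (hp : p.inI) (hq : q.inI) (hr : r.inI) :
    IsMinTriple p q r ↔ ![p.val, q.val, r.val] ∈ icoLeech ∧ qip ![p.val, q.val, r.val] ![p.val, q.val, r.val] = 4 := by
  rw [qip_val]
  have hs : ![p.val, q.val, r.val] ∈ icoLeech ↔ clsH p = clsH q ∧ clsH q = clsH r ∧ clsC ((p.add q).add r) = 0 := by
    simp only [icoLeech, Set.mem_setOf_eq, Matrix.cons_val]
    rw [sub_mem_leftIdeal_hh hp hq, sub_mem_leftIdeal_hh hq hr, ← val_add, ← val_add,
      mem_leftIdeal_hc (inI_add (inI_add hp hq) hr)]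
    constructor
    · exact fun h => h.2
    · refine fun h => ⟨fun t => ?_, h⟩
      fin_cases t
      exacts [val_mem_icosians hp, val_mem_icosians hq, val_mem_icosians hr]
  rw [hs]
  constructor
  · rintro ⟨-, -, -, a, b, c, d, e⟩
    exact ⟨⟨a, b, c⟩, d, e⟩
  · rintro ⟨⟨a, b, c⟩, d, e⟩
    exact ⟨hp, hq, hr, a, b, c, d, e⟩

theorem exists_triple {v : Fin 3 → ℍ[ℝ]} (hv : v ∈ icoLeech) (hq : qip v v = 4) :
    ∃ p q r : SQ, v = ![p.val, q.val, r.val] ∧ IsMinTriple p q r := by
  obtain ⟨p, hp, ep⟩ := exists_of_mem (hv.1 0)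
  obtain ⟨q, hq', eq⟩ := exists_of_mem (hv.1 1)
  obtain ⟨r, hr, er⟩ := exists_of_mem (hv.1 2)
  have e : v = ![p.val, q.val, r.val] := by
    funext t
    fin_cases t
    exacts [ep.symm, eq.symm, er.symm]
  subst e
  exact ⟨p, q, r, rfl, (isMinTriple_iff hp hq' hr).2 ⟨hv, hq⟩⟩

/-- Every coordinate of a minimal vector lies in its bucket. -/
theorem mem_buckets {p q r : SQ} (h : IsMinTriple p q r) :
    ∀ s, (s = p ∨ s = q ∨ s = r) → ∃ x ∈ bucket (nA s, nB s, clsH s), x.1 = s := by
  obtain ⟨hp, hq, hr, -, -, -, hA, hB⟩ := h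
  have nn : ∀ s : SQ, 0 ≤ nA s := fun s => by
    simp only [nA]
    nlinarith [mul_self_nonneg s.w, mul_self_nonneg s.w', mul_self_nonneg s.x, mul_self_nonneg s.x',
      mul_self_nonneg s.y, mul_self_nonneg s.y', mul_self_nonneg s.z, mul_self_nonneg s.z']
  have key : ∀ s : SQ, s.inI → nA s ≤ 16 → (∃ w ∈ normKeys, w.1 = nA s ∧ w.2 = nB s) ∧
      (wanted (nA s, nB s) = true → ∃ x ∈ bucket (nA s, nB s, clsH s), x.1 = s) := by
    intro s hs hn
    have h := leaf_ok hs hn
    simp only [leafCheck, Bool.and_eq_true, List.any_eq_true, zeq_iff, Bool.or_eq_true, Bool.not_eq_true'] at h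
    refine ⟨h.1, fun hw => ?_⟩
    rcases h.2 with h2 | ⟨x, hx, e⟩
    · rw [hw] at h2; exact Bool.noConfusion h2
    · exact ⟨x, by rwa [clsHk_eq] at hx, beq_iff.1 e⟩
  obtain ⟨⟨a, ha, ea, ea'⟩, ka⟩ := key p hp (by linarith [nn q, nn r])
  obtain ⟨⟨b, hb, eb, eb'⟩, kb⟩ := key q hq (by linarith [nn p, nn r])
  obtain ⟨⟨c, hc, ec, ec'⟩, kc⟩ := key r hr (by linarith [nn p, nn q])
  have hk := List.all_eq_true.1 (List.all_eq_true.1 (List.all_eq_true.1 keySum_ok a ha) b hb) c hc
  simp only [Bool.or_eq_true, Bool.not_eq_true', ← Bool.not_eq_true, Bool.and_eq_true, zeq_iff] at hk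
  rw [ea, eb, ec, ea', eb', ec'] at hk
  obtain ⟨wa, wb, wc⟩ := hk.resolve_left (not_not.2 ⟨hA, hB⟩)
  rw [show a = (nA p, nB p) from Prod.ext ea ea'] at wa
  rw [show b = (nA q, nB q) from Prod.ext eb eb'] at wb
  rw [show c = (nA r, nB r) from Prod.ext ec ec'] at wc
  rintro s (rfl | rfl | rfl)
  exacts [ka wa, kb wb, kc wc]

/-- A normalised minimal vector is listed. -/
theorem normal_listed {p q r : SQ} (h : IsMinTriple p q r)
    (hn : p ∈ repList ∨ p = zeroSQ ∧ (q ∈ repList ∨ q = zeroSQ ∧ r ∈ repList)) : (p, q, r) ∈ lineList := by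
  have hb := mem_buckets h
  obtain ⟨-, -, -, c1, c2, c3, hA, hB⟩ := h
  have fin : tripleCheck p q r = true → (p, q, r) ∈ lineList := by
    intro ht
    simp only [tripleCheck, clsCk_eq, c3, Bool.or_eq_true, Bool.not_eq_true', List.any_eq_true, Bool.and_eq_true,
      beq_iff] at ht
    rcases ht with ht | ⟨⟨l1, l2, l3⟩, hl, e1, e2, e3⟩
    · exact absurd ht (by decide)
    · simp only at e1 e2 e3
      subst e1 e2 e3
      exact hl
  obtain ⟨xr, hxr, exr⟩ := hb r (Or.inr (Or.inr rfl))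
  rcases hn with hp | ⟨rfl, hq | ⟨rfl, hr⟩⟩
  · obtain ⟨xq, hxq, exq⟩ := hb q (Or.inr (Or.inl rfl))
    obtain ⟨e, he, ek, hxe⟩ := bucket_mem hxq
    have hs := List.all_eq_true.1 (List.all_eq_true.1 first_ok p hp) e he
    simp only [ek, clsHk_eq, Bool.or_eq_true, Bool.not_eq_true'] at hs
    have h1 : zeq (clsH q) (clsH p) = true := zeq_iff.2 c1.symm
    have hs' := List.all_eq_true.1 (hs.resolve_left (by rw [h1]; simp)) xq hxe
    rw [show (16 : ℤ) - nA p - nA q = nA r by linarith, show -(nB p + nB q) = nB r by linarith,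
      show clsH p = clsH r from c1.trans c2] at hs'
    have := List.all_eq_true.1 hs' xr hxr
    rw [exq, exr] at this
    exact fin this
  · have hs := List.all_eq_true.1 second_ok q hq
    have h0 : clsH zeroSQ = 0 := by decide
    simp only [secondSearch, clsHk_eq, Bool.or_eq_true, Bool.not_eq_true'] at hs
    have h1 : zeq (clsH q) 0 = true := zeq_iff.2 (c1.symm.trans h0)
    have hs' := hs.resolve_left (by rw [h1]; simp)
    have z1 : nA zeroSQ = 0 := by decide
    have z2 : nB zeroSQ = 0 := by decide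
    rw [show bucket ((16 : ℤ) - nA q, -nB q, 0) = bucket (nA r, nB r, clsH r) by
      rw [← c2, ← c1, h0, show (16 : ℤ) - nA q = nA r by linarith, show -nB q = nB r by linarith]] at hs'
    have := List.all_eq_true.1 hs' xr hxr
    rw [exr] at this
    exact fin this
  · have hs := List.all_eq_true.1 third_ok r hr
    have h0 : clsH zeroSQ = 0 := by decide
    have z1 : nA zeroSQ = 0 := by decide
    have z2 : nB zeroSQ = 0 := by decide
    simp only [thirdSearch, clsHk_eq, Bool.or_eq_true, Bool.not_eq_true'] at hs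
    refine fin (hs.resolve_left ?_)
    rw [zeq_iff.2 (show nA r = 16 by linarith), zeq_iff.2 (show nB r = 0 by linarith),
      zeq_iff.2 (show clsH r = 0 by rw [← c2, h0])]
    simp

theorem unit_facts {u : SQ} (hu : u ∈ unitList) :
    u.inI ∧ u.val * star u.val = 1 ∧ star u.val * u.val = 1 ∧ star u.val ∈ icosians ∧ u.val ∈ icosians := by
  have h := List.all_eq_true.1 units_ok.1 u hu
  simp only [unitCheck, inIk, Bool.and_eq_true, zeq_iff] at h
  obtain ⟨hi, hA, hB⟩ := h
  have hi' : u.inI := hi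
  have e : u.val * star u.val = 1 := by
    rw [val_mul_star_val, hA, hB]
    norm_num
  refine ⟨hi', e, ?_, val_conj u ▸ val_mem_icosians (inI_conj hi'), val_mem_icosians hi'⟩
  rw [Quaternion.star_mul_self, ← Quaternion.self_mul_star, e]

theorem scale_mem {a : ℍ[ℝ]} (ha : a ∈ icosians) {v : Fin 3 → ℍ[ℝ]} (hv : v ∈ icoLeech) :
    (fun t => a * v t) ∈ icoLeech := by
  have hI : ∀ {q x : ℍ[ℝ]}, x ∈ leftIdeal q → a * x ∈ leftIdeal q := by
    rintro q x ⟨b, hb, rfl⟩
    exact ⟨a * b, mul_mem ha hb, (mul_assoc _ _ _).symm⟩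
  exact ⟨fun t => mul_mem ha (hv.1 t), by rw [← mul_sub]; exact hI hv.2.1, by rw [← mul_sub]; exact hI hv.2.2.1,
    by rw [← mul_add, ← mul_add]; exact hI hv.2.2.2⟩

theorem qip_smul_unit {a : ℍ[ℝ]} (ha : a * star a = 1) {v : Fin 3 → ℍ[ℝ]} (hv : qip v v = 4) :
    qip (fun t => a * v t) (fun t => a * v t) = 4 := by
  simp only [qip, star_mul]
  have : ∀ t, a * v t * (star (v t) * star a) = a * (v t * star (v t)) * star a := fun t => by noncomm_ring
  simp only [this, ← Finset.sum_mul, ← Finset.mul_sum]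
  rw [show ∑ t, v t * star (v t) = 4 from hv, show a * 4 = 4 * a from ((Nat.commute_cast a 4).eq), mul_assoc, ha,
    mul_one]

/-- Every minimal vector is a unit multiple of a listed vector. -/
theorem minimal {v : Fin 3 → ℍ[ℝ]} (hv : v ∈ icoLeech) (hq : qip v v = 4) :
    ∃ l ∈ lineList, ∃ u ∈ unitList, v = fun t => u.val * lineVec l t := by
  obtain ⟨p, q, r, rfl, h⟩ := exists_triple hv hq
  have hb := mem_buckets h
  obtain ⟨s, hsm, hs0, hzero⟩ : ∃ s, (s = p ∨ s = q ∨ s = r) ∧ s ≠ zeroSQ ∧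
      (s = p ∨ p = zeroSQ ∧ (s = q ∨ q = zeroSQ ∧ s = r)) := by
    by_cases hp : p = zeroSQ
    · by_cases hq0 : q = zeroSQ
      · refine ⟨r, Or.inr (Or.inr rfl), fun hr => ?_, Or.inr ⟨hp, Or.inr ⟨hq0, rfl⟩⟩⟩
        obtain ⟨-, -, -, -, -, -, hA, -⟩ := h
        rw [hp, hq0, hr] at hA
        simp [nA] at hA
      · exact ⟨q, Or.inr (Or.inl rfl), hq0, Or.inr ⟨hp, Or.inl rfl⟩⟩
    · exact ⟨p, Or.inl rfl, hp, Or.inl rfl⟩
  obtain ⟨x, hx, rfl⟩ := hb s hsm
  obtain ⟨e, he, -, hxe⟩ := bucket_mem hx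
  have hc := List.all_eq_true.1 (entries_all he) x hxe
  simp only [entryCheck, Bool.or_eq_true, Bool.and_eq_true, Nat.blt_eq, beq_iff] at hc
  obtain ⟨hj, hk, hm⟩ := hc.resolve_left hs0
  rw [List.getD_eq_getElem _ _ (by rw [units_ok.2]; exact hk),
    List.getD_eq_getElem _ _ (by rw [reps_ok.2]; exact hj)] at hm
  set u := unitList[x.2.2]'(by rw [units_ok.2]; exact hk) with hu'
  set w := repList[x.2.1]'(by rw [reps_ok.2]; exact hj) with hw'
  have hu : u ∈ unitList := List.getElem_mem _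
  have hw : w ∈ repList := List.getElem_mem _
  obtain ⟨-, uu, uu', husI, -⟩ := unit_facts hu
  have hv' := scale_mem husI hv
  have hq' := qip_smul_unit (a := star u.val) (by rw [star_star]; exact uu') hq
  obtain ⟨p', q', r', ev, h'⟩ := exists_triple hv' hq'
  have hwx : star u.val * x.1.val = w.val := by
    rw [← val_mul_of hm, ← mul_assoc, uu', one_mul]
  have c0 : star u.val * p.val = p'.val := congrFun ev 0
  have c1 : star u.val * q.val = q'.val := congrFun ev 1
  have c2 : star u.val * r.val = r'.val := congrFun ev 2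
  have z : ∀ {a a' : SQ}, star u.val * a.val = a'.val → a = zeroSQ → a' = zeroSQ := by
    intro a a' e0 ha
    rw [ha, val_zeroSQ, mul_zero] at e0
    exact val_injective (e0.symm.trans val_zeroSQ.symm)
  have hl := normal_listed h' (by
    rcases hzero with e0 | ⟨e0, e1 | ⟨e1, e2⟩⟩
    · left
      rw [e0, c0] at hwx
      rw [val_injective hwx]
      exact hw
    · refine Or.inr ⟨z c0 e0, Or.inl ?_⟩
      rw [e1, c1] at hwx
      rw [val_injective hwx]
      exact hw
    · refine Or.inr ⟨z c0 e0, Or.inr ⟨z c1 e1, ?_⟩⟩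
      rw [e2, c2] at hwx
      rw [val_injective hwx]
      exact hw)
  refine ⟨_, hl, u, hu, funext fun t => ?_⟩
  rw [lineVec, ← ev, ← mul_assoc, uu, one_mul]

end Cfsg.Agent.Lie.Ico
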