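import Cfsg.Agent.Lib.Lie.JankoPack

/-!
Certificate data for the Hall–Janko group modulo 11 (generated).
-/

set_option autoImplicit false
set_option maxRecDepth 100000
set_option maxHeartbeats 0

namespace Cfsg.Agent.Lie.J2Cert

open Cfsg.Agent.Lie.Janko (M7)

def conjTab0 : Janko.Tree (ℕ × ℕ × ℕ × Bool) :=
  (.node (.node (.node (.node (.node (.node (.node (.node (.leaf (0, 0, 0, false)) (.leaf (19, 114, 43, true))) (.node (.leaf (4, 78, 74, false)) (.leaf (6, 108, 98, true)))) (.node (.node (.leaf (21, 99, 126, true)) (.leaf (13, 136, 121, false))) (.node (.leaf (24, 30, 128, true)) (.leaf (6, 13, 105, false))))) (.node (.node (.node (.leaf (35, 0, 0, false)) (.leaf (38, 70, 18, true))) (.node (.leaf (7, 27, 88, false)) (.leaf (21, 97, 61, true)))) (.node (.node (.leaf (21, 3, 138, true)) (.leaf (12, 60, 140, true))) (.leaf (33, 78, 82, true))))) (.node (.node (.node (.node (.leaf (5, 84, 1, true)) (.leaf (15, 87, 46, false))) (.node (.leaf (3, 104, 14, false)) (.leaf (13, 48, 26, true)))) (.node (.node (.leaf (1, 109, 39,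 false)) (.leaf (5, 98, 118, false))) (.node (.leaf (33, 7, 65, false)) (.leaf (20, 54, 93, true))))) (.node (.node (.node (.leaf (13, 57, 15, false)) (.leaf (8, 37, 85, false))) (.node (.leaf (33, 47, 136, false)) (.leaf (8, 83, 72, true)))) (.node (.node (.leaf (5, 51, 129, false)) (.leaf (16, 149, 120, true))) (.leaf (19, 72, 127, false)))))) (.node (.node (.node (.node (.node (.leaf (24, 0, 0, false)) (.leaf (25, 132, 102, false))) (.node (.leaf (16, 38, 138, true)) (.leaf (20, 27, 34, true)))) (.node (.node (.leaf (4, 153, 34, false)) (.leaf (6, 41, 93, false))) (.node (.leaf (6, 59, 127, false)) (.leaf (30, 94, 98, true))))) (.node (.node (.node (.leaf (20, 52, 122, true)) (.leaf (14, 119, 29, true))) (.node (.leaf (32, 145, 61, true)) (.leaf (27, 119, 7, false)))) (.node (.node (.leaf (4, 116, 57, false)) (.leaf (21, 106, 25, true))) (.leaf (10, 112, 77, true))))) (.node (.node (.node (.node (.leaf (30, 136, 47, false)) (.leaf (11, 154, 16, false))) (.node (.leaf (38, 45, 45, false)) (.leaf (7, 12, 36, true)))) (.node (.node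 (.leaf (5, 102, 152, false)) (.leaf (2, 153, 153, true))) (.node (.leaf (7, 25, 41, true)) (.leaf (21, 131, 128, false))))) (.node (.node (.node (.leaf (18, 130, 33, true)) (.leaf (5, 142, 24, false))) (.node (.leaf (10, 23, 135, false)) (.leaf (11, 17, 10, false)))) (.node (.node (.leaf (16, 70, 71, true)) (.leaf (6, 156, 80, false))) (.leaf (25, 48, 60, true))))))) (.node (.node (.node (.node (.node (.node (.leaf (1, 0, 159, false)) (.leaf (20, 124, 113, true))) (.node (.leaf (12, 54, 127, true)) (.leaf (19, 86, 3, false)))) (.node (.node (.leaf (37, 126, 14, true)) (.leaf (5, 121, 13, false))) (.node (.leaf (30, 24, 68, true)) (.leaf (38, 24, 113, true))))) (.node (.node (.node (.leaf (3, 98, 68, false)) (.leaf (5, 79, 141, false))) (.node (.leaf (6, 97, 156, true)) (.leaf (8, 13, 10, false)))) (.node (.node (.leaf (2, 31, 38, true)) (.leaf (32, 154, 60, false))) (.leaf (10, 69, 20, true))))) (.node (.node (.node (.node (.leaf (16, 141, 128, false)) (.leaf (25, 115, 99, false))) (.node (.leaf (10, 153, 17, true)) (.leaf (2,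 15, 127, false)))) (.node (.node (.leaf (3, 97, 48, false)) (.leaf (21, 150, 27, false))) (.node (.leaf (26, 44, 48, false)) (.leaf (8, 14, 58, false))))) (.node (.node (.node (.leaf (3, 2, 64, false)) (.leaf (1, 121, 96, true))) (.node (.leaf (14, 32, 79, false)) (.leaf (24, 152, 156, true)))) (.node (.node (.leaf (3, 57, 52, false)) (.leaf (7, 126, 122, false))) (.leaf (2, 134, 151, true)))))) (.node (.node (.node (.node (.node (.leaf (25, 149, 100, false)) (.leaf (21, 16, 123, false))) (.node (.leaf (7, 10, 90, true)) (.leaf (18, 15, 21, true)))) (.node (.node (.leaf (24, 113, 59, false)) (.leaf (19, 22, 34, true))) (.node (.leaf (14, 101, 58, false)) (.leaf (25, 113, 61, true))))) (.node (.node (.node (.leaf (3, 31, 156, true)) (.leaf (17, 100, 69, false))) (.node (.leaf (12, 97, 27, true)) (.leaf (29, 115, 55, true)))) (.node (.node (.leaf (30, 45, 119, true)) (.leaf (20, 49, 121, true))) (.leaf (7, 80, 17, false))))) (.node (.node (.node (.node (.leaf (24, 134, 124, false)) (.leaf (11, 105, 7, true))) (.node (.leaf (33,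 134, 9, true)) (.leaf (24, 8, 79, false)))) (.node (.node (.leaf (24, 91, 148, true)) (.leaf (25, 68, 113, true))) (.leaf (2, 149, 61, false)))) (.node (.node (.node (.leaf (6, 72, 83, false)) (.leaf (14, 112, 54, true))) (.node (.leaf (13, 103, 8, true)) (.leaf (20, 70, 88, true)))) (.node (.node (.leaf (3, 136, 94, false)) (.leaf (24, 157, 95, true))) (.leaf (7, 66, 58, true)))))))) (.node (.node (.node (.node (.node (.node (.node (.leaf (8, 75, 144, false)) (.leaf (28, 147, 37, true))) (.node (.leaf (8, 55, 30, false)) (.leaf (16, 42, 140, true)))) (.node (.node (.leaf (10, 12, 120, false)) (.leaf (15, 125, 15, true))) (.node (.leaf (14, 50, 87, false)) (.leaf (5, 19, 96, true))))) (.node (.node (.node (.leaf (26, 2, 66, false)) (.leaf (25, 57, 128, false))) (.node (.leaf (8, 5, 92, true)) (.leaf (33, 33, 68, false)))) (.node (.node (.leaf (21, 7, 127, false)) (.leaf (29, 110, 15, false))) (.leaf (12, 55, 4, false))))) (.node (.node (.node (.node (.leaf (8, 75, 24, true)) (.leaf (17, 142, 13, false))) (.node (.leaf (20, 83,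 17, false)) (.leaf (6, 145, 64, true)))) (.node (.node (.leaf (33, 92, 156, false)) (.leaf (32, 32, 33, false))) (.node (.leaf (9, 41, 2, true)) (.leaf (2, 116, 65, true))))) (.node (.node (.node (.leaf (1, 1, 69, false)) (.leaf (6, 0, 39, true))) (.node (.leaf (12, 79, 83, true)) (.leaf (33, 12, 38, true)))) (.node (.node (.leaf (2, 155, 120, false)) (.leaf (10, 75, 123, false))) (.leaf (33, 125, 62, true)))))) (.node (.node (.node (.node (.node (.leaf (19, 134, 40, true)) (.leaf (24, 118, 143, false))) (.node (.leaf (1, 97, 46, true)) (.leaf (4, 143, 3, true)))) (.node (.node (.leaf (16, 0, 51, false)) (.leaf (21, 101, 117, true))) (.node (.leaf (26, 78, 121, true)) (.leaf (29, 20, 6, false))))) (.node (.node (.node (.leaf (11, 149, 6, false)) (.leaf (14, 23, 75, true))) (.node (.leaf (14, 43, 16, true)) (.leaf (10, 105, 125, true)))) (.node (.node (.leaf (32, 78, 6, false)) (.leaf (15, 134, 10, true))) (.leaf (20, 116, 8, false))))) (.node (.node (.node (.node (.leaf (3, 64, 148, true)) (.leaf (30, 119, 115, true))) (.node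 (.leaf (13, 114, 130, false)) (.leaf (19, 22, 48, true)))) (.node (.node (.leaf (1, 91, 131, false)) (.leaf (12, 11, 55, false))) (.leaf (20, 71, 129, false)))) (.node (.node (.node (.leaf (7, 12, 156, true)) (.leaf (38, 47, 47, true))) (.node (.leaf (28, 142, 65, false)) (.leaf (14, 23, 81, true)))) (.node (.node (.leaf (26, 43, 124, false)) (.leaf (1, 34, 119, true))) (.leaf (14, 43, 152, false))))))) (.node (.node (.node (.node (.node (.node (.leaf (20, 0, 0, false)) (.leaf (12, 102, 116, true))) (.node (.leaf (6, 107, 59, false)) (.leaf (38, 46, 139, false)))) (.node (.node (.leaf (5, 41, 16, true)) (.leaf (25, 64, 76, true))) (.node (.leaf (5, 119, 93, true)) (.leaf (11, 88, 1, false))))) (.node (.node (.node (.leaf (21, 102, 69, true)) (.leaf (16, 91, 60, true))) (.node (.leaf (33, 29, 21, false)) (.leaf (28, 47, 40, false)))) (.node (.node (.leaf (22, 131, 1, true)) (.leaf (21, 2, 135, true))) (.leaf (10, 96, 2, false))))) (.node (.node (.node (.node (.leaf (23, 18, 12, true)) (.leaf (14, 27, 101, false))) (.node (.leaf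 (21, 54, 70, false)) (.leaf (5, 158, 130, true)))) (.node (.node (.leaf (19, 12, 54, false)) (.leaf (29, 159, 32, true))) (.node (.leaf (37, 126, 13, true)) (.leaf (9, 90, 8, true))))) (.node (.node (.node (.leaf (17, 140, 63, true)) (.leaf (10, 21, 68, true))) (.node (.leaf (20, 21, 125, true)) (.leaf (10, 68, 85, true)))) (.node (.node (.leaf (20, 89, 92, true)) (.leaf (21, 46, 50, false))) (.leaf (17, 131, 14, true)))))) (.node (.node (.node (.node (.node (.leaf (4, 0, 31, true)) (.leaf (33, 113, 110, true))) (.node (.leaf (32, 79, 5, false)) (.leaf (6, 115, 3, true)))) (.node (.node (.leaf (20, 138, 33, false)) (.leaf (1, 92, 15, true))) (.node (.leaf (19, 130, 41, true)) (.leaf (24, 17, 57, true))))) (.node (.node (.node (.leaf (20, 148, 94, true)) (.leaf (8, 4, 66, true))) (.node (.leaf (35, 97, 6, false)) (.leaf (15, 2, 26, true)))) (.node (.node (.leaf (16, 16, 48, false)) (.leaf (36, 121, 15, true))) (.leaf (2, 77, 69, true))))) (.node (.node (.node (.node (.leaf (27, 51, 33, true)) (.leaf (7, 70, 9, true))) (.node (.leaf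 (6, 75, 142, false)) (.leaf (35, 12, 33, true)))) (.node (.node (.leaf (17, 28, 66, false)) (.leaf (11, 133, 32, true))) (.leaf (4, 143, 85, false)))) (.node (.node (.node (.leaf (32, 131, 55, false)) (.leaf (21, 36, 156, false))) (.node (.leaf (38, 157, 44, false)) (.leaf (33, 93, 2, true)))) (.node (.node (.leaf (1, 115, 53, false)) (.leaf (5, 54, 71, true))) (.leaf (18, 52, 95, false)))))))))

def conjTab1 : Janko.Tree (ℕ × ℕ × ℕ × Bool) :=
  (.node (.node (.node (.node (.node (.node (.node (.node (.leaf (1, 0, 0, false)) (.leaf (1, 19, 150, false))) (.node (.leaf (5, 56, 34, false)) (.leaf (5, 4, 66, true)))) (.node (.node (.leaf (1, 25, 34, false)) (.leaf (19, 103, 30, false))) (.node (.leaf (1, 82, 17, true)) (.leaf (30, 55, 23, true))))) (.node (.node (.node (.leaf (32, 40, 49, false)) (.leaf (7, 144, 49, true))) (.node (.leaf (25, 94, 17, false)) (.leaf (2, 137, 24, true)))) (.node (.node (.leaf (16, 3, 57, true)) (.leaf (16, 0, 54, false))) (.leaf (36, 20, 1, false))))) (.node (.node (.node (.node (.leaf (31, 0, 0, false))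 (.leaf (38, 91, 61, false))) (.node (.leaf (4, 134, 118, false)) (.leaf (12, 32, 82, true)))) (.node (.node (.leaf (6, 64, 70, true)) (.leaf (28, 88, 87, true))) (.node (.leaf (3, 127, 17, false)) (.leaf (19, 140, 98, true))))) (.node (.node (.node (.leaf (15, 0, 31, true)) (.leaf (1, 136, 71, true))) (.node (.leaf (18, 9, 44, false)) (.leaf (2, 118, 79, false)))) (.node (.node (.leaf (16, 124, 69, true)) (.leaf (9, 63, 11, false))) (.leaf (20, 51, 25, true)))))) (.node (.node (.node (.node (.node (.leaf (19, 68, 78, false)) (.leaf (18, 126, 51, false))) (.node (.leaf (17, 68, 120, true)) (.leaf (16, 32, 66, false)))) (.node (.node (.leaf (25, 109, 43, true)) (.leaf (33, 157, 144, true))) (.node (.leaf (18, 23, 26, true)) (.leaf (7, 46, 19, false))))) (.node (.node (.node (.leaf (25, 68, 122, false)) (.leaf (35, 0, 10, true))) (.node (.leaf (5, 101, 117, true)) (.leaf (12, 60, 28, true)))) (.node (.node (.leaf (6, 97, 155, false)) (.leaf (5, 93, 44, true))) (.leaf (19, 68, 72, false))))) (.node (.node (.node (.node (.leaf (25,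 90, 78, true)) (.leaf (28, 119, 29, true))) (.node (.leaf (8, 143, 70, false)) (.leaf (33, 155, 130, true)))) (.node (.node (.leaf (12, 139, 21, false)) (.leaf (16, 148, 23, true))) (.node (.leaf (1, 91, 124, true)) (.leaf (25, 73, 108, false))))) (.node (.node (.node (.leaf (2, 4, 101, true)) (.leaf (15, 67, 1, true))) (.node (.leaf (12, 77, 42, false)) (.leaf (9, 74, 21, false)))) (.node (.node (.leaf (26, 51, 37, false)) (.leaf (14, 42, 38, true))) (.leaf (21, 14, 125, false))))))) (.node (.node (.node (.node (.node (.node (.leaf (5, 0, 45, false)) (.leaf (12, 110, 78, false))) (.node (.leaf (10, 0, 5, true)) (.leaf (7, 93, 138, true)))) (.node (.node (.leaf (24, 12, 17, false)) (.leaf (2, 33, 60, false))) (.node (.leaf (32, 15, 11, false)) (.leaf (12, 123, 112, false))))) (.node (.node (.node (.leaf (30, 28, 57, false)) (.leaf (27, 78, 32, false))) (.node (.leaf (5, 60, 67, true)) (.leaf (1, 139, 143, true)))) (.node (.node (.leaf (7, 147, 158, false)) (.leaf (15, 139, 16, false))) (.leaf (10, 96, 79, true))))) (.node (.node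 (.node (.node (.leaf (32, 12, 120, false)) (.leaf (2, 90, 8, false))) (.node (.leaf (4, 26, 92, false)) (.leaf (10, 111, 75, true)))) (.node (.node (.leaf (6, 156, 84, true)) (.leaf (18, 47, 27, false))) (.node (.leaf (19, 117, 132, false)) (.leaf (24, 84, 35, false))))) (.node (.node (.node (.leaf (19, 12, 47, false)) (.leaf (10, 13, 47, false))) (.node (.leaf (1, 153, 20, false)) (.leaf (20, 92, 49, false)))) (.node (.node (.leaf (19, 126, 49, true)) (.leaf (2, 19, 113, false))) (.leaf (3, 156, 132, true)))))) (.node (.node (.node (.node (.node (.leaf (1, 116, 118, true)) (.leaf (12, 116, 138, false))) (.node (.leaf (14, 69, 7, true)) (.leaf (24, 143, 105, false)))) (.node (.node (.leaf (14, 103, 12, true)) (.leaf (2, 1, 83, false))) (.node (.leaf (30, 22, 10, true)) (.leaf (25, 98, 144, true))))) (.node (.node (.node (.leaf (16, 70, 70, false)) (.leaf (10, 51, 78, false))) (.node (.leaf (21, 4, 155, true)) (.leaf (15, 131, 28, false)))) (.node (.node (.leaf (1, 116, 126, false)) (.leaf (25, 81, 135, true))) (.leaf (16, 51,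 89, false))))) (.node (.node (.node (.node (.leaf (6, 96, 109, true)) (.leaf (17, 91, 77, true))) (.node (.leaf (6, 124, 113, true)) (.leaf (10, 114, 133, false)))) (.node (.node (.leaf (17, 120, 15, true)) (.leaf (6, 63, 72, false))) (.leaf (15, 24, 71, true)))) (.node (.node (.node (.leaf (17, 134, 88, true)) (.leaf (15, 31, 90, false))) (.node (.leaf (3, 97, 133, false)) (.leaf (18, 151, 140, true)))) (.node (.node (.leaf (5, 35, 77, true)) (.leaf (38, 67, 87, true))) (.leaf (12, 13, 44, true)))))))) (.node (.node (.node (.node (.node (.node (.node (.leaf (8, 49, 36, false)) (.leaf (6, 63, 58, true))) (.node (.leaf (12, 6, 66, true)) (.leaf (10, 18, 59, true)))) (.node (.node (.leaf (18, 47, 17, false)) (.leaf (18, 14, 34, true))) (.node (.leaf (12, 72, 93, true)) (.leaf (19, 156, 106, false))))) (.node (.node (.node (.leaf (36, 0, 0, false)) (.leaf (10, 5, 117, true))) (.node (.leaf (14, 111, 73, false)) (.leaf (2, 157, 22, false)))) (.node (.node (.leaf (2, 50, 39, true)) (.leaf (3, 123, 79, true))) (.leaf (14, 78, 83, false)))))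 (.node (.node (.node (.node (.leaf (4, 129, 10, false)) (.leaf (13, 132, 3, false))) (.node (.leaf (19, 72, 60, false)) (.leaf (20, 16, 48, true)))) (.node (.node (.leaf (33, 148, 132, false)) (.leaf (3, 114, 111, false))) (.node (.leaf (6, 37, 82, false)) (.leaf (25, 19, 84, false))))) (.node (.node (.node (.leaf (1, 140, 105, true)) (.leaf (20, 138, 134, false))) (.node (.leaf (24, 45, 52, false)) (.leaf (20, 146, 1, false)))) (.node (.node (.leaf (5, 63, 114, true)) (.leaf (21, 98, 140, true))) (.leaf (6, 100, 68, false)))))) (.node (.node (.node (.node (.node (.leaf (10, 118, 51, false)) (.leaf (14, 75, 70, false))) (.node (.leaf (11, 152, 22, true)) (.leaf (5, 71, 80, false)))) (.node (.node (.leaf (12, 49, 62, false)) (.leaf (32, 72, 100, true))) (.node (.leaf (5, 10, 105, false)) (.leaf (6, 41, 22, false))))) (.node (.node (.node (.leaf (14, 9, 149, true)) (.leaf (17, 55, 4, true))) (.node (.leaf (29, 16, 86, false)) (.leaf (33, 19, 40, false)))) (.node (.node (.leaf (16, 25, 131, true)) (.leaf (6, 137, 29, false))) (.leaf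 (24, 5, 64, false))))) (.node (.node (.node (.node (.leaf (16, 70, 2, false)) (.leaf (5, 51, 126, true))) (.node (.leaf (3, 148, 142, true)) (.leaf (13, 135, 34, true)))) (.node (.node (.leaf (20, 104, 95, true)) (.leaf (1, 19, 140, true))) (.leaf (38, 81, 86, false)))) (.node (.node (.node (.leaf (37, 143, 3, true)) (.leaf (30, 49, 138, true))) (.node (.leaf (3, 34, 78, false)) (.leaf (29, 159, 87, true)))) (.node (.node (.leaf (14, 14, 132, false)) (.leaf (26, 57, 58, true))) (.leaf (10, 120, 152, false))))))) (.node (.node (.node (.node (.node (.node (.leaf (19, 12, 32, false)) (.leaf (11, 20, 93, false))) (.node (.leaf (17, 126, 85, true)) (.leaf (21, 46, 52, false)))) (.node (.node (.leaf (16, 70, 63, false)) (.leaf (4, 118, 56, true))) (.node (.leaf (23, 24, 9, false)) (.leaf (33, 29, 17, false))))) (.node (.node (.node (.leaf (6, 26, 153, true)) (.leaf (1, 97, 47, true))) (.node (.leaf (17, 128, 32, true)) (.leaf (2, 61, 107, false)))) (.node (.node (.leaf (19, 146, 85, false)) (.leaf (32, 43, 2, false))) (.leaf (20, 55,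 66, true))))) (.node (.node (.node (.node (.leaf (4, 130, 75, true)) (.leaf (24, 110, 92, true))) (.node (.leaf (25, 3, 126, false)) (.leaf (29, 101, 20, true)))) (.node (.node (.leaf (35, 120, 9, false)) (.leaf (7, 43, 94, false))) (.node (.leaf (25, 31, 10, true)) (.leaf (25, 131, 156, false))))) (.node (.node (.node (.leaf (23, 137, 15, true)) (.leaf (16, 3, 143, true))) (.node (.leaf (3, 123, 63, false)) (.leaf (25, 20, 83, false)))) (.node (.node (.leaf (4, 71, 148, false)) (.leaf (10, 149, 105, true))) (.leaf (9, 7, 14, false)))))) (.node (.node (.node (.node (.node (.leaf (16, 124, 55, true)) (.leaf (18, 85, 68, false))) (.node (.leaf (2, 137, 2, true)) (.leaf (19, 66, 5, false)))) (.node (.node (.leaf (5, 31, 40, true)) (.leaf (19, 68, 80, true))) (.node (.leaf (15, 97, 68, false)) (.leaf (4, 48, 90, false))))) (.node (.node (.node (.leaf (18, 42, 52, false)) (.leaf (5, 149, 98, false))) (.node (.leaf (13, 119, 87, true)) (.leaf (3, 95, 33, true)))) (.node (.node (.leaf (11, 152, 9, true)) (.leaf (20, 111, 112, true)))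 (.leaf (23, 59, 32, true))))) (.node (.node (.node (.node (.leaf (8, 75, 22, true)) (.leaf (12, 154, 76, true))) (.node (.leaf (5, 121, 119, true)) (.leaf (17, 55, 118, false)))) (.node (.node (.leaf (20, 88, 101, true)) (.leaf (28, 24, 58, false))) (.leaf (13, 80, 1, false)))) (.node (.node (.node (.leaf (1, 42, 64, true)) (.leaf (25, 145, 1, false))) (.node (.leaf (20, 129, 89, false)) (.leaf (35, 130, 65, true)))) (.node (.node (.leaf (3, 29, 126, true)) (.leaf (7, 61, 117, true))) (.leaf (6, 86, 139, true)))))))))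

def conjTab2 : Janko.Tree (ℕ × ℕ × ℕ × Bool) :=
  (.node (.node (.node (.node (.node (.node (.node (.node (.leaf (2, 0, 0, false)) (.leaf (21, 127, 75, true))) (.node (.leaf (10, 148, 65, false)) (.leaf (19, 156, 90, true)))) (.node (.node (.leaf (7, 112, 66, true)) (.leaf (25, 95, 20, false))) (.node (.leaf (1, 115, 44, false)) (.leaf (6, 99, 47, false))))) (.node (.node (.node (.leaf (10, 43, 29, false)) (.leaf (3, 74, 6, true))) (.node (.leaf (35, 151, 1, true)) (.leaf (8, 105, 87, false)))) (.node (.node (.leaf (24, 112, 142, true)) (.leaf (12, 154, 84, false))) (.leaf (21, 54, 56, true))))) (.node (.node (.node (.node (.leaf (10, 0, 159, false)) (.leaf (1, 109, 8, false))) (.node (.leaf (4, 59, 76, true)) (.leaf (3, 74, 87, false)))) (.node (.node (.leaf (33, 35, 79, false)) (.leaf (16, 24, 152, false))) (.node (.leaf (26, 22, 17, true)) (.leaf (33, 133, 96, true))))) (.node (.node (.node (.leaf (12, 69, 11, false)) (.leaf (21, 70, 9, true))) (.node (.leaf (1, 19, 25, true)) (.leaf (32, 122, 30, true)))) (.node (.node (.leaf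 (7, 43, 110, false)) (.leaf (12, 72, 150, true))) (.leaf (11, 128, 62, true)))))) (.node (.node (.node (.node (.node (.leaf (4, 48, 154, true)) (.leaf (2, 155, 47, false))) (.node (.leaf (30, 11, 58, false)) (.leaf (20, 70, 98, true)))) (.node (.node (.leaf (21, 2, 68, false)) (.leaf (25, 3, 11, false))) (.node (.leaf (33, 89, 5, false)) (.leaf (7, 13, 111, false))))) (.node (.node (.node (.leaf (2, 50, 156, false)) (.leaf (16, 137, 112, false))) (.node (.leaf (21, 14, 115, true)) (.leaf (12, 154, 80, true)))) (.node (.node (.leaf (20, 16, 42, false)) (.leaf (33, 10, 52, true))) (.leaf (2, 45, 128, false))))) (.node (.node (.node (.node (.leaf (21, 140, 73, true)) (.leaf (6, 56, 154, true))) (.node (.leaf (21, 3, 30, true)) (.leaf (3, 89, 136, true)))) (.node (.node (.leaf (21, 19, 5, false)) (.leaf (24, 123, 102, false))) (.node (.leaf (21, 60, 55, true)) (.leaf (2, 47, 94, false))))) (.node (.node (.node (.leaf (25, 22, 105, false)) (.leaf (9, 70, 33, false))) (.node (.leaf (2, 94, 117, true)) (.leaf (6, 138, 27, false))))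 (.node (.node (.leaf (8, 49, 33, true)) (.leaf (10, 100, 44, true))) (.leaf (24, 34, 103, false))))))) (.node (.node (.node (.node (.node (.node (.leaf (10, 21, 23, true)) (.leaf (29, 106, 62, true))) (.node (.leaf (33, 148, 14, true)) (.leaf (1, 50, 42, false)))) (.node (.node (.leaf (29, 56, 59, false)) (.leaf (25, 155, 90, true))) (.node (.leaf (15, 123, 6, true)) (.leaf (8, 58, 6, false))))) (.node (.node (.node (.leaf (27, 22, 59, true)) (.leaf (26, 150, 30, false))) (.node (.leaf (11, 23, 15, false)) (.leaf (1, 19, 28, true)))) (.node (.node (.leaf (3, 6, 123, true)) (.leaf (29, 111, 25, true))) (.leaf (10, 150, 100, false))))) (.node (.node (.node (.node (.leaf (26, 66, 67, false)) (.leaf (33, 107, 111, false))) (.node (.leaf (2, 95, 91, false)) (.leaf (14, 145, 118, true)))) (.node (.node (.leaf (26, 157, 36, false)) (.leaf (24, 13, 127, true))) (.node (.leaf (35, 155, 5, true)) (.leaf (2, 19, 112, false))))) (.node (.node (.node (.leaf (18, 10, 32, false)) (.leaf (15, 24, 2, false))) (.node (.leaf (19, 34, 91, false))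 (.leaf (33, 120, 72, false)))) (.node (.node (.leaf (30, 127, 38, true)) (.leaf (33, 120, 148, false))) (.leaf (37, 38, 5, true)))))) (.node (.node (.node (.node (.node (.leaf (16, 16, 41, false)) (.leaf (21, 84, 67, false))) (.node (.leaf (2, 103, 32, true)) (.leaf (36, 4, 12, true)))) (.node (.node (.leaf (5, 35, 72, true)) (.leaf (20, 31, 46, true))) (.node (.leaf (4, 11, 120, true)) (.leaf (32, 31, 143, true))))) (.node (.node (.node (.leaf (19, 151, 69, false)) (.leaf (5, 19, 149, false))) (.node (.leaf (10, 4, 102, true)) (.leaf (38, 129, 5, false)))) (.node (.node (.leaf (14, 43, 30, false)) (.leaf (33, 107, 89, true))) (.leaf (21, 106, 90, false))))) (.node (.node (.node (.node (.leaf (30, 126, 113, true)) (.leaf (12, 16, 22, true))) (.node (.leaf (21, 45, 37, true)) (.leaf (6, 139, 121, true)))) (.node (.node (.leaf (32, 122, 119, true)) (.leaf (17, 47, 47, false))) (.leaf (15, 63, 20, false)))) (.node (.node (.node (.leaf (30, 145, 62, false)) (.leaf (1, 122, 132, false))) (.node (.leaf (33, 10, 36, true)) (.leaf (1,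 42, 111, true)))) (.node (.node (.leaf (29, 59, 61, false)) (.leaf (5, 15, 33, false))) (.leaf (14, 119, 91, true)))))))) (.node (.node (.node (.node (.node (.node (.node (.leaf (12, 0, 0, false)) (.leaf (14, 95, 68, true))) (.node (.leaf (21, 72, 100, false)) (.leaf (30, 76, 89, false)))) (.node (.node (.leaf (14, 43, 138, false)) (.leaf (20, 16, 153, false))) (.node (.leaf (27, 152, 10, true)) (.leaf (5, 147, 101, false))))) (.node (.node (.node (.leaf (27, 30, 8, true)) (.leaf (18, 102, 73, true))) (.node (.leaf (24, 49, 133, false)) (.leaf (10, 129, 36, true)))) (.node (.node (.leaf (38, 72, 22, true)) (.leaf (2, 155, 54, false))) (.leaf (27, 41, 21, false))))) (.node (.node (.node (.node (.leaf (2, 20, 9, true)) (.leaf (12, 133, 20, true))) (.node (.leaf (25, 36, 54, true)) (.leaf (6, 98, 14, true)))) (.node (.node (.leaf (33, 7, 117, false)) (.leaf (33, 82, 145, false))) (.node (.leaf (1, 3, 65, false)) (.leaf (6, 13, 146, true))))) (.node (.node (.node (.leaf (14, 87, 42, true)) (.leaf (17, 143, 11, true))) (.node (.leaf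 (23, 91, 58, true)) (.leaf (2, 76, 33, true)))) (.node (.node (.leaf (5, 44, 151, true)) (.leaf (2, 143, 118, true))) (.leaf (10, 127, 64, false)))))) (.node (.node (.node (.node (.node (.leaf (7, 25, 33, false)) (.leaf (28, 24, 19, false))) (.node (.leaf (4, 46, 43, false)) (.leaf (30, 123, 34, false)))) (.node (.node (.leaf (3, 96, 155, true)) (.leaf (24, 133, 106, true))) (.node (.leaf (16, 144, 44, true)) (.leaf (24, 103, 4, true))))) (.node (.node (.node (.leaf (1, 0, 50, false)) (.leaf (24, 129, 56, false))) (.node (.leaf (24, 26, 158, false)) (.leaf (36, 35, 5, false)))) (.node (.node (.leaf (28, 88, 97, false)) (.leaf (24, 23, 110, true))) (.leaf (1, 152, 56, true))))) (.node (.node (.node (.node (.leaf (19, 123, 129, true)) (.leaf (26, 150, 21, false))) (.node (.leaf (7, 133, 29, true)) (.leaf (25, 19, 146, false)))) (.node (.node (.leaf (10, 64, 55, false)) (.leaf (15, 60, 114, false))) (.leaf (17, 150, 114, true)))) (.node (.node (.node (.leaf (21, 3, 152, true)) (.leaf (18, 117, 9, false))) (.node (.leaf (33, 2, 88,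 false)) (.leaf (1, 1, 66, true)))) (.node (.node (.leaf (3, 95, 158, true)) (.leaf (26, 63, 132, true))) (.leaf (24, 26, 33, false))))))) (.node (.node (.node (.node (.node (.node (.leaf (4, 129, 116, true)) (.leaf (30, 113, 87, true))) (.node (.leaf (7, 25, 42, true)) (.leaf (13, 87, 131, true)))) (.node (.node (.leaf (26, 78, 129, false)) (.leaf (6, 53, 141, false))) (.node (.leaf (16, 20, 59, false)) (.leaf (36, 98, 17, true))))) (.node (.node (.node (.leaf (4, 59, 30, false)) (.leaf (6, 110, 53, true))) (.node (.leaf (8, 138, 143, true)) (.leaf (1, 12, 113, true)))) (.node (.node (.leaf (1, 106, 6, false)) (.leaf (3, 72, 105, false))) (.leaf (16, 65, 149, false))))) (.node (.node (.node (.node (.leaf (1, 42, 74, false)) (.leaf (10, 31, 10, false))) (.node (.leaf (21, 96, 92, false)) (.leaf (10, 68, 86, true)))) (.node (.node (.leaf (1, 97, 54, true)) (.leaf (14, 77, 113, false))) (.node (.leaf (32, 3, 48, true)) (.leaf (12, 123, 108, false))))) (.node (.node (.node (.leaf (7, 112, 143, false)) (.leaf (32, 74, 9, false)))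 (.node (.leaf (2, 115, 90, false)) (.leaf (30, 87, 25, true)))) (.node (.node (.leaf (25, 92, 38, true)) (.leaf (37, 97, 23, true))) (.leaf (12, 81, 43, false)))))) (.node (.node (.node (.node (.node (.leaf (21, 140, 60, false)) (.leaf (20, 22, 108, false))) (.node (.leaf (32, 3, 34, true)) (.leaf (36, 5, 8, false)))) (.node (.node (.leaf (25, 123, 75, true)) (.leaf (10, 119, 46, true))) (.node (.leaf (24, 147, 83, true)) (.leaf (25, 28, 16, true))))) (.node (.node (.node (.leaf (10, 0, 45, false)) (.leaf (7, 44, 75, true))) (.node (.leaf (14, 133, 156, false)) (.leaf (24, 129, 61, true)))) (.node (.node (.leaf (18, 159, 92, false)) (.leaf (32, 130, 114, false))) (.leaf (21, 79, 35, true))))) (.node (.node (.node (.node (.leaf (2, 4, 42, true)) (.leaf (24, 144, 6, false))) (.node (.leaf (26, 28, 144, false)) (.leaf (20, 128, 52, false)))) (.node (.node (.leaf (24, 143, 104, true)) (.leaf (33, 87, 54, true))) (.leaf (10, 23, 22, true)))) (.node (.node (.node (.leaf (12, 103, 155, true)) (.leaf (7, 42, 47, true))) (.node (.leaf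 (6, 98, 60, true)) (.leaf (38, 157, 138, false)))) (.node (.node (.leaf (38, 42, 2, false)) (.leaf (11, 4, 57, true))) (.leaf (16, 24, 24, true)))))))))

def conjTab3 : Janko.Tree (ℕ × ℕ × ℕ × Bool) :=
  (.node (.node (.node (.node (.node (.node (.node (.node (.leaf (3, 0, 0, false)) (.leaf (7, 23, 69, false))) (.node (.leaf (25, 0, 31, true)) (.leaf (12, 72, 3, true)))) (.node (.node (.leaf (13, 130, 51, true)) (.leaf (3, 70, 127, false))) (.node (.leaf (33, 117, 66, true)) (.leaf (15, 27, 115, false))))) (.node (.node (.node (.leaf (24, 121, 11, false)) (.leaf (12, 74, 152, false))) (.node (.leaf (21, 148, 28, true)) (.leaf (32, 43, 90, false)))) (.node (.node (.leaf (6, 26, 49, true)) (.leaf (25, 90, 131, false))) (.leaf (2, 50, 116, false))))) (.node (.node (.node (.node (.leaf (3, 0, 45, false)) (.leaf (3, 89, 130, false))) (.node (.leaf (28, 88, 119, true)) (.leaf (25, 145, 81, false)))) (.node (.node (.leaf (16, 1, 52, false)) (.leaf (8, 92, 86, true))) (.node (.leaf (1, 12, 43, false)) (.leaf (21, 88, 132, false)))))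 (.node (.node (.node (.leaf (10, 118, 50, false)) (.leaf (3, 61, 18, false))) (.node (.leaf (36, 139, 34, false)) (.leaf (21, 108, 13, false)))) (.node (.node (.leaf (35, 38, 17, true)) (.leaf (6, 37, 85, false))) (.leaf (13, 37, 19, false)))))) (.node (.node (.node (.node (.node (.leaf (12, 79, 79, true)) (.leaf (20, 31, 152, true))) (.node (.leaf (21, 34, 43, false)) (.leaf (1, 7, 13, true)))) (.node (.node (.leaf (14, 0, 45, false)) (.leaf (21, 147, 46, false))) (.node (.leaf (12, 54, 7, false)) (.leaf (14, 127, 62, false))))) (.node (.node (.node (.leaf (30, 129, 42, true)) (.leaf (17, 149, 16, true))) (.node (.leaf (23, 140, 10, false)) (.leaf (7, 74, 82, true)))) (.node (.node (.leaf (30, 129, 33, false)) (.leaf (18, 0, 50, false))) (.leaf (24, 19, 115, false))))) (.node (.node (.node (.node (.leaf (8, 35, 34, true)) (.leaf (5, 122, 91, false))) (.node (.leaf (12, 29, 57, false)) (.leaf (11, 17, 8, true)))) (.node (.node (.leaf (6, 137, 112, false)) (.leaf (8, 75, 61, true))) (.node (.leaf (30, 10, 114, true)) (.leaf (4,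 79, 27, false))))) (.node (.node (.node (.leaf (32, 94, 46, false)) (.leaf (28, 80, 143, false))) (.node (.leaf (21, 7, 33, false)) (.leaf (30, 8, 61, true)))) (.node (.node (.leaf (13, 19, 18, true)) (.leaf (38, 29, 99, true))) (.leaf (6, 137, 20, false))))))) (.node (.node (.node (.node (.node (.node (.leaf (3, 50, 50, false)) (.leaf (5, 63, 8, false))) (.node (.leaf (25, 133, 130, true)) (.leaf (7, 141, 155, false)))) (.node (.node (.leaf (12, 6, 132, true)) (.leaf (36, 113, 65, false))) (.node (.leaf (20, 28, 71, true)) (.leaf (5, 159, 109, false))))) (.node (.node (.node (.leaf (2, 31, 51, true)) (.leaf (6, 128, 110, true))) (.node (.leaf (30, 129, 43, false)) (.leaf (28, 156, 2, false)))) (.node (.node (.leaf (7, 0, 5, true)) (.leaf (20, 115, 75, true))) (.leaf (18, 86, 2, false))))) (.node (.node (.node (.node (.leaf (30, 20, 27, true)) (.leaf (17, 43, 86, false))) (.node (.leaf (24, 114, 9, false)) (.leaf (32, 157, 3, true)))) (.node (.node (.leaf (25, 35, 77, true)) (.leaf (7, 50, 130, true))) (.node (.leaf (3, 28, 62,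 true)) (.leaf (17, 139, 12, true))))) (.node (.node (.node (.leaf (3, 145, 42, true)) (.leaf (38, 99, 33, false))) (.node (.leaf (37, 25, 36, false)) (.leaf (8, 74, 127, false)))) (.node (.node (.leaf (20, 88, 151, false)) (.leaf (19, 134, 105, true))) (.leaf (12, 2, 157, true)))))) (.node (.node (.node (.node (.node (.leaf (19, 136, 38, true)) (.leaf (10, 129, 106, true))) (.node (.leaf (7, 29, 80, true)) (.leaf (5, 103, 132, false)))) (.node (.node (.leaf (24, 58, 77, true)) (.leaf (24, 77, 99, false))) (.node (.leaf (19, 4, 36, true)) (.leaf (6, 111, 9, false))))) (.node (.node (.node (.leaf (10, 54, 116, true)) (.leaf (15, 3, 22, true))) (.node (.leaf (29, 45, 56, true)) (.leaf (21, 84, 80, true)))) (.node (.node (.leaf (8, 109, 4, false)) (.leaf (8, 59, 124, false))) (.leaf (6, 129, 21, true))))) (.node (.node (.node (.node (.leaf (6, 129, 101, true)) (.leaf (7, 62, 121, true))) (.node (.leaf (3, 82, 15, false)) (.leaf (7, 128, 113, false)))) (.node (.node (.leaf (2, 4, 4, true)) (.leaf (12, 96, 107, true))) (.leaf (14,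 54, 140, true)))) (.node (.node (.node (.leaf (25, 85, 136, true)) (.leaf (5, 145, 60, true))) (.node (.leaf (1, 159, 97, true)) (.leaf (10, 29, 71, true)))) (.node (.node (.leaf (17, 142, 119, true)) (.leaf (14, 42, 60, false))) (.leaf (9, 27, 5, true)))))))) (.node (.node (.node (.node (.node (.node (.node (.leaf (13, 0, 0, false)) (.leaf (12, 96, 95, false))) (.node (.leaf (1, 73, 48, false)) (.leaf (29, 121, 41, false)))) (.node (.node (.leaf (32, 134, 68, true)) (.leaf (8, 90, 11, false))) (.node (.leaf (26, 44, 126, true)) (.leaf (30, 39, 21, true))))) (.node (.node (.node (.leaf (12, 0, 31, true)) (.leaf (10, 81, 60, true))) (.node (.leaf (33, 155, 10, true)) (.leaf (7, 48, 52, false)))) (.node (.node (.leaf (14, 16, 49, false)) (.leaf (14, 90, 92, true))) (.leaf (2, 29, 53, true))))) (.node (.node (.node (.node (.leaf (16, 1, 153, false)) (.leaf (7, 9, 126, true))) (.node (.leaf (2, 144, 138, true)) (.leaf (9, 53, 18, false)))) (.node (.node (.leaf (1, 1, 1, true)) (.leaf (29, 76, 3, true))) (.node (.leaf (3, 10, 32,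 true)) (.leaf (38, 101, 63, false))))) (.node (.node (.node (.leaf (8, 80, 18, true)) (.leaf (7, 98, 16, true))) (.node (.leaf (3, 115, 28, false)) (.leaf (14, 100, 150, true)))) (.node (.node (.leaf (28, 24, 72, true)) (.leaf (18, 16, 131, true))) (.leaf (6, 97, 37, false)))))) (.node (.node (.node (.node (.node (.leaf (20, 0, 159, false)) (.leaf (25, 31, 116, true))) (.node (.leaf (7, 124, 148, true)) (.leaf (5, 19, 106, false)))) (.node (.node (.leaf (4, 5, 38, true)) (.leaf (26, 69, 70, true))) (.node (.leaf (19, 54, 27, false)) (.leaf (17, 26, 19, false))))) (.node (.node (.node (.leaf (17, 49, 34, false)) (.leaf (25, 105, 133, false))) (.node (.leaf (12, 99, 5, true)) (.leaf (12, 106, 52, true)))) (.node (.node (.leaf (23, 24, 19, true)) (.leaf (20, 159, 80, false))) (.leaf (14, 14, 71, false))))) (.node (.node (.node (.node (.leaf (12, 49, 75, true)) (.leaf (23, 0, 20, false))) (.node (.leaf (32, 34, 92, false)) (.leaf (20, 16, 36, false)))) (.node (.node (.leaf (7, 135, 79, true)) (.leaf (7, 23, 1, true))) (.leaf (3,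 159, 106, true)))) (.node (.node (.node (.leaf (18, 39, 87, true)) (.leaf (21, 11, 108, true))) (.node (.leaf (14, 2, 94, false)) (.leaf (25, 13, 26, false)))) (.node (.node (.leaf (3, 146, 131, false)) (.leaf (13, 72, 41, true))) (.leaf (10, 95, 74, true))))))) (.node (.node (.node (.node (.node (.node (.leaf (21, 0, 0, false)) (.leaf (12, 154, 67, false))) (.node (.leaf (6, 0, 51, false)) (.leaf (16, 56, 62, false)))) (.node (.node (.leaf (14, 9, 17, true)) (.leaf (2, 119, 5, false))) (.node (.leaf (21, 72, 86, false)) (.leaf (6, 17, 136, true))))) (.node (.node (.node (.leaf (37, 0, 0, false)) (.leaf (33, 58, 84, true))) (.node (.leaf (21, 59, 42, true)) (.leaf (38, 145, 70, true)))) (.node (.node (.leaf (24, 78, 85, false)) (.leaf (8, 18, 88, true))) (.leaf (29, 150, 98, true))))) (.node (.node (.node (.node (.leaf (8, 155, 32, true)) (.leaf (28, 135, 73, false))) (.node (.leaf (20, 24, 116, false)) (.leaf (4, 149, 145, true)))) (.node (.node (.leaf (2, 22, 16, true)) (.leaf (2, 83, 105, false))) (.node (.leaf (2, 41, 27,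 false)) (.leaf (16, 58, 72, false))))) (.node (.node (.node (.leaf (16, 63, 126, true)) (.leaf (20, 34, 77, true))) (.node (.leaf (37, 115, 17, false)) (.leaf (33, 139, 76, false)))) (.node (.node (.leaf (1, 151, 11, true)) (.leaf (1, 96, 101, true))) (.leaf (14, 43, 143, false)))))) (.node (.node (.node (.node (.node (.leaf (4, 134, 9, true)) (.leaf (21, 75, 29, true))) (.node (.leaf (3, 85, 92, true)) (.leaf (10, 131, 95, false)))) (.node (.node (.leaf (14, 50, 5, true)) (.leaf (13, 42, 33, true))) (.node (.leaf (21, 34, 153, true)) (.leaf (1, 57, 36, false))))) (.node (.node (.node (.leaf (17, 43, 100, false)) (.leaf (25, 159, 124, false))) (.node (.leaf (24, 48, 16, true)) (.leaf (38, 49, 4, false)))) (.node (.node (.leaf (37, 76, 22, false)) (.leaf (6, 26, 35, true))) (.leaf (5, 111, 136, false))))) (.node (.node (.node (.node (.leaf (28, 91, 142, true)) (.leaf (7, 54, 24, false))) (.node (.leaf (27, 50, 122, true)) (.leaf (33, 41, 95, true)))) (.node (.node (.leaf (2, 82, 77, true)) (.leaf (33, 148, 113, false))) (.leaf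 (24, 114, 134, false)))) (.node (.node (.node (.leaf (1, 106, 102, false)) (.leaf (18, 111, 61, true))) (.node (.leaf (2, 72, 82, true)) (.leaf (1, 124, 9, true)))) (.node (.node (.leaf (8, 98, 8, false)) (.leaf (1, 1, 76, false))) (.leaf (21, 48, 133, false)))))))))

def conjTab4 : Janko.Tree (ℕ × ℕ × ℕ × Bool) :=
  (.node (.node (.node (.node (.node (.node (.node (.node (.leaf (2, 0, 159, false)) (.leaf (1, 5, 37, false))) (.node (.leaf (14, 110, 78, true)) (.leaf (7, 69, 83, false)))) (.node (.node (.leaf (6, 145, 55, true)) (.leaf (21, 104, 17, true))) (.node (.leaf (15, 38, 106, true)) (.leaf (33, 99, 35, true))))) (.node (.node (.node (.leaf (23, 132, 14, false)) (.leaf (29, 22, 57, false))) (.node (.leaf (4, 133, 58, true)) (.leaf (25, 26, 88, false)))) (.node (.node (.leaf (3, 41, 29, true)) (.leaf (7, 74, 78, false))) (.leaf (38, 47, 32, true))))) (.node (.node (.node (.node (.leaf (22, 23, 15, false)) (.leaf (30, 36, 35, true))) (.node (.leaf (33, 46, 126, true)) (.leaf (18, 86, 56, true)))) (.node (.node (.leaf (19,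 78, 123, false)) (.leaf (24, 66, 112, false))) (.node (.leaf (33, 147, 87, true)) (.leaf (30, 107, 85, false))))) (.node (.node (.node (.leaf (5, 51, 10, true)) (.leaf (7, 3, 149, false))) (.node (.leaf (20, 93, 104, false)) (.leaf (25, 72, 24, true)))) (.node (.node (.leaf (1, 19, 19, false)) (.leaf (21, 37, 109, true))) (.leaf (26, 69, 2, true)))))) (.node (.node (.node (.node (.node (.leaf (4, 114, 8, false)) (.leaf (3, 23, 4, false))) (.node (.leaf (6, 74, 74, true)) (.leaf (7, 10, 32, true)))) (.node (.node (.leaf (16, 122, 105, false)) (.leaf (32, 100, 27, true))) (.node (.leaf (16, 150, 22, false)) (.leaf (6, 97, 46, true))))) (.node (.node (.node (.leaf (38, 0, 0, false)) (.leaf (18, 147, 58, true))) (.node (.leaf (12, 106, 113, false)) (.leaf (36, 145, 7, true)))) (.node (.node (.leaf (19, 126, 77, false)) (.leaf (6, 32, 120, true))) (.leaf (21, 143, 110, true))))) (.node (.node (.node (.node (.leaf (33, 132, 153, false)) (.leaf (16, 149, 122, true))) (.node (.leaf (11, 39, 94, false)) (.leaf (20, 19, 79, true)))) (.node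 (.node (.leaf (21, 0, 31, true)) (.leaf (14, 35, 25, false))) (.leaf (4, 114, 13, true)))) (.node (.node (.node (.leaf (14, 41, 148, false)) (.leaf (29, 82, 120, false))) (.node (.leaf (27, 108, 4, true)) (.leaf (29, 94, 58, false)))) (.node (.node (.leaf (3, 34, 65, false)) (.leaf (6, 46, 57, false))) (.leaf (29, 143, 21, false))))))) (.node (.node (.node (.node (.node (.node (.leaf (7, 112, 73, false)) (.leaf (2, 38, 7, true))) (.node (.leaf (22, 10, 7, true)) (.leaf (29, 98, 142, true)))) (.node (.node (.leaf (24, 38, 117, false)) (.leaf (30, 149, 56, false))) (.node (.leaf (11, 142, 20, true)) (.leaf (2, 109, 3, false))))) (.node (.node (.node (.leaf (12, 19, 48, false)) (.leaf (26, 79, 59, true))) (.node (.leaf (33, 75, 149, false)) (.leaf (20, 58, 13, false)))) (.node (.node (.leaf (33, 148, 8, true)) (.leaf (28, 33, 115, true))) (.leaf (27, 64, 121, true))))) (.node (.node (.node (.node (.leaf (12, 0, 159, false)) (.leaf (20, 22, 141, false))) (.node (.leaf (12, 92, 39, true)) (.leaf (1, 68, 33, false)))) (.node (.node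 (.leaf (26, 43, 40, true)) (.leaf (9, 58, 13, true))) (.node (.leaf (16, 87, 86, false)) (.leaf (20, 108, 91, true))))) (.node (.node (.node (.leaf (17, 149, 30, false)) (.leaf (24, 78, 60, true))) (.node (.leaf (19, 156, 97, false)) (.leaf (12, 115, 141, false)))) (.node (.node (.leaf (21, 57, 119, true)) (.leaf (29, 14, 90, true))) (.leaf (18, 132, 38, true)))))) (.node (.node (.node (.node (.node (.leaf (24, 5, 62, true)) (.leaf (16, 91, 80, false))) (.node (.leaf (1, 27, 142, false)) (.leaf (26, 135, 14, true)))) (.node (.node (.leaf (18, 0, 31, true)) (.leaf (24, 104, 55, true))) (.node (.leaf (5, 101, 49, true)) (.leaf (24, 48, 152, false))))) (.node (.node (.node (.leaf (12, 49, 64, true)) (.leaf (29, 9, 24, false))) (.node (.leaf (27, 116, 92, true)) (.leaf (6, 58, 132, true)))) (.node (.node (.leaf (25, 54, 96, false)) (.leaf (21, 108, 121, true))) (.leaf (12, 52, 97, false))))) (.node (.node (.node (.node (.leaf (1, 145, 3, true)) (.leaf (5, 132, 92, true))) (.node (.leaf (12, 116, 51, false)) (.leaf (20, 24, 63, true))))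 (.node (.node (.leaf (16, 13, 155, false)) (.leaf (2, 22, 143, false))) (.leaf (20, 24, 11, false)))) (.node (.node (.node (.leaf (26, 49, 54, false)) (.leaf (3, 130, 41, true))) (.node (.leaf (24, 113, 72, true)) (.leaf (32, 76, 71, true)))) (.node (.node (.leaf (8, 109, 7, true)) (.leaf (16, 27, 6, false))) (.leaf (8, 10, 105, true)))))))) (.node (.node (.node (.node (.node (.node (.node (.leaf (5, 0, 31, true)) (.leaf (5, 83, 11, true))) (.node (.leaf (10, 14, 69, false)) (.leaf (1, 45, 95, false)))) (.node (.node (.leaf (6, 49, 30, true)) (.leaf (2, 65, 62, false))) (.node (.leaf (24, 134, 118, false)) (.leaf (14, 139, 107, true))))) (.node (.node (.node (.leaf (5, 149, 154, false)) (.leaf (1, 20, 152, true))) (.node (.leaf (14, 20, 51, true)) (.leaf (24, 86, 34, false)))) (.node (.node (.leaf (10, 6, 141, true)) (.leaf (7, 50, 98, false))) (.leaf (23, 54, 49, true))))) (.node (.node (.node (.node (.leaf (27, 49, 36, false)) (.leaf (29, 115, 117, true))) (.node (.leaf (13, 159, 38, false)) (.leaf (38, 24, 58, false)))) (.node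 (.node (.leaf (10, 146, 1, false)) (.leaf (10, 58, 91, true))) (.node (.leaf (10, 85, 138, false)) (.leaf (10, 100, 70, false))))) (.node (.node (.node (.leaf (6, 103, 90, true)) (.leaf (19, 72, 67, false))) (.node (.leaf (5, 118, 70, false)) (.leaf (10, 127, 146, true)))) (.node (.node (.leaf (26, 150, 137, false)) (.leaf (37, 35, 12, false))) (.leaf (16, 98, 139, true)))))) (.node (.node (.node (.node (.node (.leaf (26, 0, 0, false)) (.leaf (20, 21, 158, true))) (.node (.leaf (32, 68, 116, false)) (.leaf (25, 142, 138, false)))) (.node (.node (.leaf (1, 105, 67, false)) (.leaf (29, 54, 92, true))) (.node (.leaf (4, 41, 42, true)) (.leaf (38, 59, 17, true))))) (.node (.node (.node (.leaf (19, 58, 130, true)) (.leaf (7, 42, 128, true))) (.node (.leaf (26, 15, 91, true)) (.leaf (26, 29, 122, false)))) (.node (.node (.leaf (12, 99, 106, true)) (.leaf (5, 112, 22, true))) (.leaf (19, 95, 15, false))))) (.node (.node (.node (.node (.leaf (33, 10, 42, true)) (.leaf (15, 147, 76, false))) (.node (.leaf (16, 157, 113, false)) (.leaf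 (24, 100, 37, false)))) (.node (.node (.leaf (4, 114, 119, false)) (.leaf (1, 143, 123, false))) (.leaf (33, 21, 75, false)))) (.node (.node (.node (.leaf (6, 26, 36, true)) (.leaf (10, 159, 56, true))) (.node (.leaf (7, 83, 26, true)) (.leaf (13, 72, 90, true)))) (.node (.node (.leaf (37, 55, 2, true)) (.leaf (11, 43, 12, false))) (.leaf (16, 104, 142, true))))))) (.node (.node (.node (.node (.node (.node (.leaf (3, 15, 152, false)) (.leaf (21, 102, 36, true))) (.node (.leaf (28, 103, 139, false)) (.leaf (6, 15, 137, true)))) (.node (.node (.leaf (12, 158, 29, false)) (.leaf (15, 52, 38, true))) (.node (.leaf (24, 27, 24, true)) (.leaf (30, 145, 1, true))))) (.node (.node (.node (.leaf (13, 0, 50, false)) (.leaf (24, 12, 154, false))) (.node (.leaf (12, 21, 15, false)) (.leaf (12, 55, 85, true)))) (.node (.node (.leaf (10, 153, 137, false)) (.leaf (38, 100, 41, true))) (.leaf (8, 19, 1, true))))) (.node (.node (.node (.node (.leaf (25, 0, 5, true)) (.leaf (30, 157, 3, true))) (.node (.leaf (1, 58, 51, true)) (.leaf (38, 82,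 88, true)))) (.node (.node (.leaf (4, 46, 33, false)) (.leaf (20, 52, 132, false))) (.node (.leaf (14, 93, 9, false)) (.leaf (10, 85, 99, true))))) (.node (.node (.node (.leaf (30, 20, 20, true)) (.leaf (28, 153, 90, true))) (.node (.leaf (7, 52, 91, true)) (.leaf (6, 32, 117, true)))) (.node (.node (.leaf (8, 80, 20, false)) (.leaf (9, 74, 57, false))) (.leaf (33, 35, 139, true)))))) (.node (.node (.node (.node (.node (.leaf (19, 34, 112, true)) (.leaf (25, 111, 158, true))) (.node (.leaf (1, 42, 107, true)) (.leaf (19, 103, 120, true)))) (.node (.node (.leaf (33, 15, 114, true)) (.leaf (3, 154, 23, false))) (.node (.leaf (21, 100, 11, true)) (.leaf (5, 69, 62, true))))) (.node (.node (.node (.leaf (6, 136, 61, false)) (.leaf (14, 80, 33, true))) (.node (.leaf (24, 12, 139, true)) (.leaf (10, 135, 11, false)))) (.node (.node (.leaf (25, 98, 22, false)) (.leaf (21, 159, 79, true))) (.leaf (7, 26, 146, true))))) (.node (.node (.node (.node (.leaf (23, 120, 3, true)) (.leaf (30, 83, 11, true))) (.node (.leaf (23, 54, 52, true))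 (.leaf (29, 137, 91, true)))) (.node (.node (.leaf (6, 17, 131, false)) (.leaf (17, 116, 54, false))) (.leaf (12, 84, 130, false)))) (.node (.node (.node (.leaf (34, 136, 7, false)) (.leaf (15, 141, 9, false))) (.node (.leaf (12, 133, 26, false)) (.leaf (30, 76, 5, false)))) (.node (.node (.leaf (25, 124, 89, true)) (.leaf (10, 39, 52, false))) (.leaf (17, 127, 22, true)))))))))

def conjTab5 : Janko.Tree (ℕ × ℕ × ℕ × Bool) :=
  (.node (.node (.node (.node (.node (.node (.node (.node (.leaf (4, 0, 0, false)) (.leaf (10, 81, 12, false))) (.node (.leaf (14, 65, 6, true)) (.leaf (6, 37, 133, false)))) (.node (.node (.leaf (13, 56, 139, false)) (.leaf (21, 2, 7, true))) (.node (.leaf (10, 28, 98, true)) (.leaf (16, 80, 133, true))))) (.node (.node (.node (.leaf (3, 115, 70, true)) (.leaf (13, 88, 58, true))) (.node (.leaf (23, 59, 46, true)) (.leaf (15, 13, 139, false)))) (.node (.node (.leaf (13, 5, 125, false)) (.leaf (1, 0, 40, false))) (.leaf (27, 141, 123, true))))) (.node (.node (.node (.node (.leaf (2, 125, 106, false)) (.leaf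 (26, 80, 1, false))) (.node (.leaf (5, 147, 95, true)) (.leaf (14, 142, 116, false)))) (.node (.node (.leaf (3, 2, 81, false)) (.leaf (4, 145, 88, true))) (.node (.leaf (1, 97, 32, true)) (.leaf (18, 107, 65, true))))) (.node (.node (.node (.leaf (16, 1, 49, false)) (.leaf (3, 72, 24, false))) (.node (.leaf (2, 22, 21, false)) (.leaf (17, 9, 109, false)))) (.node (.node (.leaf (1, 38, 90, true)) (.leaf (7, 78, 139, false))) (.leaf (2, 57, 136, false)))))) (.node (.node (.node (.node (.node (.leaf (21, 2, 77, true)) (.leaf (30, 112, 91, false))) (.node (.leaf (19, 91, 137, false)) (.leaf (6, 133, 118, true)))) (.node (.node (.leaf (25, 53, 82, true)) (.leaf (10, 104, 150, false))) (.node (.leaf (37, 24, 15, true)) (.leaf (3, 141, 5, true))))) (.node (.node (.node (.leaf (6, 125, 28, false)) (.leaf (17, 133, 35, true))) (.node (.leaf (32, 110, 106, false)) (.leaf (19, 46, 4, false)))) (.node (.node (.leaf (37, 71, 16, false)) (.leaf (12, 121, 1, false))) (.leaf (8, 139, 67, false))))) (.node (.node (.node (.node (.leaf (20, 3,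 22, true)) (.leaf (17, 0, 10, true))) (.node (.leaf (15, 52, 7, false)) (.leaf (33, 69, 150, false)))) (.node (.node (.leaf (6, 108, 6, false)) (.leaf (7, 22, 53, false))) (.leaf (26, 150, 15, false)))) (.node (.node (.node (.leaf (9, 2, 35, true)) (.leaf (21, 27, 91, false))) (.node (.leaf (6, 137, 88, false)) (.leaf (14, 87, 104, false)))) (.node (.node (.leaf (24, 62, 58, false)) (.leaf (15, 141, 39, false))) (.leaf (12, 54, 128, true))))))) (.node (.node (.node (.node (.node (.node (.leaf (10, 44, 80, false)) (.leaf (38, 150, 60, false))) (.node (.leaf (1, 1, 81, true)) (.leaf (29, 2, 68, false)))) (.node (.node (.leaf (1, 23, 148, true)) (.leaf (14, 137, 41, false))) (.node (.leaf (36, 149, 9, true)) (.leaf (2, 125, 15, true))))) (.node (.node (.node (.leaf (28, 0, 31, true)) (.leaf (7, 153, 93, true))) (.node (.leaf (8, 12, 75, false)) (.leaf (14, 40, 88, true)))) (.node (.node (.leaf (11, 137, 11, false)) (.leaf (11, 66, 37, false))) (.leaf (38, 72, 29, false))))) (.node (.node (.node (.node (.leaf (10, 96, 63, false))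 (.leaf (1, 82, 27, true))) (.node (.leaf (6, 150, 34, false)) (.leaf (38, 153, 12, false)))) (.node (.node (.leaf (5, 131, 19, false)) (.leaf (25, 15, 41, false))) (.node (.leaf (13, 140, 89, true)) (.leaf (16, 141, 13, false))))) (.node (.node (.node (.leaf (17, 116, 51, false)) (.leaf (20, 23, 12, true))) (.node (.leaf (3, 13, 7, true)) (.leaf (19, 65, 84, true)))) (.node (.node (.leaf (20, 70, 90, false)) (.leaf (10, 40, 126, true))) (.leaf (8, 128, 38, true)))))) (.node (.node (.node (.node (.node (.leaf (3, 50, 40, false)) (.leaf (3, 34, 82, true))) (.node (.leaf (35, 120, 41, false)) (.leaf (32, 25, 25, true)))) (.node (.node (.leaf (25, 88, 29, false)) (.leaf (24, 10, 109, true))) (.node (.leaf (3, 97, 44, false)) (.leaf (14, 114, 43, false))))) (.node (.node (.node (.leaf (12, 101, 90, false)) (.leaf (35, 151, 23, false))) (.node (.leaf (24, 16, 29, true)) (.leaf (10, 58, 3, false)))) (.node (.node (.leaf (6, 49, 16, false)) (.leaf (17, 53, 91, true))) (.leaf (37, 137, 25, true))))) (.node (.node (.node (.node (.leaf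 (15, 44, 52, false)) (.leaf (20, 32, 65, true))) (.node (.leaf (19, 136, 51, true)) (.leaf (37, 105, 33, true)))) (.node (.node (.leaf (2, 143, 28, true)) (.leaf (8, 47, 37, false))) (.leaf (13, 39, 71, false)))) (.node (.node (.node (.leaf (6, 63, 150, false)) (.leaf (26, 28, 62, true))) (.node (.leaf (16, 40, 92, false)) (.leaf (7, 112, 23, false)))) (.node (.node (.leaf (24, 31, 107, true)) (.leaf (10, 86, 115, true))) (.leaf (25, 19, 140, true)))))))) (.node (.node (.node (.node (.node (.node (.node (.leaf (10, 12, 132, true)) (.leaf (17, 52, 38, true))) (.node (.leaf (25, 20, 56, false)) (.leaf (20, 106, 32, true)))) (.node (.node (.leaf (21, 68, 21, true)) (.leaf (21, 143, 85, true))) (.node (.leaf (14, 16, 153, true)) (.leaf (29, 124, 33, false))))) (.node (.node (.node (.leaf (13, 18, 60, true)) (.leaf (19, 111, 157, false))) (.node (.leaf (32, 78, 89, true)) (.leaf (1, 44, 127, true)))) (.node (.node (.leaf (33, 134, 125, false)) (.leaf (24, 24, 137, false))) (.leaf (26, 144, 55, true))))) (.node (.node (.node (.node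 (.leaf (17, 78, 92, true)) (.leaf (18, 86, 6, false))) (.node (.leaf (19, 48, 88, true)) (.leaf (17, 15, 23, false)))) (.node (.node (.leaf (8, 33, 123, false)) (.leaf (17, 26, 141, true))) (.node (.leaf (17, 70, 102, false)) (.leaf (19, 92, 154, true))))) (.node (.node (.node (.leaf (5, 50, 46, true)) (.leaf (15, 19, 12, true))) (.node (.leaf (23, 110, 22, false)) (.leaf (26, 87, 3, true)))) (.node (.node (.leaf (16, 70, 83, true)) (.leaf (1, 120, 18, true))) (.leaf (21, 102, 1, false)))))) (.node (.node (.node (.node (.node (.leaf (15, 97, 58, false)) (.leaf (2, 94, 123, false))) (.node (.leaf (2, 140, 35, false)) (.leaf (21, 74, 22, false)))) (.node (.node (.leaf (21, 36, 53, false)) (.leaf (5, 105, 128, false))) (.node (.leaf (38, 70, 28, true)) (.leaf (24, 54, 46, true))))) (.node (.node (.node (.leaf (5, 77, 110, true)) (.leaf (26, 44, 53, false))) (.node (.leaf (20, 6, 21, true)) (.leaf (25, 28, 155, true)))) (.node (.node (.leaf (5, 35, 83, true)) (.leaf (24, 143, 84, true))) (.leaf (25, 136, 69, true))))) (.node (.node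 (.node (.node (.leaf (19, 0, 45, false)) (.leaf (21, 72, 101, true))) (.node (.leaf (20, 65, 58, false)) (.leaf (16, 24, 146, true)))) (.node (.node (.leaf (1, 132, 12, true)) (.leaf (14, 114, 158, false))) (.leaf (12, 84, 53, false)))) (.node (.node (.node (.leaf (6, 98, 135, false)) (.leaf (29, 147, 37, true))) (.node (.leaf (25, 128, 80, false)) (.leaf (12, 139, 143, false)))) (.node (.node (.leaf (13, 22, 6, true)) (.leaf (4, 67, 2, true))) (.leaf (26, 15, 93, true))))))) (.node (.node (.node (.node (.node (.node (.leaf (1, 0, 31, true)) (.leaf (19, 3, 74, true))) (.node (.leaf (19, 159, 7, true)) (.leaf (1, 134, 134, true)))) (.node (.node (.leaf (26, 23, 23, true)) (.leaf (15, 67, 18, true))) (.node (.leaf (6, 61, 48, false)) (.leaf (25, 73, 93, false))))) (.node (.node (.node (.leaf (7, 112, 76, false)) (.leaf (14, 59, 114, false))) (.node (.leaf (36, 76, 18, false)) (.leaf (2, 47, 92, false)))) (.node (.node (.leaf (7, 137, 15, true)) (.leaf (32, 0, 62, false))) (.leaf (24, 10, 111, true))))) (.node (.node (.node (.node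 (.leaf (18, 9, 36, false)) (.leaf (24, 134, 131, true))) (.node (.leaf (25, 50, 94, true)) (.leaf (20, 83, 140, false)))) (.node (.node (.leaf (4, 107, 98, true)) (.leaf (3, 121, 75, true))) (.node (.leaf (24, 121, 136, false)) (.leaf (12, 0, 65, true))))) (.node (.node (.node (.leaf (3, 15, 138, false)) (.leaf (12, 9, 18, false))) (.node (.leaf (19, 153, 139, false)) (.leaf (24, 66, 44, false)))) (.node (.node (.leaf (25, 53, 59, true)) (.leaf (1, 97, 73, false))) (.leaf (7, 158, 136, false)))))) (.node (.node (.node (.node (.node (.leaf (20, 0, 50, false)) (.leaf (13, 54, 39, true))) (.node (.leaf (16, 63, 130, true)) (.leaf (30, 5, 44, false)))) (.node (.node (.leaf (2, 35, 25, false)) (.leaf (32, 76, 142, false))) (.node (.leaf (12, 111, 154, true)) (.leaf (25, 144, 142, false))))) (.node (.node (.node (.leaf (4, 41, 11, true)) (.leaf (11, 46, 13, true))) (.node (.leaf (24, 26, 132, true)) (.leaf (4, 108, 36, true)))) (.node (.node (.leaf (19, 68, 59, true)) (.leaf (29, 146, 8, false))) (.leaf (33, 157, 146, false))))) (.node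 (.node (.node (.node (.leaf (26, 37, 33, true)) (.leaf (32, 115, 17, false))) (.node (.leaf (24, 5, 69, true)) (.leaf (6, 159, 17, true)))) (.node (.node (.leaf (21, 54, 2, false)) (.leaf (19, 84, 37, true))) (.leaf (17, 55, 1, true)))) (.node (.node (.node (.leaf (7, 137, 151, true)) (.leaf (14, 142, 126, true))) (.node (.leaf (6, 113, 62, true)) (.leaf (16, 70, 64, false)))) (.node (.node (.leaf (19, 71, 8, false)) (.leaf (26, 79, 72, true))) (.leaf (24, 103, 50, false)))))))))

def conjTab6 : Janko.Tree (ℕ × ℕ × ℕ × Bool) :=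
  (.node (.node (.node (.node (.node (.node (.node (.node (.leaf (5, 0, 0, false)) (.leaf (33, 97, 43, true))) (.node (.leaf (5, 100, 138, false)) (.leaf (14, 93, 115, false)))) (.node (.node (.leaf (12, 21, 137, false)) (.leaf (16, 65, 17, false))) (.node (.leaf (21, 156, 20, true)) (.leaf (30, 111, 92, false))))) (.node (.node (.node (.leaf (3, 61, 140, false)) (.leaf (8, 101, 137, false))) (.node (.leaf (20, 101, 149, false)) (.leaf (18, 63, 57, false)))) (.node (.node (.leaf (33, 0, 45, false)) (.leaf (14, 128, 21, false))) (.leaf (20, 24, 130, true))))) (.node (.node (.node (.node (.leaf (6, 96, 5, false)) (.leaf (4, 90, 47, true))) (.node (.leaf (20, 45, 59, false)) (.leaf (10, 24, 88, false)))) (.node (.node (.leaf (12, 132, 104, true)) (.leaf (19, 48, 25, false))) (.node (.leaf (2, 157, 129, true)) (.leaf (18, 106, 125, false))))) (.node (.node (.node (.leaf (3, 144, 76, true)) (.leaf (13, 133, 103, true))) (.node (.leaf (12, 77, 41, true)) (.leaf (14, 33, 59, false)))) (.node (.node (.leaf (36, 159, 25, true)) (.leaf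 (33, 4, 18, true))) (.leaf (5, 75, 35, false)))))) (.node (.node (.node (.node (.node (.leaf (19, 58, 10, true)) (.leaf (1, 30, 112, false))) (.node (.leaf (7, 90, 20, false)) (.leaf (4, 4, 87, false)))) (.node (.node (.leaf (19, 62, 141, false)) (.leaf (7, 151, 123, true))) (.node (.leaf (38, 85, 118, false)) (.leaf (6, 139, 13, false))))) (.node (.node (.node (.leaf (21, 140, 76, true)) (.leaf (17, 70, 6, false))) (.node (.leaf (3, 114, 95, true)) (.leaf (33, 155, 107, false)))) (.node (.node (.leaf (16, 31, 38, false)) (.leaf (19, 43, 83, false))) (.leaf (28, 61, 21, true))))) (.node (.node (.node (.node (.leaf (19, 3, 1, false)) (.leaf (5, 27, 20, true))) (.node (.leaf (10, 96, 83, true)) (.leaf (20, 24, 56, false)))) (.node (.node (.leaf (16, 44, 127, false)) (.leaf (38, 0, 31, true))) (.leaf (10, 87, 96, false)))) (.node (.node (.node (.leaf (26, 2, 60, false)) (.leaf (5, 105, 15, false))) (.node (.leaf (28, 134, 85, false)) (.leaf (33, 122, 26, false)))) (.node (.node (.leaf (14, 135, 74, false)) (.leaf (26, 108, 56, false)))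 (.leaf (16, 157, 12, false))))))) (.node (.node (.node (.node (.node (.node (.leaf (7, 43, 85, false)) (.leaf (35, 50, 51, true))) (.node (.leaf (27, 37, 60, false)) (.leaf (10, 72, 32, false)))) (.node (.node (.leaf (7, 43, 3, true)) (.leaf (6, 46, 8, true))) (.node (.leaf (5, 142, 137, false)) (.leaf (38, 157, 9, false))))) (.node (.node (.node (.leaf (14, 74, 146, true)) (.leaf (28, 99, 12, false))) (.node (.leaf (37, 0, 45, false)) (.leaf (18, 118, 7, false)))) (.node (.node (.leaf (2, 64, 98, true)) (.leaf (7, 54, 22, false))) (.leaf (25, 62, 18, true))))) (.node (.node (.node (.node (.leaf (16, 16, 154, false)) (.leaf (11, 65, 3, false))) (.node (.leaf (15, 67, 55, false)) (.leaf (11, 32, 96, false)))) (.node (.node (.leaf (16, 40, 96, false)) (.leaf (32, 134, 58, true))) (.node (.leaf (10, 39, 158, true)) (.leaf (17, 6, 26, false))))) (.node (.node (.node (.leaf (27, 146, 37, true)) (.leaf (15, 134, 128, false))) (.node (.leaf (17, 131, 33, true)) (.leaf (38, 90, 40, false)))) (.node (.node (.leaf (8, 42, 129, true)) (.leaf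 (5, 62, 112, false))) (.leaf (2, 94, 23, false)))))) (.node (.node (.node (.node (.node (.leaf (21, 106, 103, false)) (.leaf (17, 80, 90, true))) (.node (.leaf (17, 88, 57, true)) (.leaf (38, 41, 35, true)))) (.node (.node (.leaf (16, 105, 40, false)) (.leaf (37, 108, 9, true))) (.node (.leaf (27, 46, 90, false)) (.leaf (18, 72, 59, false))))) (.node (.node (.node (.leaf (21, 36, 48, false)) (.leaf (3, 107, 57, true))) (.node (.leaf (16, 16, 53, false)) (.leaf (24, 103, 42, true)))) (.node (.node (.leaf (21, 131, 118, false)) (.leaf (3, 27, 141, false))) (.leaf (33, 69, 6, false))))) (.node (.node (.node (.node (.leaf (27, 111, 57, true)) (.leaf (6, 59, 7, true))) (.node (.leaf (16, 76, 148, false)) (.leaf (4, 92, 59, true)))) (.node (.node (.leaf (32, 94, 32, false)) (.leaf (30, 33, 26, true))) (.leaf (19, 41, 144, false)))) (.node (.node (.node (.leaf (7, 147, 153, true)) (.leaf (5, 137, 41, true))) (.node (.leaf (19, 16, 93, false)) (.leaf (29, 112, 18, false)))) (.node (.node (.leaf (18, 86, 88, true)) (.leaf (29, 90, 11,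 false))) (.leaf (6, 78, 149, true)))))))) (.node (.node (.node (.node (.node (.node (.node (.leaf (10, 44, 84, true)) (.leaf (8, 35, 53, true))) (.node (.leaf (29, 17, 16, true)) (.leaf (29, 149, 14, false)))) (.node (.node (.leaf (14, 77, 135, false)) (.leaf (12, 21, 101, true))) (.node (.leaf (4, 19, 16, false)) (.leaf (16, 148, 98, false))))) (.node (.node (.node (.leaf (16, 16, 157, true)) (.leaf (10, 100, 53, true))) (.node (.leaf (4, 42, 26, true)) (.leaf (7, 29, 115, false)))) (.node (.node (.leaf (16, 43, 46, false)) (.leaf (33, 7, 80, true))) (.leaf (27, 149, 19, false))))) (.node (.node (.node (.node (.leaf (3, 28, 69, true)) (.leaf (1, 28, 59, false))) (.node (.leaf (15, 24, 56, true)) (.leaf (6, 2, 32, false)))) (.node (.node (.leaf (14, 87, 36, true)) (.leaf (17, 148, 71, false))) (.node (.leaf (12, 95, 134, true)) (.leaf (11, 3, 58, false))))) (.node (.node (.node (.leaf (10, 97, 41, true)) (.leaf (19, 109, 153, true))) (.node (.leaf (28, 19, 61, true)) (.leaf (2, 159, 74, false)))) (.node (.node (.leaf (19, 148,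 76, true)) (.leaf (32, 110, 43, false))) (.leaf (30, 129, 153, true)))))) (.node (.node (.node (.node (.node (.leaf (4, 115, 7, false)) (.leaf (1, 52, 61, true))) (.node (.leaf (38, 75, 90, false)) (.leaf (33, 99, 157, false)))) (.node (.node (.leaf (3, 20, 58, false)) (.leaf (33, 64, 4, true))) (.node (.leaf (25, 73, 51, false)) (.leaf (29, 19, 89, true))))) (.node (.node (.node (.leaf (20, 70, 106, true)) (.leaf (35, 71, 11, true))) (.node (.leaf (25, 15, 157, true)) (.leaf (24, 118, 21, false)))) (.node (.node (.leaf (29, 20, 88, true)) (.leaf (1, 140, 139, false))) (.leaf (35, 24, 81, false))))) (.node (.node (.node (.node (.leaf (34, 0, 0, false)) (.leaf (12, 154, 147, false))) (.node (.leaf (8, 78, 96, true)) (.leaf (38, 120, 72, false)))) (.node (.node (.leaf (7, 93, 152, true)) (.leaf (10, 81, 124, false))) (.leaf (3, 31, 54, true)))) (.node (.node (.node (.leaf (33, 0, 31, true)) (.leaf (18, 82, 12, false))) (.node (.leaf (4, 100, 44, false)) (.leaf (2, 31, 110, true)))) (.node (.node (.leaf (21, 101, 116, false)) (.leaf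 (5, 156, 113, false))) (.leaf (6, 97, 114, true))))))) (.node (.node (.node (.node (.node (.node (.leaf (20, 88, 100, false)) (.leaf (3, 57, 36, false))) (.node (.leaf (32, 101, 57, true)) (.leaf (7, 82, 71, true)))) (.node (.node (.leaf (17, 0, 31, true)) (.leaf (5, 154, 82, false))) (.node (.leaf (25, 20, 71, false)) (.leaf (30, 37, 88, true))))) (.node (.node (.node (.leaf (24, 0, 45, false)) (.leaf (5, 93, 2, true))) (.node (.leaf (29, 18, 27, true)) (.leaf (33, 148, 127, true)))) (.node (.node (.leaf (21, 138, 124, false)) (.leaf (33, 113, 85, true))) (.leaf (9, 33, 16, true))))) (.node (.node (.node (.node (.leaf (6, 26, 43, false)) (.leaf (6, 40, 126, true))) (.node (.leaf (14, 27, 35, true)) (.leaf (25, 100, 3, false)))) (.node (.node (.leaf (2, 140, 157, true)) (.leaf (33, 33, 77, true))) (.node (.leaf (16, 63, 10, true)) (.leaf (38, 150, 120, false))))) (.node (.node (.node (.leaf (24, 41, 25, false)) (.leaf (14, 41, 142, false))) (.node (.leaf (24, 24, 15, false)) (.leaf (6, 103, 96, false)))) (.node (.node (.leaf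 (10, 157, 62, false)) (.leaf (13, 93, 59, false))) (.leaf (28, 99, 91, false)))))) (.node (.node (.node (.node (.node (.leaf (7, 45, 109, false)) (.leaf (24, 43, 63, false))) (.node (.leaf (32, 76, 56, true)) (.leaf (19, 156, 87, true)))) (.node (.node (.leaf (19, 89, 94, true)) (.leaf (16, 154, 76, true))) (.node (.leaf (5, 79, 25, false)) (.leaf (8, 150, 3, true))))) (.node (.node (.node (.leaf (17, 85, 42, true)) (.leaf (25, 87, 117, false))) (.node (.leaf (7, 23, 55, false)) (.leaf (35, 5, 32, false)))) (.node (.node (.leaf (30, 28, 15, false)) (.leaf (33, 119, 143, false))) (.leaf (1, 106, 88, true))))) (.node (.node (.node (.node (.leaf (16, 91, 67, true)) (.leaf (33, 63, 15, false))) (.node (.leaf (15, 113, 89, true)) (.leaf (6, 41, 24, false)))) (.node (.node (.leaf (7, 25, 157, false)) (.leaf (12, 150, 70, true))) (.leaf (24, 81, 66, false)))) (.node (.node (.node (.leaf (21, 101, 136, false)) (.leaf (3, 79, 134, false))) (.node (.leaf (18, 111, 3, false)) (.leaf (4, 24, 21, false)))) (.node (.node (.leaf (13, 69, 27,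 true)) (.leaf (10, 39, 43, true))) (.leaf (1, 37, 116, true)))))))))

def conjTab7 : Janko.Tree (ℕ × ℕ × ℕ × Bool) :=
  (.node (.node (.node (.node (.node (.node (.node (.node (.leaf (6, 0, 0, false)) (.leaf (28, 5, 52, true))) (.node (.leaf (5, 40, 54, false)) (.leaf (24, 13, 101, false)))) (.node (.node (.leaf (5, 98, 124, false)) (.leaf (25, 3, 134, true))) (.node (.leaf (3, 108, 129, false)) (.leaf (14, 9, 18, true))))) (.node (.node (.node (.leaf (24, 41, 19, true)) (.leaf (10, 55, 93, true))) (.node (.leaf (24, 3, 8, false)) (.leaf (29, 135, 71, false)))) (.node (.node (.leaf (20, 63, 147, true)) (.leaf (7, 10, 92, false))) (.leaf (19, 101, 100, false))))) (.node (.node (.node (.node (.leaf (6, 57, 2, false)) (.leaf (8, 109, 132, true))) (.node (.leaf (3, 127, 3, true)) (.leaf (5, 26, 36, true)))) (.node (.node (.leaf (24, 126, 122, true)) (.leaf (16, 62, 111, true))) (.node (.leaf (14, 59, 128, false)) (.leaf (21, 119, 120, false))))) (.node (.node (.node (.leaf (3, 2, 1, false)) (.leaf (3, 61, 25, false))) (.node (.leaf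 (13, 156, 46, true)) (.leaf (24, 101, 94, true)))) (.node (.node (.leaf (9, 98, 59, true)) (.leaf (6, 143, 41, false))) (.leaf (8, 155, 54, true)))))) (.node (.node (.node (.node (.node (.leaf (16, 0, 50, false)) (.leaf (38, 97, 10, true))) (.node (.leaf (33, 149, 92, true)) (.leaf (12, 14, 19, true)))) (.node (.node (.leaf (10, 23, 127, true)) (.leaf (33, 12, 70, true))) (.node (.leaf (13, 24, 69, true)) (.leaf (6, 125, 115, false))))) (.node (.node (.node (.leaf (19, 117, 121, true)) (.leaf (16, 35, 137, true))) (.node (.leaf (10, 114, 128, true)) (.leaf (5, 77, 3, false)))) (.node (.node (.leaf (29, 36, 49, false)) (.leaf (6, 113, 75, false))) (.leaf (15, 35, 123, false))))) (.node (.node (.node (.node (.leaf (20, 0, 51, false)) (.leaf (15, 14, 85, false))) (.node (.leaf (6, 26, 52, true)) (.leaf (26, 150, 92, true)))) (.node (.node (.leaf (23, 137, 29, false)) (.leaf (5, 85, 144, false))) (.leaf (4, 117, 101, false)))) (.node (.node (.node (.leaf (28, 56, 16, false)) (.leaf (24, 81, 80, true))) (.node (.leaf (29, 23, 12,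 false)) (.leaf (13, 108, 56, true)))) (.node (.node (.leaf (16, 16, 135, true)) (.leaf (2, 116, 78, true))) (.leaf (38, 104, 117, true))))))) (.node (.node (.node (.node (.node (.node (.leaf (17, 0, 0, false)) (.leaf (28, 19, 63, true))) (.node (.leaf (18, 103, 15, true)) (.leaf (20, 71, 128, false)))) (.node (.node (.leaf (12, 26, 121, true)) (.leaf (35, 156, 8, true))) (.node (.leaf (35, 133, 29, false)) (.leaf (1, 62, 89, true))))) (.node (.node (.node (.leaf (16, 155, 109, true)) (.leaf (1, 84, 151, true))) (.node (.leaf (8, 30, 60, true)) (.leaf (19, 33, 56, false)))) (.node (.node (.leaf (16, 155, 97, false)) (.leaf (33, 142, 27, false))) (.leaf (12, 95, 47, true))))) (.node (.node (.node (.node (.leaf (8, 70, 93, true)) (.leaf (16, 87, 108, false))) (.node (.leaf (4, 16, 99, true)) (.leaf (25, 85, 123, true)))) (.node (.node (.leaf (19, 101, 33, false)) (.leaf (33, 66, 91, true))) (.node (.leaf (19, 10, 12, true)) (.leaf (1, 139, 14, true))))) (.node (.node (.node (.leaf (7, 61, 11, false)) (.leaf (20, 24, 136, false)))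 (.node (.leaf (21, 39, 130, false)) (.leaf (29, 106, 119, false)))) (.node (.node (.leaf (33, 96, 13, false)) (.leaf (11, 152, 35, true))) (.leaf (10, 116, 87, false)))))) (.node (.node (.node (.node (.node (.leaf (28, 0, 0, false)) (.leaf (36, 129, 50, true))) (.node (.leaf (30, 61, 2, true)) (.leaf (2, 32, 13, false)))) (.node (.node (.leaf (26, 91, 35, true)) (.leaf (29, 119, 100, true))) (.node (.leaf (2, 4, 36, true)) (.leaf (7, 106, 129, true))))) (.node (.node (.node (.leaf (18, 48, 35, true)) (.leaf (29, 25, 106, true))) (.node (.leaf (15, 7, 95, false)) (.leaf (1, 63, 80, true)))) (.node (.node (.leaf (33, 66, 93, true)) (.leaf (2, 56, 135, true))) (.leaf (14, 100, 67, true))))) (.node (.node (.node (.node (.leaf (10, 118, 38, false)) (.leaf (32, 16, 85, true))) (.node (.leaf (14, 44, 19, false)) (.leaf (21, 7, 154, false)))) (.node (.node (.leaf (7, 10, 46, true)) (.leaf (19, 1, 135, false))) (.leaf (32, 66, 7, false)))) (.node (.node (.node (.leaf (28, 48, 34, false)) (.leaf (15, 143, 73, true))) (.node (.leaf (3,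 28, 8, true)) (.leaf (3, 14, 22, true)))) (.node (.node (.leaf (19, 108, 20, true)) (.leaf (8, 159, 113, false))) (.leaf (20, 52, 120, true)))))))) (.node (.node (.node (.node (.node (.node (.node (.leaf (14, 0, 0, false)) (.leaf (24, 7, 39, true))) (.node (.leaf (1, 140, 110, true)) (.leaf (29, 56, 67, true)))) (.node (.node (.leaf (25, 68, 120, false)) (.leaf (19, 104, 35, true))) (.node (.leaf (33, 37, 11, true)) (.leaf (18, 84, 128, false))))) (.node (.node (.node (.leaf (25, 150, 23, true)) (.leaf (3, 157, 119, true))) (.node (.leaf (20, 102, 19, false)) (.leaf (24, 87, 1, false)))) (.node (.node (.leaf (3, 82, 151, false)) (.leaf (17, 82, 62, false))) (.leaf (5, 149, 157, true))))) (.node (.node (.node (.node (.leaf (7, 0, 31, true)) (.leaf (11, 82, 17, false))) (.node (.leaf (12, 58, 46, false)) (.leaf (32, 76, 22, true)))) (.node (.node (.leaf (3, 52, 46, true)) (.leaf (21, 6, 111, false))) (.node (.leaf (15, 126, 87, true)) (.leaf (12, 93, 49, true))))) (.node (.node (.node (.leaf (28, 103, 17, true)) (.leaf (8, 75,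 29, false))) (.node (.leaf (30, 103, 76, false)) (.leaf (5, 27, 142, true)))) (.node (.node (.leaf (23, 66, 13, false)) (.leaf (3, 144, 60, false))) (.leaf (19, 106, 64, true)))))) (.node (.node (.node (.node (.node (.leaf (2, 140, 154, false)) (.leaf (16, 154, 134, false))) (.node (.leaf (12, 91, 119, false)) (.leaf (15, 56, 62, false)))) (.node (.node (.leaf (19, 55, 11, true)) (.leaf (19, 82, 99, false))) (.node (.leaf (1, 96, 100, false)) (.leaf (10, 69, 13, false))))) (.node (.node (.node (.leaf (7, 50, 102, true)) (.leaf (3, 44, 77, false))) (.node (.leaf (32, 70, 4, true)) (.leaf (30, 137, 145, false)))) (.node (.node (.leaf (21, 14, 134, true)) (.leaf (1, 159, 103, false))) (.leaf (5, 121, 121, true))))) (.node (.node (.node (.node (.leaf (10, 105, 90, true)) (.leaf (9, 9, 93, false))) (.node (.leaf (30, 26, 8, true)) (.leaf (14, 86, 66, false)))) (.node (.node (.leaf (4, 64, 1, true)) (.leaf (14, 8, 103, false))) (.leaf (8, 75, 15, true)))) (.node (.node (.node (.leaf (38, 149, 64, true)) (.leaf (23, 48, 41, true)))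 (.node (.leaf (24, 111, 32, true)) (.leaf (33, 74, 59, false)))) (.node (.node (.leaf (1, 159, 87, false)) (.leaf (24, 20, 3, true))) (.leaf (7, 50, 116, false))))))) (.node (.node (.node (.node (.node (.node (.leaf (16, 141, 129, false)) (.leaf (21, 39, 10, false))) (.node (.leaf (37, 118, 11, true)) (.leaf (10, 116, 24, true)))) (.node (.node (.leaf (7, 83, 112, true)) (.leaf (1, 61, 154, true))) (.node (.leaf (18, 147, 71, false)) (.leaf (4, 118, 61, false))))) (.node (.node (.node (.leaf (4, 145, 6, false)) (.leaf (33, 6, 142, true))) (.node (.leaf (32, 78, 98, true)) (.leaf (20, 55, 133, true)))) (.node (.node (.leaf (8, 94, 89, false)) (.leaf (1, 67, 120, false))) (.leaf (19, 103, 145, true))))) (.node (.node (.node (.node (.leaf (8, 138, 23, true)) (.leaf (12, 134, 17, false))) (.node (.leaf (30, 20, 139, false)) (.leaf (6, 110, 89, true)))) (.node (.node (.leaf (10, 87, 154, false)) (.leaf (2, 131, 75, true))) (.node (.leaf (29, 136, 39, false)) (.leaf (16, 76, 77, false))))) (.node (.node (.node (.leaf (16, 159, 87,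 false)) (.leaf (2, 67, 26, false))) (.node (.leaf (21, 2, 72, true)) (.leaf (24, 105, 81, false)))) (.node (.node (.leaf (2, 103, 131, false)) (.leaf (32, 86, 140, true))) (.leaf (20, 43, 102, false)))))) (.node (.node (.node (.node (.node (.leaf (19, 58, 126, true)) (.leaf (7, 5, 95, false))) (.node (.leaf (30, 8, 117, false)) (.leaf (25, 52, 33, false)))) (.node (.node (.leaf (6, 129, 100, false)) (.leaf (3, 36, 120, false))) (.node (.leaf (16, 91, 84, true)) (.leaf (28, 21, 6, false))))) (.node (.node (.node (.leaf (21, 87, 87, false)) (.leaf (15, 56, 57, false))) (.node (.leaf (6, 9, 140, true)) (.leaf (14, 47, 90, false)))) (.node (.node (.leaf (14, 35, 141, false)) (.leaf (19, 89, 92, false))) (.leaf (12, 114, 37, true))))) (.node (.node (.node (.node (.leaf (16, 1, 158, true)) (.leaf (10, 11, 25, true))) (.node (.leaf (16, 155, 5, false)) (.leaf (4, 29, 18, false)))) (.node (.node (.leaf (20, 24, 126, true)) (.leaf (7, 64, 74, false))) (.leaf (30, 105, 99, false)))) (.node (.node (.node (.leaf (25, 0, 87, false)) (.leaf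 (5, 26, 42, true))) (.node (.leaf (36, 136, 2, true)) (.leaf (33, 76, 131, false)))) (.node (.node (.leaf (5, 31, 38, true)) (.leaf (14, 75, 151, true))) (.leaf (2, 28, 56, true)))))))))

def conjTab8 : Janko.Tree (ℕ × ℕ × ℕ × Bool) :=
  (.node (.node (.node (.node (.node (.node (.node (.node (.leaf (2, 0, 31, true)) (.leaf (21, 77, 84, true))) (.node (.leaf (15, 14, 3, true)) (.leaf (32, 63, 74, false)))) (.node (.node (.leaf (32, 72, 91, false)) (.leaf (7, 62, 114, true))) (.node (.leaf (25, 124, 95, true)) (.leaf (4, 27, 4, false))))) (.node (.node (.node (.leaf (28, 97, 10, false)) (.leaf (3, 1, 137, false))) (.node (.leaf (5, 53, 148, true)) (.leaf (19, 43, 140, false)))) (.node (.node (.leaf (13, 136, 13, true)) (.leaf (7, 83, 108, true))) (.leaf (23, 132, 7, true))))) (.node (.node (.node (.node (.leaf (8, 55, 138, false)) (.leaf (33, 144, 39, true))) (.node (.leaf (16, 32, 25, false)) (.leaf (25, 56, 50, false)))) (.node (.node (.leaf (25, 20, 70, true)) (.leaf (20, 26, 30, false))) (.node (.leaf (13, 84, 141, true))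 (.leaf (2, 72, 59, true))))) (.node (.node (.node (.leaf (32, 41, 41, true)) (.leaf (1, 139, 129, false))) (.node (.leaf (25, 151, 129, false)) (.leaf (25, 134, 39, true)))) (.node (.node (.leaf (20, 3, 24, true)) (.leaf (18, 18, 1, true))) (.leaf (24, 159, 126, false)))))) (.node (.node (.node (.node (.node (.leaf (6, 0, 159, false)) (.leaf (5, 119, 14, false))) (.node (.leaf (25, 156, 21, true)) (.leaf (25, 22, 110, false)))) (.node (.node (.leaf (24, 57, 123, false)) (.leaf (38, 88, 102, false))) (.node (.leaf (17, 98, 56, false)) (.leaf (9, 17, 12, false))))) (.node (.node (.node (.leaf (12, 6, 120, false)) (.leaf (29, 3, 10, false))) (.node (.leaf (24, 17, 88, true)) (.leaf (2, 132, 46, false)))) (.node (.node (.leaf (3, 40, 37, false)) (.leaf (8, 84, 14, true))) (.leaf (12, 21, 86, false))))) (.node (.node (.node (.node (.leaf (27, 66, 22, true)) (.leaf (18, 64, 141, false))) (.node (.leaf (27, 155, 20, false)) (.leaf (12, 14, 16, false)))) (.node (.node (.leaf (1, 12, 7, false)) (.leaf (21, 24, 144, true))) (.leaf (2,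 56, 148, true)))) (.node (.node (.node (.leaf (27, 155, 62, true)) (.leaf (19, 48, 89, true))) (.node (.leaf (38, 2, 55, true)) (.leaf (33, 58, 73, false)))) (.node (.node (.leaf (25, 28, 145, false)) (.leaf (16, 109, 150, true))) (.leaf (3, 114, 107, false))))))) (.node (.node (.node (.node (.node (.node (.leaf (4, 134, 115, true)) (.leaf (16, 70, 61, false))) (.node (.leaf (28, 159, 117, false)) (.leaf (17, 150, 8, false)))) (.node (.node (.leaf (36, 159, 19, false)) (.leaf (26, 89, 61, false))) (.node (.leaf (16, 1, 36, false)) (.leaf (33, 149, 16, false))))) (.node (.node (.node (.leaf (1, 140, 85, false)) (.leaf (28, 147, 67, true))) (.node (.leaf (20, 31, 155, false)) (.leaf (16, 115, 144, true)))) (.node (.node (.leaf (33, 108, 81, false)) (.leaf (38, 2, 1, false))) (.leaf (13, 104, 122, true))))) (.node (.node (.node (.node (.leaf (33, 0, 0, false)) (.leaf (15, 157, 91, true))) (.node (.leaf (32, 125, 113, true)) (.leaf (35, 154, 12, false)))) (.node (.node (.leaf (15, 86, 59, false)) (.leaf (24, 159, 38, false))) (.node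 (.leaf (15, 109, 35, true)) (.leaf (14, 83, 111, false))))) (.node (.node (.node (.leaf (5, 79, 150, true)) (.leaf (5, 107, 64, true))) (.node (.leaf (27, 55, 18, true)) (.leaf (29, 134, 2, false)))) (.node (.node (.leaf (12, 79, 56, true)) (.leaf (7, 135, 81, false))) (.leaf (8, 147, 17, true)))))) (.node (.node (.node (.node (.node (.leaf (9, 40, 38, false)) (.leaf (20, 139, 7, true))) (.node (.leaf (16, 87, 100, false)) (.leaf (12, 121, 139, false)))) (.node (.node (.leaf (9, 40, 32, false)) (.leaf (8, 12, 62, true))) (.node (.leaf (26, 0, 45, false)) (.leaf (28, 47, 38, false))))) (.node (.node (.node (.leaf (14, 14, 122, true)) (.leaf (14, 40, 39, true))) (.node (.leaf (33, 120, 12, true)) (.leaf (16, 94, 74, false)))) (.node (.node (.leaf (25, 113, 28, true)) (.leaf (25, 124, 111, false))) (.leaf (24, 28, 100, true))))) (.node (.node (.node (.node (.leaf (34, 104, 1, true)) (.leaf (2, 27, 133, true))) (.node (.leaf (10, 114, 156, true)) (.leaf (33, 10, 53, true)))) (.node (.node (.leaf (19, 41, 22, true)) (.leaf (21, 70,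 82, false))) (.leaf (2, 61, 111, true)))) (.node (.node (.node (.leaf (1, 47, 10, false)) (.leaf (33, 74, 141, true))) (.node (.leaf (30, 0, 31, true)) (.leaf (17, 80, 20, false)))) (.node (.node (.leaf (26, 68, 20, true)) (.leaf (2, 9, 17, false))) (.leaf (12, 72, 34, true)))))))) (.node (.node (.node (.node (.node (.node (.node (.leaf (4, 114, 114, true)) (.leaf (5, 34, 135, false))) (.node (.leaf (17, 91, 58, false)) (.leaf (12, 72, 94, false)))) (.node (.node (.leaf (7, 42, 105, false)) (.leaf (20, 60, 84, false))) (.node (.leaf (36, 122, 21, true)) (.leaf (14, 137, 154, false))))) (.node (.node (.node (.leaf (6, 26, 42, true)) (.leaf (15, 130, 41, false))) (.node (.leaf (8, 155, 47, true)) (.leaf (1, 145, 108, false)))) (.node (.node (.leaf (2, 137, 145, false)) (.leaf (2, 5, 121, false))) (.leaf (25, 149, 4, true))))) (.node (.node (.node (.node (.leaf (19, 10, 118, true)) (.leaf (10, 105, 97, false))) (.node (.leaf (20, 24, 123, false)) (.leaf (15, 52, 122, true)))) (.node (.node (.leaf (19, 54, 149, false)) (.leaf (33,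 31, 140, false))) (.node (.leaf (5, 102, 21, false)) (.leaf (29, 81, 51, true))))) (.node (.node (.node (.leaf (1, 20, 16, false)) (.leaf (4, 11, 14, true))) (.node (.leaf (16, 70, 79, true)) (.leaf (7, 46, 51, false)))) (.node (.node (.leaf (14, 9, 27, true)) (.leaf (1, 92, 128, false))) (.leaf (3, 40, 47, true)))))) (.node (.node (.node (.node (.node (.leaf (27, 0, 0, false)) (.leaf (25, 150, 19, true))) (.node (.leaf (6, 37, 78, true)) (.leaf (11, 83, 34, true)))) (.node (.node (.leaf (14, 14, 120, true)) (.leaf (2, 57, 126, true))) (.node (.leaf (11, 14, 21, true)) (.leaf (33, 132, 20, true))))) (.node (.node (.node (.leaf (18, 43, 91, false)) (.leaf (35, 151, 16, true))) (.node (.leaf (33, 66, 112, false)) (.leaf (25, 150, 150, true)))) (.node (.node (.leaf (24, 103, 93, true)) (.leaf (15, 148, 141, false))) (.leaf (5, 143, 108, true))))) (.node (.node (.node (.node (.leaf (5, 84, 81, true)) (.leaf (30, 140, 18, true))) (.node (.leaf (19, 103, 143, false)) (.leaf (6, 43, 92, true)))) (.node (.node (.leaf (26, 60, 77, true))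 (.leaf (29, 59, 1, true))) (.leaf (14, 16, 65, false)))) (.node (.node (.node (.leaf (32, 34, 105, true)) (.leaf (13, 19, 140, false))) (.node (.leaf (33, 113, 3, false)) (.leaf (12, 95, 118, false)))) (.node (.node (.leaf (3, 92, 124, false)) (.leaf (3, 127, 139, true))) (.leaf (20, 131, 43, true))))))) (.node (.node (.node (.node (.node (.node (.leaf (12, 32, 58, true)) (.leaf (16, 80, 93, true))) (.node (.leaf (7, 52, 97, false)) (.leaf (33, 28, 103, false)))) (.node (.node (.leaf (3, 57, 49, false)) (.leaf (29, 138, 143, true))) (.node (.leaf (33, 148, 7, false)) (.leaf (14, 72, 89, false))))) (.node (.node (.node (.leaf (32, 78, 88, true)) (.leaf (10, 119, 39, false))) (.node (.leaf (6, 16, 147, false)) (.leaf (18, 137, 76, false)))) (.node (.node (.leaf (25, 0, 97, true)) (.leaf (7, 9, 59, true))) (.leaf (20, 62, 47, true))))) (.node (.node (.node (.node (.leaf (29, 18, 17, true)) (.leaf (4, 24, 25, true))) (.node (.leaf (13, 23, 57, true)) (.leaf (33, 106, 147, false)))) (.node (.node (.leaf (27, 17, 34, true)) (.leaf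 (23, 117, 25, false))) (.node (.leaf (25, 159, 12, false)) (.leaf (4, 41, 17, false))))) (.node (.node (.node (.leaf (4, 134, 12, false)) (.leaf (12, 151, 59, true))) (.node (.leaf (20, 83, 67, false)) (.leaf (5, 115, 57, true)))) (.node (.node (.leaf (10, 23, 7, false)) (.leaf (21, 16, 51, true))) (.leaf (20, 24, 2, true)))))) (.node (.node (.node (.node (.node (.leaf (28, 134, 3, true)) (.leaf (10, 82, 121, true))) (.node (.leaf (25, 77, 63, false)) (.leaf (14, 78, 61, true)))) (.node (.node (.leaf (32, 65, 67, true)) (.leaf (18, 97, 8, true))) (.node (.leaf (33, 149, 104, true)) (.leaf (16, 115, 82, true))))) (.node (.node (.node (.leaf (20, 99, 20, true)) (.leaf (18, 151, 25, true))) (.node (.leaf (10, 81, 131, true)) (.leaf (10, 153, 19, true)))) (.node (.node (.leaf (29, 100, 19, false)) (.leaf (19, 59, 138, false))) (.leaf (10, 104, 18, true))))) (.node (.node (.node (.node (.leaf (13, 84, 25, true)) (.leaf (16, 114, 18, true))) (.node (.leaf (3, 13, 2, false)) (.leaf (19, 10, 107, false)))) (.node (.node (.leaf (35, 83,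 2, false)) (.leaf (14, 103, 11, false))) (.leaf (15, 67, 69, false)))) (.node (.node (.node (.leaf (38, 73, 26, false)) (.leaf (18, 34, 4, false))) (.node (.leaf (3, 144, 73, true)) (.leaf (4, 90, 91, false)))) (.node (.node (.leaf (20, 121, 73, true)) (.leaf (7, 25, 125, false))) (.leaf (5, 99, 104, true)))))))))

def conjTab9 : Janko.Tree (ℕ × ℕ × ℕ × Bool) :=
  (.node (.node (.node (.node (.node (.node (.node (.node (.leaf (7, 0, 0, false)) (.leaf (7, 108, 86, true))) (.node (.leaf (19, 65, 73, false)) (.leaf (5, 149, 88, false)))) (.node (.node (.leaf (20, 26, 138, false)) (.leaf (38, 149, 62, false))) (.node (.leaf (24, 141, 119, false)) (.leaf (26, 96, 105, false))))) (.node (.node (.node (.leaf (4, 64, 55, false)) (.leaf (7, 135, 2, false))) (.node (.leaf (6, 140, 94, false)) (.leaf (28, 46, 4, true)))) (.node (.node (.leaf (24, 85, 135, true)) (.leaf (4, 29, 117, true))) (.leaf (13, 66, 124, false))))) (.node (.node (.node (.node (.leaf (10, 118, 40, false)) (.leaf (24, 113, 82, false))) (.node (.leaf (33, 93, 71, false))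 (.leaf (5, 159, 5, true)))) (.node (.node (.leaf (14, 90, 3, false)) (.leaf (32, 135, 19, true))) (.node (.leaf (7, 73, 35, true)) (.leaf (10, 75, 110, true))))) (.node (.node (.node (.leaf (25, 20, 2, true)) (.leaf (5, 147, 111, false))) (.node (.leaf (20, 70, 87, false)) (.leaf (24, 70, 67, false)))) (.node (.node (.leaf (10, 28, 4, false)) (.leaf (9, 129, 95, false))) (.leaf (30, 64, 148, false)))))) (.node (.node (.node (.node (.node (.leaf (6, 123, 71, true)) (.leaf (2, 5, 119, false))) (.node (.leaf (28, 144, 64, false)) (.leaf (32, 55, 12, true)))) (.node (.node (.leaf (16, 90, 3, false)) (.leaf (29, 156, 46, false))) (.node (.leaf (12, 154, 73, true)) (.leaf (7, 51, 18, false))))) (.node (.node (.node (.leaf (6, 128, 38, false)) (.leaf (32, 53, 8, true))) (.node (.leaf (17, 55, 115, true)) (.leaf (23, 109, 40, false)))) (.node (.node (.leaf (33, 131, 63, true)) (.leaf (33, 144, 155, true))) (.leaf (14, 59, 127, true))))) (.node (.node (.node (.node (.leaf (3, 23, 93, false)) (.leaf (13, 24, 55, true))) (.node (.leaf (38,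 72, 15, true)) (.leaf (26, 15, 4, true)))) (.node (.node (.leaf (32, 94, 39, true)) (.leaf (6, 41, 102, false))) (.leaf (5, 147, 107, false)))) (.node (.node (.node (.leaf (19, 48, 111, false)) (.leaf (16, 44, 26, true))) (.node (.leaf (33, 95, 123, false)) (.leaf (30, 39, 101, false)))) (.node (.node (.leaf (27, 132, 91, true)) (.leaf (24, 69, 13, true))) (.leaf (2, 70, 70, true))))))) (.node (.node (.node (.node (.node (.node (.leaf (14, 14, 14, true)) (.leaf (30, 18, 55, true))) (.node (.leaf (5, 47, 90, false)) (.leaf (8, 74, 57, true)))) (.node (.node (.leaf (25, 63, 147, false)) (.leaf (7, 80, 27, false))) (.node (.leaf (4, 78, 20, true)) (.leaf (18, 155, 22, false))))) (.node (.node (.node (.leaf (10, 21, 143, true)) (.leaf (12, 76, 69, true))) (.node (.leaf (3, 155, 118, false)) (.leaf (12, 96, 111, true)))) (.node (.node (.leaf (10, 21, 21, true)) (.leaf (8, 134, 5, true))) (.leaf (14, 54, 97, true))))) (.node (.node (.node (.node (.leaf (19, 68, 68, true)) (.leaf (21, 156, 148, true))) (.node (.leaf (20, 88, 4, true))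 (.leaf (21, 112, 8, false)))) (.node (.node (.leaf (16, 1, 43, true)) (.leaf (15, 13, 27, true))) (.node (.leaf (33, 16, 58, false)) (.leaf (17, 133, 27, true))))) (.node (.node (.node (.leaf (19, 100, 148, false)) (.leaf (33, 76, 124, true))) (.node (.leaf (25, 35, 65, true)) (.leaf (13, 48, 95, false)))) (.node (.node (.leaf (7, 45, 87, false)) (.leaf (25, 137, 49, false))) (.leaf (14, 79, 155, true)))))) (.node (.node (.node (.node (.node (.leaf (10, 44, 67, true)) (.leaf (1, 98, 78, false))) (.node (.leaf (19, 156, 158, false)) (.leaf (21, 138, 54, false)))) (.node (.node (.leaf (6, 136, 63, false)) (.leaf (9, 111, 17, true))) (.node (.leaf (8, 30, 35, true)) (.leaf (13, 57, 20, true))))) (.node (.node (.node (.leaf (3, 89, 116, true)) (.leaf (10, 43, 151, true))) (.node (.leaf (18, 52, 89, false)) (.leaf (33, 133, 106, true)))) (.node (.node (.leaf (7, 66, 77, false)) (.leaf (19, 125, 155, false))) (.leaf (2, 119, 97, false))))) (.node (.node (.node (.node (.leaf (7, 29, 60, false)) (.leaf (14, 88, 105, false))) (.node (.leaf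 (28, 32, 33, false)) (.leaf (24, 66, 108, false)))) (.node (.node (.leaf (3, 15, 21, false)) (.leaf (2, 132, 155, true))) (.leaf (21, 37, 62, false)))) (.node (.node (.node (.leaf (33, 148, 129, false)) (.leaf (11, 39, 95, true))) (.node (.leaf (10, 113, 101, false)) (.leaf (29, 146, 7, false)))) (.node (.node (.leaf (26, 97, 32, true)) (.leaf (2, 95, 108, true))) (.leaf (10, 4, 6, true)))))))) (.node (.node (.node (.node (.node (.node (.node (.leaf (11, 40, 38, false)) (.leaf (10, 112, 16, false))) (.node (.leaf (24, 41, 140, false)) (.leaf (4, 27, 86, true)))) (.node (.node (.leaf (16, 15, 15, true)) (.leaf (2, 123, 66, false))) (.node (.leaf (19, 59, 16, true)) (.leaf (30, 120, 59, true))))) (.node (.node (.node (.leaf (21, 2, 113, true)) (.leaf (9, 81, 60, true))) (.node (.leaf (23, 108, 4, false)) (.leaf (1, 52, 38, true)))) (.node (.node (.leaf (19, 136, 50, true)) (.leaf (7, 50, 89, false))) (.leaf (14, 116, 157, true))))) (.node (.node (.node (.node (.leaf (32, 0, 0, false)) (.leaf (23, 60, 1, true))) (.node (.leaf (12,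 110, 68, false)) (.leaf (1, 34, 70, true)))) (.node (.node (.leaf (10, 105, 153, false)) (.leaf (38, 7, 3, true))) (.node (.leaf (38, 118, 53, false)) (.leaf (38, 145, 92, true))))) (.node (.node (.node (.leaf (9, 62, 61, true)) (.leaf (20, 83, 139, true))) (.node (.leaf (36, 72, 4, true)) (.leaf (13, 91, 65, false)))) (.node (.node (.leaf (20, 143, 127, true)) (.leaf (13, 26, 2, true))) (.leaf (24, 123, 89, true)))))) (.node (.node (.node (.node (.node (.leaf (7, 29, 67, false)) (.leaf (28, 114, 89, true))) (.node (.leaf (2, 19, 41, false)) (.leaf (28, 56, 138, true)))) (.node (.node (.leaf (21, 118, 141, true)) (.leaf (26, 25, 5, true))) (.node (.leaf (6, 53, 66, true)) (.leaf (19, 147, 110, true))))) (.node (.node (.node (.leaf (12, 93, 98, false)) (.leaf (21, 68, 147, false))) (.node (.leaf (13, 18, 5, true)) (.leaf (24, 81, 157, true)))) (.node (.node (.leaf (16, 157, 118, false)) (.leaf (33, 150, 44, true))) (.leaf (6, 116, 129, false))))) (.node (.node (.node (.node (.leaf (5, 90, 51, false)) (.leaf (3, 144, 66, false)))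 (.node (.leaf (10, 135, 81, false)) (.leaf (25, 108, 48, false)))) (.node (.node (.leaf (5, 147, 89, true)) (.leaf (1, 17, 155, false))) (.leaf (20, 83, 27, false)))) (.node (.node (.node (.leaf (15, 156, 125, false)) (.leaf (25, 50, 104, false))) (.node (.leaf (3, 42, 71, false)) (.leaf (36, 74, 79, false)))) (.node (.node (.leaf (16, 40, 94, true)) (.leaf (18, 10, 124, true))) (.leaf (25, 15, 35, false))))))) (.node (.node (.node (.node (.node (.node (.leaf (16, 16, 35, false)) (.leaf (20, 108, 53, false))) (.node (.leaf (26, 0, 31, true)) (.leaf (13, 115, 91, false)))) (.node (.node (.leaf (24, 52, 2, false)) (.leaf (21, 148, 150, false))) (.node (.leaf (2, 140, 88, false)) (.leaf (29, 7, 140, true))))) (.node (.node (.node (.leaf (12, 54, 8, false)) (.leaf (12, 116, 24, true))) (.node (.leaf (14, 43, 23, false)) (.leaf (14, 103, 136, false)))) (.node (.node (.leaf (26, 22, 89, true)) (.leaf (10, 54, 136, true))) (.leaf (16, 104, 95, true))))) (.node (.node (.node (.node (.leaf (24, 0, 31, true)) (.leaf (14, 109, 117, true)))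 (.node (.leaf (20, 67, 111, true)) (.leaf (28, 15, 1, false)))) (.node (.node (.leaf (33, 98, 119, true)) (.leaf (10, 129, 42, true))) (.node (.leaf (10, 38, 140, false)) (.leaf (29, 1, 9, true))))) (.node (.node (.node (.leaf (1, 139, 114, false)) (.leaf (5, 71, 84, true))) (.node (.leaf (33, 129, 33, true)) (.leaf (12, 81, 33, false)))) (.node (.node (.leaf (35, 148, 20, true)) (.leaf (6, 103, 106, false))) (.leaf (3, 23, 83, true)))))) (.node (.node (.node (.node (.node (.leaf (20, 137, 26, true)) (.leaf (21, 106, 19, false))) (.node (.leaf (16, 97, 37, true)) (.leaf (7, 21, 34, false)))) (.node (.node (.leaf (4, 78, 62, false)) (.leaf (12, 134, 12, false))) (.node (.leaf (3, 59, 154, true)) (.leaf (38, 104, 11, false))))) (.node (.node (.node (.leaf (2, 50, 40, false)) (.leaf (7, 112, 145, true))) (.node (.leaf (21, 7, 49, true)) (.leaf (21, 43, 57, true)))) (.node (.node (.leaf (13, 130, 86, false)) (.leaf (32, 58, 79, true))) (.leaf (14, 0, 102, true))))) (.node (.node (.node (.node (.leaf (24, 69, 68, false)) (.leaf (32,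 130, 18, true))) (.node (.leaf (12, 105, 122, false)) (.leaf (16, 32, 47, true)))) (.node (.node (.leaf (17, 134, 45, false)) (.leaf (33, 77, 67, false))) (.leaf (20, 31, 39, false)))) (.node (.node (.node (.leaf (16, 40, 104, false)) (.leaf (13, 5, 115, true))) (.node (.leaf (6, 150, 44, false)) (.leaf (7, 24, 132, true)))) (.node (.node (.leaf (5, 16, 97, true)) (.leaf (21, 81, 14, false))) (.leaf (1, 145, 86, false)))))))))

def conjTab10 : Janko.Tree (ℕ × ℕ × ℕ × Bool) :=
  (.node (.node (.node (.node (.node (.node (.node (.node (.leaf (8, 0, 0, false)) (.leaf (19, 117, 13, false))) (.node (.leaf (5, 142, 29, true)) (.leaf (21, 62, 105, true)))) (.node (.node (.leaf (8, 134, 90, false)) (.leaf (8, 70, 91, true))) (.node (.leaf (8, 72, 56, true)) (.leaf (18, 25, 115, true))))) (.node (.node (.node (.leaf (8, 80, 19, false)) (.leaf (14, 101, 72, true))) (.node (.leaf (1, 106, 98, true)) (.leaf (14, 119, 112, false)))) (.node (.node (.leaf (32, 41, 87, true)) (.leaf (35, 99, 36, true))) (.leaf (25, 50, 92, false))))) (.node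 (.node (.node (.node (.leaf (12, 146, 115, true)) (.leaf (21, 74, 24, false))) (.node (.leaf (17, 143, 117, false)) (.leaf (3, 103, 103, true)))) (.node (.node (.leaf (19, 74, 23, false)) (.leaf (25, 157, 127, false))) (.node (.leaf (10, 119, 37, false)) (.leaf (29, 18, 118, true))))) (.node (.node (.node (.leaf (26, 54, 34, true)) (.leaf (35, 54, 27, true))) (.node (.leaf (19, 78, 113, true)) (.leaf (37, 106, 8, false)))) (.node (.node (.leaf (20, 70, 109, false)) (.leaf (12, 69, 117, true))) (.leaf (1, 116, 130, false)))))) (.node (.node (.node (.node (.node (.leaf (19, 0, 159, false)) (.leaf (4, 107, 63, false))) (.node (.leaf (30, 119, 9, true)) (.leaf (24, 77, 90, false)))) (.node (.node (.leaf (21, 92, 106, true)) (.leaf (2, 81, 14, true))) (.node (.leaf (1, 1, 55, false)) (.leaf (16, 87, 20, true))))) (.node (.node (.node (.leaf (7, 43, 99, true)) (.leaf (2, 9, 149, false))) (.node (.leaf (26, 14, 127, true)) (.leaf (14, 18, 4, true)))) (.node (.node (.leaf (6, 145, 69, true)) (.leaf (29, 137, 13, false))) (.leaf (38,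 70, 20, true))))) (.node (.node (.node (.node (.leaf (19, 58, 116, false)) (.leaf (18, 18, 69, false))) (.node (.leaf (14, 127, 1, true)) (.leaf (38, 157, 80, false)))) (.node (.node (.leaf (10, 123, 94, true)) (.leaf (10, 81, 9, true))) (.leaf (32, 139, 37, false)))) (.node (.node (.node (.leaf (20, 88, 86, false)) (.leaf (17, 80, 137, true))) (.node (.leaf (12, 137, 102, true)) (.leaf (33, 58, 57, false)))) (.node (.node (.leaf (7, 83, 142, false)) (.leaf (7, 143, 100, true))) (.leaf (33, 3, 99, true))))))) (.node (.node (.node (.node (.node (.node (.leaf (18, 0, 0, false)) (.leaf (2, 74, 80, false))) (.node (.leaf (26, 69, 116, false)) (.leaf (6, 147, 116, true)))) (.node (.node (.leaf (20, 3, 144, false)) (.leaf (12, 19, 35, false))) (.node (.leaf (1, 73, 157, true)) (.leaf (1, 82, 57, false))))) (.node (.node (.node (.leaf (33, 157, 22, false)) (.leaf (18, 41, 139, true))) (.node (.leaf (29, 0, 31, true)) (.leaf (28, 56, 88, true)))) (.node (.node (.leaf (7, 64, 7, true)) (.leaf (2, 145, 76, false))) (.leaf (25, 150, 143,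 true))))) (.node (.node (.node (.node (.leaf (13, 42, 52, false)) (.leaf (38, 125, 85, true))) (.node (.leaf (24, 99, 146, false)) (.leaf (21, 16, 98, true)))) (.node (.node (.leaf (20, 41, 16, true)) (.leaf (2, 41, 1, true))) (.node (.leaf (17, 100, 55, false)) (.leaf (7, 64, 127, true))))) (.node (.node (.node (.leaf (14, 75, 144, false)) (.leaf (19, 41, 24, true))) (.node (.leaf (14, 149, 108, false)) (.leaf (25, 158, 57, false)))) (.node (.node (.leaf (18, 51, 103, true)) (.leaf (36, 7, 26, false))) (.leaf (1, 4, 145, false)))))) (.node (.node (.node (.node (.node (.leaf (29, 0, 0, false)) (.leaf (13, 64, 28, false))) (.node (.leaf (19, 10, 131, false)) (.leaf (12, 103, 91, false)))) (.node (.node (.leaf (25, 98, 106, false)) (.leaf (7, 46, 141, true))) (.node (.leaf (27, 53, 15, false)) (.leaf (20, 74, 44, false))))) (.node (.node (.node (.leaf (1, 159, 5, true)) (.leaf (16, 154, 65, true))) (.node (.leaf (20, 24, 83, true)) (.leaf (7, 9, 65, false)))) (.node (.node (.leaf (5, 117, 133, true)) (.leaf (20, 68, 62, false)))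 (.leaf (35, 71, 15, false))))) (.node (.node (.node (.node (.leaf (20, 0, 45, false)) (.leaf (12, 54, 135, false))) (.node (.leaf (21, 21, 15, true)) (.leaf (15, 131, 140, false)))) (.node (.node (.leaf (14, 27, 53, true)) (.leaf (7, 139, 131, true))) (.leaf (14, 27, 34, true)))) (.node (.node (.node (.leaf (3, 101, 13, false)) (.leaf (21, 13, 129, true))) (.node (.leaf (20, 14, 135, false)) (.leaf (8, 67, 77, false)))) (.node (.node (.leaf (25, 7, 64, false)) (.leaf (7, 83, 44, false))) (.leaf (38, 58, 21, false)))))))) (.node (.node (.node (.node (.node (.node (.node (.leaf (15, 0, 0, false)) (.leaf (1, 152, 30, true))) (.node (.leaf (28, 35, 35, true)) (.leaf (16, 141, 119, true)))) (.node (.node (.leaf (30, 129, 36, true)) (.leaf (29, 59, 79, true))) (.node (.leaf (33, 119, 30, false)) (.leaf (35, 142, 13, false))))) (.node (.node (.node (.leaf (33, 0, 159, false)) (.leaf (20, 158, 74, true))) (.node (.leaf (2, 58, 125, true)) (.leaf (24, 8, 130, false)))) (.node (.node (.leaf (7, 68, 48, true)) (.leaf (25, 109, 153, false)))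 (.leaf (11, 156, 4, true))))) (.node (.node (.node (.node (.leaf (16, 97, 156, false)) (.leaf (37, 149, 29, true))) (.node (.leaf (19, 41, 146, true)) (.leaf (5, 16, 26, true)))) (.node (.node (.leaf (6, 53, 73, false)) (.leaf (33, 1, 97, false))) (.node (.leaf (29, 65, 5, true)) (.leaf (11, 7, 14, true))))) (.node (.node (.node (.leaf (26, 37, 43, true)) (.leaf (32, 1, 59, true))) (.node (.leaf (2, 74, 84, true)) (.leaf (26, 148, 104, false)))) (.node (.node (.leaf (12, 102, 10, false)) (.leaf (37, 40, 51, true))) (.leaf (8, 127, 55, false)))))) (.node (.node (.node (.node (.node (.leaf (7, 0, 159, false)) (.leaf (10, 127, 107, true))) (.node (.leaf (15, 128, 32, false)) (.leaf (11, 56, 36, false)))) (.node (.node (.leaf (37, 135, 27, true)) (.leaf (19, 99, 9, true))) (.node (.leaf (4, 14, 70, true)) (.leaf (35, 90, 25, false))))) (.node (.node (.node (.leaf (12, 14, 87, true)) (.leaf (12, 75, 144, false))) (.node (.leaf (33, 26, 50, true)) (.leaf (20, 115, 64, true)))) (.node (.node (.leaf (33, 27, 120, false)) (.leaf (38,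 106, 116, false))) (.leaf (36, 25, 41, false))))) (.node (.node (.node (.node (.leaf (20, 132, 41, true)) (.leaf (36, 117, 16, true))) (.node (.leaf (18, 24, 121, false)) (.leaf (7, 13, 107, false)))) (.node (.node (.leaf (30, 119, 12, true)) (.leaf (19, 117, 133, true))) (.leaf (16, 99, 125, true)))) (.node (.node (.node (.leaf (12, 32, 72, false)) (.leaf (21, 150, 94, true))) (.node (.leaf (7, 62, 135, false)) (.leaf (28, 79, 18, false)))) (.node (.node (.leaf (20, 148, 85, true)) (.leaf (35, 65, 4, true))) (.leaf (7, 140, 30, false))))))) (.node (.node (.node (.node (.node (.node (.leaf (22, 0, 0, false)) (.leaf (20, 132, 110, true))) (.node (.leaf (33, 100, 108, true)) (.leaf (20, 24, 117, true)))) (.node (.node (.leaf (20, 88, 137, false)) (.leaf (16, 127, 27, false))) (.node (.leaf (2, 100, 18, true)) (.leaf (1, 156, 58, false))))) (.node (.node (.node (.leaf (5, 35, 61, false)) (.leaf (30, 81, 70, false))) (.node (.leaf (9, 13, 22, false)) (.leaf (9, 45, 94, true)))) (.node (.node (.leaf (32, 72, 86, true)) (.leaf (1,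 105, 84, false))) (.leaf (2, 2, 12, true))))) (.node (.node (.node (.node (.leaf (3, 114, 89, true)) (.leaf (21, 159, 83, true))) (.node (.leaf (14, 78, 63, true)) (.leaf (2, 80, 124, true)))) (.node (.node (.leaf (30, 106, 30, false)) (.leaf (20, 24, 70, false))) (.node (.leaf (30, 11, 14, true)) (.leaf (4, 39, 24, true))))) (.node (.node (.node (.leaf (4, 59, 60, false)) (.leaf (9, 56, 34, false))) (.node (.leaf (6, 82, 26, false)) (.leaf (3, 147, 122, false)))) (.node (.node (.leaf (21, 7, 158, false)) (.leaf (7, 135, 70, false))) (.leaf (19, 48, 19, true)))))) (.node (.node (.node (.node (.node (.leaf (6, 0, 31, true)) (.leaf (19, 123, 119, false))) (.node (.leaf (3, 15, 16, true)) (.leaf (18, 136, 39, false)))) (.node (.node (.leaf (26, 44, 11, false)) (.leaf (33, 79, 100, true))) (.node (.leaf (28, 88, 7, false)) (.leaf (16, 44, 28, true))))) (.node (.node (.node (.leaf (6, 96, 87, true)) (.leaf (30, 149, 86, false))) (.node (.leaf (15, 38, 5, true)) (.leaf (20, 159, 57, false)))) (.node (.node (.leaf (3, 86, 115, true))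 (.leaf (24, 42, 121, true))) (.leaf (2, 33, 55, true))))) (.node (.node (.node (.node (.leaf (4, 46, 153, true)) (.leaf (37, 83, 32, false))) (.node (.leaf (21, 106, 96, true)) (.leaf (21, 6, 89, true)))) (.node (.node (.leaf (13, 18, 76, false)) (.leaf (35, 150, 22, true))) (.leaf (32, 12, 14, false)))) (.node (.node (.node (.leaf (26, 15, 86, false)) (.leaf (2, 72, 71, false))) (.node (.leaf (26, 97, 47, true)) (.leaf (7, 139, 14, false)))) (.node (.node (.leaf (14, 50, 109, false)) (.leaf (4, 107, 23, false))) (.leaf (38, 52, 42, false)))))))))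

def conjTab11 : Janko.Tree (ℕ × ℕ × ℕ × Bool) :=
  (.node (.node (.node (.node (.node (.node (.node (.node (.leaf (9, 0, 0, false)) (.leaf (2, 2, 63, false))) (.node (.leaf (21, 152, 6, true)) (.leaf (3, 11, 90, false)))) (.node (.node (.leaf (5, 35, 63, false)) (.leaf (9, 97, 9, true))) (.node (.leaf (17, 130, 3, true)) (.leaf (25, 149, 112, false))))) (.node (.node (.node (.leaf (16, 0, 159, false)) (.leaf (16, 148, 88, true))) (.node (.leaf (29, 118, 137, true)) (.leaf (32, 134, 78, false)))) (.node (.node (.leaf (1, 105, 82, true)) (.leaf (14, 104, 84, false))) (.leaf (20, 8, 28, true))))) (.node (.node (.node (.node (.leaf (17, 91, 68, false)) (.leaf (17, 75, 64, false))) (.node (.leaf (18, 133, 13, true)) (.leaf (9, 46, 4, false)))) (.node (.node (.leaf (24, 41, 150, true)) (.leaf (3, 15, 147, true))) (.node (.leaf (3, 18, 34, true)) (.leaf (28, 153, 98, false))))) (.node (.node (.node (.leaf (24, 41, 18, false)) (.leaf (17, 89, 17, true))) (.node (.leaf (21, 134, 34, true)) (.leaf (5, 140, 6, false)))) (.node (.node (.leaf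 (18, 42, 86, true)) (.leaf (33, 35, 61, true))) (.leaf (33, 64, 101, true)))))) (.node (.node (.node (.node (.node (.leaf (5, 114, 140, false)) (.leaf (12, 96, 156, true))) (.node (.leaf (2, 20, 134, true)) (.leaf (28, 46, 86, true)))) (.node (.node (.leaf (10, 57, 54, false)) (.leaf (19, 72, 117, true))) (.node (.leaf (23, 134, 72, true)) (.leaf (24, 133, 87, false))))) (.node (.node (.node (.leaf (1, 152, 138, true)) (.leaf (33, 115, 1, false))) (.node (.leaf (6, 157, 19, false)) (.leaf (16, 159, 102, true)))) (.node (.node (.leaf (14, 137, 137, true)) (.leaf (27, 136, 124, true))) (.leaf (9, 136, 37, false))))) (.node (.node (.node (.node (.leaf (24, 24, 151, false)) (.leaf (26, 54, 9, true))) (.node (.leaf (13, 5, 9, true)) (.leaf (21, 137, 157, false)))) (.node (.node (.leaf (16, 63, 116, false)) (.leaf (9, 22, 7, false))) (.leaf (5, 84, 73, false)))) (.node (.node (.node (.leaf (12, 0, 45, false)) (.leaf (36, 65, 22, true))) (.node (.leaf (5, 6, 37, false)) (.leaf (14, 59, 8, true)))) (.node (.node (.leaf (14, 101, 77,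 true)) (.leaf (1, 61, 72, false))) (.leaf (21, 6, 107, false))))))) (.node (.node (.node (.node (.node (.node (.leaf (19, 0, 0, false)) (.leaf (25, 144, 91, false))) (.node (.leaf (24, 87, 30, false)) (.leaf (19, 155, 39, false)))) (.node (.node (.leaf (33, 95, 69, false)) (.leaf (25, 45, 79, false))) (.node (.leaf (37, 69, 81, false)) (.leaf (12, 154, 89, false))))) (.node (.node (.node (.leaf (1, 42, 75, true)) (.leaf (37, 47, 6, true))) (.node (.leaf (20, 92, 15, true)) (.leaf (24, 25, 51, true)))) (.node (.node (.leaf (2, 119, 109, true)) (.leaf (20, 49, 55, false))) (.leaf (26, 13, 96, true))))) (.node (.node (.node (.node (.leaf (3, 50, 38, false)) (.leaf (2, 32, 10, true))) (.node (.leaf (28, 28, 24, true)) (.leaf (19, 82, 101, false)))) (.node (.node (.leaf (5, 79, 147, false)) (.leaf (19, 43, 150, true))) (.node (.leaf (16, 91, 78, true)) (.leaf (33, 19, 25, false))))) (.node (.node (.node (.leaf (32, 0, 31, true)) (.leaf (6, 5, 123, false))) (.node (.leaf (16, 40, 103, true)) (.leaf (14, 90, 85, true)))) (.node (.node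 (.leaf (5, 129, 52, false)) (.leaf (10, 98, 72, true))) (.leaf (21, 14, 12, false)))))) (.node (.node (.node (.node (.node (.leaf (6, 26, 33, false)) (.leaf (10, 31, 119, false))) (.node (.leaf (21, 0, 45, false)) (.leaf (10, 24, 149, false)))) (.node (.node (.leaf (17, 85, 36, true)) (.leaf (20, 24, 61, false))) (.node (.leaf (25, 19, 119, false)) (.leaf (2, 47, 104, false))))) (.node (.node (.node (.leaf (3, 33, 26, false)) (.leaf (12, 72, 99, true))) (.node (.leaf (19, 68, 65, false)) (.leaf (24, 131, 96, true)))) (.node (.node (.leaf (25, 68, 132, true)) (.leaf (14, 33, 82, false))) (.leaf (5, 154, 78, true))))) (.node (.node (.node (.node (.leaf (18, 23, 142, false)) (.leaf (1, 145, 149, false))) (.node (.leaf (2, 83, 19, false)) (.leaf (6, 99, 151, true)))) (.node (.node (.leaf (26, 66, 57, true)) (.leaf (10, 67, 108, false))) (.leaf (16, 70, 81, false)))) (.node (.node (.node (.leaf (13, 126, 17, true)) (.leaf (36, 118, 38, true))) (.node (.leaf (10, 35, 142, false)) (.leaf (18, 56, 122, false)))) (.node (.node (.leaf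 (30, 62, 75, false)) (.leaf (5, 102, 143, false))) (.leaf (27, 10, 89, false)))))))) (.node (.node (.node (.node (.node (.node (.node (.leaf (3, 2, 55, true)) (.leaf (1, 18, 144, false))) (.node (.leaf (5, 50, 155, false)) (.leaf (1, 136, 2, false)))) (.node (.node (.leaf (24, 79, 78, false)) (.leaf (3, 98, 72, true))) (.node (.leaf (30, 133, 116, true)) (.leaf (7, 68, 144, false))))) (.node (.node (.node (.leaf (2, 89, 141, true)) (.leaf (9, 55, 19, false))) (.node (.leaf (33, 64, 86, false)) (.leaf (16, 53, 58, true)))) (.node (.node (.leaf (30, 145, 74, false)) (.leaf (7, 157, 54, true))) (.leaf (38, 117, 115, false))))) (.node (.node (.node (.node (.leaf (23, 5, 5, true)) (.leaf (1, 115, 41, false))) (.node (.leaf (24, 97, 145, false)) (.leaf (5, 2, 123, true)))) (.node (.node (.leaf (5, 50, 32, true)) (.leaf (2, 54, 43, true))) (.node (.leaf (7, 10, 103, true)) (.leaf (25, 134, 6, true))))) (.node (.node (.node (.leaf (15, 133, 19, false)) (.leaf (19, 50, 114, false))) (.node (.leaf (19, 3, 81, false)) (.leaf (9, 12, 15,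 false)))) (.node (.node (.leaf (1, 140, 92, false)) (.leaf (2, 41, 146, true))) (.leaf (16, 158, 107, false)))))) (.node (.node (.node (.node (.node (.leaf (1, 0, 45, false)) (.leaf (1, 64, 63, false))) (.node (.leaf (5, 140, 75, false)) (.leaf (13, 107, 61, true)))) (.node (.node (.leaf (6, 32, 122, true)) (.leaf (19, 94, 122, true))) (.node (.leaf (13, 88, 68, true)) (.leaf (29, 42, 48, true))))) (.node (.node (.node (.leaf (14, 0, 31, true)) (.leaf (1, 70, 21, true))) (.node (.leaf (7, 66, 68, true)) (.leaf (29, 69, 105, true)))) (.node (.node (.leaf (1, 53, 60, true)) (.leaf (8, 96, 116, false))) (.leaf (38, 50, 50, true))))) (.node (.node (.node (.node (.leaf (10, 0, 31, true)) (.leaf (3, 152, 85, false))) (.node (.leaf (38, 14, 6, true)) (.leaf (5, 93, 65, false)))) (.node (.node (.leaf (16, 32, 19, true)) (.leaf (7, 104, 104, false))) (.leaf (21, 68, 23, true)))) (.node (.node (.node (.leaf (13, 42, 36, false)) (.leaf (5, 19, 87, false))) (.node (.leaf (27, 113, 6, true)) (.leaf (1, 142, 79, true)))) (.node (.node (.leaf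 (30, 36, 154, true)) (.leaf (14, 118, 95, true))) (.leaf (2, 53, 30, true))))))) (.node (.node (.node (.node (.node (.node (.leaf (3, 50, 51, false)) (.leaf (3, 23, 108, true))) (.node (.leaf (14, 42, 50, true)) (.leaf (14, 115, 80, false)))) (.node (.node (.leaf (14, 83, 24, true)) (.leaf (7, 15, 101, false))) (.node (.leaf (5, 54, 12, false)) (.leaf (24, 48, 10, false))))) (.node (.node (.node (.leaf (33, 1, 109, true)) (.leaf (32, 68, 10, true))) (.node (.leaf (28, 88, 5, false)) (.leaf (19, 148, 66, false)))) (.node (.node (.leaf (38, 144, 8, true)) (.leaf (20, 96, 99, false))) (.leaf (12, 47, 13, true))))) (.node (.node (.node (.node (.leaf (5, 35, 79, true)) (.leaf (2, 60, 137, false))) (.node (.leaf (8, 130, 48, false)) (.leaf (32, 131, 1, true)))) (.node (.node (.leaf (12, 95, 125, false)) (.leaf (16, 15, 29, false))) (.node (.leaf (3, 128, 61, true)) (.leaf (12, 97, 149, true))))) (.node (.node (.node (.leaf (2, 115, 103, false)) (.leaf (33, 80, 60, false))) (.node (.leaf (4, 57, 15, false)) (.leaf (12, 56, 2, true))))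 (.node (.node (.leaf (6, 1, 152, true)) (.leaf (12, 21, 23, true))) (.leaf (14, 69, 86, false)))))) (.node (.node (.node (.node (.node (.leaf (26, 37, 7, true)) (.leaf (18, 48, 41, true))) (.node (.leaf (38, 38, 38, true)) (.leaf (27, 110, 5, true)))) (.node (.node (.leaf (25, 0, 159, false)) (.leaf (34, 70, 15, false))) (.node (.leaf (21, 42, 102, true)) (.leaf (5, 11, 134, true))))) (.node (.node (.node (.leaf (37, 45, 7, true)) (.leaf (3, 14, 144, false))) (.node (.leaf (19, 92, 2, false)) (.leaf (1, 22, 121, true)))) (.node (.node (.leaf (24, 12, 27, false)) (.leaf (11, 48, 19, true))) (.leaf (1, 1, 35, false))))) (.node (.node (.node (.node (.leaf (19, 101, 42, true)) (.leaf (26, 69, 10, true))) (.node (.leaf (38, 39, 57, true)) (.leaf (32, 118, 20, false)))) (.node (.node (.leaf (3, 141, 157, true)) (.leaf (4, 48, 106, true))) (.leaf (10, 98, 61, false)))) (.node (.node (.node (.leaf (23, 72, 73, true)) (.leaf (20, 31, 37, false))) (.node (.leaf (7, 96, 40, false)) (.leaf (12, 14, 25, false)))) (.node (.node (.leaf (2,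 108, 100, true)) (.leaf (12, 95, 124, false))) (.leaf (33, 115, 24, true)))))))))

def conjTab12 : Janko.Tree (ℕ × ℕ × ℕ × Bool) :=
  (.node (.node (.node (.node (.node (.node (.node (.node (.leaf (5, 0, 159, false)) (.leaf (21, 122, 139, false))) (.node (.leaf (16, 1, 42, false)) (.leaf (16, 151, 73, false)))) (.node (.node (.leaf (16, 89, 4, false)) (.leaf (32, 76, 24, true))) (.node (.leaf (14, 103, 57, false)) (.leaf (38, 87, 14, false))))) (.node (.node (.node (.leaf (16, 141, 114, false)) (.leaf (12, 85, 129, false))) (.node (.leaf (2, 33, 81, false)) (.leaf (21, 36, 114, true)))) (.node (.node (.leaf (20, 144, 6, true)) (.leaf (14, 83, 22, true))) (.leaf (16, 144, 91, true))))) (.node (.node (.node (.node (.leaf (20, 0, 31, true)) (.leaf (14, 39, 110, false))) (.node (.leaf (21, 98, 81, false)) (.leaf (10, 51, 139, false)))) (.node (.node (.leaf (29, 9, 85, true)) (.leaf (11, 83, 60, true))) (.node (.leaf (32, 59, 117, true)) (.leaf (19, 153, 6, true))))) (.node (.node (.node (.leaf (14, 17, 13, false)) (.leaf (5, 84,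 76, false))) (.node (.leaf (1, 18, 146, true)) (.leaf (32, 11, 13, true)))) (.node (.node (.leaf (1, 18, 22, true)) (.leaf (30, 112, 6, false))) (.leaf (3, 111, 98, false)))))) (.node (.node (.node (.node (.node (.leaf (13, 60, 21, true)) (.leaf (20, 116, 35, false))) (.node (.leaf (19, 12, 46, false)) (.leaf (10, 129, 104, true)))) (.node (.node (.leaf (16, 70, 56, true)) (.leaf (37, 117, 20, true))) (.node (.leaf (38, 18, 91, true)) (.leaf (20, 153, 9, false))))) (.node (.node (.node (.leaf (20, 3, 146, true)) (.leaf (5, 102, 23, false))) (.node (.leaf (24, 54, 54, true)) (.leaf (3, 24, 84, true)))) (.node (.node (.leaf (6, 139, 119, true)) (.leaf (25, 37, 40, true))) (.leaf (17, 75, 21, false))))) (.node (.node (.node (.node (.leaf (18, 51, 106, false)) (.leaf (15, 26, 142, false))) (.node (.leaf (6, 3, 103, false)) (.leaf (6, 45, 134, false)))) (.node (.node (.leaf (29, 146, 113, false)) (.leaf (5, 23, 102, true))) (.leaf (19, 86, 104, false)))) (.node (.node (.node (.leaf (10, 131, 111, true)) (.leaf (12, 5, 38, true)))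 (.node (.leaf (20, 137, 148, false)) (.leaf (6, 112, 15, false)))) (.node (.node (.leaf (28, 92, 41, false)) (.leaf (21, 25, 47, false))) (.leaf (25, 56, 114, true))))))) (.node (.node (.node (.node (.node (.node (.leaf (5, 31, 50, true)) (.leaf (14, 103, 123, false))) (.node (.leaf (19, 54, 17, false)) (.leaf (24, 64, 73, false)))) (.node (.node (.leaf (1, 18, 24, true)) (.leaf (7, 146, 38, false))) (.node (.leaf (6, 119, 143, true)) (.leaf (14, 145, 131, false))))) (.node (.node (.node (.leaf (7, 90, 133, false)) (.leaf (7, 80, 154, false))) (.node (.leaf (37, 102, 41, false)) (.leaf (18, 51, 19, false)))) (.node (.node (.leaf (10, 119, 118, false)) (.leaf (26, 57, 19, true))) (.leaf (36, 79, 20, false))))) (.node (.node (.node (.node (.leaf (26, 144, 18, false)) (.leaf (25, 124, 107, false))) (.node (.leaf (35, 97, 45, false)) (.leaf (19, 144, 71, true)))) (.node (.node (.leaf (14, 72, 100, false)) (.leaf (15, 71, 60, false))) (.node (.leaf (5, 19, 139, true)) (.leaf (33, 100, 152, false))))) (.node (.node (.node (.leaf (20,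 22, 142, true)) (.leaf (12, 45, 32, true))) (.node (.leaf (25, 109, 36, false)) (.leaf (8, 155, 126, false)))) (.node (.node (.leaf (37, 148, 10, false)) (.leaf (4, 149, 68, false))) (.leaf (13, 159, 92, false)))))) (.node (.node (.node (.node (.node (.leaf (12, 99, 103, false)) (.leaf (10, 54, 130, false))) (.node (.leaf (1, 142, 83, true)) (.leaf (23, 79, 2, false)))) (.node (.node (.leaf (14, 148, 99, false)) (.leaf (13, 155, 35, true))) (.node (.leaf (6, 66, 65, false)) (.leaf (16, 88, 68, false))))) (.node (.node (.node (.leaf (33, 144, 37, true)) (.leaf (6, 133, 125, true))) (.node (.leaf (33, 102, 121, false)) (.leaf (7, 80, 25, false)))) (.node (.node (.leaf (21, 63, 142, true)) (.leaf (28, 45, 49, false))) (.leaf (1, 140, 99, true))))) (.node (.node (.node (.node (.leaf (24, 41, 28, false)) (.leaf (13, 57, 106, false))) (.node (.leaf (24, 5, 75, false)) (.leaf (20, 18, 54, false)))) (.node (.node (.leaf (25, 142, 152, false)) (.leaf (25, 96, 52, false))) (.leaf (12, 18, 136, true)))) (.node (.node (.node (.leaf (6, 53,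 25, false)) (.leaf (1, 44, 135, false))) (.node (.leaf (30, 0, 50, false)) (.leaf (16, 141, 121, true)))) (.node (.node (.leaf (2, 92, 122, true)) (.leaf (27, 83, 16, false))) (.leaf (21, 85, 59, true)))))))) (.node (.node (.node (.node (.node (.node (.node (.leaf (8, 0, 31, true)) (.leaf (29, 128, 78, true))) (.node (.leaf (20, 71, 119, true)) (.leaf (3, 135, 104, false)))) (.node (.node (.leaf (18, 159, 94, true)) (.leaf (33, 66, 47, true))) (.node (.leaf (25, 0, 45, false)) (.leaf (33, 0, 48, false))))) (.node (.node (.node (.leaf (4, 43, 37, false)) (.leaf (15, 133, 25, true))) (.node (.leaf (18, 128, 114, true)) (.leaf (24, 13, 48, true)))) (.node (.node (.leaf (19, 17, 53, false)) (.leaf (16, 115, 151, true))) (.leaf (21, 3, 16, false))))) (.node (.node (.node (.node (.leaf (3, 31, 39, false)) (.leaf (19, 64, 152, true))) (.node (.leaf (9, 76, 6, true)) (.leaf (24, 17, 155, false)))) (.node (.node (.leaf (25, 150, 68, true)) (.leaf (25, 15, 34, false))) (.node (.leaf (5, 134, 122, true)) (.leaf (2, 9, 139, true))))) (.node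 (.node (.node (.leaf (25, 94, 53, false)) (.leaf (25, 36, 32, true))) (.node (.leaf (14, 9, 139, false)) (.leaf (27, 118, 61, true)))) (.node (.node (.leaf (19, 34, 108, true)) (.leaf (3, 120, 88, true))) (.leaf (33, 111, 83, true)))))) (.node (.node (.node (.node (.node (.leaf (16, 32, 147, false)) (.leaf (38, 2, 69, true))) (.node (.leaf (12, 95, 9, true)) (.leaf (1, 56, 52, false)))) (.node (.node (.leaf (1, 159, 109, false)) (.leaf (14, 42, 93, true))) (.node (.leaf (17, 126, 99, false)) (.leaf (21, 68, 145, false))))) (.node (.node (.node (.leaf (28, 33, 9, true)) (.leaf (10, 39, 33, true))) (.node (.leaf (2, 74, 72, false)) (.leaf (24, 106, 36, true)))) (.node (.node (.leaf (10, 114, 8, false)) (.leaf (25, 88, 137, true))) (.leaf (23, 21, 21, true))))) (.node (.node (.node (.node (.leaf (21, 156, 26, false)) (.leaf (33, 148, 135, false))) (.node (.leaf (4, 4, 89, true)) (.leaf (14, 127, 64, true)))) (.node (.node (.leaf (16, 0, 45, false)) (.leaf (14, 126, 56, false))) (.leaf (25, 36, 46, true)))) (.node (.node (.node (.leaf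 (3, 139, 53, false)) (.leaf (10, 131, 89, false))) (.node (.leaf (13, 54, 37, true)) (.leaf (10, 55, 148, false)))) (.node (.node (.leaf (21, 32, 71, true)) (.leaf (3, 2, 74, true))) (.leaf (2, 68, 64, false))))))) (.node (.node (.node (.node (.node (.node (.leaf (7, 137, 137, true)) (.leaf (25, 53, 72, false))) (.node (.leaf (26, 43, 38, true)) (.leaf (16, 70, 75, false)))) (.node (.node (.leaf (20, 70, 96, true)) (.leaf (15, 153, 13, true))) (.node (.leaf (25, 21, 121, true)) (.leaf (33, 125, 64, false))))) (.node (.node (.node (.leaf (21, 65, 88, false)) (.leaf (9, 81, 58, false))) (.node (.leaf (5, 81, 153, false)) (.leaf (1, 98, 68, true)))) (.node (.node (.leaf (12, 14, 30, true)) (.leaf (21, 75, 137, false))) (.leaf (14, 51, 124, false))))) (.node (.node (.node (.node (.leaf (26, 25, 90, false)) (.leaf (19, 90, 70, true))) (.node (.leaf (2, 29, 48, true)) (.leaf (21, 147, 32, false)))) (.node (.node (.leaf (8, 139, 21, false)) (.leaf (16, 16, 34, false))) (.node (.leaf (20, 116, 131, true)) (.leaf (23, 123, 6, true)))))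 (.node (.node (.node (.leaf (15, 19, 131, false)) (.leaf (28, 28, 15, true))) (.node (.leaf (5, 11, 9, true)) (.leaf (29, 150, 4, true)))) (.node (.node (.leaf (28, 114, 107, false)) (.leaf (16, 12, 30, true))) (.leaf (15, 100, 34, false)))))) (.node (.node (.node (.node (.node (.leaf (12, 49, 74, false)) (.leaf (2, 15, 152, true))) (.node (.leaf (12, 72, 92, true)) (.leaf (2, 151, 142, true)))) (.node (.node (.leaf (15, 44, 36, false)) (.leaf (9, 113, 10, true))) (.node (.leaf (24, 125, 43, true)) (.leaf (24, 118, 23, false))))) (.node (.node (.node (.leaf (33, 15, 128, true)) (.leaf (27, 119, 2, true))) (.node (.leaf (16, 124, 1, false)) (.leaf (1, 159, 106, true)))) (.node (.node (.leaf (19, 79, 86, false)) (.leaf (26, 137, 16, true))) (.leaf (14, 10, 119, true))))) (.node (.node (.node (.node (.leaf (10, 87, 35, false)) (.leaf (1, 82, 158, false))) (.node (.leaf (33, 69, 102, false)) (.leaf (24, 52, 41, true)))) (.node (.node (.leaf (2, 29, 34, true)) (.leaf (10, 158, 58, false))) (.leaf (28, 28, 22, true)))) (.node (.node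 (.node (.leaf (6, 26, 158, false)) (.leaf (10, 58, 28, false))) (.node (.leaf (20, 132, 154, true)) (.leaf (3, 15, 143, false)))) (.node (.node (.leaf (2, 33, 20, true)) (.leaf (29, 9, 22, false))) (.leaf (13, 130, 4, true)))))))))

def conjTab13 : Janko.Tree (ℕ × ℕ × ℕ × Bool) :=
  (.node (.node (.node (.node (.node (.node (.node (.node (.leaf (2, 0, 45, false)) (.leaf (13, 65, 16, false))) (.node (.leaf (5, 34, 131, true)) (.leaf (17, 140, 2, true)))) (.node (.node (.leaf (16, 157, 124, false)) (.leaf (21, 2, 122, false))) (.node (.leaf (18, 156, 5, true)) (.leaf (6, 17, 124, true))))) (.node (.node (.node (.leaf (21, 37, 64, true)) (.leaf (11, 71, 18, true))) (.node (.leaf (15, 116, 21, true)) (.leaf (12, 69, 54, false)))) (.node (.node (.leaf (12, 32, 77, false)) (.leaf (16, 10, 132, true))) (.leaf (30, 137, 24, true))))) (.node (.node (.node (.node (.leaf (28, 53, 114, true)) (.leaf (24, 49, 114, false))) (.node (.leaf (26, 150, 22, false)) (.leaf (22, 29, 3, true)))) (.node (.node (.leaf (20, 32, 78, true)) (.leaf (17,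 66, 7, true))) (.node (.leaf (25, 5, 27, true)) (.leaf (5, 55, 53, false))))) (.node (.node (.node (.leaf (6, 56, 108, true)) (.leaf (28, 97, 116, true))) (.node (.leaf (7, 86, 13, true)) (.leaf (10, 53, 26, false)))) (.node (.node (.leaf (2, 23, 96, true)) (.leaf (28, 88, 113, false))) (.leaf (17, 141, 87, true)))))) (.node (.node (.node (.node (.node (.leaf (3, 0, 31, true)) (.leaf (10, 47, 92, false))) (.node (.leaf (3, 57, 153, true)) (.leaf (14, 41, 26, true)))) (.node (.node (.leaf (12, 109, 126, true)) (.leaf (7, 102, 21, false))) (.node (.leaf (28, 53, 8, false)) (.leaf (7, 30, 64, true))))) (.node (.node (.node (.leaf (38, 145, 56, false)) (.leaf (19, 113, 29, true))) (.node (.leaf (30, 49, 118, false)) (.leaf (33, 4, 32, true)))) (.node (.node (.leaf (12, 21, 151, false)) (.leaf (21, 136, 4, false))) (.leaf (28, 32, 43, false))))) (.node (.node (.node (.node (.leaf (2, 61, 102, false)) (.leaf (6, 119, 145, false))) (.node (.leaf (3, 112, 117, true)) (.leaf (35, 120, 14, false)))) (.node (.node (.leaf (17, 29, 116, false))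 (.leaf (32, 31, 21, true))) (.leaf (28, 4, 13, false)))) (.node (.node (.node (.leaf (20, 24, 10, true)) (.leaf (9, 97, 96, false))) (.node (.leaf (15, 77, 103, false)) (.leaf (27, 150, 3, false)))) (.node (.node (.leaf (21, 36, 44, false)) (.leaf (15, 28, 8, true))) (.leaf (30, 45, 13, false))))))) (.node (.node (.node (.node (.node (.node (.leaf (3, 0, 159, false)) (.leaf (15, 128, 94, false))) (.node (.leaf (13, 86, 62, true)) (.leaf (36, 30, 10, false)))) (.node (.node (.leaf (2, 61, 89, true)) (.leaf (24, 39, 49, true))) (.node (.leaf (6, 88, 128, false)) (.leaf (2, 12, 144, false))))) (.node (.node (.node (.leaf (2, 57, 11, false)) (.leaf (3, 127, 27, false))) (.node (.leaf (10, 45, 109, false)) (.leaf (25, 63, 25, false)))) (.node (.node (.leaf (25, 94, 149, false)) (.leaf (19, 3, 79, false))) (.leaf (13, 114, 10, false))))) (.node (.node (.node (.node (.leaf (2, 31, 50, true)) (.leaf (25, 80, 7, false))) (.node (.leaf (2, 82, 68, false)) (.leaf (25, 64, 66, false)))) (.node (.node (.leaf (33, 149, 94, false)) (.leaf (25,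 9, 55, false))) (.node (.leaf (18, 96, 62, false)) (.leaf (6, 115, 104, true))))) (.node (.node (.node (.leaf (16, 87, 101, true)) (.leaf (13, 50, 12, true))) (.node (.leaf (18, 60, 46, true)) (.leaf (12, 74, 81, true)))) (.node (.node (.leaf (5, 148, 146, false)) (.leaf (32, 11, 137, false))) (.leaf (29, 143, 30, false)))))) (.node (.node (.node (.node (.node (.leaf (24, 0, 159, false)) (.leaf (36, 93, 80, true))) (.node (.leaf (5, 19, 27, false)) (.leaf (29, 109, 40, true)))) (.node (.node (.leaf (3, 29, 10, true)) (.leaf (1, 79, 93, true))) (.node (.leaf (3, 111, 135, true)) (.leaf (9, 103, 36, false))))) (.node (.node (.node (.leaf (5, 84, 55, false)) (.leaf (14, 93, 134, false))) (.node (.leaf (19, 91, 142, true)) (.leaf (21, 75, 151, false)))) (.node (.node (.leaf (16, 38, 85, true)) (.leaf (19, 38, 96, false))) (.leaf (18, 1, 16, false))))) (.node (.node (.node (.node (.leaf (12, 154, 60, false)) (.leaf (14, 17, 133, true))) (.node (.leaf (7, 37, 37, true)) (.leaf (5, 98, 115, true)))) (.node (.node (.leaf (24, 114, 125,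 true)) (.leaf (1, 152, 23, true))) (.leaf (32, 55, 118, true)))) (.node (.node (.node (.leaf (10, 21, 145, false)) (.leaf (13, 136, 114, true))) (.node (.leaf (10, 105, 103, true)) (.leaf (1, 86, 115, false)))) (.node (.node (.leaf (2, 33, 57, true)) (.leaf (30, 106, 16, true))) (.leaf (36, 129, 39, false)))))))) (.node (.node (.node (.node (.node (.node (.node (.leaf (10, 87, 157, true)) (.leaf (17, 121, 5, false))) (.node (.leaf (20, 32, 82, false)) (.leaf (3, 61, 150, true)))) (.node (.node (.leaf (7, 112, 84, true)) (.leaf (5, 10, 94, true))) (.node (.leaf (8, 158, 104, false)) (.leaf (3, 74, 97, true))))) (.node (.node (.node (.leaf (13, 0, 31, true)) (.leaf (2, 139, 52, false))) (.node (.leaf (19, 99, 115, true)) (.leaf (10, 81, 134, true)))) (.node (.node (.leaf (28, 158, 32, false)) (.leaf (2, 94, 130, true))) (.leaf (7, 15, 6, false))))) (.node (.node (.node (.node (.leaf (24, 41, 147, false)) (.leaf (20, 132, 157, false))) (.node (.leaf (14, 27, 44, true)) (.leaf (33, 34, 138, true)))) (.node (.node (.leaf (28, 122,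 120, true)) (.leaf (1, 94, 153, true))) (.node (.leaf (25, 105, 13, true)) (.leaf (12, 139, 145, true))))) (.node (.node (.node (.leaf (16, 1, 33, true)) (.leaf (21, 119, 99, false))) (.node (.leaf (17, 22, 18, false)) (.leaf (3, 155, 101, true)))) (.node (.node (.leaf (20, 118, 5, true)) (.leaf (24, 126, 120, true))) (.leaf (20, 31, 156, true)))))) (.node (.node (.node (.node (.node (.leaf (24, 41, 141, false)) (.leaf (12, 137, 6, true))) (.node (.leaf (14, 27, 121, false)) (.leaf (19, 48, 95, true)))) (.node (.node (.leaf (1, 80, 137, true)) (.leaf (33, 125, 74, true))) (.node (.leaf (10, 153, 27, true)) (.leaf (21, 119, 146, false))))) (.node (.node (.node (.leaf (10, 23, 113, false)) (.leaf (14, 7, 76, false))) (.node (.leaf (19, 61, 21, true)) (.leaf (38, 59, 59, false)))) (.node (.node (.leaf (12, 9, 142, false)) (.leaf (33, 100, 56, false))) (.leaf (25, 99, 103, false))))) (.node (.node (.node (.node (.leaf (17, 96, 39, true)) (.leaf (3, 85, 102, true))) (.node (.leaf (38, 79, 141, true)) (.leaf (21, 77, 65, true)))) (.node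 (.node (.leaf (1, 137, 26, true)) (.leaf (12, 5, 40, true))) (.leaf (28, 125, 66, false)))) (.node (.node (.node (.leaf (38, 79, 19, false)) (.leaf (30, 20, 17, true))) (.node (.leaf (19, 3, 63, true)) (.leaf (7, 142, 120, true)))) (.node (.node (.leaf (38, 120, 23, true)) (.leaf (30, 142, 60, false))) (.leaf (15, 13, 17, true))))))) (.node (.node (.node (.node (.node (.node (.leaf (23, 0, 0, false)) (.leaf (19, 38, 52, true))) (.node (.leaf (27, 27, 17, true)) (.leaf (14, 139, 98, false)))) (.node (.node (.leaf (19, 70, 124, false)) (.leaf (20, 4, 69, false))) (.node (.leaf (5, 50, 156, true)) (.leaf (20, 125, 18, false))))) (.node (.node (.node (.leaf (10, 12, 122, false)) (.leaf (5, 15, 158, false))) (.node (.leaf (12, 99, 96, true)) (.leaf (12, 92, 123, true)))) (.node (.node (.leaf (23, 24, 28, false)) (.leaf (18, 46, 85, true))) (.leaf (2, 89, 147, true))))) (.node (.node (.node (.node (.leaf (10, 12, 14, false)) (.leaf (28, 99, 118, false))) (.node (.leaf (28, 54, 14, false)) (.leaf (6, 58, 130, false)))) (.node (.node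 (.leaf (7, 10, 96, false)) (.leaf (17, 89, 140, false))) (.node (.leaf (25, 144, 85, false)) (.leaf (7, 80, 140, true))))) (.node (.node (.node (.leaf (16, 0, 31, true)) (.leaf (24, 146, 138, true))) (.node (.leaf (1, 151, 136, true)) (.leaf (21, 107, 78, false)))) (.node (.node (.leaf (6, 123, 144, true)) (.leaf (3, 141, 125, true))) (.leaf (15, 8, 130, true)))))) (.node (.node (.node (.node (.node (.leaf (30, 0, 0, false)) (.leaf (6, 156, 10, false))) (.node (.leaf (38, 69, 101, false)) (.leaf (35, 10, 3, false)))) (.node (.node (.leaf (33, 4, 28, true)) (.leaf (28, 78, 25, false))) (.node (.leaf (5, 133, 56, true)) (.leaf (33, 124, 46, false))))) (.node (.node (.node (.leaf (21, 127, 3, true)) (.leaf (19, 143, 147, true))) (.node (.leaf (18, 56, 60, false)) (.leaf (25, 88, 151, true)))) (.node (.node (.leaf (12, 6, 14, false)) (.leaf (6, 56, 157, false))) (.leaf (2, 81, 132, false))))) (.node (.node (.node (.node (.leaf (7, 0, 45, false)) (.leaf (21, 46, 38, false))) (.node (.leaf (5, 31, 39, false)) (.leaf (6, 95, 54, true))))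 (.node (.node (.leaf (21, 39, 63, true)) (.leaf (25, 130, 118, false))) (.leaf (7, 32, 8, true)))) (.node (.node (.node (.leaf (13, 44, 32, false)) (.leaf (21, 151, 39, false))) (.node (.leaf (6, 136, 79, true)) (.leaf (28, 46, 101, false)))) (.node (.node (.leaf (13, 69, 142, true)) (.leaf (6, 6, 111, false))) (.leaf (3, 15, 145, true)))))))))

def conjTab14 : Janko.Tree (ℕ × ℕ × ℕ × Bool) :=
  (.node (.node (.node (.node (.node (.node (.node (.node (.leaf (10, 0, 0, false)) (.leaf (18, 95, 130, true))) (.node (.leaf (6, 119, 23, true)) (.leaf (30, 11, 120, true)))) (.node (.node (.leaf (36, 136, 3, false)) (.leaf (12, 47, 133, false))) (.node (.leaf (27, 22, 58, true)) (.leaf (36, 60, 32, false))))) (.node (.node (.node (.leaf (32, 94, 54, false)) (.leaf (36, 134, 49, true))) (.node (.leaf (33, 41, 29, false)) (.leaf (3, 92, 86, false)))) (.node (.node (.leaf (14, 40, 37, true)) (.leaf (5, 77, 99, false))) (.leaf (10, 64, 30, false))))) (.node (.node (.node (.node (.leaf (16, 151, 11, true)) (.leaf (24, 87, 71, true))) (.node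 (.leaf (30, 122, 106, false)) (.leaf (25, 124, 154, true)))) (.node (.node (.leaf (7, 25, 43, false)) (.leaf (7, 60, 150, true))) (.node (.leaf (26, 90, 138, false)) (.leaf (29, 66, 60, false))))) (.node (.node (.node (.leaf (16, 151, 117, false)) (.leaf (5, 44, 145, true))) (.node (.leaf (3, 98, 128, false)) (.leaf (13, 127, 94, true)))) (.node (.node (.leaf (21, 131, 131, true)) (.leaf (12, 24, 36, false))) (.leaf (19, 99, 125, false)))))) (.node (.node (.node (.node (.node (.leaf (25, 0, 0, false)) (.leaf (1, 151, 117, false))) (.node (.leaf (26, 150, 143, false)) (.leaf (20, 131, 115, true)))) (.node (.node (.leaf (3, 34, 59, true)) (.leaf (33, 155, 116, false))) (.node (.leaf (7, 3, 147, true)) (.leaf (17, 66, 113, true))))) (.node (.node (.node (.leaf (25, 130, 125, false)) (.leaf (24, 72, 40, false))) (.node (.leaf (25, 73, 73, true)) (.leaf (19, 56, 57, false)))) (.node (.node (.leaf (20, 98, 76, false)) (.leaf (14, 47, 96, true))) (.leaf (5, 72, 48, true))))) (.node (.node (.node (.node (.leaf (14, 0, 159, false)) (.leaf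 (24, 92, 22, false))) (.node (.leaf (16, 124, 115, false)) (.leaf (21, 155, 40, false)))) (.node (.node (.leaf (3, 15, 30, false)) (.leaf (8, 159, 122, true))) (.leaf (16, 32, 141, false)))) (.node (.node (.node (.leaf (14, 96, 130, true)) (.leaf (14, 78, 2, true))) (.node (.leaf (7, 135, 56, true)) (.leaf (9, 28, 20, false)))) (.node (.node (.leaf (33, 42, 137, true)) (.leaf (21, 70, 41, false))) (.leaf (18, 68, 20, false))))))) (.node (.node (.node (.node (.node (.node (.leaf (8, 0, 45, false)) (.leaf (4, 0, 5, true))) (.node (.leaf (15, 101, 65, false)) (.leaf (25, 145, 62, false)))) (.node (.node (.leaf (12, 79, 61, false)) (.leaf (33, 69, 98, true))) (.node (.leaf (20, 110, 29, true)) (.leaf (27, 33, 9, false))))) (.node (.node (.node (.leaf (25, 0, 109, false)) (.leaf (4, 72, 32, true))) (.node (.leaf (38, 152, 16, false)) (.leaf (15, 11, 33, false)))) (.node (.node (.leaf (20, 56, 97, false)) (.leaf (9, 127, 62, true))) (.leaf (19, 0, 136, true))))) (.node (.node (.node (.node (.leaf (15, 130, 92, false)) (.leaf (21, 87,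 97, true))) (.node (.leaf (25, 107, 15, true)) (.leaf (24, 60, 86, true)))) (.node (.node (.leaf (12, 3, 146, false)) (.leaf (5, 98, 116, false))) (.node (.leaf (29, 60, 74, false)) (.leaf (8, 130, 121, true))))) (.node (.node (.node (.leaf (3, 107, 80, true)) (.leaf (21, 37, 74, false))) (.node (.leaf (25, 53, 58, true)) (.leaf (20, 121, 60, false)))) (.node (.node (.leaf (24, 93, 5, true)) (.leaf (6, 58, 12, false))) (.leaf (14, 149, 40, false)))))) (.node (.node (.node (.node (.node (.leaf (7, 66, 72, false)) (.leaf (3, 146, 9, false))) (.node (.leaf (28, 16, 57, false)) (.leaf (7, 44, 62, false)))) (.node (.node (.leaf (5, 114, 28, false)) (.leaf (5, 42, 17, true))) (.node (.leaf (30, 128, 90, true)) (.leaf (8, 27, 59, true))))) (.node (.node (.node (.leaf (13, 9, 88, true)) (.leaf (25, 97, 74, true))) (.node (.leaf (14, 35, 147, false)) (.leaf (3, 121, 149, false)))) (.node (.node (.leaf (30, 136, 32, false)) (.leaf (28, 10, 55, true))) (.leaf (2, 19, 158, true))))) (.node (.node (.node (.node (.leaf (16, 151, 136, true))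 (.leaf (18, 85, 18, false))) (.node (.leaf (19, 95, 151, false)) (.leaf (20, 9, 68, false)))) (.node (.node (.leaf (27, 48, 1, true)) (.leaf (2, 61, 95, true))) (.leaf (24, 36, 7, true)))) (.node (.node (.node (.leaf (15, 153, 121, false)) (.leaf (4, 42, 138, true))) (.node (.leaf (5, 35, 68, false)) (.leaf (20, 71, 114, false)))) (.node (.node (.leaf (17, 96, 37, true)) (.leaf (24, 5, 47, true))) (.leaf (25, 11, 9, true)))))))) (.node (.node (.node (.node (.node (.node (.node (.leaf (4, 115, 113, false)) (.leaf (3, 98, 114, false))) (.node (.leaf (14, 122, 32, false)) (.leaf (34, 118, 3, false)))) (.node (.node (.leaf (19, 68, 82, true)) (.leaf (18, 104, 55, true))) (.node (.leaf (16, 149, 14, true)) (.leaf (23, 53, 33, true))))) (.node (.node (.node (.leaf (12, 21, 100, false)) (.leaf (7, 143, 4, false))) (.node (.leaf (29, 142, 116, true)) (.leaf (5, 54, 120, true)))) (.node (.node (.leaf (1, 140, 94, false)) (.leaf (14, 149, 28, false))) (.leaf (13, 136, 128, true))))) (.node (.node (.node (.node (.leaf (25, 36, 47, true))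 (.leaf (1, 74, 91, false))) (.node (.leaf (26, 89, 85, false)) (.leaf (5, 32, 100, false)))) (.node (.node (.leaf (28, 91, 20, true)) (.leaf (25, 123, 30, true))) (.node (.leaf (15, 123, 37, false)) (.leaf (12, 95, 131, true))))) (.node (.node (.node (.leaf (5, 156, 7, false)) (.leaf (13, 94, 7, false))) (.node (.leaf (33, 148, 122, true)) (.leaf (2, 22, 99, false)))) (.node (.node (.leaf (5, 50, 47, true)) (.leaf (2, 100, 140, true))) (.leaf (7, 44, 63, true)))))) (.node (.node (.node (.node (.node (.leaf (14, 27, 48, true)) (.leaf (11, 62, 2, false))) (.node (.leaf (38, 113, 39, true)) (.leaf (25, 1, 148, false)))) (.node (.node (.leaf (5, 84, 69, false)) (.leaf (3, 64, 43, true))) (.node (.leaf (6, 0, 40, false)) (.leaf (28, 47, 70, true))))) (.node (.node (.node (.leaf (26, 79, 29, false)) (.leaf (14, 47, 46, true))) (.node (.leaf (25, 68, 14, false)) (.leaf (33, 143, 41, true)))) (.node (.node (.leaf (26, 14, 113, false)) (.leaf (21, 84, 143, true))) (.leaf (13, 68, 22, true))))) (.node (.node (.node (.node (.leaf (20, 12,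 103, true)) (.leaf (20, 31, 107, false))) (.node (.leaf (1, 116, 125, true)) (.leaf (19, 137, 14, false)))) (.node (.node (.leaf (26, 150, 24, false)) (.leaf (1, 19, 147, true))) (.leaf (2, 4, 86, false)))) (.node (.node (.node (.leaf (20, 99, 3, true)) (.leaf (17, 82, 74, false))) (.node (.leaf (3, 146, 12, true)) (.leaf (12, 72, 110, false)))) (.node (.node (.leaf (24, 113, 65, true)) (.leaf (25, 48, 67, true))) (.leaf (14, 44, 145, true))))))) (.node (.node (.node (.node (.node (.node (.leaf (10, 44, 57, false)) (.leaf (15, 122, 50, false))) (.node (.leaf (10, 100, 34, true)) (.leaf (33, 76, 118, true)))) (.node (.node (.leaf (7, 107, 57, true)) (.leaf (2, 71, 114, false))) (.node (.leaf (26, 96, 87, false)) (.leaf (29, 36, 43, true))))) (.node (.node (.node (.leaf (19, 43, 28, false)) (.leaf (10, 16, 49, true))) (.node (.leaf (28, 86, 46, false)) (.leaf (23, 107, 16, true)))) (.node (.node (.leaf (20, 9, 145, true)) (.leaf (13, 41, 44, false))) (.leaf (38, 72, 144, false))))) (.node (.node (.node (.node (.leaf (4, 48, 35,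 true)) (.leaf (30, 126, 7, true))) (.node (.leaf (3, 74, 91, true)) (.leaf (7, 138, 118, false)))) (.node (.node (.leaf (19, 12, 156, false)) (.leaf (1, 52, 122, true))) (.node (.leaf (3, 14, 146, true)) (.leaf (33, 100, 19, true))))) (.node (.node (.node (.leaf (19, 50, 128, false)) (.leaf (19, 60, 102, true))) (.node (.leaf (7, 45, 106, true)) (.leaf (8, 143, 2, false)))) (.node (.node (.leaf (12, 137, 88, false)) (.leaf (14, 70, 15, true))) (.leaf (24, 30, 14, false)))))) (.node (.node (.node (.node (.node (.leaf (19, 0, 31, true)) (.leaf (33, 10, 49, true))) (.node (.leaf (32, 154, 15, true)) (.leaf (7, 12, 39, false)))) (.node (.node (.leaf (15, 123, 88, false)) (.leaf (6, 61, 107, false))) (.node (.leaf (2, 20, 115, true)) (.leaf (24, 19, 97, true))))) (.node (.node (.node (.leaf (6, 129, 4, true)) (.leaf (20, 46, 105, true))) (.node (.leaf (12, 5, 50, true)) (.leaf (7, 117, 28, true)))) (.node (.node (.leaf (6, 127, 56, false)) (.leaf (20, 19, 118, false))) (.leaf (24, 31, 116, false))))) (.node (.node (.node (.node (.leaf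 (1, 90, 29, true)) (.leaf (15, 53, 124, true))) (.node (.leaf (2, 119, 87, true)) (.leaf (11, 159, 59, false)))) (.node (.node (.leaf (25, 149, 86, false)) (.leaf (26, 78, 8, true))) (.leaf (2, 82, 58, false)))) (.node (.node (.node (.leaf (30, 136, 37, true)) (.leaf (29, 159, 114, true))) (.node (.leaf (2, 33, 67, false)) (.leaf (14, 41, 20, false)))) (.node (.node (.leaf (6, 129, 86, false)) (.leaf (3, 107, 67, false))) (.leaf (6, 125, 18, false)))))))))

def conjTab15 : Janko.Tree (ℕ × ℕ × ℕ × Bool) :=
  (.node (.node (.node (.node (.node (.node (.node (.node (.leaf (11, 0, 0, false)) (.leaf (1, 19, 141, true))) (.node (.leaf (7, 0, 50, false)) (.leaf (3, 57, 35, true)))) (.node (.node (.leaf (10, 114, 129, true)) (.leaf (37, 95, 1, true))) (.node (.leaf (28, 74, 28, true)) (.leaf (29, 152, 34, true))))) (.node (.node (.node (.leaf (24, 81, 76, true)) (.leaf (2, 4, 49, true))) (.node (.leaf (26, 29, 6, true)) (.leaf (20, 52, 14, true)))) (.node (.node (.leaf (18, 17, 10, true)) (.leaf (33, 92, 23, true))) (.leaf (14, 112,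 47, true))))) (.node (.node (.node (.node (.leaf (6, 0, 50, false)) (.leaf (38, 157, 34, false))) (.node (.leaf (15, 108, 86, true)) (.leaf (5, 138, 43, true)))) (.node (.node (.leaf (16, 151, 123, true)) (.leaf (12, 54, 114, true))) (.node (.leaf (38, 97, 119, true)) (.leaf (26, 108, 88, true))))) (.node (.node (.node (.leaf (33, 63, 151, false)) (.leaf (14, 58, 129, false))) (.node (.leaf (33, 132, 158, true)) (.leaf (2, 65, 29, false)))) (.node (.node (.leaf (12, 79, 63, false)) (.leaf (10, 8, 66, false))) (.leaf (33, 76, 78, false)))))) (.node (.node (.node (.node (.node (.leaf (6, 96, 97, false)) (.leaf (19, 123, 75, false))) (.node (.leaf (2, 135, 73, true)) (.leaf (16, 4, 32, false)))) (.node (.node (.leaf (17, 0, 50, false)) (.leaf (20, 102, 150, false))) (.node (.leaf (16, 0, 39, true)) (.leaf (16, 47, 145, true))))) (.node (.node (.node (.leaf (20, 0, 40, false)) (.leaf (12, 103, 153, false))) (.node (.leaf (25, 87, 42, false)) (.leaf (5, 146, 86, false)))) (.node (.node (.leaf (16, 19, 21, true)) (.leaf (24, 49, 129,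 false))) (.leaf (27, 64, 35, true))))) (.node (.node (.node (.node (.leaf (6, 0, 45, false)) (.leaf (10, 8, 76, true))) (.node (.leaf (25, 11, 115, true)) (.leaf (25, 150, 98, false)))) (.node (.node (.leaf (4, 26, 50, true)) (.leaf (14, 23, 55, false))) (.leaf (1, 156, 156, false)))) (.node (.node (.node (.leaf (13, 18, 73, false)) (.leaf (3, 38, 96, true))) (.node (.leaf (8, 49, 43, true)) (.leaf (6, 50, 99, true)))) (.node (.node (.leaf (3, 42, 56, false)) (.leaf (5, 145, 74, false))) (.leaf (25, 113, 141, true))))))) (.node (.node (.node (.node (.node (.node (.leaf (14, 87, 52, true)) (.leaf (21, 146, 104, true))) (.node (.leaf (6, 53, 76, false)) (.leaf (2, 75, 93, true)))) (.node (.node (.leaf (20, 0, 38, false)) (.leaf (33, 157, 90, false))) (.node (.leaf (8, 55, 16, true)) (.leaf (10, 119, 82, true))))) (.node (.node (.node (.leaf (6, 100, 77, true)) (.leaf (9, 112, 1, false))) (.node (.leaf (6, 145, 1, false)) (.leaf (20, 107, 23, true)))) (.node (.node (.leaf (1, 42, 62, false)) (.leaf (15, 122, 51, true))) (.leaf (3,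 70, 113, true))))) (.node (.node (.node (.node (.leaf (28, 48, 53, false)) (.leaf (17, 13, 89, true))) (.node (.leaf (38, 105, 7, true)) (.leaf (5, 94, 59, true)))) (.node (.node (.leaf (28, 45, 36, false)) (.leaf (3, 143, 121, true))) (.node (.leaf (3, 136, 99, true)) (.leaf (29, 30, 54, false))))) (.node (.node (.node (.leaf (21, 0, 159, false)) (.leaf (33, 46, 55, true))) (.node (.leaf (28, 148, 92, false)) (.leaf (19, 31, 61, false)))) (.node (.node (.leaf (21, 2, 58, false)) (.leaf (19, 59, 103, true))) (.leaf (24, 151, 70, false)))))) (.node (.node (.node (.node (.node (.leaf (16, 38, 110, true)) (.leaf (17, 84, 65, true))) (.node (.leaf (16, 44, 7, true)) (.leaf (6, 33, 11, true)))) (.node (.node (.leaf (1, 145, 104, true)) (.leaf (20, 64, 124, false))) (.node (.leaf (10, 100, 48, true)) (.leaf (20, 115, 143, false))))) (.node (.node (.node (.leaf (5, 35, 58, false)) (.leaf (10, 136, 15, false))) (.node (.leaf (2, 32, 85, false)) (.leaf (6, 61, 67, true)))) (.node (.node (.leaf (7, 29, 134, false)) (.leaf (24, 134, 12,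 false))) (.leaf (21, 148, 18, true))))) (.node (.node (.node (.node (.leaf (1, 96, 4, true)) (.leaf (6, 56, 91, false))) (.node (.leaf (19, 85, 55, false)) (.leaf (3, 15, 19, false)))) (.node (.node (.leaf (1, 56, 49, false)) (.leaf (33, 0, 51, false))) (.leaf (11, 73, 33, true)))) (.node (.node (.node (.leaf (25, 94, 139, true)) (.leaf (14, 31, 106, true))) (.node (.leaf (24, 151, 53, true)) (.leaf (38, 65, 89, false)))) (.node (.node (.leaf (3, 52, 112, false)) (.leaf (12, 103, 158, true))) (.leaf (2, 50, 37, true)))))))) (.node (.node (.node (.node (.node (.node (.node (.leaf (16, 0, 0, false)) (.leaf (21, 127, 112, true))) (.node (.leaf (30, 22, 63, true)) (.leaf (7, 135, 61, false)))) (.node (.node (.leaf (21, 140, 66, false)) (.leaf (18, 136, 123, true))) (.node (.leaf (5, 100, 30, false)) (.leaf (30, 87, 4, false))))) (.node (.node (.node (.leaf (33, 134, 134, true)) (.leaf (25, 94, 44, false))) (.node (.leaf (25, 52, 37, true)) (.leaf (14, 23, 69, false)))) (.node (.node (.leaf (24, 5, 74, true)) (.leaf (10, 2, 144, false)))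 (.leaf (11, 156, 5, false))))) (.node (.node (.node (.node (.leaf (15, 141, 61, false)) (.leaf (7, 119, 12, true))) (.node (.leaf (32, 74, 115, false)) (.leaf (5, 69, 103, false)))) (.node (.node (.leaf (27, 123, 38, true)) (.leaf (5, 109, 4, true))) (.node (.leaf (8, 43, 40, false)) (.leaf (10, 74, 112, false))))) (.node (.node (.node (.leaf (33, 149, 105, false)) (.leaf (37, 16, 65, false))) (.node (.leaf (26, 100, 75, true)) (.leaf (5, 2, 127, false)))) (.node (.node (.leaf (38, 19, 114, false)) (.leaf (9, 130, 3, false))) (.leaf (29, 36, 42, false)))))) (.node (.node (.node (.node (.node (.leaf (16, 141, 8, true)) (.leaf (20, 49, 81, true))) (.node (.leaf (12, 13, 109, true)) (.leaf (6, 62, 95, false)))) (.node (.node (.leaf (35, 108, 7, true)) (.leaf (38, 105, 13, true))) (.node (.leaf (6, 64, 148, false)) (.leaf (3, 152, 100, true))))) (.node (.node (.node (.leaf (16, 90, 99, false)) (.leaf (3, 60, 11, true))) (.node (.leaf (24, 12, 26, true)) (.leaf (21, 31, 149, true)))) (.node (.node (.leaf (1, 75, 133, true)) (.leaf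 (7, 119, 124, true))) (.leaf (5, 150, 125, true))))) (.node (.node (.node (.node (.leaf (19, 44, 26, true)) (.leaf (2, 100, 150, false))) (.node (.leaf (19, 68, 58, true)) (.leaf (32, 75, 51, true)))) (.node (.node (.leaf (14, 20, 10, false)) (.leaf (36, 85, 36, true))) (.leaf (24, 15, 144, true)))) (.node (.node (.node (.leaf (33, 134, 115, true)) (.leaf (19, 156, 109, true))) (.node (.leaf (2, 77, 44, false)) (.leaf (14, 93, 125, true)))) (.node (.node (.leaf (10, 153, 147, false)) (.leaf (4, 148, 139, true))) (.leaf (19, 43, 18, false))))))) (.node (.node (.node (.node (.node (.node (.leaf (10, 114, 114, true)) (.leaf (5, 77, 85, true))) (.node (.leaf (16, 40, 90, true)) (.leaf (8, 123, 9, true)))) (.node (.node (.leaf (18, 51, 90, true)) (.leaf (25, 17, 8, false))) (.node (.leaf (6, 24, 81, false)) (.leaf (21, 92, 95, false))))) (.node (.node (.node (.leaf (6, 49, 138, true)) (.leaf (13, 132, 85, true))) (.node (.leaf (15, 100, 44, false)) (.leaf (26, 69, 123, false)))) (.node (.node (.leaf (19, 99, 134, true)) (.leaf (24,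 9, 98, true))) (.leaf (10, 44, 73, false))))) (.node (.node (.node (.node (.leaf (17, 127, 144, false)) (.leaf (19, 17, 44, false))) (.node (.leaf (25, 149, 101, true)) (.leaf (16, 24, 16, true)))) (.node (.node (.leaf (32, 40, 42, false)) (.leaf (10, 114, 155, false))) (.node (.leaf (38, 61, 97, true)) (.leaf (1, 143, 77, false))))) (.node (.node (.node (.leaf (24, 91, 20, true)) (.leaf (33, 99, 154, true))) (.node (.leaf (2, 61, 6, false)) (.leaf (21, 15, 93, false)))) (.node (.node (.leaf (18, 37, 37, true)) (.leaf (12, 56, 71, false))) (.leaf (20, 9, 72, true)))))) (.node (.node (.node (.node (.node (.leaf (12, 133, 148, true)) (.leaf (24, 38, 91, true))) (.node (.leaf (24, 106, 153, false)) (.leaf (13, 114, 123, true)))) (.node (.node (.leaf (3, 10, 20, true)) (.leaf (11, 5, 61, false))) (.node (.leaf (17, 22, 9, false)) (.leaf (18, 27, 28, true))))) (.node (.node (.node (.leaf (33, 65, 133, false)) (.leaf (12, 72, 105, false))) (.node (.leaf (32, 35, 16, true)) (.leaf (29, 143, 115, true)))) (.node (.node (.leaf (15, 157,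 4, true)) (.leaf (33, 82, 34, true))) (.leaf (7, 90, 119, false))))) (.node (.node (.node (.node (.leaf (5, 79, 18, false)) (.leaf (37, 15, 4, false))) (.node (.leaf (24, 126, 113, true)) (.leaf (7, 50, 10, true)))) (.node (.node (.leaf (3, 74, 109, false)) (.leaf (32, 42, 40, true))) (.leaf (28, 104, 11, true)))) (.node (.node (.node (.leaf (19, 29, 62, false)) (.leaf (16, 124, 9, false))) (.node (.leaf (16, 103, 106, false)) (.leaf (28, 73, 56, true)))) (.node (.node (.leaf (28, 10, 75, false)) (.leaf (3, 136, 110, false))) (.leaf (24, 12, 149, false)))))))))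

def conjTab : Janko.Tree (ℕ × ℕ × ℕ × Bool) :=
  (.node (.node (.node (.node conjTab0 conjTab8) (.node conjTab4 conjTab12)) (.node (.node conjTab2 conjTab10) (.node conjTab6 conjTab14))) (.node (.node (.node conjTab1 conjTab9) (.node conjTab5 conjTab13)) (.node (.node conjTab3 conjTab11) (.node conjTab7 conjTab15))))

def classReps : List ℕ := [0, 1, 2, 3, 5, 6, 7, 9, 10, 11, 14, 15, 18, 19, 23, 26, 31, 39, 42, 43, 48, 51, 58, 61, 64, 78, 84, 88, 103, 106, 125, 129, 153, 168, 214, 256, 273, 307, 324]

def classPow0 : Janko.Tree (ℕ) :=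
  (.node (.node (.node (.node (.node (.node (.node (.node (.node (.leaf 7) (.leaf 12)) (.node (.leaf 10) (.leaf 12))) (.node (.node (.leaf 10) (.leaf 7)) (.leaf 8))) (.node (.node (.node (.leaf 7) (.leaf 8)) (.leaf 8)) (.node (.node (.leaf 12) (.leaf 10)) (.leaf 10)))) (.node (.node (.node (.node (.leaf 15) (.leaf 8)) (.leaf 8)) (.node (.node (.leaf 12) (.leaf 10)) (.leaf 12))) (.node (.node (.node (.leaf 10) (.leaf 10)) (.leaf 8)) (.node (.node (.leaf 12) (.leaf 12)) (.leaf 12))))) (.node (.node (.node (.node (.node (.leaf 10) (.leaf 12)) (.leaf 10)) (.node (.node (.leaf 10) (.leaf 12)) (.leaf 12))) (.node (.node (.node (.leaf 8) (.leaf 8)) (.leaf 12)) (.node (.node (.leaf 8) (.leaf 12)) (.leaf 7)))) (.node (.node (.node (.node (.leaf 8) (.leaf 12)) (.leaf 7)) (.node (.node (.leaf 10) (.leaf 12)) (.leaf 12))) (.node (.node (.node (.leaf 12) (.leaf 8)) (.leaf 10)) (.node (.node (.leaf 12) (.leaf 12)) (.leaf 10)))))) (.node (.node (.node (.node (.node (.node (.leaf 10) (.leaf 12)) (.node (.leaf 10) (.leaf 10))) (.node (.node (.leaf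 15) (.leaf 10)) (.leaf 10))) (.node (.node (.node (.leaf 7) (.leaf 10)) (.leaf 15)) (.node (.node (.leaf 12) (.leaf 15)) (.leaf 12)))) (.node (.node (.node (.node (.leaf 12) (.leaf 8)) (.leaf 10)) (.node (.node (.leaf 10) (.leaf 12)) (.leaf 12))) (.node (.node (.node (.leaf 7) (.leaf 10)) (.leaf 8)) (.node (.node (.leaf 10) (.leaf 15)) (.leaf 7))))) (.node (.node (.node (.node (.node (.leaf 8) (.leaf 7)) (.leaf 12)) (.node (.node (.leaf 12) (.leaf 15)) (.leaf 10))) (.node (.node (.node (.leaf 8) (.leaf 8)) (.leaf 8)) (.node (.node (.leaf 7) (.leaf 15)) (.leaf 8)))) (.node (.node (.node (.node (.leaf 10) (.leaf 10)) (.leaf 10)) (.node (.node (.leaf 12) (.leaf 8)) (.leaf 12))) (.node (.node (.node (.leaf 8) (.leaf 8)) (.leaf 8)) (.node (.node (.leaf 7) (.leaf 12)) (.leaf 12))))))) (.node (.node (.node (.node (.node (.node (.node (.leaf 8) (.leaf 7)) (.node (.leaf 12) (.leaf 10))) (.node (.node (.leaf 12) (.leaf 12)) (.leaf 8))) (.node (.node (.node (.leaf 15) (.leaf 8)) (.leaf 12)) (.node (.node (.leaf 10) (.leaf 7)) (.leaf 10))))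 (.node (.node (.node (.node (.leaf 12) (.leaf 10)) (.leaf 12)) (.node (.node (.leaf 10) (.leaf 15)) (.leaf 12))) (.node (.node (.node (.leaf 12) (.leaf 12)) (.leaf 7)) (.node (.node (.leaf 10) (.leaf 12)) (.leaf 10))))) (.node (.node (.node (.node (.node (.leaf 8) (.leaf 10)) (.leaf 10)) (.node (.node (.leaf 8) (.leaf 12)) (.leaf 8))) (.node (.node (.node (.leaf 15) (.leaf 7)) (.leaf 8)) (.node (.node (.leaf 10) (.leaf 10)) (.leaf 8)))) (.node (.node (.node (.node (.leaf 10) (.leaf 8)) (.leaf 10)) (.node (.node (.leaf 12) (.leaf 10)) (.leaf 7))) (.node (.node (.node (.leaf 12) (.leaf 8)) (.leaf 12)) (.node (.node (.leaf 12) (.leaf 15)) (.leaf 12)))))) (.node (.node (.node (.node (.node (.node (.leaf 10) (.leaf 7)) (.leaf 7)) (.node (.node (.leaf 12) (.leaf 10)) (.leaf 12))) (.node (.node (.node (.leaf 12) (.leaf 10)) (.leaf 12)) (.node (.node (.leaf 7) (.leaf 10)) (.leaf 8)))) (.node (.node (.node (.node (.leaf 12) (.leaf 7)) (.leaf 8)) (.node (.node (.leaf 12) (.leaf 12)) (.leaf 7))) (.node (.node (.node (.leaf 15) (.leaf 8))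 (.leaf 10)) (.node (.node (.leaf 12) (.leaf 15)) (.leaf 10))))) (.node (.node (.node (.node (.node (.leaf 10) (.leaf 12)) (.leaf 10)) (.node (.node (.leaf 8) (.leaf 10)) (.leaf 15))) (.node (.node (.node (.leaf 10) (.leaf 10)) (.leaf 10)) (.node (.node (.leaf 12) (.leaf 12)) (.leaf 7)))) (.node (.node (.node (.node (.leaf 8) (.leaf 7)) (.leaf 15)) (.node (.node (.leaf 12) (.leaf 8)) (.leaf 12))) (.node (.node (.node (.leaf 7) (.leaf 8)) (.leaf 12)) (.node (.node (.leaf 12) (.leaf 10)) (.leaf 10)))))))) (.node (.node (.node (.node (.node (.node (.node (.node (.leaf 10) (.leaf 10)) (.node (.leaf 8) (.leaf 10))) (.node (.node (.leaf 10) (.leaf 8)) (.leaf 7))) (.node (.node (.node (.leaf 8) (.leaf 7)) (.leaf 8)) (.node (.node (.leaf 8) (.leaf 15)) (.leaf 10)))) (.node (.node (.node (.node (.leaf 12) (.leaf 8)) (.leaf 8)) (.node (.node (.leaf 12) (.leaf 12)) (.leaf 8))) (.node (.node (.node (.leaf 12) (.leaf 10)) (.leaf 7)) (.node (.node (.leaf 12) (.leaf 7)) (.leaf 8))))) (.node (.node (.node (.node (.node (.leaf 10) (.leaf 10))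 (.leaf 7)) (.node (.node (.leaf 10) (.leaf 10)) (.leaf 12))) (.node (.node (.node (.leaf 10) (.leaf 15)) (.leaf 12)) (.node (.node (.leaf 10) (.leaf 10)) (.leaf 8)))) (.node (.node (.node (.node (.leaf 10) (.leaf 12)) (.leaf 8)) (.node (.node (.leaf 7) (.leaf 12)) (.leaf 12))) (.node (.node (.node (.leaf 10) (.leaf 8)) (.leaf 10)) (.node (.node (.leaf 8) (.leaf 12)) (.leaf 12)))))) (.node (.node (.node (.node (.node (.node (.leaf 10) (.leaf 10)) (.node (.leaf 10) (.leaf 10))) (.node (.node (.leaf 10) (.leaf 10)) (.leaf 10))) (.node (.node (.node (.leaf 12) (.leaf 10)) (.leaf 15)) (.node (.node (.leaf 12) (.leaf 8)) (.leaf 8)))) (.node (.node (.node (.node (.leaf 8) (.leaf 8)) (.leaf 10)) (.node (.node (.leaf 10) (.leaf 10)) (.leaf 10))) (.node (.node (.node (.leaf 10) (.leaf 10)) (.leaf 10)) (.node (.node (.leaf 7) (.leaf 12)) (.leaf 15))))) (.node (.node (.node (.node (.node (.leaf 12) (.leaf 10)) (.leaf 12)) (.node (.node (.leaf 10) (.leaf 8)) (.leaf 12))) (.node (.node (.node (.leaf 10) (.leaf 10)) (.leaf 8)) (.node (.node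 (.leaf 10) (.leaf 10)) (.leaf 15)))) (.node (.node (.node (.node (.leaf 12) (.leaf 8)) (.leaf 10)) (.node (.node (.leaf 12) (.leaf 10)) (.leaf 8))) (.node (.node (.node (.leaf 8) (.leaf 8)) (.leaf 12)) (.node (.node (.leaf 10) (.leaf 15)) (.leaf 15))))))) (.node (.node (.node (.node (.node (.node (.node (.leaf 8) (.leaf 10)) (.node (.leaf 10) (.leaf 10))) (.node (.node (.leaf 15) (.leaf 10)) (.leaf 7))) (.node (.node (.node (.leaf 10) (.leaf 10)) (.leaf 7)) (.node (.node (.leaf 12) (.leaf 7)) (.leaf 10)))) (.node (.node (.node (.node (.leaf 12) (.leaf 8)) (.leaf 7)) (.node (.node (.leaf 10) (.leaf 12)) (.leaf 10))) (.node (.node (.node (.leaf 12) (.leaf 10)) (.leaf 7)) (.node (.node (.leaf 8) (.leaf 15)) (.leaf 12))))) (.node (.node (.node (.node (.node (.leaf 12) (.leaf 10)) (.leaf 12)) (.node (.node (.leaf 10) (.leaf 7)) (.leaf 15))) (.node (.node (.node (.leaf 7) (.leaf 10)) (.leaf 15)) (.node (.node (.leaf 10) (.leaf 10)) (.leaf 10)))) (.node (.node (.node (.node (.leaf 8) (.leaf 12)) (.leaf 10)) (.node (.node (.leaf 7) (.leaf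 10)) (.leaf 15))) (.node (.node (.node (.leaf 8) (.leaf 8)) (.leaf 7)) (.node (.node (.leaf 10) (.leaf 15)) (.leaf 12)))))) (.node (.node (.node (.node (.node (.node (.leaf 10) (.leaf 8)) (.leaf 8)) (.node (.node (.leaf 10) (.leaf 15)) (.leaf 8))) (.node (.node (.node (.leaf 12) (.leaf 10)) (.leaf 8)) (.node (.node (.leaf 10) (.leaf 8)) (.leaf 15)))) (.node (.node (.node (.node (.leaf 10) (.leaf 12)) (.leaf 10)) (.node (.node (.leaf 10) (.leaf 12)) (.leaf 10))) (.node (.node (.node (.leaf 10) (.leaf 8)) (.leaf 8)) (.node (.node (.leaf 12) (.leaf 10)) (.leaf 15))))) (.node (.node (.node (.node (.node (.leaf 10) (.leaf 7)) (.leaf 15)) (.node (.node (.leaf 8) (.leaf 10)) (.leaf 10))) (.node (.node (.node (.leaf 12) (.leaf 8)) (.leaf 15)) (.node (.node (.leaf 7) (.leaf 10)) (.leaf 7)))) (.node (.node (.node (.node (.leaf 15) (.leaf 10)) (.leaf 10)) (.node (.node (.leaf 10) (.leaf 10)) (.leaf 12))) (.node (.node (.node (.leaf 12) (.leaf 8)) (.leaf 8)) (.node (.node (.leaf 10) (.leaf 12)) (.leaf 15)))))))))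

def classPow1 : Janko.Tree (ℕ) :=
  (.node (.node (.node (.node (.node (.node (.node (.node (.node (.leaf 10) (.leaf 10)) (.node (.leaf 8) (.leaf 8))) (.node (.node (.leaf 10) (.leaf 10)) (.leaf 7))) (.node (.node (.node (.leaf 7) (.leaf 10)) (.leaf 12)) (.node (.node (.leaf 12) (.leaf 8)) (.leaf 10)))) (.node (.node (.node (.node (.leaf 10) (.leaf 8)) (.leaf 15)) (.node (.node (.leaf 15) (.leaf 12)) (.leaf 15))) (.node (.node (.node (.leaf 10) (.leaf 8)) (.leaf 10)) (.node (.node (.leaf 12) (.leaf 7)) (.leaf 10))))) (.node (.node (.node (.node (.node (.leaf 10) (.leaf 12)) (.leaf 8)) (.node (.node (.leaf 7) (.leaf 12)) (.leaf 12))) (.node (.node (.node (.leaf 12) (.leaf 15)) (.leaf 10)) (.node (.node (.leaf 15) (.leaf 15)) (.leaf 10)))) (.node (.node (.node (.node (.leaf 12) (.leaf 10)) (.leaf 7)) (.node (.node (.leaf 10) (.leaf 12)) (.leaf 8))) (.node (.node (.node (.leaf 10) (.leaf 8)) (.leaf 8)) (.node (.node (.leaf 10) (.leaf 10)) (.leaf 10)))))) (.node (.node (.node (.node (.node (.node (.leaf 10) (.leaf 12)) (.node (.leaf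 12) (.leaf 12))) (.node (.node (.leaf 8) (.leaf 10)) (.leaf 7))) (.node (.node (.node (.leaf 10) (.leaf 12)) (.leaf 7)) (.node (.node (.leaf 12) (.leaf 8)) (.leaf 12)))) (.node (.node (.node (.node (.leaf 7) (.leaf 12)) (.leaf 10)) (.node (.node (.leaf 15) (.leaf 12)) (.leaf 15))) (.node (.node (.node (.leaf 7) (.leaf 10)) (.leaf 10)) (.node (.node (.leaf 7) (.leaf 10)) (.leaf 7))))) (.node (.node (.node (.node (.node (.leaf 7) (.leaf 8)) (.leaf 12)) (.node (.node (.leaf 12) (.leaf 12)) (.leaf 10))) (.node (.node (.node (.leaf 10) (.leaf 10)) (.leaf 8)) (.node (.node (.leaf 12) (.leaf 12)) (.leaf 10)))) (.node (.node (.node (.node (.leaf 12) (.leaf 12)) (.leaf 12)) (.node (.node (.leaf 12) (.leaf 8)) (.leaf 10))) (.node (.node (.node (.leaf 10) (.leaf 8)) (.leaf 7)) (.node (.node (.leaf 15) (.leaf 7)) (.leaf 10))))))) (.node (.node (.node (.node (.node (.node (.node (.leaf 8) (.leaf 7)) (.node (.leaf 8) (.leaf 10))) (.node (.node (.leaf 8) (.leaf 8)) (.leaf 7))) (.node (.node (.node (.leaf 10) (.leaf 10)) (.leaf 12)) (.node (.node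 (.leaf 10) (.leaf 8)) (.leaf 10)))) (.node (.node (.node (.node (.leaf 7) (.leaf 12)) (.leaf 10)) (.node (.node (.leaf 12) (.leaf 15)) (.leaf 15))) (.node (.node (.node (.leaf 12) (.leaf 15)) (.leaf 7)) (.node (.node (.leaf 12) (.leaf 10)) (.leaf 7))))) (.node (.node (.node (.node (.node (.leaf 12) (.leaf 7)) (.leaf 15)) (.node (.node (.leaf 10) (.leaf 10)) (.leaf 7))) (.node (.node (.node (.leaf 7) (.leaf 15)) (.leaf 10)) (.node (.node (.leaf 8) (.leaf 12)) (.leaf 15)))) (.node (.node (.node (.node (.leaf 12) (.leaf 10)) (.leaf 7)) (.node (.node (.leaf 12) (.leaf 10)) (.leaf 7))) (.node (.node (.node (.leaf 12) (.leaf 8)) (.leaf 8)) (.node (.node (.leaf 10) (.leaf 10)) (.leaf 7)))))) (.node (.node (.node (.node (.node (.node (.leaf 10) (.leaf 8)) (.leaf 10)) (.node (.node (.leaf 12) (.leaf 10)) (.leaf 10))) (.node (.node (.node (.leaf 10) (.leaf 8)) (.leaf 12)) (.node (.node (.leaf 10) (.leaf 8)) (.leaf 10)))) (.node (.node (.node (.node (.leaf 8) (.leaf 12)) (.leaf 7)) (.node (.node (.leaf 10) (.leaf 12)) (.leaf 10))) (.node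 (.node (.node (.leaf 10) (.leaf 8)) (.leaf 12)) (.node (.node (.leaf 7) (.leaf 10)) (.leaf 7))))) (.node (.node (.node (.node (.node (.leaf 12) (.leaf 10)) (.leaf 10)) (.node (.node (.leaf 12) (.leaf 12)) (.leaf 12))) (.node (.node (.node (.leaf 8) (.leaf 8)) (.leaf 12)) (.node (.node (.leaf 10) (.leaf 10)) (.leaf 7)))) (.node (.node (.node (.node (.leaf 8) (.leaf 7)) (.leaf 7)) (.node (.node (.leaf 12) (.leaf 10)) (.leaf 12))) (.node (.node (.node (.leaf 8) (.leaf 8)) (.leaf 8)) (.node (.node (.leaf 10) (.leaf 8)) (.leaf 10)))))))) (.node (.node (.node (.node (.node (.node (.node (.node (.leaf 10) (.leaf 8)) (.node (.leaf 10) (.leaf 15))) (.node (.node (.leaf 15) (.leaf 10)) (.leaf 8))) (.node (.node (.node (.leaf 12) (.leaf 12)) (.leaf 7)) (.node (.node (.leaf 12) (.leaf 10)) (.leaf 10)))) (.node (.node (.node (.node (.leaf 8) (.leaf 12)) (.leaf 10)) (.node (.node (.leaf 7) (.leaf 15)) (.leaf 15))) (.node (.node (.node (.leaf 10) (.leaf 15)) (.leaf 12)) (.node (.node (.leaf 12) (.leaf 10)) (.leaf 10))))) (.node (.node (.node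 (.node (.node (.leaf 10) (.leaf 10)) (.leaf 12)) (.node (.node (.leaf 10) (.leaf 12)) (.leaf 10))) (.node (.node (.node (.leaf 12) (.leaf 12)) (.leaf 8)) (.node (.node (.leaf 10) (.leaf 10)) (.leaf 7)))) (.node (.node (.node (.node (.leaf 10) (.leaf 7)) (.leaf 7)) (.node (.node (.leaf 12) (.leaf 12)) (.leaf 10))) (.node (.node (.node (.leaf 10) (.leaf 8)) (.leaf 10)) (.node (.node (.leaf 12) (.leaf 10)) (.leaf 7)))))) (.node (.node (.node (.node (.node (.node (.leaf 10) (.leaf 8)) (.node (.leaf 7) (.leaf 8))) (.node (.node (.leaf 7) (.leaf 10)) (.leaf 7))) (.node (.node (.node (.leaf 15) (.leaf 12)) (.leaf 12)) (.node (.node (.leaf 10) (.leaf 8)) (.leaf 8)))) (.node (.node (.node (.node (.leaf 15) (.leaf 12)) (.leaf 10)) (.node (.node (.leaf 10) (.leaf 10)) (.leaf 10))) (.node (.node (.node (.leaf 10) (.leaf 8)) (.leaf 7)) (.node (.node (.leaf 7) (.leaf 7)) (.leaf 8))))) (.node (.node (.node (.node (.node (.leaf 12) (.leaf 8)) (.leaf 7)) (.node (.node (.leaf 12) (.leaf 12)) (.leaf 15))) (.node (.node (.node (.leaf 8) (.leaf 10))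 (.leaf 7)) (.node (.node (.leaf 8) (.leaf 10)) (.leaf 8)))) (.node (.node (.node (.node (.leaf 12) (.leaf 8)) (.leaf 12)) (.node (.node (.leaf 12) (.leaf 10)) (.leaf 8))) (.node (.node (.node (.leaf 10) (.leaf 8)) (.leaf 8)) (.node (.node (.leaf 10) (.leaf 8)) (.leaf 10))))))) (.node (.node (.node (.node (.node (.node (.node (.leaf 8) (.leaf 10)) (.node (.leaf 15) (.leaf 10))) (.node (.node (.leaf 7) (.leaf 10)) (.leaf 7))) (.node (.node (.node (.leaf 10) (.leaf 7)) (.leaf 10)) (.node (.node (.leaf 12) (.leaf 15)) (.leaf 12)))) (.node (.node (.node (.node (.leaf 8) (.leaf 8)) (.leaf 15)) (.node (.node (.leaf 7) (.leaf 10)) (.leaf 12))) (.node (.node (.node (.leaf 8) (.leaf 8)) (.leaf 7)) (.node (.node (.leaf 7) (.leaf 10)) (.leaf 12))))) (.node (.node (.node (.node (.node (.leaf 7) (.leaf 7)) (.leaf 10)) (.node (.node (.leaf 15) (.leaf 7)) (.leaf 8))) (.node (.node (.node (.leaf 10) (.leaf 7)) (.leaf 7)) (.node (.node (.leaf 12) (.leaf 12)) (.leaf 10)))) (.node (.node (.node (.node (.leaf 15) (.leaf 12)) (.leaf 10)) (.node (.node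 (.leaf 10) (.leaf 8)) (.leaf 10))) (.node (.node (.node (.leaf 7) (.leaf 8)) (.leaf 12)) (.node (.node (.leaf 12) (.leaf 15)) (.leaf 10)))))) (.node (.node (.node (.node (.node (.node (.leaf 10) (.leaf 8)) (.leaf 8)) (.node (.node (.leaf 7) (.leaf 8)) (.leaf 12))) (.node (.node (.node (.leaf 15) (.leaf 15)) (.leaf 15)) (.node (.node (.leaf 12) (.leaf 15)) (.leaf 10)))) (.node (.node (.node (.node (.leaf 10) (.leaf 10)) (.leaf 12)) (.node (.node (.leaf 15) (.leaf 12)) (.leaf 15))) (.node (.node (.node (.leaf 10) (.leaf 8)) (.leaf 12)) (.node (.node (.leaf 12) (.leaf 7)) (.leaf 15))))) (.node (.node (.node (.node (.node (.leaf 15) (.leaf 10)) (.leaf 8)) (.node (.node (.leaf 10) (.leaf 7)) (.leaf 12))) (.node (.node (.node (.leaf 10) (.leaf 15)) (.leaf 15)) (.node (.node (.leaf 12) (.leaf 10)) (.leaf 15)))) (.node (.node (.node (.node (.leaf 10) (.leaf 10)) (.leaf 12)) (.node (.node (.leaf 8) (.leaf 10)) (.leaf 12))) (.node (.node (.node (.leaf 12) (.leaf 8)) (.leaf 12)) (.node (.node (.leaf 12) (.leaf 12)) (.leaf 12)))))))))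

def classPow2 : Janko.Tree (ℕ) :=
  (.node (.node (.node (.node (.node (.node (.node (.node (.node (.leaf 10) (.leaf 12)) (.node (.leaf 10) (.leaf 10))) (.node (.node (.leaf 7) (.leaf 12)) (.leaf 10))) (.node (.node (.node (.leaf 7) (.leaf 10)) (.leaf 12)) (.node (.node (.leaf 10) (.leaf 10)) (.leaf 10)))) (.node (.node (.node (.node (.leaf 12) (.leaf 12)) (.leaf 15)) (.node (.node (.leaf 10) (.leaf 10)) (.leaf 12))) (.node (.node (.node (.leaf 10) (.leaf 7)) (.leaf 10)) (.node (.node (.leaf 12) (.leaf 10)) (.leaf 15))))) (.node (.node (.node (.node (.node (.leaf 10) (.leaf 10)) (.leaf 10)) (.node (.node (.leaf 7) (.leaf 8)) (.leaf 7))) (.node (.node (.node (.leaf 15) (.leaf 10)) (.leaf 10)) (.node (.node (.leaf 7) (.leaf 15)) (.leaf 8)))) (.node (.node (.node (.node (.leaf 8) (.leaf 7)) (.leaf 10)) (.node (.node (.leaf 15) (.leaf 12)) (.leaf 10))) (.node (.node (.node (.leaf 15) (.leaf 8)) (.leaf 10)) (.node (.node (.leaf 10) (.leaf 15)) (.leaf 12)))))) (.node (.node (.node (.node (.node (.node (.leaf 10) (.leaf 7)) (.node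 (.leaf 12) (.leaf 10))) (.node (.node (.leaf 10) (.leaf 10)) (.leaf 12))) (.node (.node (.node (.leaf 15) (.leaf 10)) (.leaf 10)) (.node (.node (.leaf 7) (.leaf 7)) (.leaf 12)))) (.node (.node (.node (.node (.leaf 8) (.leaf 12)) (.leaf 8)) (.node (.node (.leaf 10) (.leaf 12)) (.leaf 7))) (.node (.node (.node (.leaf 7) (.leaf 12)) (.leaf 10)) (.node (.node (.leaf 8) (.leaf 12)) (.leaf 7))))) (.node (.node (.node (.node (.node (.leaf 8) (.leaf 8)) (.leaf 15)) (.node (.node (.leaf 12) (.leaf 10)) (.leaf 12))) (.node (.node (.node (.leaf 8) (.leaf 10)) (.leaf 10)) (.node (.node (.leaf 10) (.leaf 15)) (.leaf 15)))) (.node (.node (.node (.node (.leaf 15) (.leaf 7)) (.leaf 7)) (.node (.node (.leaf 12) (.leaf 8)) (.leaf 10))) (.node (.node (.node (.leaf 10) (.leaf 8)) (.leaf 8)) (.node (.node (.leaf 8) (.leaf 15)) (.leaf 12))))))) (.node (.node (.node (.node (.node (.node (.node (.leaf 8) (.leaf 8)) (.node (.leaf 15) (.leaf 10))) (.node (.node (.leaf 10) (.leaf 10)) (.leaf 15))) (.node (.node (.node (.leaf 15) (.leaf 15)) (.leaf 10))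 (.node (.node (.leaf 12) (.leaf 15)) (.leaf 10)))) (.node (.node (.node (.node (.leaf 8) (.leaf 10)) (.leaf 15)) (.node (.node (.leaf 12) (.leaf 15)) (.leaf 12))) (.node (.node (.node (.leaf 12) (.leaf 8)) (.leaf 8)) (.node (.node (.leaf 7) (.leaf 12)) (.leaf 15))))) (.node (.node (.node (.node (.node (.leaf 10) (.leaf 10)) (.leaf 7)) (.node (.node (.leaf 15) (.leaf 10)) (.leaf 8))) (.node (.node (.node (.leaf 7) (.leaf 10)) (.leaf 12)) (.node (.node (.leaf 8) (.leaf 15)) (.leaf 7)))) (.node (.node (.node (.node (.leaf 7) (.leaf 10)) (.leaf 10)) (.node (.node (.leaf 10) (.leaf 10)) (.leaf 15))) (.node (.node (.node (.leaf 10) (.leaf 8)) (.leaf 8)) (.node (.node (.leaf 10) (.leaf 7)) (.leaf 12)))))) (.node (.node (.node (.node (.node (.node (.leaf 10) (.leaf 7)) (.leaf 7)) (.node (.node (.leaf 10) (.leaf 8)) (.leaf 8))) (.node (.node (.node (.leaf 8) (.leaf 7)) (.leaf 12)) (.node (.node (.leaf 10) (.leaf 8)) (.leaf 8)))) (.node (.node (.node (.node (.leaf 8) (.leaf 10)) (.leaf 12)) (.node (.node (.leaf 10) (.leaf 12)) (.leaf 10)))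 (.node (.node (.node (.leaf 10) (.leaf 8)) (.leaf 10)) (.node (.node (.leaf 12) (.leaf 12)) (.leaf 15))))) (.node (.node (.node (.node (.node (.leaf 12) (.leaf 7)) (.leaf 10)) (.node (.node (.leaf 15) (.leaf 12)) (.leaf 10))) (.node (.node (.node (.leaf 15) (.leaf 8)) (.leaf 15)) (.node (.node (.leaf 12) (.leaf 15)) (.leaf 15)))) (.node (.node (.node (.node (.leaf 10) (.leaf 12)) (.leaf 15)) (.node (.node (.leaf 7) (.leaf 8)) (.leaf 12))) (.node (.node (.node (.leaf 7) (.leaf 8)) (.leaf 15)) (.node (.node (.leaf 10) (.leaf 10)) (.leaf 10)))))))) (.node (.node (.node (.node (.node (.node (.node (.node (.leaf 10) (.leaf 10)) (.node (.leaf 10) (.leaf 10))) (.node (.node (.leaf 15) (.leaf 10)) (.leaf 12))) (.node (.node (.node (.leaf 12) (.leaf 7)) (.leaf 12)) (.node (.node (.leaf 8) (.leaf 8)) (.leaf 10)))) (.node (.node (.node (.node (.leaf 12) (.leaf 8)) (.leaf 10)) (.node (.node (.leaf 7) (.leaf 10)) (.leaf 10))) (.node (.node (.node (.leaf 7) (.leaf 10)) (.leaf 10)) (.node (.node (.leaf 12) (.leaf 10)) (.leaf 7))))) (.node (.node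 (.node (.node (.node (.leaf 10) (.leaf 10)) (.leaf 10)) (.node (.node (.leaf 15) (.leaf 10)) (.leaf 10))) (.node (.node (.node (.leaf 10) (.leaf 10)) (.leaf 8)) (.node (.node (.leaf 15) (.leaf 12)) (.leaf 8)))) (.node (.node (.node (.node (.leaf 10) (.leaf 7)) (.leaf 12)) (.node (.node (.leaf 12) (.leaf 12)) (.leaf 10))) (.node (.node (.node (.leaf 10) (.leaf 8)) (.leaf 10)) (.node (.node (.leaf 10) (.leaf 15)) (.leaf 12)))))) (.node (.node (.node (.node (.node (.node (.leaf 10) (.leaf 12)) (.node (.leaf 12) (.leaf 15))) (.node (.node (.leaf 10) (.leaf 15)) (.leaf 15))) (.node (.node (.node (.leaf 8) (.leaf 8)) (.leaf 10)) (.node (.node (.leaf 10) (.leaf 10)) (.leaf 8)))) (.node (.node (.node (.node (.leaf 10) (.leaf 7)) (.leaf 12)) (.node (.node (.leaf 10) (.leaf 10)) (.leaf 7))) (.node (.node (.node (.leaf 12) (.leaf 10)) (.leaf 7)) (.node (.node (.leaf 10) (.leaf 10)) (.leaf 7))))) (.node (.node (.node (.node (.node (.leaf 12) (.leaf 8)) (.leaf 7)) (.node (.node (.leaf 8) (.leaf 10)) (.leaf 10))) (.node (.node (.node (.leaf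 10) (.leaf 12)) (.leaf 12)) (.node (.node (.leaf 12) (.leaf 10)) (.leaf 10)))) (.node (.node (.node (.node (.leaf 15) (.leaf 10)) (.leaf 10)) (.node (.node (.leaf 12) (.leaf 10)) (.leaf 8))) (.node (.node (.node (.leaf 10) (.leaf 8)) (.leaf 8)) (.node (.node (.leaf 15) (.leaf 10)) (.leaf 10))))))) (.node (.node (.node (.node (.node (.node (.node (.leaf 8) (.leaf 10)) (.node (.leaf 15) (.leaf 10))) (.node (.node (.leaf 10) (.leaf 10)) (.leaf 7))) (.node (.node (.node (.leaf 12) (.leaf 10)) (.leaf 12)) (.node (.node (.leaf 10) (.leaf 8)) (.leaf 12)))) (.node (.node (.node (.node (.leaf 7) (.leaf 7)) (.leaf 8)) (.node (.node (.leaf 12) (.leaf 7)) (.leaf 10))) (.node (.node (.node (.leaf 12) (.leaf 8)) (.leaf 10)) (.node (.node (.leaf 7) (.leaf 15)) (.leaf 15))))) (.node (.node (.node (.node (.node (.leaf 15) (.leaf 10)) (.leaf 10)) (.node (.node (.leaf 12) (.leaf 12)) (.leaf 12))) (.node (.node (.node (.leaf 12) (.leaf 10)) (.leaf 15)) (.node (.node (.leaf 8) (.leaf 10)) (.leaf 15)))) (.node (.node (.node (.node (.leaf 8) (.leaf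 12)) (.leaf 10)) (.node (.node (.leaf 12) (.leaf 8)) (.leaf 10))) (.node (.node (.node (.leaf 7) (.leaf 8)) (.leaf 8)) (.node (.node (.leaf 10) (.leaf 15)) (.leaf 10)))))) (.node (.node (.node (.node (.node (.node (.leaf 10) (.leaf 12)) (.leaf 10)) (.node (.node (.leaf 15) (.leaf 10)) (.leaf 15))) (.node (.node (.node (.leaf 10) (.leaf 10)) (.leaf 15)) (.node (.node (.leaf 8) (.leaf 7)) (.leaf 10)))) (.node (.node (.node (.node (.leaf 12) (.leaf 10)) (.leaf 15)) (.node (.node (.leaf 10) (.leaf 12)) (.leaf 12))) (.node (.node (.node (.leaf 7) (.leaf 8)) (.leaf 12)) (.node (.node (.leaf 7) (.leaf 12)) (.leaf 12))))) (.node (.node (.node (.node (.node (.leaf 12) (.leaf 10)) (.leaf 15)) (.node (.node (.leaf 10) (.leaf 10)) (.leaf 12))) (.node (.node (.node (.leaf 8) (.leaf 8)) (.leaf 10)) (.node (.node (.leaf 12) (.leaf 15)) (.leaf 12)))) (.node (.node (.node (.node (.leaf 15) (.leaf 7)) (.leaf 10)) (.node (.node (.leaf 8) (.leaf 10)) (.leaf 12))) (.node (.node (.node (.leaf 12) (.leaf 8)) (.leaf 7)) (.node (.node (.leaf 12) (.leaf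 12)) (.leaf 10)))))))))

def classPow3 : Janko.Tree (ℕ) :=
  (.node (.node (.node (.node (.node (.node (.node (.node (.node (.leaf 10) (.leaf 10)) (.node (.leaf 10) (.leaf 12))) (.node (.node (.leaf 10) (.leaf 15)) (.leaf 8))) (.node (.node (.node (.leaf 7) (.leaf 10)) (.leaf 7)) (.node (.node (.leaf 12) (.leaf 10)) (.leaf 10)))) (.node (.node (.node (.node (.leaf 12) (.leaf 12)) (.leaf 10)) (.node (.node (.leaf 12) (.leaf 10)) (.leaf 15))) (.node (.node (.node (.leaf 10) (.leaf 7)) (.leaf 7)) (.node (.node (.leaf 12) (.leaf 12)) (.leaf 7))))) (.node (.node (.node (.node (.node (.leaf 10) (.leaf 7)) (.leaf 10)) (.node (.node (.leaf 15) (.leaf 12)) (.leaf 8))) (.node (.node (.node (.leaf 10) (.leaf 12)) (.leaf 12)) (.node (.node (.leaf 10) (.leaf 12)) (.leaf 10)))) (.node (.node (.node (.node (.leaf 15) (.leaf 12)) (.leaf 8)) (.node (.node (.leaf 10) (.leaf 12)) (.leaf 10))) (.node (.node (.node (.leaf 10) (.leaf 8)) (.leaf 7)) (.node (.node (.leaf 12) (.leaf 12)) (.leaf 7)))))) (.node (.node (.node (.node (.node (.node (.leaf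 10) (.leaf 12)) (.node (.leaf 12) (.leaf 7))) (.node (.node (.leaf 12) (.leaf 8)) (.leaf 10))) (.node (.node (.node (.leaf 15) (.leaf 10)) (.leaf 8)) (.node (.node (.leaf 7) (.leaf 10)) (.leaf 12)))) (.node (.node (.node (.node (.leaf 10) (.leaf 12)) (.leaf 10)) (.node (.node (.leaf 12) (.leaf 10)) (.leaf 10))) (.node (.node (.node (.leaf 7) (.leaf 8)) (.leaf 8)) (.node (.node (.leaf 10) (.leaf 12)) (.leaf 15))))) (.node (.node (.node (.node (.node (.leaf 10) (.leaf 15)) (.leaf 12)) (.node (.node (.leaf 12) (.leaf 15)) (.leaf 8))) (.node (.node (.node (.leaf 10) (.leaf 15)) (.leaf 7)) (.node (.node (.leaf 15) (.leaf 12)) (.leaf 7)))) (.node (.node (.node (.node (.leaf 15) (.leaf 10)) (.leaf 12)) (.node (.node (.leaf 12) (.leaf 8)) (.leaf 10))) (.node (.node (.node (.leaf 8) (.leaf 8)) (.leaf 7)) (.node (.node (.leaf 10) (.leaf 10)) (.leaf 10))))))) (.node (.node (.node (.node (.node (.node (.node (.leaf 8) (.leaf 15)) (.node (.leaf 15) (.leaf 10))) (.node (.node (.leaf 12) (.leaf 10)) (.leaf 7))) (.node (.node (.node (.leaf 12)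 (.leaf 12)) (.leaf 10)) (.node (.node (.leaf 8) (.leaf 7)) (.leaf 10)))) (.node (.node (.node (.node (.leaf 10) (.leaf 12)) (.leaf 15)) (.node (.node (.leaf 12) (.leaf 7)) (.leaf 12))) (.node (.node (.node (.leaf 15) (.leaf 12)) (.leaf 7)) (.node (.node (.leaf 12) (.leaf 7)) (.leaf 7))))) (.node (.node (.node (.node (.node (.leaf 7) (.leaf 7)) (.leaf 10)) (.node (.node (.leaf 10) (.leaf 12)) (.leaf 10))) (.node (.node (.node (.leaf 7) (.leaf 10)) (.leaf 12)) (.node (.node (.leaf 12) (.leaf 15)) (.leaf 10)))) (.node (.node (.node (.node (.leaf 12) (.leaf 7)) (.leaf 12)) (.node (.node (.leaf 7) (.leaf 10)) (.leaf 8))) (.node (.node (.node (.leaf 7) (.leaf 8)) (.leaf 12)) (.node (.node (.leaf 15) (.leaf 7)) (.leaf 10)))))) (.node (.node (.node (.node (.node (.node (.leaf 10) (.leaf 10)) (.leaf 7)) (.node (.node (.leaf 10) (.leaf 10)) (.leaf 7))) (.node (.node (.node (.leaf 15) (.leaf 8)) (.leaf 10)) (.node (.node (.leaf 7) (.leaf 10)) (.leaf 10)))) (.node (.node (.node (.node (.leaf 8) (.leaf 7)) (.leaf 12)) (.node (.node (.leaf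 8) (.leaf 12)) (.leaf 12))) (.node (.node (.node (.leaf 12) (.leaf 8)) (.leaf 12)) (.node (.node (.leaf 10) (.leaf 10)) (.leaf 15))))) (.node (.node (.node (.node (.node (.leaf 12) (.leaf 12)) (.leaf 15)) (.node (.node (.leaf 12) (.leaf 12)) (.leaf 7))) (.node (.node (.node (.leaf 10) (.leaf 15)) (.leaf 10)) (.node (.node (.leaf 12) (.leaf 15)) (.leaf 8)))) (.node (.node (.node (.node (.leaf 15) (.leaf 7)) (.leaf 10)) (.node (.node (.leaf 10) (.leaf 10)) (.leaf 12))) (.node (.node (.node (.leaf 10) (.leaf 8)) (.leaf 8)) (.node (.node (.leaf 10) (.leaf 10)) (.leaf 10)))))))) (.node (.node (.node (.node (.node (.node (.node (.node (.leaf 10) (.leaf 8)) (.node (.leaf 15) (.leaf 12))) (.node (.node (.leaf 15) (.leaf 15)) (.leaf 10))) (.node (.node (.node (.leaf 7) (.leaf 15)) (.leaf 12)) (.node (.node (.leaf 8) (.leaf 8)) (.leaf 10)))) (.node (.node (.node (.node (.leaf 15) (.leaf 12)) (.leaf 10)) (.node (.node (.leaf 10) (.leaf 15)) (.leaf 10))) (.node (.node (.node (.leaf 10) (.leaf 12)) (.leaf 12)) (.node (.node (.leaf 12) (.leaf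 10)) (.leaf 10))))) (.node (.node (.node (.node (.node (.leaf 10) (.leaf 8)) (.leaf 8)) (.node (.node (.leaf 15) (.leaf 15)) (.leaf 10))) (.node (.node (.node (.leaf 8) (.leaf 7)) (.leaf 12)) (.node (.node (.leaf 12) (.leaf 7)) (.leaf 10)))) (.node (.node (.node (.node (.leaf 12) (.leaf 8)) (.leaf 8)) (.node (.node (.leaf 7) (.leaf 12)) (.leaf 10))) (.node (.node (.node (.leaf 12) (.leaf 8)) (.leaf 12)) (.node (.node (.leaf 10) (.leaf 15)) (.leaf 7)))))) (.node (.node (.node (.node (.node (.node (.leaf 10) (.leaf 12)) (.node (.leaf 7) (.leaf 8))) (.node (.node (.leaf 12) (.leaf 10)) (.leaf 15))) (.node (.node (.node (.leaf 10) (.leaf 12)) (.leaf 10)) (.node (.node (.leaf 7) (.leaf 15)) (.leaf 8)))) (.node (.node (.node (.node (.leaf 15) (.leaf 12)) (.leaf 15)) (.node (.node (.leaf 15) (.leaf 10)) (.leaf 10))) (.node (.node (.node (.leaf 12) (.leaf 10)) (.leaf 10)) (.node (.node (.leaf 10) (.leaf 12)) (.leaf 12))))) (.node (.node (.node (.node (.node (.leaf 10) (.leaf 10)) (.leaf 10)) (.node (.node (.leaf 10) (.leaf 15)) (.leaf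 7))) (.node (.node (.node (.leaf 7) (.leaf 10)) (.leaf 7)) (.node (.node (.leaf 10) (.leaf 15)) (.leaf 10)))) (.node (.node (.node (.node (.leaf 10) (.leaf 10)) (.leaf 10)) (.node (.node (.leaf 12) (.leaf 10)) (.leaf 8))) (.node (.node (.node (.leaf 8) (.leaf 8)) (.leaf 7)) (.node (.node (.leaf 8) (.leaf 10)) (.leaf 15))))))) (.node (.node (.node (.node (.node (.node (.node (.leaf 8) (.leaf 10)) (.node (.leaf 15) (.leaf 10))) (.node (.node (.leaf 15) (.leaf 7)) (.leaf 8))) (.node (.node (.node (.leaf 15) (.leaf 12)) (.leaf 10)) (.node (.node (.leaf 7) (.leaf 10)) (.leaf 12)))) (.node (.node (.node (.node (.leaf 7) (.leaf 12)) (.leaf 12)) (.node (.node (.leaf 7) (.leaf 7)) (.leaf 10))) (.node (.node (.node (.leaf 15) (.leaf 15)) (.leaf 10)) (.node (.node (.leaf 12) (.leaf 10)) (.leaf 15))))) (.node (.node (.node (.node (.node (.leaf 12) (.leaf 7)) (.leaf 10)) (.node (.node (.leaf 12) (.leaf 8)) (.leaf 10))) (.node (.node (.node (.leaf 12) (.leaf 7)) (.leaf 10)) (.node (.node (.leaf 7) (.leaf 7)) (.leaf 7)))) (.node (.node (.node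 (.node (.leaf 10) (.leaf 7)) (.leaf 15)) (.node (.node (.leaf 12) (.leaf 8)) (.leaf 12))) (.node (.node (.node (.leaf 8) (.leaf 8)) (.leaf 15)) (.node (.node (.leaf 12) (.leaf 12)) (.leaf 10)))))) (.node (.node (.node (.node (.node (.node (.leaf 10) (.leaf 8)) (.leaf 7)) (.node (.node (.leaf 12) (.leaf 8)) (.leaf 8))) (.node (.node (.node (.leaf 15) (.leaf 10)) (.leaf 10)) (.node (.node (.leaf 10) (.leaf 8)) (.leaf 10)))) (.node (.node (.node (.node (.leaf 7) (.leaf 12)) (.leaf 10)) (.node (.node (.leaf 10) (.leaf 12)) (.leaf 15))) (.node (.node (.node (.leaf 10) (.leaf 8)) (.leaf 10)) (.node (.node (.leaf 7) (.leaf 12)) (.leaf 12))))) (.node (.node (.node (.node (.node (.leaf 10) (.leaf 8)) (.leaf 10)) (.node (.node (.leaf 12) (.leaf 7)) (.leaf 15))) (.node (.node (.node (.leaf 10) (.leaf 8)) (.leaf 15)) (.node (.node (.leaf 10) (.leaf 10)) (.leaf 10)))) (.node (.node (.node (.node (.leaf 10) (.leaf 7)) (.leaf 15)) (.node (.node (.leaf 12) (.leaf 7)) (.leaf 12))) (.node (.node (.node (.leaf 10) (.leaf 8)) (.leaf 12)) (.node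 (.node (.leaf 15) (.leaf 8)) (.leaf 10)))))))))

def classPow4 : Janko.Tree (ℕ) :=
  (.node (.node (.node (.node (.node (.node (.node (.node (.node (.leaf 10) (.leaf 10)) (.node (.leaf 12) (.leaf 7))) (.node (.node (.leaf 7) (.leaf 10)) (.leaf 15))) (.node (.node (.node (.leaf 10) (.leaf 8)) (.leaf 8)) (.node (.node (.leaf 12) (.leaf 7)) (.leaf 10)))) (.node (.node (.node (.node (.leaf 10) (.leaf 8)) (.leaf 8)) (.node (.node (.leaf 10) (.leaf 10)) (.leaf 12))) (.node (.node (.node (.leaf 10) (.leaf 10)) (.leaf 7)) (.node (.node (.leaf 12) (.leaf 7)) (.leaf 10))))) (.node (.node (.node (.node (.node (.leaf 10) (.leaf 10)) (.leaf 7)) (.node (.node (.leaf 12) (.leaf 8)) (.leaf 12))) (.node (.node (.node (.leaf 10) (.leaf 7)) (.leaf 8)) (.node (.node (.leaf 7) (.leaf 12)) (.leaf 15)))) (.node (.node (.node (.node (.leaf 7) (.leaf 10)) (.leaf 10)) (.node (.node (.leaf 7) (.leaf 12)) (.leaf 10))) (.node (.node (.node (.leaf 10) (.leaf 8)) (.leaf 10)) (.node (.node (.leaf 10) (.leaf 10)) (.leaf 10)))))) (.node (.node (.node (.node (.node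 (.node (.leaf 10) (.leaf 10)) (.node (.leaf 8) (.leaf 10))) (.node (.node (.leaf 8) (.leaf 7)) (.leaf 15))) (.node (.node (.node (.leaf 15) (.leaf 8)) (.leaf 10)) (.node (.node (.leaf 10) (.leaf 10)) (.leaf 12)))) (.node (.node (.node (.node (.leaf 12) (.leaf 10)) (.leaf 10)) (.node (.node (.leaf 10) (.leaf 10)) (.leaf 12))) (.node (.node (.node (.leaf 8) (.leaf 8)) (.leaf 7)) (.node (.node (.leaf 12) (.leaf 7)) (.leaf 8))))) (.node (.node (.node (.node (.node (.leaf 15) (.leaf 7)) (.leaf 10)) (.node (.node (.leaf 12) (.leaf 10)) (.leaf 10))) (.node (.node (.node (.leaf 8) (.leaf 8)) (.leaf 10)) (.node (.node (.leaf 12) (.leaf 10)) (.leaf 8)))) (.node (.node (.node (.node (.leaf 12) (.leaf 15)) (.leaf 12)) (.node (.node (.leaf 12) (.leaf 8)) (.leaf 10))) (.node (.node (.node (.leaf 15) (.leaf 8)) (.leaf 10)) (.node (.node (.leaf 8) (.leaf 10)) (.leaf 10))))))) (.node (.node (.node (.node (.node (.node (.node (.leaf 8) (.leaf 10)) (.node (.leaf 15) (.leaf 10))) (.node (.node (.leaf 10) (.leaf 15)) (.leaf 8))) (.node (.node (.node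 (.leaf 10) (.leaf 7)) (.leaf 7)) (.node (.node (.leaf 12) (.leaf 10)) (.leaf 10)))) (.node (.node (.node (.node (.leaf 8) (.leaf 7)) (.leaf 10)) (.node (.node (.leaf 8) (.leaf 12)) (.leaf 10))) (.node (.node (.node (.leaf 10) (.leaf 10)) (.leaf 12)) (.node (.node (.leaf 10) (.leaf 12)) (.leaf 12))))) (.node (.node (.node (.node (.node (.leaf 10) (.leaf 10)) (.leaf 7)) (.node (.node (.leaf 7) (.leaf 10)) (.leaf 15))) (.node (.node (.node (.leaf 12) (.leaf 15)) (.leaf 12)) (.node (.node (.leaf 10) (.leaf 7)) (.leaf 10)))) (.node (.node (.node (.node (.leaf 7) (.leaf 12)) (.leaf 10)) (.node (.node (.leaf 10) (.leaf 10)) (.leaf 8))) (.node (.node (.node (.leaf 10) (.leaf 8)) (.leaf 15)) (.node (.node (.leaf 10) (.leaf 12)) (.leaf 15)))))) (.node (.node (.node (.node (.node (.node (.leaf 10) (.leaf 10)) (.leaf 12)) (.node (.node (.leaf 10) (.leaf 15)) (.leaf 15))) (.node (.node (.node (.leaf 10) (.leaf 10)) (.leaf 8)) (.node (.node (.leaf 15) (.leaf 8)) (.leaf 8)))) (.node (.node (.node (.node (.leaf 8) (.leaf 12)) (.leaf 7)) (.node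 (.node (.leaf 7) (.leaf 12)) (.leaf 7))) (.node (.node (.node (.leaf 15) (.leaf 8)) (.leaf 10)) (.node (.node (.leaf 7) (.leaf 10)) (.leaf 10))))) (.node (.node (.node (.node (.node (.leaf 10) (.leaf 7)) (.leaf 10)) (.node (.node (.leaf 15) (.leaf 12)) (.leaf 15))) (.node (.node (.node (.leaf 12) (.leaf 7)) (.leaf 10)) (.node (.node (.leaf 12) (.leaf 15)) (.leaf 8)))) (.node (.node (.node (.node (.leaf 10) (.leaf 8)) (.leaf 10)) (.node (.node (.leaf 7) (.leaf 10)) (.leaf 12))) (.node (.node (.node (.leaf 15) (.leaf 8)) (.leaf 8)) (.node (.node (.leaf 12) (.leaf 12)) (.leaf 15)))))))) (.node (.node (.node (.node (.node (.node (.node (.node (.leaf 10) (.leaf 8)) (.node (.leaf 10) (.leaf 7))) (.node (.node (.leaf 12) (.leaf 8)) (.leaf 10))) (.node (.node (.node (.leaf 10) (.leaf 8)) (.leaf 7)) (.node (.node (.leaf 7) (.leaf 7)) (.leaf 10)))) (.node (.node (.node (.node (.leaf 8) (.leaf 8)) (.leaf 10)) (.node (.node (.leaf 10) (.leaf 8)) (.leaf 12))) (.node (.node (.node (.leaf 7) (.leaf 10)) (.leaf 12)) (.node (.node (.leaf 12)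 (.leaf 7)) (.leaf 10))))) (.node (.node (.node (.node (.node (.leaf 10) (.leaf 7)) (.leaf 10)) (.node (.node (.leaf 10) (.leaf 15)) (.leaf 7))) (.node (.node (.node (.leaf 8) (.leaf 15)) (.leaf 12)) (.node (.node (.leaf 8) (.leaf 7)) (.leaf 15)))) (.node (.node (.node (.node (.leaf 12) (.leaf 10)) (.leaf 10)) (.node (.node (.leaf 7) (.leaf 12)) (.leaf 8))) (.node (.node (.node (.leaf 12) (.leaf 8)) (.leaf 15)) (.node (.node (.leaf 15) (.leaf 10)) (.leaf 12)))))) (.node (.node (.node (.node (.node (.node (.leaf 10) (.leaf 8)) (.node (.leaf 8) (.leaf 10))) (.node (.node (.leaf 10) (.leaf 12)) (.leaf 12))) (.node (.node (.node (.leaf 10) (.leaf 8)) (.leaf 8)) (.node (.node (.leaf 12) (.leaf 10)) (.leaf 8)))) (.node (.node (.node (.node (.leaf 10) (.leaf 10)) (.leaf 10)) (.node (.node (.leaf 10) (.leaf 10)) (.leaf 10))) (.node (.node (.node (.leaf 12) (.leaf 8)) (.leaf 10)) (.node (.node (.leaf 12) (.leaf 12)) (.leaf 15))))) (.node (.node (.node (.node (.node (.leaf 15) (.leaf 10)) (.leaf 12)) (.node (.node (.leaf 12) (.leaf 7))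 (.leaf 8))) (.node (.node (.node (.leaf 8) (.leaf 8)) (.leaf 10)) (.node (.node (.leaf 12) (.leaf 12)) (.leaf 8)))) (.node (.node (.node (.node (.leaf 15) (.leaf 10)) (.leaf 10)) (.node (.node (.leaf 12) (.leaf 10)) (.leaf 8))) (.node (.node (.node (.leaf 12) (.leaf 8)) (.leaf 7)) (.node (.node (.leaf 10) (.leaf 10)) (.leaf 10))))))) (.node (.node (.node (.node (.node (.node (.node (.leaf 8) (.leaf 10)) (.node (.leaf 15) (.leaf 12))) (.node (.node (.leaf 10) (.leaf 10)) (.leaf 7))) (.node (.node (.node (.leaf 15) (.leaf 8)) (.leaf 10)) (.node (.node (.leaf 10) (.leaf 10)) (.leaf 12)))) (.node (.node (.node (.node (.leaf 10) (.leaf 10)) (.leaf 7)) (.node (.node (.leaf 8) (.leaf 10)) (.leaf 10))) (.node (.node (.node (.leaf 12) (.leaf 8)) (.leaf 10)) (.node (.node (.leaf 7) (.leaf 10)) (.leaf 10))))) (.node (.node (.node (.node (.node (.leaf 10) (.leaf 7)) (.leaf 10)) (.node (.node (.leaf 15) (.leaf 12)) (.leaf 10))) (.node (.node (.node (.leaf 7) (.leaf 10)) (.leaf 7)) (.node (.node (.leaf 10) (.leaf 10)) (.leaf 8)))) (.node (.node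 (.node (.node (.leaf 10) (.leaf 12)) (.leaf 15)) (.node (.node (.leaf 12) (.leaf 8)) (.leaf 12))) (.node (.node (.node (.leaf 8) (.leaf 8)) (.leaf 12)) (.node (.node (.leaf 7) (.leaf 15)) (.leaf 8)))))) (.node (.node (.node (.node (.node (.node (.leaf 10) (.leaf 10)) (.leaf 12)) (.node (.node (.leaf 10) (.leaf 10)) (.leaf 10))) (.node (.node (.node (.leaf 15) (.leaf 10)) (.leaf 15)) (.node (.node (.leaf 10) (.leaf 8)) (.leaf 10)))) (.node (.node (.node (.node (.leaf 12) (.leaf 12)) (.leaf 12)) (.node (.node (.leaf 8) (.leaf 12)) (.leaf 15))) (.node (.node (.node (.leaf 8) (.leaf 8)) (.leaf 10)) (.node (.node (.leaf 12) (.leaf 12)) (.leaf 7))))) (.node (.node (.node (.node (.node (.leaf 8) (.leaf 8)) (.leaf 8)) (.node (.node (.leaf 12) (.leaf 15)) (.leaf 10))) (.node (.node (.node (.leaf 12) (.leaf 12)) (.leaf 10)) (.node (.node (.leaf 12) (.leaf 12)) (.leaf 10)))) (.node (.node (.node (.node (.leaf 10) (.leaf 15)) (.leaf 10)) (.node (.node (.leaf 7) (.leaf 15)) (.leaf 12))) (.node (.node (.node (.leaf 15) (.leaf 8)) (.leaf 12))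 (.node (.node (.leaf 10) (.leaf 12)) (.leaf 12)))))))))

def classPow5 : Janko.Tree (ℕ) :=
  (.node (.node (.node (.node (.node (.node (.node (.node (.node (.leaf 10) (.leaf 8)) (.node (.leaf 10) (.leaf 10))) (.node (.node (.leaf 12) (.leaf 7)) (.leaf 12))) (.node (.node (.node (.leaf 7) (.leaf 7)) (.leaf 10)) (.node (.node (.leaf 8) (.leaf 15)) (.leaf 10)))) (.node (.node (.node (.node (.leaf 12) (.leaf 8)) (.leaf 10)) (.node (.node (.leaf 10) (.leaf 7)) (.leaf 15))) (.node (.node (.node (.leaf 8) (.leaf 10)) (.leaf 15)) (.node (.node (.leaf 12) (.leaf 7)) (.leaf 10))))) (.node (.node (.node (.node (.node (.leaf 10) (.leaf 15)) (.leaf 15)) (.node (.node (.leaf 12) (.leaf 10)) (.leaf 15))) (.node (.node (.node (.leaf 10) (.leaf 15)) (.leaf 10)) (.node (.node (.leaf 10) (.leaf 10)) (.leaf 8)))) (.node (.node (.node (.node (.leaf 8) (.leaf 10)) (.leaf 12)) (.node (.node (.leaf 15) (.leaf 12)) (.leaf 8))) (.node (.node (.node (.leaf 15) (.leaf 8)) (.leaf 7)) (.node (.node (.leaf 10) (.leaf 12)) (.leaf 10)))))) (.node (.node (.node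 (.node (.node (.node (.leaf 10) (.leaf 10)) (.node (.leaf 10) (.leaf 10))) (.node (.node (.leaf 10) (.leaf 7)) (.leaf 10))) (.node (.node (.node (.leaf 10) (.leaf 10)) (.leaf 10)) (.node (.node (.leaf 10) (.leaf 10)) (.leaf 12)))) (.node (.node (.node (.node (.leaf 12) (.leaf 10)) (.leaf 10)) (.node (.node (.leaf 12) (.leaf 10)) (.leaf 15))) (.node (.node (.node (.leaf 12) (.leaf 8)) (.leaf 10)) (.node (.node (.leaf 7) (.leaf 15)) (.leaf 8))))) (.node (.node (.node (.node (.node (.leaf 10) (.leaf 8)) (.leaf 7)) (.node (.node (.leaf 8) (.leaf 10)) (.leaf 15))) (.node (.node (.node (.leaf 7) (.leaf 12)) (.leaf 8)) (.node (.node (.leaf 10) (.leaf 12)) (.leaf 10)))) (.node (.node (.node (.node (.leaf 10) (.leaf 10)) (.leaf 12)) (.node (.node (.leaf 12) (.leaf 8)) (.leaf 10))) (.node (.node (.node (.leaf 12) (.leaf 8)) (.leaf 7)) (.node (.node (.leaf 10) (.leaf 12)) (.leaf 10))))))) (.node (.node (.node (.node (.node (.node (.node (.leaf 8) (.leaf 8)) (.node (.leaf 10) (.leaf 7))) (.node (.node (.leaf 15) (.leaf 10)) (.leaf 7))) (.node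 (.node (.node (.leaf 12) (.leaf 7)) (.leaf 12)) (.node (.node (.leaf 12) (.leaf 15)) (.leaf 10)))) (.node (.node (.node (.node (.leaf 15) (.leaf 12)) (.leaf 10)) (.node (.node (.leaf 10) (.leaf 7)) (.leaf 10))) (.node (.node (.node (.leaf 10) (.leaf 7)) (.leaf 7)) (.node (.node (.leaf 12) (.leaf 12)) (.leaf 10))))) (.node (.node (.node (.node (.node (.leaf 15) (.leaf 8)) (.leaf 10)) (.node (.node (.leaf 7) (.leaf 8)) (.leaf 10))) (.node (.node (.node (.leaf 15) (.leaf 7)) (.leaf 15)) (.node (.node (.leaf 7) (.leaf 10)) (.leaf 10)))) (.node (.node (.node (.node (.leaf 8) (.leaf 7)) (.leaf 7)) (.node (.node (.leaf 12) (.leaf 10)) (.leaf 10))) (.node (.node (.node (.leaf 12) (.leaf 8)) (.leaf 15)) (.node (.node (.leaf 12) (.leaf 15)) (.leaf 12)))))) (.node (.node (.node (.node (.node (.node (.leaf 10) (.leaf 8)) (.leaf 7)) (.node (.node (.leaf 8) (.leaf 8)) (.leaf 12))) (.node (.node (.node (.leaf 10) (.leaf 10)) (.leaf 10)) (.node (.node (.leaf 12) (.leaf 15)) (.leaf 8)))) (.node (.node (.node (.node (.leaf 7) (.leaf 10)) (.leaf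 7)) (.node (.node (.leaf 10) (.leaf 12)) (.leaf 12))) (.node (.node (.node (.leaf 12) (.leaf 8)) (.leaf 8)) (.node (.node (.leaf 10) (.leaf 10)) (.leaf 10))))) (.node (.node (.node (.node (.node (.leaf 10) (.leaf 10)) (.leaf 10)) (.node (.node (.leaf 8) (.leaf 15)) (.leaf 8))) (.node (.node (.node (.leaf 10) (.leaf 8)) (.leaf 10)) (.node (.node (.leaf 10) (.leaf 12)) (.leaf 15)))) (.node (.node (.node (.node (.leaf 12) (.leaf 10)) (.leaf 12)) (.node (.node (.leaf 12) (.leaf 15)) (.leaf 12))) (.node (.node (.node (.leaf 10) (.leaf 8)) (.leaf 10)) (.node (.node (.leaf 15) (.leaf 10)) (.leaf 10)))))))) (.node (.node (.node (.node (.node (.node (.node (.node (.leaf 10) (.leaf 10)) (.node (.leaf 10) (.leaf 15))) (.node (.node (.leaf 8) (.leaf 10)) (.leaf 15))) (.node (.node (.node (.leaf 7) (.leaf 10)) (.leaf 12)) (.node (.node (.leaf 7) (.leaf 8)) (.leaf 10)))) (.node (.node (.node (.node (.leaf 15) (.leaf 12)) (.leaf 10)) (.node (.node (.leaf 8) (.leaf 7)) (.leaf 8))) (.node (.node (.node (.leaf 8) (.leaf 10)) (.leaf 12)) (.node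 (.node (.leaf 12) (.leaf 12)) (.leaf 10))))) (.node (.node (.node (.node (.node (.leaf 10) (.leaf 10)) (.leaf 10)) (.node (.node (.leaf 10) (.leaf 15)) (.leaf 10))) (.node (.node (.node (.leaf 15) (.leaf 15)) (.leaf 10)) (.node (.node (.leaf 15) (.leaf 12)) (.leaf 8)))) (.node (.node (.node (.node (.leaf 12) (.leaf 10)) (.leaf 10)) (.node (.node (.leaf 8) (.leaf 10)) (.leaf 10))) (.node (.node (.node (.leaf 8) (.leaf 8)) (.leaf 7)) (.node (.node (.leaf 10) (.leaf 15)) (.leaf 10)))))) (.node (.node (.node (.node (.node (.node (.leaf 10) (.leaf 10)) (.node (.leaf 12) (.leaf 10))) (.node (.node (.leaf 10) (.leaf 7)) (.leaf 10))) (.node (.node (.node (.leaf 10) (.leaf 10)) (.leaf 12)) (.node (.node (.leaf 12) (.leaf 8)) (.leaf 8)))) (.node (.node (.node (.node (.leaf 10) (.leaf 12)) (.leaf 10)) (.node (.node (.leaf 10) (.leaf 10)) (.leaf 10))) (.node (.node (.node (.leaf 8) (.leaf 10)) (.leaf 10)) (.node (.node (.leaf 8) (.leaf 7)) (.leaf 10))))) (.node (.node (.node (.node (.node (.leaf 7) (.leaf 10)) (.leaf 15)) (.node (.node (.leaf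 12) (.leaf 10)) (.leaf 15))) (.node (.node (.node (.leaf 7) (.leaf 12)) (.leaf 10)) (.node (.node (.leaf 10) (.leaf 10)) (.leaf 10)))) (.node (.node (.node (.node (.leaf 12) (.leaf 10)) (.leaf 15)) (.node (.node (.leaf 12) (.leaf 10)) (.leaf 8))) (.node (.node (.node (.leaf 10) (.leaf 8)) (.leaf 12)) (.node (.node (.leaf 10) (.leaf 12)) (.leaf 10))))))) (.node (.node (.node (.node (.node (.node (.node (.leaf 8) (.leaf 8)) (.node (.leaf 10) (.leaf 15))) (.node (.node (.leaf 12) (.leaf 8)) (.leaf 8))) (.node (.node (.node (.leaf 12) (.leaf 10)) (.leaf 15)) (.node (.node (.leaf 12) (.leaf 10)) (.leaf 12)))) (.node (.node (.node (.node (.leaf 8) (.leaf 8)) (.leaf 8)) (.node (.node (.leaf 12) (.leaf 12)) (.leaf 10))) (.node (.node (.node (.leaf 10) (.leaf 12)) (.leaf 10)) (.node (.node (.leaf 7) (.leaf 12)) (.leaf 8))))) (.node (.node (.node (.node (.node (.leaf 10) (.leaf 15)) (.leaf 12)) (.node (.node (.leaf 10) (.leaf 10)) (.leaf 8))) (.node (.node (.node (.leaf 8) (.leaf 12)) (.leaf 10)) (.node (.node (.leaf 8) (.leaf 12)) (.leaf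 10)))) (.node (.node (.node (.node (.leaf 15) (.leaf 10)) (.leaf 12)) (.node (.node (.leaf 8) (.leaf 8)) (.leaf 10))) (.node (.node (.node (.leaf 15) (.leaf 8)) (.leaf 12)) (.node (.node (.leaf 7) (.leaf 15)) (.leaf 15)))))) (.node (.node (.node (.node (.node (.node (.leaf 10) (.leaf 8)) (.leaf 7)) (.node (.node (.leaf 12) (.leaf 12)) (.leaf 15))) (.node (.node (.node (.leaf 10) (.leaf 15)) (.leaf 12)) (.node (.node (.leaf 7) (.leaf 10)) (.leaf 8)))) (.node (.node (.node (.node (.leaf 7) (.leaf 12)) (.leaf 15)) (.node (.node (.leaf 15) (.leaf 12)) (.leaf 15))) (.node (.node (.node (.leaf 7) (.leaf 8)) (.leaf 10)) (.node (.node (.leaf 12) (.leaf 10)) (.leaf 12))))) (.node (.node (.node (.node (.node (.leaf 15) (.leaf 7)) (.leaf 10)) (.node (.node (.leaf 8) (.leaf 10)) (.leaf 7))) (.node (.node (.node (.leaf 10) (.leaf 12)) (.leaf 15)) (.node (.node (.leaf 10) (.leaf 10)) (.leaf 10)))) (.node (.node (.node (.node (.leaf 10) (.leaf 7)) (.leaf 15)) (.node (.node (.leaf 12) (.leaf 12)) (.leaf 12))) (.node (.node (.node (.leaf 8) (.leaf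 8)) (.leaf 12)) (.node (.node (.leaf 10) (.leaf 10)) (.leaf 10)))))))))

def classPow6 : Janko.Tree (ℕ) :=
  (.node (.node (.node (.node (.node (.node (.node (.node (.node (.leaf 10) (.leaf 10)) (.node (.leaf 10) (.leaf 7))) (.node (.node (.leaf 15) (.leaf 10)) (.leaf 12))) (.node (.node (.node (.leaf 7) (.leaf 10)) (.leaf 10)) (.node (.node (.leaf 10) (.leaf 10)) (.leaf 10)))) (.node (.node (.node (.node (.leaf 10) (.leaf 12)) (.leaf 10)) (.node (.node (.leaf 10) (.leaf 10)) (.leaf 10))) (.node (.node (.node (.leaf 8) (.leaf 10)) (.leaf 10)) (.node (.node (.leaf 12) (.leaf 15)) (.leaf 10))))) (.node (.node (.node (.node (.node (.leaf 10) (.leaf 10)) (.leaf 10)) (.node (.node (.leaf 8) (.leaf 10)) (.leaf 12))) (.node (.node (.node (.leaf 10) (.leaf 10)) (.leaf 15)) (.node (.node (.leaf 12) (.leaf 10)) (.leaf 12)))) (.node (.node (.node (.node (.leaf 12) (.leaf 10)) (.leaf 7)) (.node (.node (.leaf 10) (.leaf 12)) (.leaf 15))) (.node (.node (.node (.leaf 7) (.leaf 8)) (.leaf 12)) (.node (.node (.leaf 10) (.leaf 12)) (.leaf 10))))))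 (.node (.node (.node (.node (.node (.node (.leaf 10) (.leaf 10)) (.node (.leaf 7) (.leaf 10))) (.node (.node (.leaf 12) (.leaf 10)) (.leaf 7))) (.node (.node (.node (.leaf 7) (.leaf 12)) (.leaf 15)) (.node (.node (.leaf 12) (.leaf 7)) (.leaf 12)))) (.node (.node (.node (.node (.leaf 10) (.leaf 8)) (.leaf 10)) (.node (.node (.leaf 15) (.leaf 10)) (.leaf 7))) (.node (.node (.node (.leaf 7) (.leaf 12)) (.leaf 7)) (.node (.node (.leaf 12) (.leaf 7)) (.leaf 15))))) (.node (.node (.node (.node (.node (.leaf 10) (.leaf 12)) (.leaf 15)) (.node (.node (.leaf 7) (.leaf 10)) (.leaf 8))) (.node (.node (.node (.leaf 12) (.leaf 10)) (.leaf 8)) (.node (.node (.leaf 8) (.leaf 15)) (.leaf 15)))) (.node (.node (.node (.node (.leaf 10) (.leaf 12)) (.leaf 7)) (.node (.node (.leaf 12) (.leaf 8)) (.leaf 10))) (.node (.node (.node (.leaf 10) (.leaf 8)) (.leaf 15)) (.node (.node (.leaf 10) (.leaf 8)) (.leaf 10))))))) (.node (.node (.node (.node (.node (.node (.node (.leaf 8) (.leaf 10)) (.node (.leaf 15) (.leaf 8))) (.node (.node (.leaf 8) (.leaf 10))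 (.leaf 15))) (.node (.node (.node (.leaf 8) (.leaf 10)) (.leaf 7)) (.node (.node (.leaf 10) (.leaf 8)) (.leaf 10)))) (.node (.node (.node (.node (.leaf 12) (.leaf 12)) (.leaf 10)) (.node (.node (.leaf 7) (.leaf 8)) (.leaf 10))) (.node (.node (.node (.leaf 10) (.leaf 10)) (.leaf 12)) (.node (.node (.leaf 7) (.leaf 15)) (.leaf 8))))) (.node (.node (.node (.node (.node (.leaf 10) (.leaf 12)) (.leaf 8)) (.node (.node (.leaf 10) (.leaf 12)) (.leaf 12))) (.node (.node (.node (.leaf 8) (.leaf 12)) (.leaf 15)) (.node (.node (.leaf 15) (.leaf 10)) (.leaf 10)))) (.node (.node (.node (.node (.leaf 10) (.leaf 7)) (.leaf 10)) (.node (.node (.leaf 12) (.leaf 10)) (.leaf 10))) (.node (.node (.node (.leaf 12) (.leaf 8)) (.leaf 12)) (.node (.node (.leaf 15) (.leaf 10)) (.leaf 10)))))) (.node (.node (.node (.node (.node (.node (.leaf 10) (.leaf 7)) (.leaf 7)) (.node (.node (.leaf 7) (.leaf 15)) (.leaf 12))) (.node (.node (.node (.leaf 15) (.leaf 10)) (.leaf 7)) (.node (.node (.leaf 12) (.leaf 7)) (.leaf 10)))) (.node (.node (.node (.node (.leaf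 12) (.leaf 12)) (.leaf 7)) (.node (.node (.leaf 12) (.leaf 12)) (.leaf 12))) (.node (.node (.node (.leaf 15) (.leaf 8)) (.leaf 10)) (.node (.node (.leaf 12) (.leaf 12)) (.leaf 12))))) (.node (.node (.node (.node (.node (.leaf 10) (.leaf 12)) (.leaf 12)) (.node (.node (.leaf 10) (.leaf 10)) (.leaf 10))) (.node (.node (.node (.leaf 10) (.leaf 12)) (.leaf 10)) (.node (.node (.leaf 12) (.leaf 12)) (.leaf 12)))) (.node (.node (.node (.node (.leaf 10) (.leaf 10)) (.leaf 7)) (.node (.node (.leaf 7) (.leaf 8)) (.leaf 12))) (.node (.node (.node (.leaf 10) (.leaf 8)) (.leaf 15)) (.node (.node (.leaf 7) (.leaf 8)) (.leaf 7)))))))) (.node (.node (.node (.node (.node (.node (.node (.node (.leaf 10) (.leaf 10)) (.node (.leaf 10) (.leaf 7))) (.node (.node (.leaf 10) (.leaf 10)) (.leaf 10))) (.node (.node (.node (.leaf 7) (.leaf 10)) (.leaf 7)) (.node (.node (.leaf 10) (.leaf 12)) (.leaf 10)))) (.node (.node (.node (.node (.leaf 12) (.leaf 8)) (.leaf 12)) (.node (.node (.leaf 8) (.leaf 8)) (.leaf 12))) (.node (.node (.node (.leaf 8) (.leaf 10))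 (.leaf 10)) (.node (.node (.leaf 12) (.leaf 10)) (.leaf 12))))) (.node (.node (.node (.node (.node (.leaf 10) (.leaf 15)) (.leaf 12)) (.node (.node (.leaf 10) (.leaf 10)) (.leaf 7))) (.node (.node (.node (.leaf 10) (.leaf 8)) (.leaf 10)) (.node (.node (.leaf 10) (.leaf 12)) (.leaf 7)))) (.node (.node (.node (.node (.leaf 12) (.leaf 10)) (.leaf 8)) (.node (.node (.leaf 8) (.leaf 10)) (.leaf 7))) (.node (.node (.node (.leaf 10) (.leaf 8)) (.leaf 12)) (.node (.node (.leaf 10) (.leaf 12)) (.leaf 12)))))) (.node (.node (.node (.node (.node (.node (.leaf 10) (.leaf 10)) (.node (.leaf 10) (.leaf 10))) (.node (.node (.leaf 7) (.leaf 10)) (.leaf 12))) (.node (.node (.node (.leaf 7) (.leaf 10)) (.leaf 12)) (.node (.node (.leaf 12) (.leaf 10)) (.leaf 8)))) (.node (.node (.node (.node (.leaf 10) (.leaf 12)) (.leaf 7)) (.node (.node (.leaf 8) (.leaf 10)) (.leaf 15))) (.node (.node (.node (.leaf 12) (.leaf 12)) (.leaf 10)) (.node (.node (.leaf 12) (.leaf 10)) (.leaf 12))))) (.node (.node (.node (.node (.node (.leaf 7) (.leaf 10)) (.leaf 15))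 (.node (.node (.leaf 8) (.leaf 7)) (.leaf 10))) (.node (.node (.node (.leaf 7) (.leaf 10)) (.leaf 7)) (.node (.node (.leaf 15) (.leaf 15)) (.leaf 10)))) (.node (.node (.node (.node (.leaf 12) (.leaf 8)) (.leaf 8)) (.node (.node (.leaf 12) (.leaf 10)) (.leaf 8))) (.node (.node (.node (.leaf 15) (.leaf 8)) (.leaf 12)) (.node (.node (.leaf 7) (.leaf 7)) (.leaf 10))))))) (.node (.node (.node (.node (.node (.node (.node (.leaf 8) (.leaf 12)) (.node (.leaf 10) (.leaf 8))) (.node (.node (.leaf 15) (.leaf 10)) (.leaf 8))) (.node (.node (.node (.leaf 12) (.leaf 15)) (.leaf 10)) (.node (.node (.leaf 8) (.leaf 8)) (.leaf 12)))) (.node (.node (.node (.node (.leaf 10) (.leaf 12)) (.leaf 15)) (.node (.node (.leaf 10) (.leaf 12)) (.leaf 10))) (.node (.node (.node (.leaf 10) (.leaf 12)) (.leaf 10)) (.node (.node (.leaf 8) (.leaf 15)) (.leaf 12))))) (.node (.node (.node (.node (.node (.leaf 15) (.leaf 8)) (.leaf 12)) (.node (.node (.leaf 10) (.leaf 12)) (.leaf 12))) (.node (.node (.node (.leaf 15) (.leaf 8)) (.leaf 10)) (.node (.node (.leaf 15)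 (.leaf 12)) (.leaf 8)))) (.node (.node (.node (.node (.leaf 12) (.leaf 8)) (.leaf 7)) (.node (.node (.leaf 7) (.leaf 8)) (.leaf 12))) (.node (.node (.node (.leaf 12) (.leaf 8)) (.leaf 8)) (.node (.node (.leaf 10) (.leaf 15)) (.leaf 10)))))) (.node (.node (.node (.node (.node (.node (.leaf 10) (.leaf 12)) (.leaf 12)) (.node (.node (.leaf 7) (.leaf 10)) (.leaf 8))) (.node (.node (.node (.leaf 15) (.leaf 15)) (.leaf 12)) (.node (.node (.leaf 10) (.leaf 10)) (.leaf 7)))) (.node (.node (.node (.node (.leaf 7) (.leaf 12)) (.leaf 15)) (.node (.node (.leaf 10) (.leaf 12)) (.leaf 10))) (.node (.node (.node (.leaf 12) (.leaf 8)) (.leaf 10)) (.node (.node (.leaf 10) (.leaf 15)) (.leaf 10))))) (.node (.node (.node (.node (.node (.leaf 12) (.leaf 7)) (.leaf 8)) (.node (.node (.leaf 10) (.leaf 7)) (.leaf 10))) (.node (.node (.node (.leaf 12) (.leaf 10)) (.leaf 15)) (.node (.node (.leaf 8) (.leaf 10)) (.leaf 8)))) (.node (.node (.node (.node (.leaf 10) (.leaf 15)) (.leaf 15)) (.node (.node (.leaf 10) (.leaf 8)) (.leaf 12))) (.node (.node (.node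 (.leaf 8) (.leaf 8)) (.leaf 10)) (.node (.node (.leaf 8) (.leaf 10)) (.leaf 12)))))))))

def classPow7 : Janko.Tree (ℕ) :=
  (.node (.node (.node (.node (.node (.node (.node (.node (.node (.leaf 10) (.leaf 15)) (.node (.leaf 10) (.leaf 10))) (.node (.node (.leaf 8) (.leaf 8)) (.leaf 12))) (.node (.node (.node (.leaf 12) (.leaf 10)) (.leaf 7)) (.node (.node (.leaf 7) (.leaf 10)) (.leaf 10)))) (.node (.node (.node (.node (.leaf 7) (.leaf 12)) (.leaf 12)) (.node (.node (.leaf 7) (.leaf 7)) (.leaf 10))) (.node (.node (.node (.leaf 12) (.leaf 7)) (.leaf 15)) (.node (.node (.leaf 12) (.leaf 10)) (.leaf 10))))) (.node (.node (.node (.node (.node (.leaf 10) (.leaf 7)) (.leaf 10)) (.node (.node (.leaf 10) (.leaf 10)) (.leaf 10))) (.node (.node (.node (.leaf 10) (.leaf 15)) (.leaf 7)) (.node (.node (.leaf 8) (.leaf 12)) (.leaf 10)))) (.node (.node (.node (.node (.leaf 7) (.leaf 12)) (.leaf 15)) (.node (.node (.leaf 15) (.leaf 12)) (.leaf 15))) (.node (.node (.node (.leaf 10) (.leaf 8)) (.leaf 10)) (.node (.node (.leaf 15) (.leaf 10)) (.leaf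 7)))))) (.node (.node (.node (.node (.node (.node (.leaf 10) (.leaf 8)) (.node (.leaf 7) (.leaf 10))) (.node (.node (.leaf 10) (.leaf 8)) (.leaf 8))) (.node (.node (.node (.leaf 10) (.leaf 10)) (.leaf 12)) (.node (.node (.leaf 10) (.leaf 15)) (.leaf 12)))) (.node (.node (.node (.node (.leaf 7) (.leaf 12)) (.leaf 8)) (.node (.node (.leaf 10) (.leaf 8)) (.leaf 12))) (.node (.node (.node (.leaf 12) (.leaf 8)) (.leaf 7)) (.node (.node (.leaf 10) (.leaf 10)) (.leaf 15))))) (.node (.node (.node (.node (.node (.leaf 12) (.leaf 10)) (.leaf 15)) (.node (.node (.leaf 12) (.leaf 12)) (.leaf 12))) (.node (.node (.node (.leaf 8) (.leaf 7)) (.leaf 15)) (.node (.node (.leaf 8) (.leaf 15)) (.leaf 10)))) (.node (.node (.node (.node (.leaf 12) (.leaf 10)) (.leaf 10)) (.node (.node (.leaf 12) (.leaf 8)) (.leaf 12))) (.node (.node (.node (.leaf 15) (.leaf 8)) (.leaf 12)) (.node (.node (.leaf 10) (.leaf 7)) (.leaf 7))))))) (.node (.node (.node (.node (.node (.node (.node (.leaf 8) (.leaf 15)) (.node (.leaf 10) (.leaf 7))) (.node (.node (.leaf 7)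 (.leaf 10)) (.leaf 15))) (.node (.node (.node (.leaf 15) (.leaf 15)) (.leaf 7)) (.node (.node (.leaf 12) (.leaf 8)) (.leaf 10)))) (.node (.node (.node (.node (.leaf 10) (.leaf 7)) (.leaf 10)) (.node (.node (.leaf 7) (.leaf 8)) (.leaf 8))) (.node (.node (.node (.leaf 12) (.leaf 10)) (.leaf 10)) (.node (.node (.leaf 12) (.leaf 10)) (.leaf 7))))) (.node (.node (.node (.node (.node (.leaf 8) (.leaf 7)) (.leaf 12)) (.node (.node (.leaf 12) (.leaf 15)) (.leaf 8))) (.node (.node (.node (.leaf 8) (.leaf 7)) (.leaf 12)) (.node (.node (.leaf 12) (.leaf 10)) (.leaf 10)))) (.node (.node (.node (.node (.leaf 10) (.leaf 7)) (.leaf 7)) (.node (.node (.leaf 7) (.leaf 10)) (.leaf 8))) (.node (.node (.node (.leaf 7) (.leaf 8)) (.leaf 8)) (.node (.node (.leaf 15) (.leaf 12)) (.leaf 10)))))) (.node (.node (.node (.node (.node (.node (.leaf 10) (.leaf 8)) (.leaf 12)) (.node (.node (.leaf 7) (.leaf 10)) (.leaf 8))) (.node (.node (.node (.leaf 10) (.leaf 7)) (.leaf 8)) (.node (.node (.leaf 12) (.leaf 12)) (.leaf 10)))) (.node (.node (.node (.node (.leaf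 8) (.leaf 12)) (.leaf 15)) (.node (.node (.leaf 10) (.leaf 12)) (.leaf 10))) (.node (.node (.node (.leaf 12) (.leaf 8)) (.leaf 10)) (.node (.node (.leaf 12) (.leaf 10)) (.leaf 12))))) (.node (.node (.node (.node (.node (.leaf 7) (.leaf 7)) (.leaf 10)) (.node (.node (.leaf 7) (.leaf 12)) (.leaf 12))) (.node (.node (.node (.leaf 12) (.leaf 12)) (.leaf 12)) (.node (.node (.leaf 12) (.leaf 10)) (.leaf 8)))) (.node (.node (.node (.node (.leaf 12) (.leaf 10)) (.leaf 15)) (.node (.node (.leaf 12) (.leaf 8)) (.leaf 12))) (.node (.node (.node (.leaf 12) (.leaf 8)) (.leaf 12)) (.node (.node (.leaf 15) (.leaf 7)) (.leaf 12)))))))) (.node (.node (.node (.node (.node (.node (.node (.node (.leaf 10) (.leaf 10)) (.node (.leaf 8) (.leaf 10))) (.node (.node (.leaf 7) (.leaf 15)) (.leaf 12))) (.node (.node (.node (.leaf 15) (.leaf 10)) (.leaf 12)) (.node (.node (.leaf 10) (.leaf 10)) (.leaf 10)))) (.node (.node (.node (.node (.leaf 8) (.leaf 10)) (.leaf 12)) (.node (.node (.leaf 7) (.leaf 12)) (.leaf 10))) (.node (.node (.node (.leaf 15) (.leaf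 10)) (.leaf 8)) (.node (.node (.leaf 10) (.leaf 10)) (.leaf 8))))) (.node (.node (.node (.node (.node (.leaf 10) (.leaf 7)) (.leaf 10)) (.node (.node (.leaf 10) (.leaf 15)) (.leaf 10))) (.node (.node (.node (.leaf 7) (.leaf 10)) (.leaf 15)) (.node (.node (.leaf 12) (.leaf 15)) (.leaf 10)))) (.node (.node (.node (.node (.leaf 12) (.leaf 10)) (.leaf 10)) (.node (.node (.leaf 15) (.leaf 10)) (.leaf 10))) (.node (.node (.node (.leaf 10) (.leaf 8)) (.leaf 10)) (.node (.node (.leaf 8) (.leaf 10)) (.leaf 12)))))) (.node (.node (.node (.node (.node (.node (.leaf 10) (.leaf 8)) (.node (.leaf 12) (.leaf 12))) (.node (.node (.leaf 12) (.leaf 15)) (.leaf 12))) (.node (.node (.node (.leaf 15) (.leaf 7)) (.leaf 15)) (.node (.node (.leaf 15) (.leaf 7)) (.leaf 8)))) (.node (.node (.node (.node (.leaf 15) (.leaf 10)) (.leaf 12)) (.node (.node (.leaf 15) (.leaf 10)) (.leaf 12))) (.node (.node (.node (.leaf 15) (.leaf 12)) (.leaf 10)) (.node (.node (.leaf 12) (.leaf 12)) (.leaf 12))))) (.node (.node (.node (.node (.node (.leaf 12) (.leaf 12)) (.leaf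 10)) (.node (.node (.leaf 10) (.leaf 12)) (.leaf 7))) (.node (.node (.node (.leaf 12) (.leaf 8)) (.leaf 15)) (.node (.node (.leaf 10) (.leaf 7)) (.leaf 10)))) (.node (.node (.node (.node (.leaf 12) (.leaf 7)) (.leaf 7)) (.node (.node (.leaf 7) (.leaf 10)) (.leaf 8))) (.node (.node (.node (.leaf 10) (.leaf 8)) (.leaf 7)) (.node (.node (.leaf 10) (.leaf 10)) (.leaf 12))))))) (.node (.node (.node (.node (.node (.node (.node (.leaf 10) (.leaf 12)) (.node (.leaf 15) (.leaf 10))) (.node (.node (.leaf 10) (.leaf 7)) (.leaf 15))) (.node (.node (.node (.leaf 10) (.leaf 10)) (.leaf 10)) (.node (.node (.leaf 7) (.leaf 15)) (.leaf 12)))) (.node (.node (.node (.node (.leaf 12) (.leaf 10)) (.leaf 7)) (.node (.node (.leaf 10) (.leaf 10)) (.leaf 8))) (.node (.node (.node (.leaf 12) (.leaf 8)) (.leaf 10)) (.node (.node (.leaf 10) (.leaf 15)) (.leaf 10))))) (.node (.node (.node (.node (.node (.leaf 15) (.leaf 8)) (.leaf 10)) (.node (.node (.leaf 12) (.leaf 15)) (.leaf 12))) (.node (.node (.node (.leaf 7) (.leaf 10)) (.leaf 10)) (.node (.node (.leaf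 15) (.leaf 15)) (.leaf 10)))) (.node (.node (.node (.node (.leaf 15) (.leaf 7)) (.leaf 7)) (.node (.node (.leaf 7) (.leaf 8)) (.leaf 15))) (.node (.node (.node (.leaf 10) (.leaf 8)) (.leaf 7)) (.node (.node (.leaf 10) (.leaf 15)) (.leaf 10)))))) (.node (.node (.node (.node (.node (.node (.leaf 10) (.leaf 10)) (.leaf 10)) (.node (.node (.leaf 12) (.leaf 12)) (.leaf 10))) (.node (.node (.node (.leaf 10) (.leaf 15)) (.leaf 10)) (.node (.node (.leaf 12) (.leaf 8)) (.leaf 15)))) (.node (.node (.node (.node (.leaf 12) (.leaf 8)) (.leaf 10)) (.node (.node (.leaf 15) (.leaf 12)) (.leaf 10))) (.node (.node (.node (.leaf 12) (.leaf 8)) (.leaf 15)) (.node (.node (.leaf 8) (.leaf 15)) (.leaf 7))))) (.node (.node (.node (.node (.node (.leaf 8) (.leaf 10)) (.leaf 15)) (.node (.node (.leaf 10) (.leaf 7)) (.leaf 15))) (.node (.node (.node (.leaf 10) (.leaf 15)) (.leaf 7)) (.node (.node (.leaf 7) (.leaf 10)) (.leaf 7)))) (.node (.node (.node (.node (.leaf 8) (.leaf 12)) (.leaf 15)) (.node (.node (.leaf 7) (.leaf 15)) (.leaf 10))) (.node (.node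 (.node (.leaf 12) (.leaf 8)) (.leaf 7)) (.node (.node (.leaf 10) (.leaf 10)) (.leaf 15)))))))))

def classPow8 : Janko.Tree (ℕ) :=
  (.node (.node (.node (.node (.node (.node (.node (.node (.node (.leaf 10) (.leaf 8)) (.node (.leaf 8) (.leaf 10))) (.node (.node (.leaf 15) (.leaf 10)) (.leaf 7))) (.node (.node (.node (.leaf 8) (.leaf 10)) (.leaf 8)) (.node (.node (.leaf 12) (.leaf 8)) (.leaf 10)))) (.node (.node (.node (.node (.leaf 12) (.leaf 8)) (.leaf 10)) (.node (.node (.leaf 10) (.leaf 10)) (.leaf 10))) (.node (.node (.node (.leaf 12) (.leaf 12)) (.leaf 10)) (.node (.node (.leaf 12) (.leaf 10)) (.leaf 12))))) (.node (.node (.node (.node (.node (.leaf 10) (.leaf 15)) (.leaf 7)) (.node (.node (.leaf 12) (.leaf 10)) (.leaf 15))) (.node (.node (.node (.leaf 8) (.leaf 10)) (.leaf 15)) (.node (.node (.leaf 8) (.leaf 10)) (.leaf 8)))) (.node (.node (.node (.node (.leaf 12) (.leaf 10)) (.leaf 8)) (.node (.node (.leaf 15) (.leaf 12)) (.leaf 8))) (.node (.node (.node (.leaf 12) (.leaf 8)) (.leaf 12)) (.node (.node (.leaf 10) (.leaf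 7)) (.leaf 12)))))) (.node (.node (.node (.node (.node (.node (.leaf 10) (.leaf 10)) (.node (.leaf 12) (.leaf 12))) (.node (.node (.leaf 15) (.leaf 10)) (.leaf 8))) (.node (.node (.node (.leaf 10) (.leaf 8)) (.leaf 12)) (.node (.node (.leaf 12) (.leaf 8)) (.leaf 12)))) (.node (.node (.node (.node (.leaf 15) (.leaf 10)) (.leaf 8)) (.node (.node (.leaf 15) (.leaf 8)) (.leaf 10))) (.node (.node (.node (.leaf 12) (.leaf 15)) (.leaf 7)) (.node (.node (.leaf 7) (.leaf 12)) (.leaf 12))))) (.node (.node (.node (.node (.node (.leaf 8) (.leaf 12)) (.leaf 8)) (.node (.node (.leaf 8) (.leaf 12)) (.leaf 10))) (.node (.node (.node (.leaf 7) (.leaf 7)) (.leaf 8)) (.node (.node (.leaf 12) (.leaf 12)) (.leaf 10)))) (.node (.node (.node (.node (.leaf 15) (.leaf 10)) (.leaf 10)) (.node (.node (.leaf 12) (.leaf 8)) (.leaf 12))) (.node (.node (.node (.leaf 7) (.leaf 8)) (.leaf 12)) (.node (.node (.leaf 10) (.leaf 7)) (.leaf 12))))))) (.node (.node (.node (.node (.node (.node (.node (.leaf 8) (.leaf 7)) (.node (.leaf 15) (.leaf 12))) (.node (.node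 (.leaf 12) (.leaf 15)) (.leaf 12))) (.node (.node (.node (.leaf 10) (.leaf 10)) (.leaf 12)) (.node (.node (.leaf 12) (.leaf 12)) (.leaf 10)))) (.node (.node (.node (.node (.leaf 7) (.leaf 12)) (.leaf 12)) (.node (.node (.leaf 12) (.leaf 7)) (.leaf 12))) (.node (.node (.node (.leaf 7) (.leaf 10)) (.leaf 10)) (.node (.node (.leaf 10) (.leaf 10)) (.leaf 12))))) (.node (.node (.node (.node (.node (.leaf 10) (.leaf 7)) (.leaf 10)) (.node (.node (.leaf 10) (.leaf 10)) (.leaf 7))) (.node (.node (.node (.leaf 8) (.leaf 10)) (.leaf 10)) (.node (.node (.leaf 15) (.leaf 10)) (.leaf 8)))) (.node (.node (.node (.node (.leaf 10) (.leaf 12)) (.leaf 8)) (.node (.node (.leaf 12) (.leaf 10)) (.leaf 10))) (.node (.node (.node (.leaf 15) (.leaf 8)) (.leaf 15)) (.node (.node (.leaf 12) (.leaf 12)) (.leaf 10)))))) (.node (.node (.node (.node (.node (.node (.leaf 10) (.leaf 8)) (.leaf 7)) (.node (.node (.leaf 8) (.leaf 10)) (.leaf 15))) (.node (.node (.node (.leaf 10) (.leaf 12)) (.leaf 12)) (.node (.node (.leaf 7) (.leaf 8)) (.leaf 10)))) (.node (.node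 (.node (.node (.leaf 12) (.leaf 12)) (.leaf 10)) (.node (.node (.leaf 7) (.leaf 12)) (.leaf 10))) (.node (.node (.node (.leaf 8) (.leaf 8)) (.leaf 12)) (.node (.node (.leaf 7) (.leaf 7)) (.leaf 10))))) (.node (.node (.node (.node (.node (.leaf 7) (.leaf 12)) (.leaf 12)) (.node (.node (.leaf 7) (.leaf 15)) (.leaf 7))) (.node (.node (.node (.leaf 15) (.leaf 7)) (.leaf 15)) (.node (.node (.leaf 10) (.leaf 15)) (.leaf 7)))) (.node (.node (.node (.node (.leaf 15) (.leaf 10)) (.leaf 10)) (.node (.node (.leaf 12) (.leaf 8)) (.leaf 12))) (.node (.node (.node (.leaf 8) (.leaf 8)) (.leaf 10)) (.node (.node (.leaf 12) (.leaf 12)) (.leaf 10)))))))) (.node (.node (.node (.node (.node (.node (.node (.node (.leaf 10) (.leaf 10)) (.node (.leaf 15) (.leaf 10))) (.node (.node (.leaf 12) (.leaf 10)) (.leaf 15))) (.node (.node (.node (.leaf 12) (.leaf 10)) (.leaf 12)) (.node (.node (.leaf 12) (.leaf 10)) (.leaf 10)))) (.node (.node (.node (.node (.leaf 10) (.leaf 12)) (.leaf 10)) (.node (.node (.leaf 7) (.leaf 8)) (.leaf 12))) (.node (.node (.node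 (.leaf 10) (.leaf 7)) (.leaf 7)) (.node (.node (.leaf 8) (.leaf 10)) (.leaf 10))))) (.node (.node (.node (.node (.node (.leaf 10) (.leaf 8)) (.leaf 10)) (.node (.node (.leaf 10) (.leaf 15)) (.leaf 7))) (.node (.node (.node (.leaf 10) (.leaf 10)) (.leaf 10)) (.node (.node (.leaf 10) (.leaf 15)) (.leaf 10)))) (.node (.node (.node (.node (.leaf 7) (.leaf 10)) (.leaf 10)) (.node (.node (.leaf 15) (.leaf 10)) (.leaf 15))) (.node (.node (.node (.leaf 10) (.leaf 8)) (.leaf 8)) (.node (.node (.leaf 10) (.leaf 12)) (.leaf 10)))))) (.node (.node (.node (.node (.node (.node (.leaf 10) (.leaf 8)) (.node (.leaf 15) (.leaf 7))) (.node (.node (.leaf 10) (.leaf 10)) (.leaf 10))) (.node (.node (.node (.leaf 10) (.leaf 10)) (.leaf 8)) (.node (.node (.leaf 10) (.leaf 10)) (.leaf 8)))) (.node (.node (.node (.node (.leaf 8) (.leaf 8)) (.leaf 10)) (.node (.node (.leaf 7) (.leaf 10)) (.leaf 15))) (.node (.node (.node (.leaf 10) (.leaf 10)) (.leaf 10)) (.node (.node (.leaf 12) (.leaf 15)) (.leaf 15))))) (.node (.node (.node (.node (.node (.leaf 10)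 (.leaf 12)) (.leaf 10)) (.node (.node (.leaf 12) (.leaf 10)) (.leaf 10))) (.node (.node (.node (.leaf 8) (.leaf 10)) (.leaf 10)) (.node (.node (.leaf 15) (.leaf 7)) (.leaf 10)))) (.node (.node (.node (.node (.leaf 12) (.leaf 15)) (.leaf 15)) (.node (.node (.leaf 10) (.leaf 10)) (.leaf 8))) (.node (.node (.node (.leaf 7) (.leaf 8)) (.leaf 7)) (.node (.node (.leaf 12) (.leaf 10)) (.leaf 7))))))) (.node (.node (.node (.node (.node (.node (.node (.leaf 10) (.leaf 10)) (.node (.leaf 15) (.leaf 10))) (.node (.node (.leaf 10) (.leaf 10)) (.leaf 10))) (.node (.node (.node (.leaf 10) (.leaf 12)) (.leaf 15)) (.node (.node (.leaf 12) (.leaf 8)) (.leaf 12)))) (.node (.node (.node (.node (.leaf 10) (.leaf 7)) (.leaf 10)) (.node (.node (.leaf 15) (.leaf 8)) (.leaf 8))) (.node (.node (.node (.leaf 12) (.leaf 10)) (.leaf 12)) (.node (.node (.leaf 7) (.leaf 15)) (.leaf 15))))) (.node (.node (.node (.node (.node (.leaf 15) (.leaf 12)) (.leaf 10)) (.node (.node (.leaf 8) (.leaf 10)) (.leaf 8))) (.node (.node (.node (.leaf 15) (.leaf 15)) (.leaf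 8)) (.node (.node (.leaf 8) (.leaf 15)) (.leaf 10)))) (.node (.node (.node (.node (.leaf 10) (.leaf 10)) (.leaf 7)) (.node (.node (.leaf 10) (.leaf 8)) (.leaf 8))) (.node (.node (.node (.leaf 8) (.leaf 8)) (.leaf 10)) (.node (.node (.leaf 8) (.leaf 8)) (.leaf 8)))))) (.node (.node (.node (.node (.node (.node (.leaf 10) (.leaf 10)) (.leaf 7)) (.node (.node (.leaf 7) (.leaf 10)) (.leaf 12))) (.node (.node (.node (.leaf 10) (.leaf 10)) (.leaf 12)) (.node (.node (.leaf 12) (.leaf 10)) (.leaf 10)))) (.node (.node (.node (.node (.leaf 10) (.leaf 8)) (.leaf 15)) (.node (.node (.leaf 15) (.leaf 12)) (.leaf 8))) (.node (.node (.node (.leaf 10) (.leaf 8)) (.leaf 7)) (.node (.node (.leaf 10) (.leaf 12)) (.leaf 15))))) (.node (.node (.node (.node (.node (.leaf 12) (.leaf 10)) (.leaf 12)) (.node (.node (.leaf 10) (.leaf 12)) (.leaf 12))) (.node (.node (.node (.leaf 8) (.leaf 7)) (.leaf 7)) (.node (.node (.leaf 12) (.leaf 12)) (.leaf 8)))) (.node (.node (.node (.node (.leaf 10) (.leaf 10)) (.leaf 12)) (.node (.node (.leaf 8) (.leaf 7)) (.leaf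 10))) (.node (.node (.node (.leaf 12) (.leaf 8)) (.leaf 10)) (.node (.node (.leaf 10) (.leaf 10)) (.leaf 12)))))))))

def classPow9 : Janko.Tree (ℕ) :=
  (.node (.node (.node (.node (.node (.node (.node (.node (.node (.leaf 10) (.leaf 10)) (.node (.leaf 12) (.leaf 7))) (.node (.node (.leaf 10) (.leaf 8)) (.leaf 15))) (.node (.node (.node (.leaf 12) (.leaf 8)) (.leaf 10)) (.node (.node (.leaf 12) (.leaf 8)) (.leaf 10)))) (.node (.node (.node (.node (.leaf 10) (.leaf 8)) (.leaf 12)) (.node (.node (.leaf 10) (.leaf 12)) (.leaf 12))) (.node (.node (.node (.leaf 10) (.leaf 10)) (.leaf 7)) (.node (.node (.leaf 12) (.leaf 10)) (.leaf 10))))) (.node (.node (.node (.node (.node (.leaf 10) (.leaf 8)) (.leaf 15)) (.node (.node (.leaf 12) (.leaf 7)) (.leaf 7))) (.node (.node (.node (.leaf 10) (.leaf 10)) (.leaf 7)) (.node (.node (.leaf 8) (.leaf 10)) (.leaf 10)))) (.node (.node (.node (.node (.leaf 8) (.leaf 10)) (.leaf 7)) (.node (.node (.leaf 8) (.leaf 12)) (.leaf 12))) (.node (.node (.node (.leaf 15) (.leaf 8)) (.leaf 7)) (.node (.node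 (.leaf 12) (.leaf 10)) (.leaf 15)))))) (.node (.node (.node (.node (.node (.node (.leaf 10) (.leaf 8)) (.node (.leaf 10) (.leaf 10))) (.node (.node (.leaf 12) (.leaf 12)) (.leaf 12))) (.node (.node (.node (.leaf 15) (.leaf 10)) (.leaf 10)) (.node (.node (.leaf 12) (.leaf 10)) (.leaf 8)))) (.node (.node (.node (.node (.leaf 12) (.leaf 7)) (.leaf 12)) (.node (.node (.leaf 15) (.leaf 8)) (.leaf 7))) (.node (.node (.node (.leaf 10) (.leaf 8)) (.leaf 15)) (.node (.node (.leaf 10) (.leaf 10)) (.leaf 7))))) (.node (.node (.node (.node (.node (.leaf 12) (.leaf 10)) (.leaf 10)) (.node (.node (.leaf 15) (.leaf 8)) (.leaf 12))) (.node (.node (.node (.leaf 7) (.leaf 15)) (.leaf 7)) (.node (.node (.leaf 10) (.leaf 15)) (.leaf 10)))) (.node (.node (.node (.node (.leaf 12) (.leaf 10)) (.leaf 8)) (.node (.node (.leaf 12) (.leaf 10)) (.leaf 12))) (.node (.node (.node (.leaf 10) (.leaf 8)) (.leaf 8)) (.node (.node (.leaf 8) (.leaf 8)) (.leaf 10))))))) (.node (.node (.node (.node (.node (.node (.node (.leaf 8) (.leaf 12)) (.node (.leaf 10) (.leaf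 12))) (.node (.node (.leaf 8) (.leaf 7)) (.leaf 15))) (.node (.node (.node (.leaf 7) (.leaf 15)) (.leaf 7)) (.node (.node (.leaf 10) (.leaf 15)) (.leaf 10)))) (.node (.node (.node (.node (.leaf 10) (.leaf 10)) (.leaf 15)) (.node (.node (.leaf 10) (.leaf 15)) (.leaf 8))) (.node (.node (.node (.leaf 12) (.leaf 10)) (.leaf 7)) (.node (.node (.leaf 12) (.leaf 10)) (.leaf 10))))) (.node (.node (.node (.node (.node (.leaf 10) (.leaf 12)) (.leaf 15)) (.node (.node (.leaf 8) (.leaf 15)) (.leaf 7))) (.node (.node (.node (.leaf 7) (.leaf 10)) (.leaf 12)) (.node (.node (.leaf 10) (.leaf 10)) (.leaf 7)))) (.node (.node (.node (.node (.leaf 10) (.leaf 12)) (.leaf 7)) (.node (.node (.leaf 12) (.leaf 10)) (.leaf 10))) (.node (.node (.node (.leaf 7) (.leaf 8)) (.leaf 7)) (.node (.node (.leaf 10) (.leaf 15)) (.leaf 10)))))) (.node (.node (.node (.node (.node (.node (.leaf 10) (.leaf 8)) (.leaf 8)) (.node (.node (.leaf 15) (.leaf 15)) (.leaf 10))) (.node (.node (.node (.leaf 8) (.leaf 10)) (.leaf 12)) (.node (.node (.leaf 10) (.leaf 8)) (.leaf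 8)))) (.node (.node (.node (.node (.leaf 10) (.leaf 12)) (.leaf 10)) (.node (.node (.leaf 10) (.leaf 12)) (.leaf 10))) (.node (.node (.node (.leaf 10) (.leaf 8)) (.leaf 10)) (.node (.node (.leaf 12) (.leaf 10)) (.leaf 7))))) (.node (.node (.node (.node (.node (.leaf 12) (.leaf 8)) (.leaf 10)) (.node (.node (.leaf 12) (.leaf 15)) (.leaf 12))) (.node (.node (.node (.leaf 8) (.leaf 7)) (.leaf 10)) (.node (.node (.leaf 10) (.leaf 7)) (.leaf 8)))) (.node (.node (.node (.node (.leaf 12) (.leaf 10)) (.leaf 10)) (.node (.node (.leaf 12) (.leaf 15)) (.leaf 12))) (.node (.node (.node (.leaf 12) (.leaf 8)) (.leaf 10)) (.node (.node (.leaf 15) (.leaf 12)) (.leaf 12)))))))) (.node (.node (.node (.node (.node (.node (.node (.node (.leaf 10) (.leaf 8)) (.node (.leaf 12) (.leaf 8))) (.node (.node (.leaf 12) (.leaf 7)) (.leaf 7))) (.node (.node (.node (.leaf 7) (.leaf 10)) (.leaf 8)) (.node (.node (.leaf 8) (.leaf 8)) (.leaf 10)))) (.node (.node (.node (.node (.leaf 10) (.leaf 10)) (.leaf 7)) (.node (.node (.leaf 8) (.leaf 7)) (.leaf 12))) (.node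 (.node (.node (.leaf 12) (.leaf 7)) (.leaf 7)) (.node (.node (.leaf 12) (.leaf 15)) (.leaf 10))))) (.node (.node (.node (.node (.node (.leaf 8) (.leaf 8)) (.leaf 8)) (.node (.node (.leaf 10) (.leaf 10)) (.leaf 10))) (.node (.node (.node (.leaf 12) (.leaf 15)) (.leaf 12)) (.node (.node (.leaf 15) (.leaf 12)) (.leaf 10)))) (.node (.node (.node (.node (.leaf 10) (.leaf 10)) (.leaf 10)) (.node (.node (.leaf 12) (.leaf 10)) (.leaf 10))) (.node (.node (.node (.leaf 12) (.leaf 8)) (.leaf 10)) (.node (.node (.leaf 12) (.leaf 10)) (.leaf 15)))))) (.node (.node (.node (.node (.node (.node (.leaf 10) (.leaf 10)) (.node (.leaf 8) (.leaf 8))) (.node (.node (.leaf 7) (.leaf 15)) (.leaf 8))) (.node (.node (.node (.leaf 12) (.leaf 12)) (.leaf 10)) (.node (.node (.leaf 10) (.leaf 15)) (.leaf 12)))) (.node (.node (.node (.node (.leaf 10) (.leaf 10)) (.leaf 10)) (.node (.node (.leaf 10) (.leaf 10)) (.leaf 12))) (.node (.node (.node (.leaf 15) (.leaf 7)) (.leaf 10)) (.node (.node (.leaf 10) (.leaf 10)) (.leaf 10))))) (.node (.node (.node (.node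 (.node (.leaf 7) (.leaf 7)) (.leaf 10)) (.node (.node (.leaf 10) (.leaf 8)) (.leaf 15))) (.node (.node (.node (.leaf 10) (.leaf 10)) (.leaf 15)) (.node (.node (.leaf 10) (.leaf 10)) (.leaf 15)))) (.node (.node (.node (.node (.leaf 7) (.leaf 15)) (.leaf 15)) (.node (.node (.leaf 12) (.leaf 12)) (.leaf 8))) (.node (.node (.node (.leaf 12) (.leaf 8)) (.leaf 12)) (.node (.node (.leaf 10) (.leaf 10)) (.leaf 10))))))) (.node (.node (.node (.node (.node (.node (.node (.leaf 10) (.leaf 15)) (.node (.leaf 15) (.leaf 15))) (.node (.node (.leaf 12) (.leaf 10)) (.leaf 12))) (.node (.node (.node (.leaf 8) (.leaf 10)) (.leaf 15)) (.node (.node (.leaf 12) (.leaf 7)) (.leaf 12)))) (.node (.node (.node (.node (.leaf 8) (.leaf 10)) (.leaf 10)) (.node (.node (.leaf 15) (.leaf 10)) (.leaf 10))) (.node (.node (.node (.leaf 8) (.leaf 7)) (.leaf 7)) (.node (.node (.leaf 8) (.leaf 10)) (.leaf 15))))) (.node (.node (.node (.node (.node (.leaf 10) (.leaf 12)) (.leaf 12)) (.node (.node (.leaf 8) (.leaf 10)) (.leaf 7))) (.node (.node (.node (.leaf 7) (.leaf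 12)) (.leaf 7)) (.node (.node (.leaf 15) (.leaf 10)) (.leaf 10)))) (.node (.node (.node (.node (.leaf 12) (.leaf 12)) (.leaf 10)) (.node (.node (.leaf 12) (.leaf 8)) (.leaf 12))) (.node (.node (.node (.leaf 8) (.leaf 8)) (.leaf 8)) (.node (.node (.leaf 8) (.leaf 12)) (.leaf 8)))))) (.node (.node (.node (.node (.node (.node (.leaf 10) (.leaf 10)) (.leaf 10)) (.node (.node (.leaf 12) (.leaf 10)) (.leaf 12))) (.node (.node (.node (.leaf 7) (.leaf 10)) (.leaf 10)) (.node (.node (.leaf 12) (.leaf 8)) (.leaf 8)))) (.node (.node (.node (.node (.leaf 8) (.leaf 8)) (.leaf 10)) (.node (.node (.leaf 12) (.leaf 12)) (.leaf 10))) (.node (.node (.node (.leaf 8) (.leaf 8)) (.leaf 10)) (.node (.node (.leaf 12) (.leaf 12)) (.leaf 10))))) (.node (.node (.node (.node (.node (.leaf 10) (.leaf 7)) (.leaf 10)) (.node (.node (.leaf 15) (.leaf 12)) (.leaf 8))) (.node (.node (.node (.leaf 8) (.leaf 7)) (.leaf 10)) (.node (.node (.leaf 12) (.leaf 12)) (.leaf 10)))) (.node (.node (.node (.node (.leaf 7) (.leaf 10)) (.leaf 8)) (.node (.node (.leaf 10) (.leaf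 8)) (.leaf 10))) (.node (.node (.node (.leaf 10) (.leaf 8)) (.leaf 8)) (.node (.node (.leaf 8) (.leaf 10)) (.leaf 8)))))))))

def classPow10 : Janko.Tree (ℕ) :=
  (.node (.node (.node (.node (.node (.node (.node (.node (.node (.leaf 10) (.leaf 10)) (.node (.leaf 10) (.leaf 10))) (.node (.node (.leaf 12) (.leaf 10)) (.leaf 8))) (.node (.node (.node (.leaf 8) (.leaf 10)) (.leaf 12)) (.node (.node (.leaf 12) (.leaf 10)) (.leaf 10)))) (.node (.node (.node (.node (.leaf 15) (.leaf 12)) (.leaf 10)) (.node (.node (.leaf 15) (.leaf 10)) (.leaf 12))) (.node (.node (.node (.leaf 7) (.leaf 8)) (.leaf 10)) (.node (.node (.leaf 12) (.leaf 12)) (.leaf 8))))) (.node (.node (.node (.node (.node (.leaf 10) (.leaf 10)) (.leaf 15)) (.node (.node (.leaf 12) (.leaf 15)) (.leaf 15))) (.node (.node (.node (.leaf 12) (.leaf 8)) (.leaf 7)) (.node (.node (.leaf 7) (.leaf 10)) (.leaf 7)))) (.node (.node (.node (.node (.leaf 12) (.leaf 10)) (.leaf 8)) (.node (.node (.leaf 8) (.leaf 12)) (.leaf 8))) (.node (.node (.node (.leaf 10) (.leaf 8)) (.leaf 7)) (.node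 (.node (.leaf 10) (.leaf 15)) (.leaf 7)))))) (.node (.node (.node (.node (.node (.node (.leaf 10) (.leaf 12)) (.node (.leaf 7) (.leaf 10))) (.node (.node (.leaf 7) (.leaf 15)) (.leaf 12))) (.node (.node (.node (.leaf 12) (.leaf 12)) (.leaf 10)) (.node (.node (.leaf 12) (.leaf 12)) (.leaf 8)))) (.node (.node (.node (.node (.leaf 7) (.leaf 12)) (.leaf 7)) (.node (.node (.leaf 15) (.leaf 8)) (.leaf 10))) (.node (.node (.node (.leaf 10) (.leaf 10)) (.leaf 8)) (.node (.node (.leaf 7) (.leaf 12)) (.leaf 7))))) (.node (.node (.node (.node (.node (.leaf 8) (.leaf 10)) (.leaf 7)) (.node (.node (.leaf 8) (.leaf 10)) (.leaf 10))) (.node (.node (.node (.leaf 12) (.leaf 7)) (.leaf 8)) (.node (.node (.leaf 15) (.leaf 15)) (.leaf 7)))) (.node (.node (.node (.node (.leaf 15) (.leaf 7)) (.leaf 12)) (.node (.node (.leaf 12) (.leaf 10)) (.leaf 12))) (.node (.node (.node (.leaf 10) (.leaf 8)) (.leaf 8)) (.node (.node (.leaf 7) (.leaf 10)) (.leaf 15))))))) (.node (.node (.node (.node (.node (.node (.node (.leaf 8) (.leaf 10)) (.node (.leaf 7) (.leaf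 10))) (.node (.node (.leaf 12) (.leaf 7)) (.leaf 8))) (.node (.node (.node (.leaf 12) (.leaf 7)) (.leaf 10)) (.node (.node (.leaf 12) (.leaf 7)) (.leaf 10)))) (.node (.node (.node (.node (.leaf 10) (.leaf 10)) (.leaf 7)) (.node (.node (.leaf 7) (.leaf 10)) (.leaf 8))) (.node (.node (.node (.leaf 12) (.leaf 10)) (.leaf 10)) (.node (.node (.leaf 10) (.leaf 12)) (.leaf 10))))) (.node (.node (.node (.node (.node (.leaf 12) (.leaf 10)) (.leaf 15)) (.node (.node (.leaf 15) (.leaf 8)) (.leaf 8))) (.node (.node (.node (.leaf 10) (.leaf 12)) (.leaf 12)) (.node (.node (.leaf 12) (.leaf 10)) (.leaf 8)))) (.node (.node (.node (.node (.leaf 10) (.leaf 12)) (.leaf 8)) (.node (.node (.leaf 12) (.leaf 10)) (.leaf 10))) (.node (.node (.node (.leaf 8) (.leaf 8)) (.leaf 7)) (.node (.node (.leaf 10) (.leaf 15)) (.leaf 10)))))) (.node (.node (.node (.node (.node (.node (.leaf 10) (.leaf 7)) (.leaf 8)) (.node (.node (.leaf 10) (.leaf 7)) (.leaf 12))) (.node (.node (.node (.leaf 7) (.leaf 7)) (.leaf 12)) (.node (.node (.leaf 12) (.leaf 8)) (.leaf 10))))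 (.node (.node (.node (.node (.leaf 10) (.leaf 12)) (.leaf 10)) (.node (.node (.leaf 10) (.leaf 12)) (.leaf 10))) (.node (.node (.node (.leaf 7) (.leaf 8)) (.leaf 12)) (.node (.node (.leaf 12) (.leaf 12)) (.leaf 15))))) (.node (.node (.node (.node (.node (.leaf 10) (.leaf 10)) (.leaf 10)) (.node (.node (.leaf 10) (.leaf 15)) (.leaf 10))) (.node (.node (.node (.leaf 7) (.leaf 15)) (.leaf 15)) (.node (.node (.leaf 7) (.leaf 10)) (.leaf 15)))) (.node (.node (.node (.node (.leaf 12) (.leaf 7)) (.leaf 15)) (.node (.node (.leaf 7) (.leaf 10)) (.leaf 12))) (.node (.node (.node (.leaf 8) (.leaf 8)) (.leaf 8)) (.node (.node (.leaf 10) (.leaf 12)) (.leaf 12)))))))) (.node (.node (.node (.node (.node (.node (.node (.node (.leaf 10) (.leaf 8)) (.node (.leaf 12) (.leaf 7))) (.node (.node (.leaf 8) (.leaf 7)) (.leaf 8))) (.node (.node (.node (.leaf 7) (.leaf 7)) (.leaf 12)) (.node (.node (.leaf 7) (.leaf 10)) (.leaf 10)))) (.node (.node (.node (.node (.leaf 12) (.leaf 12)) (.leaf 12)) (.node (.node (.leaf 8) (.leaf 8)) (.leaf 15))) (.node (.node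 (.node (.leaf 8) (.leaf 7)) (.leaf 12)) (.node (.node (.leaf 12) (.leaf 12)) (.leaf 12))))) (.node (.node (.node (.node (.node (.leaf 8) (.leaf 7)) (.leaf 10)) (.node (.node (.leaf 7) (.leaf 12)) (.leaf 12))) (.node (.node (.node (.leaf 10) (.leaf 8)) (.leaf 10)) (.node (.node (.leaf 15) (.leaf 12)) (.leaf 10)))) (.node (.node (.node (.node (.leaf 10) (.leaf 10)) (.leaf 8)) (.node (.node (.leaf 12) (.leaf 10)) (.leaf 8))) (.node (.node (.node (.leaf 10) (.leaf 8)) (.leaf 8)) (.node (.node (.leaf 10) (.leaf 7)) (.leaf 10)))))) (.node (.node (.node (.node (.node (.node (.leaf 10) (.leaf 10)) (.node (.leaf 15) (.leaf 10))) (.node (.node (.leaf 10) (.leaf 15)) (.leaf 10))) (.node (.node (.node (.leaf 12) (.leaf 8)) (.leaf 10)) (.node (.node (.leaf 10) (.leaf 10)) (.leaf 12)))) (.node (.node (.node (.node (.leaf 7) (.leaf 8)) (.leaf 12)) (.node (.node (.leaf 7) (.leaf 10)) (.leaf 10))) (.node (.node (.node (.leaf 10) (.leaf 15)) (.leaf 10)) (.node (.node (.leaf 12) (.leaf 7)) (.leaf 12))))) (.node (.node (.node (.node (.node (.leaf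 12) (.leaf 10)) (.leaf 12)) (.node (.node (.leaf 10) (.leaf 12)) (.leaf 12))) (.node (.node (.node (.leaf 10) (.leaf 8)) (.leaf 10)) (.node (.node (.leaf 8) (.leaf 12)) (.leaf 10)))) (.node (.node (.node (.node (.leaf 7) (.leaf 10)) (.leaf 10)) (.node (.node (.leaf 12) (.leaf 12)) (.leaf 8))) (.node (.node (.node (.leaf 10) (.leaf 8)) (.leaf 12)) (.node (.node (.leaf 12) (.leaf 12)) (.leaf 7))))))) (.node (.node (.node (.node (.node (.node (.node (.leaf 10) (.leaf 12)) (.node (.leaf 15) (.leaf 8))) (.node (.node (.leaf 15) (.leaf 10)) (.leaf 7))) (.node (.node (.node (.leaf 10) (.leaf 7)) (.leaf 12)) (.node (.node (.leaf 12) (.leaf 10)) (.leaf 12)))) (.node (.node (.node (.node (.leaf 10) (.leaf 7)) (.leaf 10)) (.node (.node (.leaf 15) (.leaf 7)) (.leaf 15))) (.node (.node (.node (.leaf 12) (.leaf 7)) (.leaf 8)) (.node (.node (.leaf 12) (.leaf 15)) (.leaf 8))))) (.node (.node (.node (.node (.node (.leaf 12) (.leaf 8)) (.leaf 12)) (.node (.node (.leaf 7) (.leaf 12)) (.leaf 12))) (.node (.node (.node (.leaf 8) (.leaf 10)) (.leaf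 8)) (.node (.node (.leaf 7) (.leaf 15)) (.leaf 7)))) (.node (.node (.node (.node (.leaf 10) (.leaf 7)) (.leaf 12)) (.node (.node (.leaf 10) (.leaf 8)) (.leaf 12))) (.node (.node (.node (.leaf 8) (.leaf 8)) (.leaf 10)) (.node (.node (.leaf 8) (.leaf 7)) (.leaf 15)))))) (.node (.node (.node (.node (.node (.node (.leaf 10) (.leaf 10)) (.leaf 7)) (.node (.node (.leaf 12) (.leaf 8)) (.leaf 8))) (.node (.node (.node (.leaf 7) (.leaf 15)) (.leaf 15)) (.node (.node (.leaf 12) (.leaf 10)) (.leaf 8)))) (.node (.node (.node (.node (.leaf 15) (.leaf 12)) (.leaf 15)) (.node (.node (.leaf 15) (.leaf 12)) (.leaf 10))) (.node (.node (.node (.leaf 12) (.leaf 8)) (.leaf 7)) (.node (.node (.leaf 12) (.leaf 12)) (.leaf 7))))) (.node (.node (.node (.node (.node (.leaf 8) (.leaf 7)) (.leaf 12)) (.node (.node (.leaf 8) (.leaf 7)) (.leaf 10))) (.node (.node (.node (.leaf 10) (.leaf 10)) (.leaf 10)) (.node (.node (.leaf 7) (.leaf 12)) (.leaf 8)))) (.node (.node (.node (.node (.leaf 12) (.leaf 10)) (.leaf 7)) (.node (.node (.leaf 7) (.leaf 10)) (.leaf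 10))) (.node (.node (.node (.leaf 10) (.leaf 8)) (.leaf 15)) (.node (.node (.leaf 15) (.leaf 12)) (.leaf 12)))))))))

def classPow11 : Janko.Tree (ℕ) :=
  (.node (.node (.node (.node (.node (.node (.node (.node (.node (.leaf 10) (.leaf 10)) (.node (.leaf 10) (.leaf 8))) (.node (.node (.leaf 8) (.leaf 12)) (.leaf 10))) (.node (.node (.node (.leaf 12) (.leaf 10)) (.leaf 10)) (.node (.node (.leaf 10) (.leaf 10)) (.leaf 10)))) (.node (.node (.node (.node (.leaf 7) (.leaf 12)) (.leaf 12)) (.node (.node (.leaf 7) (.leaf 10)) (.leaf 7))) (.node (.node (.node (.leaf 10) (.leaf 8)) (.leaf 10)) (.node (.node (.leaf 12) (.leaf 15)) (.leaf 12))))) (.node (.node (.node (.node (.node (.leaf 10) (.leaf 10)) (.leaf 10)) (.node (.node (.leaf 10) (.leaf 10)) (.leaf 10))) (.node (.node (.node (.leaf 10) (.leaf 10)) (.leaf 8)) (.node (.node (.leaf 7) (.leaf 15)) (.leaf 10)))) (.node (.node (.node (.node (.leaf 15) (.leaf 10)) (.leaf 12)) (.node (.node (.leaf 8) (.leaf 12)) (.leaf 12))) (.node (.node (.node (.leaf 15) (.leaf 8)) (.leaf 10)) (.node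 (.node (.leaf 10) (.leaf 10)) (.leaf 10)))))) (.node (.node (.node (.node (.node (.node (.leaf 10) (.leaf 15)) (.node (.leaf 12) (.leaf 10))) (.node (.node (.leaf 12) (.leaf 10)) (.leaf 8))) (.node (.node (.node (.leaf 15) (.leaf 12)) (.leaf 10)) (.node (.node (.leaf 8) (.leaf 7)) (.leaf 8)))) (.node (.node (.node (.node (.leaf 10) (.leaf 10)) (.leaf 12)) (.node (.node (.leaf 12) (.leaf 8)) (.leaf 10))) (.node (.node (.node (.leaf 15) (.leaf 10)) (.leaf 8)) (.node (.node (.leaf 12) (.leaf 15)) (.leaf 8))))) (.node (.node (.node (.node (.node (.leaf 7) (.leaf 8)) (.leaf 8)) (.node (.node (.leaf 7) (.leaf 10)) (.leaf 7))) (.node (.node (.node (.leaf 15) (.leaf 8)) (.leaf 7)) (.node (.node (.leaf 15) (.leaf 10)) (.leaf 10)))) (.node (.node (.node (.node (.leaf 7) (.leaf 12)) (.leaf 10)) (.node (.node (.leaf 12) (.leaf 10)) (.leaf 12))) (.node (.node (.node (.leaf 10) (.leaf 8)) (.leaf 10)) (.node (.node (.leaf 15) (.leaf 10)) (.leaf 7))))))) (.node (.node (.node (.node (.node (.node (.node (.leaf 8) (.leaf 12)) (.node (.leaf 7)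 (.leaf 10))) (.node (.node (.leaf 10) (.leaf 10)) (.leaf 10))) (.node (.node (.node (.leaf 10) (.leaf 7)) (.leaf 10)) (.node (.node (.leaf 10) (.leaf 10)) (.leaf 10)))) (.node (.node (.node (.node (.leaf 15) (.leaf 8)) (.leaf 12)) (.node (.node (.leaf 12) (.leaf 10)) (.leaf 10))) (.node (.node (.node (.leaf 7) (.leaf 10)) (.leaf 10)) (.node (.node (.leaf 12) (.leaf 10)) (.leaf 10))))) (.node (.node (.node (.node (.node (.leaf 10) (.leaf 10)) (.leaf 10)) (.node (.node (.leaf 10) (.leaf 7)) (.leaf 15))) (.node (.node (.node (.leaf 10) (.leaf 10)) (.leaf 12)) (.node (.node (.leaf 12) (.leaf 12)) (.leaf 15)))) (.node (.node (.node (.node (.leaf 7) (.leaf 8)) (.leaf 10)) (.node (.node (.leaf 12) (.leaf 10)) (.leaf 15))) (.node (.node (.node (.leaf 8) (.leaf 8)) (.leaf 10)) (.node (.node (.leaf 12) (.leaf 12)) (.leaf 8)))))) (.node (.node (.node (.node (.node (.node (.leaf 10) (.leaf 12)) (.leaf 8)) (.node (.node (.leaf 8) (.leaf 12)) (.leaf 10))) (.node (.node (.node (.leaf 10) (.leaf 12)) (.leaf 15)) (.node (.node (.leaf 7) (.leaf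 8)) (.leaf 8)))) (.node (.node (.node (.node (.leaf 15) (.leaf 10)) (.leaf 7)) (.node (.node (.leaf 15) (.leaf 12)) (.leaf 10))) (.node (.node (.node (.leaf 12) (.leaf 8)) (.leaf 10)) (.node (.node (.leaf 7) (.leaf 15)) (.leaf 10))))) (.node (.node (.node (.node (.node (.leaf 10) (.leaf 7)) (.leaf 10)) (.node (.node (.leaf 10) (.leaf 7)) (.leaf 12))) (.node (.node (.node (.leaf 7) (.leaf 8)) (.leaf 15)) (.node (.node (.leaf 12) (.leaf 10)) (.leaf 10)))) (.node (.node (.node (.node (.leaf 15) (.leaf 10)) (.leaf 10)) (.node (.node (.leaf 12) (.leaf 10)) (.leaf 12))) (.node (.node (.node (.leaf 12) (.leaf 8)) (.leaf 8)) (.node (.node (.leaf 7) (.leaf 7)) (.leaf 12)))))))) (.node (.node (.node (.node (.node (.node (.node (.node (.leaf 10) (.leaf 7)) (.node (.leaf 15) (.leaf 7))) (.node (.node (.leaf 10) (.leaf 12)) (.leaf 12))) (.node (.node (.node (.leaf 10) (.leaf 7)) (.leaf 10)) (.node (.node (.leaf 7) (.leaf 10)) (.leaf 10)))) (.node (.node (.node (.node (.leaf 12) (.leaf 7)) (.leaf 12)) (.node (.node (.leaf 12) (.leaf 7)) (.leaf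 8))) (.node (.node (.node (.leaf 15) (.leaf 8)) (.leaf 10)) (.node (.node (.leaf 10) (.leaf 12)) (.leaf 7))))) (.node (.node (.node (.node (.node (.leaf 8) (.leaf 15)) (.leaf 7)) (.node (.node (.leaf 12) (.leaf 7)) (.leaf 7))) (.node (.node (.node (.leaf 10) (.leaf 10)) (.leaf 12)) (.node (.node (.leaf 12) (.leaf 10)) (.leaf 8)))) (.node (.node (.node (.node (.leaf 7) (.leaf 12)) (.leaf 10)) (.node (.node (.leaf 10) (.leaf 10)) (.leaf 10))) (.node (.node (.node (.leaf 10) (.leaf 8)) (.leaf 8)) (.node (.node (.leaf 8) (.leaf 7)) (.leaf 10)))))) (.node (.node (.node (.node (.node (.node (.leaf 10) (.leaf 10)) (.node (.leaf 8) (.leaf 10))) (.node (.node (.leaf 10) (.leaf 12)) (.leaf 10))) (.node (.node (.node (.leaf 10) (.leaf 10)) (.leaf 8)) (.node (.node (.leaf 7) (.leaf 8)) (.leaf 12)))) (.node (.node (.node (.node (.leaf 10) (.leaf 7)) (.leaf 12)) (.node (.node (.leaf 12) (.leaf 10)) (.leaf 7))) (.node (.node (.node (.leaf 7) (.leaf 7)) (.leaf 10)) (.node (.node (.leaf 12) (.leaf 7)) (.leaf 8))))) (.node (.node (.node (.node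 (.node (.leaf 12) (.leaf 7)) (.leaf 15)) (.node (.node (.leaf 12) (.leaf 8)) (.leaf 10))) (.node (.node (.node (.leaf 10) (.leaf 10)) (.leaf 10)) (.node (.node (.leaf 12) (.leaf 12)) (.leaf 7)))) (.node (.node (.node (.node (.leaf 12) (.leaf 8)) (.leaf 10)) (.node (.node (.leaf 7) (.leaf 12)) (.leaf 8))) (.node (.node (.node (.leaf 7) (.leaf 8)) (.leaf 8)) (.node (.node (.leaf 7) (.leaf 7)) (.leaf 12))))))) (.node (.node (.node (.node (.node (.node (.node (.leaf 10) (.leaf 15)) (.node (.leaf 10) (.leaf 10))) (.node (.node (.leaf 12) (.leaf 10)) (.leaf 12))) (.node (.node (.node (.leaf 10) (.leaf 10)) (.leaf 12)) (.node (.node (.leaf 12) (.leaf 10)) (.leaf 12)))) (.node (.node (.node (.node (.leaf 10) (.leaf 12)) (.leaf 10)) (.node (.node (.leaf 10) (.leaf 10)) (.leaf 12))) (.node (.node (.node (.leaf 10) (.leaf 15)) (.leaf 12)) (.node (.node (.leaf 12) (.leaf 15)) (.leaf 12))))) (.node (.node (.node (.node (.node (.leaf 15) (.leaf 8)) (.leaf 10)) (.node (.node (.leaf 10) (.leaf 12)) (.leaf 7))) (.node (.node (.node (.leaf 7)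 (.leaf 10)) (.leaf 8)) (.node (.node (.leaf 7) (.leaf 15)) (.leaf 15)))) (.node (.node (.node (.node (.leaf 12) (.leaf 8)) (.leaf 10)) (.node (.node (.leaf 7) (.leaf 8)) (.leaf 12))) (.node (.node (.node (.leaf 7) (.leaf 8)) (.leaf 8)) (.node (.node (.leaf 7) (.leaf 10)) (.leaf 10)))))) (.node (.node (.node (.node (.node (.node (.leaf 10) (.leaf 10)) (.leaf 15)) (.node (.node (.leaf 7) (.leaf 10)) (.leaf 8))) (.node (.node (.node (.leaf 7) (.leaf 7)) (.leaf 7)) (.node (.node (.leaf 12) (.leaf 15)) (.leaf 10)))) (.node (.node (.node (.node (.leaf 8) (.leaf 8)) (.leaf 10)) (.node (.node (.leaf 7) (.leaf 12)) (.leaf 15))) (.node (.node (.node (.leaf 12) (.leaf 8)) (.leaf 10)) (.node (.node (.leaf 12) (.leaf 10)) (.leaf 12))))) (.node (.node (.node (.node (.node (.leaf 10) (.leaf 7)) (.leaf 8)) (.node (.node (.leaf 10) (.leaf 12)) (.leaf 12))) (.node (.node (.node (.leaf 12) (.leaf 10)) (.leaf 15)) (.node (.node (.leaf 8) (.leaf 12)) (.leaf 10)))) (.node (.node (.node (.node (.leaf 12) (.leaf 8)) (.leaf 8)) (.node (.node (.leaf 12)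 (.leaf 10)) (.leaf 10))) (.node (.node (.node (.leaf 15) (.leaf 8)) (.leaf 10)) (.node (.node (.leaf 10) (.leaf 7)) (.leaf 10)))))))))

def classPow12 : Janko.Tree (ℕ) :=
  (.node (.node (.node (.node (.node (.node (.node (.node (.node (.leaf 10) (.leaf 15)) (.node (.leaf 8) (.leaf 10))) (.node (.node (.leaf 10) (.leaf 10)) (.leaf 12))) (.node (.node (.node (.leaf 12) (.leaf 10)) (.leaf 10)) (.node (.node (.leaf 10) (.leaf 15)) (.leaf 10)))) (.node (.node (.node (.node (.leaf 10) (.leaf 8)) (.leaf 8)) (.node (.node (.leaf 10) (.leaf 8)) (.leaf 12))) (.node (.node (.node (.leaf 7) (.leaf 7)) (.leaf 10)) (.node (.node (.leaf 12) (.leaf 7)) (.leaf 12))))) (.node (.node (.node (.node (.node (.leaf 10) (.leaf 10)) (.leaf 10)) (.node (.node (.leaf 15) (.leaf 10)) (.leaf 10))) (.node (.node (.node (.leaf 12) (.leaf 15)) (.leaf 8)) (.node (.node (.leaf 12) (.leaf 15)) (.leaf 10)))) (.node (.node (.node (.node (.leaf 10) (.leaf 10)) (.leaf 7)) (.node (.node (.leaf 8) (.leaf 12)) (.leaf 10))) (.node (.node (.node (.leaf 12) (.leaf 8))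 (.leaf 8)) (.node (.node (.leaf 10) (.leaf 10)) (.leaf 10)))))) (.node (.node (.node (.node (.node (.node (.leaf 10) (.leaf 12)) (.node (.leaf 10) (.leaf 12))) (.node (.node (.leaf 15) (.leaf 10)) (.leaf 12))) (.node (.node (.node (.leaf 12) (.leaf 10)) (.leaf 15)) (.node (.node (.leaf 10) (.leaf 10)) (.leaf 8)))) (.node (.node (.node (.node (.leaf 10) (.leaf 7)) (.leaf 12)) (.node (.node (.leaf 10) (.leaf 8)) (.leaf 12))) (.node (.node (.node (.leaf 10) (.leaf 12)) (.leaf 7)) (.node (.node (.leaf 12) (.leaf 10)) (.leaf 7))))) (.node (.node (.node (.node (.node (.leaf 12) (.leaf 12)) (.leaf 15)) (.node (.node (.leaf 12) (.leaf 15)) (.leaf 12))) (.node (.node (.node (.leaf 12) (.leaf 7)) (.leaf 7)) (.node (.node (.leaf 10) (.leaf 15)) (.leaf 8)))) (.node (.node (.node (.node (.leaf 10) (.leaf 15)) (.leaf 12)) (.node (.node (.leaf 12) (.leaf 10)) (.leaf 12))) (.node (.node (.node (.leaf 7) (.leaf 8)) (.leaf 10)) (.node (.node (.leaf 10) (.leaf 10)) (.leaf 10))))))) (.node (.node (.node (.node (.node (.node (.node (.leaf 8) (.leaf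 8)) (.node (.leaf 10) (.leaf 10))) (.node (.node (.leaf 10) (.leaf 12)) (.leaf 15))) (.node (.node (.node (.leaf 10) (.leaf 15)) (.leaf 8)) (.node (.node (.leaf 7) (.leaf 10)) (.leaf 10)))) (.node (.node (.node (.node (.leaf 12) (.leaf 12)) (.leaf 10)) (.node (.node (.leaf 10) (.leaf 10)) (.leaf 7))) (.node (.node (.node (.leaf 10) (.leaf 10)) (.leaf 10)) (.node (.node (.leaf 12) (.leaf 7)) (.leaf 15))))) (.node (.node (.node (.node (.node (.leaf 7) (.leaf 10)) (.leaf 10)) (.node (.node (.leaf 12) (.leaf 12)) (.leaf 10))) (.node (.node (.node (.leaf 8) (.leaf 7)) (.leaf 10)) (.node (.node (.leaf 10) (.leaf 12)) (.leaf 12)))) (.node (.node (.node (.node (.leaf 12) (.leaf 12)) (.leaf 12)) (.node (.node (.leaf 10) (.leaf 10)) (.leaf 8))) (.node (.node (.node (.leaf 7) (.leaf 8)) (.leaf 8)) (.node (.node (.leaf 10) (.leaf 15)) (.leaf 10)))))) (.node (.node (.node (.node (.node (.node (.leaf 10) (.leaf 12)) (.leaf 12)) (.node (.node (.leaf 8) (.leaf 7)) (.leaf 12))) (.node (.node (.node (.leaf 12) (.leaf 10)) (.leaf 15)) (.node (.node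 (.leaf 10) (.leaf 10)) (.leaf 10)))) (.node (.node (.node (.node (.leaf 10) (.leaf 10)) (.leaf 15)) (.node (.node (.leaf 10) (.leaf 12)) (.leaf 10))) (.node (.node (.node (.leaf 10) (.leaf 8)) (.leaf 8)) (.node (.node (.leaf 7) (.leaf 12)) (.leaf 12))))) (.node (.node (.node (.node (.node (.leaf 10) (.leaf 7)) (.leaf 10)) (.node (.node (.leaf 10) (.leaf 10)) (.leaf 10))) (.node (.node (.node (.leaf 8) (.leaf 7)) (.leaf 10)) (.node (.node (.leaf 7) (.leaf 7)) (.leaf 10)))) (.node (.node (.node (.node (.leaf 10) (.leaf 8)) (.leaf 10)) (.node (.node (.leaf 10) (.leaf 10)) (.leaf 12))) (.node (.node (.node (.leaf 12) (.leaf 8)) (.leaf 7)) (.node (.node (.leaf 12) (.leaf 12)) (.leaf 10)))))))) (.node (.node (.node (.node (.node (.node (.node (.node (.leaf 10) (.leaf 15)) (.node (.leaf 12) (.leaf 10))) (.node (.node (.leaf 8) (.leaf 10)) (.leaf 15))) (.node (.node (.node (.leaf 15) (.leaf 7)) (.leaf 10)) (.node (.node (.leaf 12) (.leaf 8)) (.leaf 10)))) (.node (.node (.node (.node (.leaf 8) (.leaf 8)) (.leaf 10)) (.node (.node (.leaf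 12) (.leaf 7)) (.leaf 12))) (.node (.node (.node (.leaf 7) (.leaf 12)) (.leaf 7)) (.node (.node (.leaf 8) (.leaf 12)) (.leaf 12))))) (.node (.node (.node (.node (.node (.leaf 8) (.leaf 10)) (.leaf 12)) (.node (.node (.leaf 10) (.leaf 12)) (.leaf 12))) (.node (.node (.node (.leaf 10) (.leaf 10)) (.leaf 10)) (.node (.node (.leaf 15) (.leaf 15)) (.leaf 10)))) (.node (.node (.node (.node (.leaf 15) (.leaf 7)) (.leaf 10)) (.node (.node (.leaf 7) (.leaf 10)) (.leaf 10))) (.node (.node (.node (.leaf 10) (.leaf 8)) (.leaf 12)) (.node (.node (.leaf 10) (.leaf 12)) (.leaf 15)))))) (.node (.node (.node (.node (.node (.node (.leaf 10) (.leaf 10)) (.node (.leaf 8) (.leaf 7))) (.node (.node (.leaf 12) (.leaf 7)) (.leaf 12))) (.node (.node (.node (.leaf 7) (.leaf 8)) (.leaf 7)) (.node (.node (.leaf 7) (.leaf 10)) (.leaf 12)))) (.node (.node (.node (.node (.leaf 10) (.leaf 12)) (.leaf 12)) (.node (.node (.leaf 8) (.leaf 10)) (.leaf 12))) (.node (.node (.node (.leaf 12) (.leaf 8)) (.leaf 10)) (.node (.node (.leaf 10) (.leaf 15)) (.leaf 15)))))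 (.node (.node (.node (.node (.node (.leaf 7) (.leaf 12)) (.leaf 12)) (.node (.node (.leaf 7) (.leaf 12)) (.leaf 10))) (.node (.node (.node (.leaf 10) (.leaf 12)) (.leaf 15)) (.node (.node (.leaf 10) (.leaf 10)) (.leaf 8)))) (.node (.node (.node (.node (.leaf 12) (.leaf 12)) (.leaf 10)) (.node (.node (.leaf 10) (.leaf 12)) (.leaf 8))) (.node (.node (.node (.leaf 10) (.leaf 8)) (.leaf 10)) (.node (.node (.leaf 12) (.leaf 7)) (.leaf 15))))))) (.node (.node (.node (.node (.node (.node (.node (.leaf 10) (.leaf 12)) (.node (.leaf 10) (.leaf 10))) (.node (.node (.leaf 10) (.leaf 7)) (.leaf 10))) (.node (.node (.node (.leaf 7) (.leaf 10)) (.leaf 7)) (.node (.node (.leaf 12) (.leaf 8)) (.leaf 12)))) (.node (.node (.node (.node (.leaf 12) (.leaf 12)) (.leaf 10)) (.node (.node (.leaf 12) (.leaf 15)) (.leaf 10))) (.node (.node (.node (.leaf 10) (.leaf 7)) (.leaf 15)) (.node (.node (.leaf 10) (.leaf 15)) (.leaf 7))))) (.node (.node (.node (.node (.node (.leaf 10) (.leaf 15)) (.leaf 7)) (.node (.node (.leaf 15) (.leaf 12)) (.leaf 8))) (.node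 (.node (.node (.leaf 8) (.leaf 10)) (.leaf 12)) (.node (.node (.leaf 10) (.leaf 15)) (.leaf 8)))) (.node (.node (.node (.node (.leaf 7) (.leaf 10)) (.leaf 8)) (.node (.node (.leaf 12) (.leaf 8)) (.leaf 10))) (.node (.node (.node (.leaf 8) (.leaf 8)) (.leaf 8)) (.node (.node (.leaf 12) (.leaf 12)) (.leaf 15)))))) (.node (.node (.node (.node (.node (.node (.leaf 10) (.leaf 8)) (.leaf 12)) (.node (.node (.leaf 10) (.leaf 12)) (.leaf 10))) (.node (.node (.node (.leaf 12) (.leaf 10)) (.leaf 15)) (.node (.node (.leaf 12) (.leaf 10)) (.leaf 10)))) (.node (.node (.node (.node (.leaf 12) (.leaf 12)) (.leaf 10)) (.node (.node (.leaf 10) (.leaf 12)) (.leaf 10))) (.node (.node (.node (.leaf 12) (.leaf 8)) (.leaf 10)) (.node (.node (.leaf 12) (.leaf 7)) (.leaf 10))))) (.node (.node (.node (.node (.node (.leaf 10) (.leaf 7)) (.leaf 10)) (.node (.node (.leaf 12) (.leaf 12)) (.leaf 7))) (.node (.node (.node (.leaf 10) (.leaf 10)) (.leaf 15)) (.node (.node (.leaf 10) (.leaf 7)) (.leaf 8)))) (.node (.node (.node (.node (.leaf 10) (.leaf 12)) (.leaf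 15)) (.node (.node (.leaf 7) (.leaf 10)) (.leaf 10))) (.node (.node (.node (.leaf 10) (.leaf 8)) (.leaf 8)) (.node (.node (.leaf 15) (.leaf 8)) (.leaf 8)))))))))

def classPow13 : Janko.Tree (ℕ) :=
  (.node (.node (.node (.node (.node (.node (.node (.node (.node (.leaf 10) (.leaf 8)) (.node (.leaf 12) (.leaf 10))) (.node (.node (.leaf 12) (.leaf 12)) (.leaf 10))) (.node (.node (.node (.leaf 12) (.leaf 10)) (.leaf 12)) (.node (.node (.leaf 7) (.leaf 7)) (.leaf 10)))) (.node (.node (.node (.node (.leaf 10) (.leaf 8)) (.leaf 10)) (.node (.node (.leaf 12) (.leaf 12)) (.leaf 15))) (.node (.node (.node (.leaf 10) (.leaf 12)) (.leaf 10)) (.node (.node (.leaf 12) (.leaf 12)) (.leaf 8))))) (.node (.node (.node (.node (.node (.leaf 10) (.leaf 12)) (.leaf 15)) (.node (.node (.leaf 10) (.leaf 7)) (.leaf 8))) (.node (.node (.node (.leaf 10) (.leaf 7)) (.leaf 7)) (.node (.node (.leaf 7) (.leaf 12)) (.leaf 10)))) (.node (.node (.node (.node (.leaf 10) (.leaf 10)) (.leaf 15)) (.node (.node (.leaf 10) (.leaf 12)) (.leaf 10))) (.node (.node (.node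 (.leaf 7) (.leaf 8)) (.leaf 10)) (.node (.node (.leaf 12) (.leaf 7)) (.leaf 10)))))) (.node (.node (.node (.node (.node (.node (.leaf 10) (.leaf 7)) (.node (.leaf 8) (.leaf 7))) (.node (.node (.leaf 7) (.leaf 7)) (.leaf 12))) (.node (.node (.node (.leaf 12) (.leaf 8)) (.leaf 10)) (.node (.node (.leaf 10) (.leaf 10)) (.leaf 8)))) (.node (.node (.node (.node (.leaf 12) (.leaf 7)) (.leaf 12)) (.node (.node (.leaf 10) (.leaf 8)) (.leaf 15))) (.node (.node (.node (.leaf 8) (.leaf 10)) (.leaf 8)) (.node (.node (.leaf 12) (.leaf 10)) (.leaf 8))))) (.node (.node (.node (.node (.node (.leaf 12) (.leaf 12)) (.leaf 7)) (.node (.node (.leaf 7) (.leaf 12)) (.leaf 7))) (.node (.node (.node (.leaf 12) (.leaf 12)) (.leaf 15)) (.node (.node (.leaf 15) (.leaf 15)) (.leaf 10)))) (.node (.node (.node (.node (.leaf 10) (.leaf 10)) (.leaf 12)) (.node (.node (.leaf 12) (.leaf 10)) (.leaf 12))) (.node (.node (.node (.leaf 10) (.leaf 8)) (.leaf 15)) (.node (.node (.leaf 10) (.leaf 12)) (.leaf 7))))))) (.node (.node (.node (.node (.node (.node (.node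 (.leaf 8) (.leaf 10)) (.node (.leaf 8) (.leaf 12))) (.node (.node (.leaf 12) (.leaf 10)) (.leaf 8))) (.node (.node (.node (.leaf 10) (.leaf 10)) (.leaf 10)) (.node (.node (.leaf 8) (.leaf 8)) (.leaf 10)))) (.node (.node (.node (.node (.leaf 10) (.leaf 7)) (.leaf 12)) (.node (.node (.leaf 8) (.leaf 7)) (.leaf 8))) (.node (.node (.node (.leaf 15) (.leaf 10)) (.leaf 12)) (.node (.node (.leaf 7) (.leaf 12)) (.leaf 10))))) (.node (.node (.node (.node (.node (.leaf 8) (.leaf 10)) (.leaf 10)) (.node (.node (.leaf 15) (.leaf 8)) (.leaf 10))) (.node (.node (.node (.leaf 8) (.leaf 10)) (.leaf 8)) (.node (.node (.leaf 15) (.leaf 10)) (.leaf 8)))) (.node (.node (.node (.node (.leaf 12) (.leaf 10)) (.leaf 10)) (.node (.node (.leaf 10) (.leaf 10)) (.leaf 8))) (.node (.node (.node (.leaf 10) (.leaf 8)) (.leaf 7)) (.node (.node (.leaf 10) (.leaf 12)) (.leaf 10)))))) (.node (.node (.node (.node (.node (.node (.leaf 10) (.leaf 15)) (.leaf 15)) (.node (.node (.leaf 15) (.leaf 10)) (.leaf 8))) (.node (.node (.node (.leaf 12) (.leaf 10)) (.leaf 7))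 (.node (.node (.leaf 10) (.leaf 7)) (.leaf 10)))) (.node (.node (.node (.node (.leaf 12) (.leaf 12)) (.leaf 15)) (.node (.node (.leaf 7) (.leaf 12)) (.leaf 7))) (.node (.node (.node (.leaf 12) (.leaf 8)) (.leaf 10)) (.node (.node (.leaf 10) (.leaf 10)) (.leaf 15))))) (.node (.node (.node (.node (.node (.leaf 12) (.leaf 10)) (.leaf 10)) (.node (.node (.leaf 10) (.leaf 10)) (.leaf 10))) (.node (.node (.node (.leaf 10) (.leaf 10)) (.leaf 15)) (.node (.node (.leaf 7) (.leaf 12)) (.leaf 10)))) (.node (.node (.node (.node (.leaf 7) (.leaf 10)) (.leaf 15)) (.node (.node (.leaf 8) (.leaf 7)) (.leaf 12))) (.node (.node (.node (.leaf 7) (.leaf 8)) (.leaf 7)) (.node (.node (.leaf 7) (.leaf 7)) (.leaf 12)))))))) (.node (.node (.node (.node (.node (.node (.node (.node (.leaf 10) (.leaf 12)) (.node (.leaf 7) (.leaf 7))) (.node (.node (.leaf 15) (.leaf 7)) (.leaf 12))) (.node (.node (.node (.leaf 12) (.leaf 12)) (.leaf 15)) (.node (.node (.leaf 10) (.leaf 10)) (.leaf 10)))) (.node (.node (.node (.node (.leaf 7) (.leaf 7)) (.leaf 15)) (.node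 (.node (.leaf 15) (.leaf 12)) (.leaf 12))) (.node (.node (.node (.leaf 8) (.leaf 7)) (.leaf 12)) (.node (.node (.leaf 7) (.leaf 7)) (.leaf 12))))) (.node (.node (.node (.node (.node (.leaf 8) (.leaf 8)) (.leaf 10)) (.node (.node (.leaf 15) (.leaf 10)) (.leaf 7))) (.node (.node (.node (.leaf 10) (.leaf 15)) (.leaf 10)) (.node (.node (.leaf 10) (.leaf 10)) (.leaf 7)))) (.node (.node (.node (.node (.leaf 12) (.leaf 15)) (.leaf 10)) (.node (.node (.leaf 10) (.leaf 10)) (.leaf 10))) (.node (.node (.node (.leaf 10) (.leaf 8)) (.leaf 12)) (.node (.node (.leaf 10) (.leaf 12)) (.leaf 15)))))) (.node (.node (.node (.node (.node (.node (.leaf 10) (.leaf 12)) (.node (.leaf 8) (.leaf 12))) (.node (.node (.leaf 8) (.leaf 15)) (.leaf 10))) (.node (.node (.node (.leaf 12) (.leaf 7)) (.leaf 10)) (.node (.node (.leaf 12) (.leaf 7)) (.leaf 12)))) (.node (.node (.node (.node (.leaf 10) (.leaf 8)) (.leaf 8)) (.node (.node (.leaf 8) (.leaf 10)) (.leaf 12))) (.node (.node (.node (.leaf 10) (.leaf 12)) (.leaf 10)) (.node (.node (.leaf 7) (.leaf 15))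 (.leaf 10))))) (.node (.node (.node (.node (.node (.leaf 15) (.leaf 7)) (.leaf 10)) (.node (.node (.leaf 8) (.leaf 10)) (.leaf 12))) (.node (.node (.node (.leaf 10) (.leaf 12)) (.leaf 10)) (.node (.node (.leaf 15) (.leaf 10)) (.leaf 10)))) (.node (.node (.node (.node (.leaf 10) (.leaf 10)) (.leaf 15)) (.node (.node (.leaf 7) (.leaf 12)) (.leaf 8))) (.node (.node (.node (.leaf 12) (.leaf 8)) (.leaf 10)) (.node (.node (.leaf 15) (.leaf 10)) (.leaf 15))))))) (.node (.node (.node (.node (.node (.node (.node (.leaf 10) (.leaf 12)) (.node (.leaf 15) (.leaf 7))) (.node (.node (.leaf 15) (.leaf 7)) (.leaf 7))) (.node (.node (.node (.leaf 10) (.leaf 8)) (.leaf 10)) (.node (.node (.leaf 12) (.leaf 10)) (.leaf 12)))) (.node (.node (.node (.node (.leaf 8) (.leaf 12)) (.leaf 8)) (.node (.node (.leaf 10) (.leaf 15)) (.leaf 12))) (.node (.node (.node (.leaf 15) (.leaf 8)) (.leaf 12)) (.node (.node (.leaf 8) (.leaf 15)) (.leaf 8))))) (.node (.node (.node (.node (.node (.leaf 10) (.leaf 7)) (.leaf 10)) (.node (.node (.leaf 8) (.leaf 10)) (.leaf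 8))) (.node (.node (.node (.leaf 12) (.leaf 10)) (.leaf 8)) (.node (.node (.leaf 12) (.leaf 15)) (.leaf 10)))) (.node (.node (.node (.node (.leaf 10) (.leaf 8)) (.leaf 12)) (.node (.node (.leaf 12) (.leaf 8)) (.leaf 10))) (.node (.node (.node (.leaf 10) (.leaf 8)) (.leaf 15)) (.node (.node (.leaf 8) (.leaf 15)) (.leaf 10)))))) (.node (.node (.node (.node (.node (.node (.leaf 10) (.leaf 10)) (.leaf 10)) (.node (.node (.leaf 7) (.leaf 10)) (.leaf 10))) (.node (.node (.node (.leaf 8) (.leaf 7)) (.leaf 10)) (.node (.node (.leaf 8) (.leaf 10)) (.leaf 7)))) (.node (.node (.node (.node (.leaf 7) (.leaf 8)) (.leaf 10)) (.node (.node (.leaf 10) (.leaf 12)) (.leaf 12))) (.node (.node (.node (.leaf 10) (.leaf 8)) (.leaf 10)) (.node (.node (.leaf 12) (.leaf 10)) (.leaf 7))))) (.node (.node (.node (.node (.node (.leaf 15) (.leaf 12)) (.leaf 10)) (.node (.node (.leaf 15) (.leaf 7)) (.leaf 10))) (.node (.node (.node (.leaf 8) (.leaf 10)) (.leaf 10)) (.node (.node (.leaf 12) (.leaf 10)) (.leaf 10)))) (.node (.node (.node (.node (.leaf 7) (.leaf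 8)) (.leaf 12)) (.node (.node (.leaf 10) (.leaf 10)) (.leaf 10))) (.node (.node (.node (.leaf 12) (.leaf 8)) (.leaf 15)) (.node (.node (.leaf 10) (.leaf 10)) (.leaf 10)))))))))

def classPow14 : Janko.Tree (ℕ) :=
  (.node (.node (.node (.node (.node (.node (.node (.node (.node (.leaf 10) (.leaf 10)) (.node (.leaf 12) (.leaf 10))) (.node (.node (.leaf 7) (.leaf 10)) (.leaf 12))) (.node (.node (.node (.leaf 12) (.leaf 12)) (.leaf 10)) (.node (.node (.leaf 7) (.leaf 10)) (.leaf 10)))) (.node (.node (.node (.node (.leaf 15) (.leaf 12)) (.leaf 10)) (.node (.node (.leaf 7) (.leaf 15)) (.leaf 10))) (.node (.node (.node (.leaf 10) (.leaf 8)) (.leaf 15)) (.node (.node (.leaf 12) (.leaf 12)) (.leaf 10))))) (.node (.node (.node (.node (.node (.leaf 10) (.leaf 7)) (.leaf 10)) (.node (.node (.leaf 15) (.leaf 15)) (.leaf 10))) (.node (.node (.node (.leaf 8) (.leaf 15)) (.leaf 12)) (.node (.node (.leaf 8) (.leaf 7)) (.leaf 15)))) (.node (.node (.node (.node (.leaf 8) (.leaf 7)) (.leaf 8)) (.node (.node (.leaf 10) (.leaf 12)) (.leaf 10))) (.node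 (.node (.node (.leaf 10) (.leaf 8)) (.leaf 12)) (.node (.node (.leaf 8) (.leaf 10)) (.leaf 7)))))) (.node (.node (.node (.node (.node (.node (.leaf 10) (.leaf 8)) (.node (.leaf 7) (.leaf 7))) (.node (.node (.leaf 12) (.leaf 8)) (.leaf 15))) (.node (.node (.node (.leaf 12) (.leaf 10)) (.leaf 10)) (.node (.node (.leaf 8) (.leaf 10)) (.leaf 8)))) (.node (.node (.node (.node (.leaf 10) (.leaf 7)) (.leaf 7)) (.node (.node (.leaf 15) (.leaf 8)) (.leaf 12))) (.node (.node (.node (.leaf 8) (.leaf 8)) (.leaf 10)) (.node (.node (.leaf 10) (.leaf 10)) (.leaf 8))))) (.node (.node (.node (.node (.node (.leaf 12) (.leaf 8)) (.leaf 8)) (.node (.node (.leaf 12) (.leaf 15)) (.leaf 12))) (.node (.node (.node (.leaf 8) (.leaf 10)) (.leaf 12)) (.node (.node (.leaf 10) (.leaf 15)) (.leaf 7)))) (.node (.node (.node (.node (.leaf 7) (.leaf 10)) (.leaf 12)) (.node (.node (.leaf 12) (.leaf 10)) (.leaf 12))) (.node (.node (.node (.leaf 12) (.leaf 8)) (.leaf 15)) (.node (.node (.leaf 7) (.leaf 7)) (.leaf 7))))))) (.node (.node (.node (.node (.node (.node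 (.node (.leaf 8) (.leaf 10)) (.node (.leaf 7) (.leaf 15))) (.node (.node (.leaf 7) (.leaf 8)) (.leaf 8))) (.node (.node (.node (.leaf 10) (.leaf 10)) (.leaf 12)) (.node (.node (.leaf 7) (.leaf 10)) (.leaf 10)))) (.node (.node (.node (.node (.leaf 15) (.leaf 12)) (.leaf 10)) (.node (.node (.leaf 7) (.leaf 12)) (.leaf 15))) (.node (.node (.node (.leaf 7) (.leaf 10)) (.leaf 10)) (.node (.node (.leaf 10) (.leaf 10)) (.leaf 12))))) (.node (.node (.node (.node (.node (.leaf 12) (.leaf 10)) (.leaf 10)) (.node (.node (.leaf 15) (.leaf 12)) (.leaf 10))) (.node (.node (.node (.leaf 7) (.leaf 10)) (.leaf 7)) (.node (.node (.leaf 10) (.leaf 7)) (.leaf 8)))) (.node (.node (.node (.node (.leaf 10) (.leaf 10)) (.leaf 7)) (.node (.node (.leaf 7) (.leaf 10)) (.leaf 8))) (.node (.node (.node (.leaf 10) (.leaf 8)) (.leaf 8)) (.node (.node (.leaf 7) (.leaf 12)) (.leaf 10)))))) (.node (.node (.node (.node (.node (.node (.leaf 10) (.leaf 15)) (.leaf 7)) (.node (.node (.leaf 10) (.leaf 10)) (.leaf 10))) (.node (.node (.node (.leaf 12) (.leaf 7)) (.leaf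 15)) (.node (.node (.leaf 12) (.leaf 15)) (.leaf 10)))) (.node (.node (.node (.node (.leaf 12) (.leaf 12)) (.leaf 7)) (.node (.node (.leaf 10) (.leaf 12)) (.leaf 10))) (.node (.node (.node (.leaf 15) (.leaf 8)) (.leaf 8)) (.node (.node (.leaf 8) (.leaf 10)) (.leaf 8))))) (.node (.node (.node (.node (.node (.leaf 10) (.leaf 12)) (.leaf 10)) (.node (.node (.leaf 7) (.leaf 15)) (.leaf 10))) (.node (.node (.node (.leaf 7) (.leaf 8)) (.leaf 12)) (.node (.node (.leaf 8) (.leaf 12)) (.leaf 8)))) (.node (.node (.node (.node (.leaf 10) (.leaf 10)) (.leaf 10)) (.node (.node (.leaf 12) (.leaf 10)) (.leaf 12))) (.node (.node (.node (.leaf 7) (.leaf 8)) (.leaf 8)) (.node (.node (.leaf 12) (.leaf 7)) (.leaf 10)))))))) (.node (.node (.node (.node (.node (.node (.node (.node (.leaf 10) (.leaf 8)) (.node (.leaf 10) (.leaf 10))) (.node (.node (.leaf 7) (.leaf 7)) (.leaf 10))) (.node (.node (.node (.leaf 12) (.leaf 8)) (.leaf 10)) (.node (.node (.leaf 7) (.leaf 10)) (.leaf 10)))) (.node (.node (.node (.node (.leaf 10) (.leaf 12)) (.leaf 10)) (.node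 (.node (.leaf 15) (.leaf 15)) (.leaf 10))) (.node (.node (.node (.leaf 10) (.leaf 7)) (.leaf 8)) (.node (.node (.leaf 7) (.leaf 15)) (.leaf 12))))) (.node (.node (.node (.node (.node (.leaf 8) (.leaf 10)) (.leaf 10)) (.node (.node (.leaf 12) (.leaf 7)) (.leaf 10))) (.node (.node (.node (.leaf 12) (.leaf 10)) (.leaf 15)) (.node (.node (.leaf 7) (.leaf 12)) (.leaf 15)))) (.node (.node (.node (.node (.leaf 15) (.leaf 8)) (.leaf 8)) (.node (.node (.leaf 12) (.leaf 10)) (.leaf 15))) (.node (.node (.node (.leaf 7) (.leaf 8)) (.leaf 15)) (.node (.node (.leaf 10) (.leaf 12)) (.leaf 10)))))) (.node (.node (.node (.node (.node (.node (.leaf 10) (.leaf 12)) (.node (.leaf 12) (.leaf 7))) (.node (.node (.leaf 7) (.leaf 10)) (.leaf 8))) (.node (.node (.node (.leaf 15) (.leaf 10)) (.leaf 10)) (.node (.node (.leaf 8) (.leaf 10)) (.leaf 12)))) (.node (.node (.node (.node (.leaf 10) (.leaf 10)) (.leaf 10)) (.node (.node (.leaf 10) (.leaf 10)) (.leaf 12))) (.node (.node (.node (.leaf 10) (.leaf 12)) (.leaf 10)) (.node (.node (.leaf 8) (.leaf 12))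 (.leaf 12))))) (.node (.node (.node (.node (.node (.leaf 7) (.leaf 8)) (.leaf 15)) (.node (.node (.leaf 10) (.leaf 15)) (.leaf 15))) (.node (.node (.node (.leaf 10) (.leaf 10)) (.leaf 10)) (.node (.node (.leaf 10) (.leaf 12)) (.leaf 15)))) (.node (.node (.node (.node (.leaf 15) (.leaf 7)) (.leaf 8)) (.node (.node (.leaf 8) (.leaf 12)) (.leaf 8))) (.node (.node (.node (.leaf 10) (.leaf 8)) (.leaf 10)) (.node (.node (.leaf 15) (.leaf 10)) (.leaf 7))))))) (.node (.node (.node (.node (.node (.node (.node (.leaf 10) (.leaf 12)) (.node (.leaf 15) (.leaf 7))) (.node (.node (.leaf 12) (.leaf 8)) (.leaf 12))) (.node (.node (.node (.leaf 10) (.leaf 10)) (.leaf 12)) (.node (.node (.leaf 12) (.leaf 10)) (.leaf 12)))) (.node (.node (.node (.node (.leaf 12) (.leaf 10)) (.leaf 10)) (.node (.node (.leaf 10) (.leaf 12)) (.leaf 10))) (.node (.node (.node (.leaf 10) (.leaf 7)) (.leaf 12)) (.node (.node (.leaf 12) (.leaf 10)) (.leaf 12))))) (.node (.node (.node (.node (.node (.leaf 12) (.leaf 7)) (.leaf 12)) (.node (.node (.leaf 12) (.leaf 7)) (.leaf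 12))) (.node (.node (.node (.leaf 15) (.leaf 12)) (.leaf 10)) (.node (.node (.leaf 8) (.leaf 8)) (.leaf 12)))) (.node (.node (.node (.node (.leaf 8) (.leaf 10)) (.leaf 10)) (.node (.node (.leaf 8) (.leaf 8)) (.leaf 7))) (.node (.node (.node (.leaf 15) (.leaf 8)) (.leaf 12)) (.node (.node (.leaf 15) (.leaf 10)) (.leaf 8)))))) (.node (.node (.node (.node (.node (.node (.leaf 10) (.leaf 7)) (.leaf 15)) (.node (.node (.leaf 15) (.leaf 8)) (.leaf 15))) (.node (.node (.node (.leaf 12) (.leaf 10)) (.leaf 12)) (.node (.node (.leaf 12) (.leaf 10)) (.leaf 8)))) (.node (.node (.node (.node (.leaf 10) (.leaf 12)) (.leaf 10)) (.node (.node (.leaf 8) (.leaf 12)) (.leaf 10))) (.node (.node (.node (.leaf 15) (.leaf 8)) (.leaf 8)) (.node (.node (.leaf 12) (.leaf 10)) (.leaf 12))))) (.node (.node (.node (.node (.node (.leaf 15) (.leaf 12)) (.leaf 10)) (.node (.node (.leaf 10) (.leaf 10)) (.leaf 10))) (.node (.node (.node (.leaf 10) (.leaf 10)) (.leaf 10)) (.node (.node (.leaf 10) (.leaf 12)) (.leaf 10)))) (.node (.node (.node (.node (.leaf 12)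 (.leaf 12)) (.leaf 7)) (.node (.node (.leaf 7) (.leaf 10)) (.leaf 10))) (.node (.node (.node (.leaf 15) (.leaf 8)) (.leaf 7)) (.node (.node (.leaf 8) (.leaf 10)) (.leaf 10)))))))))

def classPow15 : Janko.Tree (ℕ) :=
  (.node (.node (.node (.node (.node (.node (.node (.node (.node (.leaf 10) (.leaf 10)) (.node (.leaf 12) (.leaf 8))) (.node (.node (.leaf 12) (.leaf 15)) (.leaf 8))) (.node (.node (.node (.leaf 12) (.leaf 7)) (.leaf 8)) (.node (.node (.leaf 12) (.leaf 8)) (.leaf 10)))) (.node (.node (.node (.node (.leaf 10) (.leaf 12)) (.leaf 8)) (.node (.node (.leaf 12) (.leaf 15)) (.leaf 10))) (.node (.node (.node (.leaf 10) (.leaf 12)) (.leaf 15)) (.node (.node (.leaf 12) (.leaf 10)) (.leaf 10))))) (.node (.node (.node (.node (.node (.leaf 10) (.leaf 8)) (.leaf 15)) (.node (.node (.leaf 7) (.leaf 10)) (.leaf 12))) (.node (.node (.node (.leaf 7) (.leaf 10)) (.leaf 12)) (.node (.node (.leaf 10) (.leaf 15)) (.leaf 15)))) (.node (.node (.node (.node (.leaf 15) (.leaf 10)) (.leaf 12)) (.node (.node (.leaf 7) (.leaf 12)) (.leaf 8)))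 (.node (.node (.node (.leaf 15) (.leaf 8)) (.leaf 8)) (.node (.node (.leaf 15) (.leaf 7)) (.leaf 15)))))) (.node (.node (.node (.node (.node (.node (.leaf 10) (.leaf 10)) (.node (.leaf 7) (.leaf 10))) (.node (.node (.leaf 12) (.leaf 10)) (.leaf 8))) (.node (.node (.node (.leaf 8) (.leaf 10)) (.leaf 15)) (.node (.node (.leaf 12) (.leaf 8)) (.leaf 8)))) (.node (.node (.node (.node (.leaf 15) (.leaf 7)) (.leaf 10)) (.node (.node (.leaf 15) (.leaf 10)) (.leaf 10))) (.node (.node (.node (.leaf 12) (.leaf 12)) (.leaf 10)) (.node (.node (.leaf 12) (.leaf 15)) (.leaf 8))))) (.node (.node (.node (.node (.node (.leaf 7) (.leaf 10)) (.leaf 10)) (.node (.node (.leaf 7) (.leaf 12)) (.leaf 8))) (.node (.node (.node (.leaf 7) (.leaf 8)) (.leaf 8)) (.node (.node (.leaf 15) (.leaf 15)) (.leaf 8)))) (.node (.node (.node (.node (.leaf 12) (.leaf 10)) (.leaf 8)) (.node (.node (.leaf 12) (.leaf 10)) (.leaf 8))) (.node (.node (.node (.leaf 12) (.leaf 8)) (.leaf 12)) (.node (.node (.leaf 8) (.leaf 8)) (.leaf 12))))))) (.node (.node (.node (.node (.node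 (.node (.node (.leaf 8) (.leaf 12)) (.node (.leaf 10) (.leaf 8))) (.node (.node (.leaf 8) (.leaf 10)) (.leaf 8))) (.node (.node (.node (.leaf 10) (.leaf 7)) (.leaf 12)) (.node (.node (.leaf 12) (.leaf 10)) (.leaf 10)))) (.node (.node (.node (.node (.leaf 10) (.leaf 12)) (.leaf 12)) (.node (.node (.leaf 7) (.leaf 10)) (.leaf 10))) (.node (.node (.node (.leaf 12) (.leaf 10)) (.leaf 12)) (.node (.node (.leaf 12) (.leaf 15)) (.leaf 10))))) (.node (.node (.node (.node (.node (.leaf 12) (.leaf 10)) (.leaf 12)) (.node (.node (.leaf 10) (.leaf 10)) (.leaf 12))) (.node (.node (.node (.leaf 8) (.leaf 8)) (.leaf 10)) (.node (.node (.leaf 10) (.leaf 10)) (.leaf 8)))) (.node (.node (.node (.node (.leaf 10) (.leaf 10)) (.leaf 10)) (.node (.node (.leaf 10) (.leaf 10)) (.leaf 10))) (.node (.node (.node (.leaf 15) (.leaf 8)) (.leaf 7)) (.node (.node (.leaf 10) (.leaf 10)) (.leaf 15)))))) (.node (.node (.node (.node (.node (.node (.leaf 10) (.leaf 15)) (.leaf 10)) (.node (.node (.leaf 12) (.leaf 15)) (.leaf 7))) (.node (.node (.node (.leaf 12)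 (.leaf 12)) (.leaf 8)) (.node (.node (.leaf 12) (.leaf 10)) (.leaf 10)))) (.node (.node (.node (.node (.leaf 8) (.leaf 12)) (.leaf 15)) (.node (.node (.leaf 7) (.leaf 12)) (.leaf 7))) (.node (.node (.node (.leaf 15) (.leaf 8)) (.leaf 8)) (.node (.node (.leaf 10) (.leaf 10)) (.leaf 10))))) (.node (.node (.node (.node (.node (.leaf 8) (.leaf 7)) (.leaf 8)) (.node (.node (.leaf 12) (.leaf 10)) (.leaf 10))) (.node (.node (.node (.leaf 10) (.leaf 7)) (.leaf 10)) (.node (.node (.leaf 7) (.leaf 7)) (.leaf 8)))) (.node (.node (.node (.node (.leaf 15) (.leaf 12)) (.leaf 10)) (.node (.node (.leaf 10) (.leaf 10)) (.leaf 12))) (.node (.node (.node (.leaf 12) (.leaf 8)) (.leaf 8)) (.node (.node (.leaf 12) (.leaf 7)) (.leaf 15)))))))) (.node (.node (.node (.node (.node (.node (.node (.node (.leaf 8) (.leaf 15)) (.node (.leaf 7) (.leaf 10))) (.node (.node (.leaf 10) (.leaf 10)) (.leaf 12))) (.node (.node (.node (.leaf 12) (.leaf 10)) (.leaf 7)) (.node (.node (.leaf 7) (.leaf 8)) (.leaf 10)))) (.node (.node (.node (.node (.leaf 15) (.leaf 7))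 (.leaf 7)) (.node (.node (.leaf 12) (.leaf 8)) (.leaf 8))) (.node (.node (.node (.leaf 12) (.leaf 8)) (.leaf 10)) (.node (.node (.leaf 8) (.leaf 7)) (.leaf 10))))) (.node (.node (.node (.node (.node (.leaf 8) (.leaf 12)) (.leaf 10)) (.node (.node (.leaf 12) (.leaf 8)) (.leaf 7))) (.node (.node (.node (.leaf 12) (.leaf 15)) (.leaf 12)) (.node (.node (.leaf 12) (.leaf 15)) (.leaf 10)))) (.node (.node (.node (.node (.leaf 7) (.leaf 12)) (.leaf 12)) (.node (.node (.leaf 8) (.leaf 10)) (.leaf 10))) (.node (.node (.node (.leaf 8) (.leaf 8)) (.leaf 8)) (.node (.node (.leaf 15) (.leaf 10)) (.leaf 12)))))) (.node (.node (.node (.node (.node (.node (.leaf 10) (.leaf 7)) (.node (.leaf 10) (.leaf 7))) (.node (.node (.leaf 12) (.leaf 7)) (.leaf 8))) (.node (.node (.node (.leaf 12) (.leaf 10)) (.leaf 8)) (.node (.node (.leaf 12) (.leaf 10)) (.leaf 12)))) (.node (.node (.node (.node (.leaf 12) (.leaf 7)) (.leaf 8)) (.node (.node (.leaf 10) (.leaf 12)) (.leaf 10))) (.node (.node (.node (.leaf 10) (.leaf 10)) (.leaf 8)) (.node (.node (.leaf 8)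 (.leaf 7)) (.leaf 12))))) (.node (.node (.node (.node (.node (.leaf 7) (.leaf 15)) (.leaf 15)) (.node (.node (.leaf 12) (.leaf 10)) (.leaf 15))) (.node (.node (.node (.leaf 7) (.leaf 7)) (.leaf 15)) (.node (.node (.leaf 7) (.leaf 10)) (.leaf 8)))) (.node (.node (.node (.node (.leaf 8) (.leaf 10)) (.leaf 7)) (.node (.node (.leaf 10) (.leaf 12)) (.leaf 12))) (.node (.node (.node (.leaf 12) (.leaf 8)) (.leaf 10)) (.node (.node (.leaf 10) (.leaf 12)) (.leaf 10))))))) (.node (.node (.node (.node (.node (.node (.node (.leaf 10) (.leaf 12)) (.node (.leaf 12) (.leaf 8))) (.node (.node (.leaf 12) (.leaf 12)) (.leaf 10))) (.node (.node (.node (.leaf 15) (.leaf 8)) (.leaf 7)) (.node (.node (.leaf 12) (.leaf 8)) (.leaf 12)))) (.node (.node (.node (.node (.leaf 7) (.leaf 12)) (.leaf 10)) (.node (.node (.leaf 10) (.leaf 10)) (.leaf 15))) (.node (.node (.node (.leaf 12) (.leaf 12)) (.leaf 15)) (.node (.node (.leaf 7) (.leaf 10)) (.leaf 12))))) (.node (.node (.node (.node (.node (.leaf 12) (.leaf 10)) (.leaf 8)) (.node (.node (.leaf 12) (.leaf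 10)) (.leaf 12))) (.node (.node (.node (.leaf 8) (.leaf 8)) (.leaf 12)) (.node (.node (.leaf 10) (.leaf 15)) (.leaf 8)))) (.node (.node (.node (.node (.leaf 10) (.leaf 7)) (.leaf 8)) (.node (.node (.leaf 12) (.leaf 8)) (.leaf 12))) (.node (.node (.node (.leaf 12) (.leaf 8)) (.leaf 7)) (.node (.node (.leaf 10) (.leaf 10)) (.leaf 7)))))) (.node (.node (.node (.node (.node (.node (.leaf 10) (.leaf 10)) (.leaf 8)) (.node (.node (.leaf 10) (.leaf 10)) (.leaf 8))) (.node (.node (.node (.leaf 12) (.leaf 10)) (.leaf 10)) (.node (.node (.leaf 10) (.leaf 7)) (.leaf 10)))) (.node (.node (.node (.node (.leaf 10) (.leaf 8)) (.leaf 12)) (.node (.node (.leaf 7) (.leaf 12)) (.leaf 10))) (.node (.node (.node (.leaf 8) (.leaf 8)) (.leaf 10)) (.node (.node (.leaf 12) (.leaf 10)) (.leaf 10))))) (.node (.node (.node (.node (.node (.leaf 12) (.leaf 12)) (.leaf 10)) (.node (.node (.leaf 12) (.leaf 10)) (.leaf 12))) (.node (.node (.node (.leaf 12) (.leaf 10)) (.leaf 8)) (.node (.node (.leaf 12) (.leaf 15)) (.leaf 10)))) (.node (.node (.node (.node (.leaf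 12) (.leaf 7)) (.leaf 15)) (.node (.node (.leaf 8) (.leaf 10)) (.leaf 10))) (.node (.node (.node (.leaf 10) (.leaf 8)) (.leaf 7)) (.node (.node (.leaf 12) (.leaf 10)) (.leaf 8)))))))))

def classPow : Janko.Tree (ℕ) :=
  (.node (.node (.node (.node classPow0 classPow8) (.node classPow4 classPow12)) (.node (.node classPow2 classPow10) (.node classPow6 classPow14))) (.node (.node (.node classPow1 classPow9) (.node classPow5 classPow13)) (.node (.node classPow3 classPow11) (.node classPow7 classPow15))))

def witnesses : List (ℕ × ℕ × ℕ) := [(7, 3, 1), (8, 7, 1), (10, 1, 0), (12, 19, 1), (15, 5, 1)]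

def centerCand : List ℕ := [0, 129]

def minusWord : List Bool := [false, true, false, true, true]

def minusPow : ℕ := 7

def rootCoset : ℕ × ℕ × Bool := (133, 1079, true)

def genIdx : List ℕ := [0, 304, 100, 143]

def reflPar0 : Janko.Tree (ℕ × Bool) :=
  (.node (.node (.node (.node (.node (.leaf (0, false)) (.leaf (216, false))) (.leaf (86, false))) (.node (.leaf (41, true)) (.leaf (140, true)))) (.node (.node (.node (.leaf (19, false)) (.leaf (259, false))) (.leaf (113, true))) (.node (.leaf (63, false)) (.leaf (173, false))))) (.node (.node (.node (.node (.leaf (9, false)) (.leaf (237, true))) (.leaf (101, false))) (.node (.leaf (52, true)) (.leaf (153, false)))) (.node (.node (.node (.leaf (30, true)) (.leaf (281, false))) (.leaf (125, true))) (.node (.leaf (74, true)) (.leaf (196, false))))))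

def reflPar1 : Janko.Tree (ℕ × Bool) :=
  (.node (.node (.node (.node (.node (.leaf (0, false)) (.leaf (218, false))) (.leaf (86, true))) (.node (.leaf (42, false)) (.leaf (142, false)))) (.node (.node (.node (.leaf (19, true)) (.leaf (260, false))) (.leaf (114, false))) (.node (.leaf (63, true)) (.leaf (174, false))))) (.node (.node (.node (.node (.leaf (9, true)) (.leaf (239, false))) (.leaf (101, true))) (.node (.leaf (53, false)) (.leaf (153, true)))) (.node (.node (.node (.leaf (31, true)) (.leaf (281, true))) (.leaf (126, true))) (.node (.leaf (75, false)) (.leaf (196, true))))))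

def reflPar2 : Janko.Tree (ℕ × Bool) :=
  (.node (.node (.node (.node (.node (.leaf (0, true)) (.leaf (218, true))) (.leaf (87, true))) (.node (.leaf (43, false)) (.leaf (142, true)))) (.node (.node (.node (.leaf (20, true)) (.leaf (261, false))) (.leaf (114, true))) (.node (.leaf (64, false)) (.leaf (175, true))))) (.node (.node (.node (.node (.leaf (10, false)) (.leaf (239, true))) (.leaf (102, false))) (.node (.leaf (54, false)) (.leaf (154, false)))) (.node (.node (.node (.leaf (32, true)) (.leaf (282, false))) (.leaf (127, true))) (.node (.leaf (76, false)) (.leaf (197, false))))))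

def reflPar3 : Janko.Tree (ℕ × Bool) :=
  (.node (.node (.node (.node (.node (.leaf (1, true)) (.leaf (220, true))) (.leaf (88, false))) (.node (.leaf (44, true)) (.leaf (143, false)))) (.node (.node (.node (.leaf (21, false)) (.leaf (263, false))) (.leaf (115, true))) (.node (.leaf (64, true)) (.leaf (177, false))))) (.node (.node (.node (.node (.leaf (10, true)) (.leaf (240, false))) (.leaf (102, true))) (.node (.leaf (54, true)) (.leaf (154, true)))) (.node (.node (.node (.leaf (33, false)) (.leaf (282, true))) (.leaf (128, true))) (.node (.leaf (76, true)) (.leaf (198, true))))))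

def reflPar4 : Janko.Tree (ℕ × Bool) :=
  (.node (.node (.node (.node (.node (.leaf (2, false)) (.leaf (222, true))) (.leaf (90, false))) (.node (.leaf (45, false)) (.leaf (144, true)))) (.node (.node (.node (.leaf (22, true)) (.leaf (264, false))) (.leaf (116, false))) (.node (.leaf (65, true)) (.leaf (177, true))))) (.node (.node (.node (.node (.leaf (11, false)) (.leaf (242, false))) (.leaf (103, false))) (.node (.leaf (55, false)) (.leaf (155, false)))) (.node (.node (.node (.leaf (34, false)) (.leaf (288, true))) (.leaf (129, false))) (.node (.leaf (77, false)) (.leaf (199, true))))))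

def reflPar5 : Janko.Tree (ℕ × Bool) :=
  (.node (.node (.node (.node (.node (.leaf (2, true)) (.leaf (225, false))) (.leaf (92, false))) (.node (.leaf (45, true)) (.leaf (145, true)))) (.node (.node (.node (.leaf (23, false)) (.leaf (265, false))) (.leaf (117, true))) (.node (.leaf (66, false)) (.leaf (179, true))))) (.node (.node (.node (.node (.leaf (11, true)) (.leaf (242, true))) (.leaf (104, false))) (.node (.leaf (55, true)) (.leaf (160, true)))) (.node (.node (.node (.leaf (34, true)) (.leaf (289, false))) (.leaf (129, true))) (.node (.leaf (78, false)) (.leaf (202, false))))))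

def reflPar6 : Janko.Tree (ℕ × Bool) :=
  (.node (.node (.node (.node (.node (.leaf (3, false)) (.leaf (226, true))) (.leaf (93, false))) (.node (.leaf (46, false)) (.leaf (146, false)))) (.node (.node (.node (.leaf (24, false)) (.leaf (265, true))) (.leaf (118, false))) (.node (.leaf (67, false)) (.leaf (182, false))))) (.node (.node (.node (.node (.leaf (12, false)) (.leaf (243, true))) (.leaf (104, true))) (.node (.leaf (56, false)) (.leaf (162, false)))) (.node (.node (.node (.leaf (35, true)) (.leaf (292, true))) (.leaf (130, false))) (.node (.leaf (78, true)) (.leaf (202, true))))))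

def reflPar7 : Janko.Tree (ℕ × Bool) :=
  (.node (.node (.node (.node (.node (.leaf (3, true)) (.leaf (227, false))) (.leaf (93, true))) (.node (.leaf (46, true)) (.leaf (146, true)))) (.node (.node (.node (.leaf (25, false)) (.leaf (266, true))) (.leaf (119, false))) (.node (.leaf (67, true)) (.leaf (185, true))))) (.node (.node (.node (.node (.leaf (12, true)) (.leaf (244, false))) (.leaf (105, false))) (.node (.leaf (57, false)) (.leaf (162, true)))) (.node (.node (.node (.leaf (36, false)) (.leaf (294, true))) (.leaf (132, false))) (.node (.leaf (80, false)) (.leaf (204, true))))))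

def reflPar8 : Janko.Tree (ℕ × Bool) :=
  (.node (.node (.node (.node (.node (.leaf (4, false)) (.leaf (227, true))) (.leaf (95, false))) (.node (.leaf (48, false)) (.leaf (147, true)))) (.node (.node (.node (.leaf (25, true)) (.leaf (269, true))) (.leaf (119, true))) (.node (.leaf (68, true)) (.leaf (187, true))))) (.node (.node (.node (.node (.leaf (13, false)) (.leaf (245, false))) (.leaf (105, true))) (.node (.leaf (58, false)) (.leaf (163, false)))) (.node (.node (.node (.leaf (36, true)) (.leaf (295, true))) (.leaf (132, true))) (.node (.leaf (80, true)) (.leaf (205, true))))))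

def reflPar9 : Janko.Tree (ℕ × Bool) :=
  (.node (.node (.node (.node (.node (.leaf (4, true)) (.leaf (228, false))) (.leaf (95, true))) (.node (.leaf (48, true)) (.leaf (148, false)))) (.node (.node (.node (.leaf (26, false)) (.leaf (270, false))) (.leaf (120, false))) (.node (.leaf (69, false)) (.leaf (190, false))))) (.node (.node (.node (.node (.leaf (13, true)) (.leaf (245, true))) (.leaf (106, true))) (.node (.leaf (58, true)) (.leaf (164, false)))) (.node (.node (.node (.leaf (37, false)) (.leaf (304, true))) (.leaf (133, true))) (.node (.leaf (81, false)) (.leaf (207, false))))))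

def reflPar10 : Janko.Tree (ℕ × Bool) :=
  (.node (.node (.node (.node (.node (.leaf (5, false)) (.leaf (231, false))) (.leaf (97, false))) (.node (.leaf (49, false)) (.leaf (148, true)))) (.node (.node (.node (.leaf (26, true)) (.leaf (271, false))) (.leaf (121, false))) (.node (.leaf (70, false)) (.leaf (191, false))))) (.node (.node (.node (.node (.leaf (14, true)) (.leaf (247, false))) (.leaf (107, false))) (.node (.leaf (59, false)) (.leaf (164, true)))) (.node (.node (.node (.leaf (37, true)) (.leaf (305, false))) (.leaf (134, false))) (.node (.leaf (81, true)) (.leaf (209, false))))))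

def reflPar11 : Janko.Tree (ℕ × Bool) :=
  (.node (.node (.node (.node (.node (.leaf (6, false)) (.leaf (232, false))) (.leaf (97, true))) (.node (.leaf (49, true)) (.leaf (149, true)))) (.node (.node (.node (.leaf (27, true)) (.leaf (271, true))) (.leaf (122, true))) (.node (.leaf (70, true)) (.leaf (191, true))))) (.node (.node (.node (.node (.leaf (15, false)) (.leaf (248, false))) (.leaf (107, true))) (.node (.leaf (59, true)) (.leaf (166, true)))) (.node (.node (.leaf (38, true)) (.leaf (134, true))) (.node (.leaf (82, false)) (.leaf (210, false))))))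

def reflPar12 : Janko.Tree (ℕ × Bool) :=
  (.node (.node (.node (.node (.node (.leaf (6, true)) (.leaf (234, true))) (.leaf (98, false))) (.node (.leaf (50, false)) (.leaf (151, false)))) (.node (.node (.node (.leaf (28, false)) (.leaf (275, false))) (.leaf (123, true))) (.node (.leaf (71, false)) (.leaf (193, true))))) (.node (.node (.node (.node (.leaf (16, false)) (.leaf (255, false))) (.leaf (109, false))) (.node (.leaf (60, true)) (.leaf (167, false)))) (.node (.node (.leaf (39, false)) (.leaf (135, false))) (.node (.leaf (82, true)) (.leaf (211, false))))))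

def reflPar13 : Janko.Tree (ℕ × Bool) :=
  (.node (.node (.node (.node (.node (.leaf (7, false)) (.leaf (236, false))) (.leaf (99, false))) (.node (.leaf (50, true)) (.leaf (151, true)))) (.node (.node (.node (.leaf (28, true)) (.leaf (276, false))) (.leaf (124, false))) (.node (.leaf (71, true)) (.leaf (194, false))))) (.node (.node (.node (.node (.leaf (16, true)) (.leaf (255, true))) (.leaf (110, false))) (.node (.leaf (61, false)) (.leaf (167, true)))) (.node (.node (.leaf (39, true)) (.leaf (135, true))) (.node (.leaf (83, false)) (.leaf (212, true))))))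

def reflPar14 : Janko.Tree (ℕ × Bool) :=
  (.node (.node (.node (.node (.node (.leaf (8, false)) (.leaf (236, true))) (.leaf (100, false))) (.node (.leaf (51, false)) (.leaf (152, false)))) (.node (.node (.node (.leaf (29, false)) (.leaf (276, true))) (.leaf (124, true))) (.node (.leaf (72, false)) (.leaf (194, true))))) (.node (.node (.node (.node (.leaf (17, false)) (.leaf (257, false))) (.leaf (110, true))) (.node (.leaf (61, true)) (.leaf (169, true)))) (.node (.node (.leaf (40, false)) (.leaf (136, false))) (.node (.leaf (84, false)) (.leaf (214, false))))))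

def reflPar15 : Janko.Tree (ℕ × Bool) :=
  (.node (.node (.node (.node (.node (.leaf (8, true)) (.leaf (237, false))) (.leaf (100, true))) (.node (.leaf (51, true)) (.leaf (152, true)))) (.node (.node (.node (.leaf (29, true)) (.leaf (280, false))) (.leaf (125, false))) (.node (.leaf (72, true)) (.leaf (195, false))))) (.node (.node (.node (.node (.leaf (18, false)) (.leaf (257, true))) (.leaf (113, false))) (.node (.leaf (62, true)) (.leaf (172, true)))) (.node (.node (.leaf (41, false)) (.leaf (137, false))) (.node (.leaf (85, false)) (.leaf (214, true))))))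

def reflPar : Janko.Tree (ℕ × Bool) :=
  (.node (.node (.node (.node reflPar0 reflPar8) (.node reflPar4 reflPar12)) (.node (.node reflPar2 reflPar10) (.node reflPar6 reflPar14))) (.node (.node (.node reflPar1 reflPar9) (.node reflPar5 reflPar13)) (.node (.node reflPar3 reflPar11) (.node reflPar7 reflPar15))))

def reflMat0 : Janko.Tree (M7) :=
  (.node (.node (.node (.node (.node (.leaf ⟨6920343983633727490, 5765170610577612800, 9224216461852049410, 11530904170806657026, 1689056186486789, 6917529233883439113, 4722366482869645213696⟩) (.leaf ⟨2814749767106560, 11529215046068469760, 16777216, 68719476736, 10, 40960, 4722366482869645213696⟩)) (.leaf ⟨6919781239838736390, 10376294022598647808, 2308376284104773639, 2252212130562053, 618475311113, 618525655040, 4722366482869645213696⟩)) (.node (.leaf ⟨1407924790362118, 5764608004120928256, 3460734838657527815, 10378545341275344904, 1689399767072773, 6917529508727771136, 4722366482869645213696⟩) (.leaf ⟨3458764994957541382, 10378827159966867456, 9224779411839008773, 563362270306308,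 206158462985, 343748378626, 4722366482869645213696⟩))) (.node (.node (.node (.leaf ⟨1154329017046794244, 9224217080394432512, 5765170473021247497, 5764889135449927683, 1689262261051400, 6917529165247827976, 4722366482869645213696⟩) (.leaf ⟨3461297926100221952, 8072702538337484800, 5764607523134935043, 1689262177136644, 1689262177157127, 6917529027725004803, 4722366482869645213696⟩)) (.leaf ⟨8072702606989852672, 9223935193117622272, 1688849960955907, 6917529439957954562, 1688849960943624, 6917529439957975049, 4722366482869645213696⟩)) (.node (.leaf ⟨687245099008, 549923586048, 4104, 12289, 281474976710656, 1152921504606846976, 4722366482869645213696⟩) (.leaf ⟨11530904033485127684, 3461016932243750912, 6920062302465069065, 6920343914847170563, 1689193558315011, 6917529646133174275, 4722366482869645213696⟩)))) (.node (.node (.node (.node (.leaf ⟨3460735388480438272, 10378545478764593152, 1688849960939522, 6917529439957958664, 1688849960960009, 6917529439957970947, 4722366482869645213696⟩) (.leaf ⟨9225342774008610822, 10377137966475665408,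 10377137966492438528, 3459890826044243974, 137489297417, 206275899400, 4722366482869645213696⟩)) (.leaf ⟨4613937887061213186, 10378827434811203584, 5766859322948624393, 1153766341853863942, 1126312240508937, 4611686568317452290, 4722366482869645213696⟩)) (.node (.leaf ⟨3459890826212016130, 2308376627635036160, 3461579263688331269, 3460172301020995593, 1126449713020930, 4611686705722834946, 4722366482869645213696⟩) (.leaf ⟨2305843352962072576, 2308095358783193088, 5766577847971897352, 4613093805627838464, 1689262244270082, 6917529508778082307, 4722366482869645213696⟩))) (.node (.node (.node (.leaf ⟨4613093943066755078, 6918655065020456960, 3458764513820553218, 5767140797824630793, 1689399699992582, 6917529027674656775, 4722366482869645213696⟩) (.leaf ⟨8072139382259187718, 5766578397710934016, 10377137966391754760, 2305843009213730822, 1688987332788229, 6917529233799536644, 4722366482869645213696⟩)) (.leaf ⟨9224779686700122118, 563362337415168, 3458764513921232902, 10378827228568899591, 549906821120, 33574921, 4722366482869645213696⟩))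 (.node (.leaf ⟨1, 4096, 1155173304420532224, 3459045988797251584, 687245099008, 549923586048, 4722366482869645213696⟩) (.leaf ⟨5764608141559857158, 1689056085827584, 3461297788610945027, 8072702332061626375, 1689399733542912, 6917529646166704133, 4722366482869645213696⟩)))))

def reflMat1 : Janko.Tree (M7) :=
  (.node (.node (.node (.node (.node (.leaf ⟨5767422547712802820, 3459609145060114432, 1154610354500694019, 10377701053784137730, 1689537206050819, 6917529440058646536, 4722366482869645213696⟩) (.leaf ⟨9225905861400985600, 563362303836160, 8072139382208868358, 5766578260188069897, 1689124822069248, 6917529440025088009, 4722366482869645213696⟩)) (.leaf ⟨5766297060223483910, 10376575360169959424, 10377419441435578373, 2306687709021765635, 563087425953801, 2305843284225843210, 4722366482869645213696⟩)) (.node (.leaf ⟨4613656755581222918, 10377982391405797376, 10377982391422570496, 8071576844471631878, 137556422665, 412434329605, 4722366482869645213696⟩) (.leaf ⟨9223653924249010182, 9225060955468095488, 3459890413760958465,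 2308376421443067913, 1126449696223240, 4611686293338853381, 4722366482869645213696⟩))) (.node (.node (.node (.leaf ⟨9223372586761584640, 6918091977628057600, 4613093393411616768, 6918655339864821769, 1689330997276678, 6917529371355906057, 4722366482869645213696⟩) (.leaf ⟨8072139519580700678, 5766578054029664256, 844424930168835, 2307250384097255424, 1688849893834757, 6917529233900199940, 4722366482869645213696⟩)) (.leaf ⟨3461016863423594500, 1154329154401878016, 5764888998044512260, 6920062439870439433, 1689262277820417, 6917529096394145798, 4722366482869645213696⟩)) (.node (.leaf ⟨6918374139916976134, 11531467258299703296, 8071294957211619334, 2306406096606105605, 1126174818324490, 4611686224736825347, 4722366482869645213696⟩) (.leaf ⟨5764608004137680902, 1688987383128064, 2307813334050684930, 6919499352478072838, 1689468436242432, 6917529508744527877, 4722366482869645213696⟩)))) (.node (.node (.node (.node (.leaf ⟨10376856628954660866, 3459890482547531776, 3460171888804794369, 9223653924148371461, 1126449796882435, 4611686362192551943,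 4722366482869645213696⟩) (.leaf ⟨6918655065137872902, 8072139382242435072, 6918091977594540032, 3458764513820577795, 1689193507999751, 6917529165080051717, 4722366482869645213696⟩)) (.leaf ⟨206175207424, 687245099008, 32778, 4104, 281474976710656, 1152921504606846976, 4722366482869645213696⟩)) (.node (.leaf ⟨2533412313235456, 9225905311779389440, 5766577847971909632, 4613093805627822083, 1689262244233224, 6917529508778119170, 4722366482869645213696⟩) (.leaf ⟨5766860010193682438, 1153766341954527232, 4613937818274631686, 10378826953691009029, 1126381094199297, 4611686568216789000, 4722366482869645213696⟩))) (.node (.node (.node (.leaf ⟨4613375349407875072, 8072984081949786112, 1688849960943620, 6917529439957962761, 1688849960955911, 6917529439957966850, 4722366482869645213696⟩) (.leaf ⟨4613375143266222080, 8072984288225656832, 1407374984245255, 5764607935351119874, 1688849944178695, 6917529371238490114, 4722366482869645213696⟩)) (.leaf ⟨2308376902563266562, 9225343048970412032, 3460171888804765706, 9223653924148367366, 1126449796911112,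 4611686362192580612, 4722366482869645213696⟩)) (.node (.leaf ⟨5766578466380054534, 4613093393361297408, 6918091977594511360, 3458764513820549128, 1689193508003844, 6917529165080064006, 4722366482869645213696⟩) (.leaf ⟨844562503303168, 2307251002572537856, 4613093393411641353, 6918655339864817664, 1689330997264386, 6917529371355918342, 4722366482869645213696⟩)))))

def reflMat2 : Janko.Tree (M7) :=
  (.node (.node (.node (.node (.node (.leaf ⟨2306687640453251072, 3460735319828070400, 6917529027741777927, 1407787200450563, 1689193457684483, 6917529027741757444, 4722366482869645213696⟩) (.leaf ⟨563431090421766, 3460453707395653632, 10378826816352698373, 9223372449171660804, 137573171203, 618475298821, 4722366482869645213696⟩)) (.leaf ⟨5764889547884199938, 6920062920940331008, 9224216461852028937, 11530904170806669321, 1689056186490886, 6917529233883402242, 4722366482869645213696⟩)) (.node (.leaf ⟨10377420128663896068, 2306687640436490240, 6918936402625302531, 2308658171297685507, 563293584367618, 2305843352827871240, 4722366482869645213696⟩)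 (.leaf ⟨6918655339999002630, 8072140000583507968, 10376293541461643273, 10377137966391787520, 1688987450232839, 6917529027775315973, 4722366482869645213696⟩))) (.node (.node (.node (.leaf ⟨6917529508744527878, 1407512406417408, 10377419441368481794, 5765733422941093894, 1688987383123968, 6917529302636429318, 4722366482869645213696⟩) (.leaf ⟨1407649828569094, 5764607866782638080, 8071857907131510789, 4612248968380825602, 1689124805279749, 6917529371389480960, 4722366482869645213696⟩)) (.leaf ⟨1152921504606846976, 2814749767106560, 16777216, 68719476736, 40960, 1, 4722366482869645213696⟩)) (.node (.leaf ⟨9223935193100845060, 4612249037184188416, 6919217877602041857, 1153484866877161478, 563293567594500, 2305843421681557513, 4722366482869645213696⟩) (.leaf ⟨1407787233968134, 5764607797979275264, 5765733422941097988, 2307813334050676743, 1689262210678789, 6917529302586118144, 4722366482869645213696⟩)))) (.node (.node (.node (.node (.leaf ⟨5766578260322287622, 4613094011786256384, 2305843009213714441, 2308094809027411968, 1689468369133572,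 6917529027691442182, 4722366482869645213696⟩) (.leaf ⟨4613937818324959238, 9225905655242579968, 4613937818341736453, 9225905723962052608, 481170583560, 549789401090, 4722366482869645213696⟩)) (.leaf ⟨4612530718285758464, 3461297994920361984, 1407374984245251, 5764607935351107586, 1688849944178691, 6917529371238477826, 4722366482869645213696⟩)) (.node (.leaf ⟨10376857109974220802, 3459891101006045184, 9225060886815711242, 3461579675904528390, 1126106115612675, 4611686430761033735, 4722366482869645213696⟩) (.leaf ⟨1407718631931910, 5764608004188037120, 6919499352478081031, 10377419441368502276, 1689193608642565, 6917529508794880000, 4722366482869645213696⟩))) (.node (.node (.node (.leaf ⟨4613937818341736454, 9225905723962056704, 8071294957278724102, 3459327876090847232, 274928267272, 206309457922, 4722366482869645213696⟩) (.leaf ⟨8071294957261946886, 3459327807371370496, 8071294957278724101, 3459327876090843136, 274928254979, 206309437449, 4722366482869645213696⟩)) (.leaf ⟨4612249380714446852, 3461298338500984832, 1153484454660952072,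 5766015310234652675, 563637232103427, 2305843146753318914, 4722366482869645213696⟩)) (.node (.leaf ⟨2308094809161596928, 10376294160037576704, 4613093393411604489, 6918655339864817669, 1689330997301257, 6917529371355938816, 4722366482869645213696⟩) (.leaf ⟨9226186786621882368, 1155173304420532224, 16777216, 68719476736, 12289, 40963, 4722366482869645213696⟩)))))

def reflMat3 : Janko.Tree (M7) :=
  (.node (.node (.node (.node (.node (.leaf ⟨9225061024321765382, 3461579607285719040, 10376856491448635397, 3459890551166377989, 1126037396140035, 4611686155983806465, 4722366482869645213696⟩) (.leaf ⟨16777216, 68719476736, 1, 4096, 281474976710656, 1152921504606846976, 4722366482869645213696⟩)) (.leaf ⟨10378545547584733184, 9224498417932173312, 5764607523134930951, 1689262177161219, 1689262177132552, 6917529027725000711, 4722366482869645213696⟩)) (.node (.leaf ⟨3459045988797251584, 11530059470998601728, 16777216, 68719476736, 32778, 4104, 4722366482869645213696⟩) (.leaf ⟨9225905311745835014, 8071295369494945792, 3459327463874625542,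 4613938230557958144, 549822935047, 137489321992, 4722366482869645213696⟩))) (.node (.node (.node (.leaf ⟨2305843352928518150, 6919781102416584704, 844425030819844, 2308376696320978950, 33591302, 206191984643, 4722366482869645213696⟩) (.leaf ⟨8072139931864006662, 5766577985343741952, 9223372036854788098, 6918091977594503177, 1689056119373829, 6917529027792101380, 4722366482869645213696⟩)) (.leaf ⟨1689262210678790, 6917529302586122240, 6919499352478076932, 10377419441368473607, 1689193608642566, 6917529508794884096, 4722366482869645213696⟩)) (.node (.leaf ⟨2305843421597663238, 6919781308591792128, 2251799914369031, 10376856903731920901, 151031814, 549906808835, 4722366482869645213696⟩) (.leaf ⟨2307250796414107654, 4613656343348273152, 4613656343365046272, 10377982803638747142, 481187368964, 481120243716, 4722366482869645213696⟩)))) (.node (.node (.node (.node (.leaf ⟨11530622902038691842, 2307531996546473984, 6917810502684917762, 9225624111546380297, 1689193591869442, 6917529096410910725, 4722366482869645213696⟩) (.leaf ⟨10377137966525972480,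 2305843627789647872, 8072139382208856073, 5766578260188102661, 1689124822065154, 6917529440025063424, 4722366482869645213696⟩)) (.leaf ⟨6917529646217035782, 1407855987023872, 4612248968380817415, 4613374868287676423, 1689330963730432, 6917529165163921414, 4722366482869645213696⟩)) (.node (.leaf ⟨5764889204236484610, 6920062440021434368, 3461016313701367810, 1154329154368323586, 1689399632879622, 6917529577497563138, 4722366482869645213696⟩) (.leaf ⟨5766577847921541126, 4613093530900914176, 2307250384097247234, 2251799813697538, 1689468335579140, 6917529371288825862, 4722366482869645213696⟩))) (.node (.node (.node (.leaf ⟨5765452291679191046, 2305843284175511552, 2308376284104777732, 2252212130574342, 618475315202, 618525634560, 4722366482869645213696⟩) (.leaf ⟨3461298338417082372, 8072984494333771776, 6919217877602021386, 1153484866877140997, 563293567614983, 2305843421681586178, 4722366482869645213696⟩)) (.leaf ⟨6919218083827548166, 1153484660802609152, 3461297788678078467, 8072984081916272646, 563499826696193, 2305843627722563593,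 4722366482869645213696⟩)) (.node (.leaf ⟨2308376421543706626, 9225342430511898624, 9225060886815739905, 3461579675904532485, 1126106115641352, 4611686430761062404, 4722366482869645213696⟩) (.leaf ⟨5765733766605570048, 2307813471607062528, 1407374984241154, 5764607935351111684, 1688849944174594, 6917529371238481924, 4722366482869645213696⟩)))))

def reflMat4 : Janko.Tree (M7) :=
  (.node (.node (.node (.node (.node (.leaf ⟨4613093943150641158, 6918654927581503488, 9225905311645184000, 562949953441801, 1689056018722822, 6917529646267387911, 4722366482869645213696⟩) (.leaf ⟨2307532477582802946, 1154610560692658176, 9225623836735578115, 5767422547679256583, 1689056102617089, 6917529577413697541, 4722366482869645213696⟩)) (.leaf ⟨3459609076239958020, 6917810640174202880, 10377700916378767362, 11530622558390988804, 1688987467022342, 6917529371339141130, 4722366482869645213696⟩)) (.node (.leaf ⟨6917810983805124612, 9225624386457845760, 1154610354500681736, 10377701053784166409, 1689537206046728, 6917529440058609667, 4722366482869645213696⟩)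 (.leaf ⟨6918091977678389254, 4612812261931638784, 6918091977695166469, 4612812330651111424, 343664513028, 137556402183, 4722366482869645213696⟩))) (.node (.node (.node (.leaf ⟨11530904514471133188, 3461016451123527680, 5765170473021218818, 5764889135449915400, 1689262261014531, 6917529165247832067, 4722366482869645213696⟩) (.leaf ⟨5766577985461157894, 4613093393445183488, 5767140797824667648, 9223372036854812675, 1689262311366660, 6917529646116401158, 4722366482869645213696⟩)) (.leaf ⟨5766578191518924806, 4613093530749919232, 10376293541461647362, 10377137966391767040, 1688987450236932, 6917529027775328262, 4722366482869645213696⟩)) (.node (.leaf ⟨5764608072907489286, 1689468385910784, 10378545341275320329, 9224497936761647112, 1688987433459712, 6917529577514336261, 4722366482869645213696⟩) (.leaf ⟨11531748664590467078, 6919217946271178752, 8072983807105458177, 9223935261686136840, 563224965550086, 2305843627840016389, 4722366482869645213696⟩)))) (.node (.node (.node (.node (.leaf ⟨1153766341937725446, 6918373590177964032, 2306405959200690178,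 4613937955680047105, 1126518449283078, 4611686155916685320, 4722366482869645213696⟩) (.leaf ⟨6918937089853620230, 2308658102712426496, 2307813334117781509, 10378545616153247747, 563568579727362, 2305843490300383233, 4722366482869645213696⟩)) (.leaf ⟨1, 4096, 2814749767106560, 11529215046068469760, 167772160, 687194767360, 4722366482869645213696⟩)) (.node (.leaf ⟨10377419922555797504, 5765733904061300736, 5764607523134914567, 1689262177161222, 1689262177132549, 6917529027724984327, 4722366482869645213696⟩) (.leaf ⟨281474976710656, 1152921504606846976, 16777216, 68719476736, 1, 4096, 4722366482869645213696⟩))) (.node (.node (.node (.leaf ⟨9224779892875329542, 563293668270080, 9223372036955455493, 2306406371484000260, 206191996928, 151015433, 4722366482869645213696⟩) (.leaf ⟨10376856835129868294, 844699891949568, 5765451948065054724, 2305843421530583046, 412350423040, 206158438408, 4722366482869645213696⟩)) (.leaf ⟨2252143528509446, 10376856766376861696, 2305843009314381828, 6919781239771656198, 618575953929, 50364425, 4722366482869645213696⟩))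 (.node (.leaf ⟨167772160, 687194767360, 10, 40960, 281474976710656, 1152921504606846976, 4722366482869645213696⟩) (.leaf ⟨9225905517803601920, 563293701799936, 4613093393411637253, 6918655339864784898, 1689330997276672, 6917529371355942921, 4722366482869645213696⟩)))))

def reflMat5 : Janko.Tree (M7) :=
  (.node (.node (.node (.node (.node (.leaf ⟨844837314101254, 2308376765141114880, 2305843009314377735, 6919781239771643909, 618575953922, 50343938, 4722366482869645213696⟩) (.leaf ⟨10, 40960, 16777216, 68719476736, 281474976710656, 1152921504606846976, 4722366482869645213696⟩)) (.leaf ⟨1, 4096, 11529215046068469760, 281474976710656, 68719476736, 167772160, 4722366482869645213696⟩)) (.node (.leaf ⟨4613938505519726594, 10378826953791643648, 6918373452671881218, 11531467258199035909, 1126243672027145, 4611686224636182530, 4722366482869645213696⟩) (.leaf ⟨1153766273235025926, 6918374071063306240, 10378826816285597705, 8071295094617038858, 1126037463277574, 4611686637036908552, 4722366482869645213696⟩))) (.node (.node (.node (.leaf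 ⟨10377701053935124482, 11530622970825285632, 9225623836735606792, 5767422547679285252, 1689056102588426, 6917529577413693446, 4722366482869645213696⟩) (.leaf ⟨5766577985310162950, 4613093805762043904, 562949953458182, 3459327463773962243, 1688849910620164, 6917529165231058950, 4722366482869645213696⟩)) (.leaf ⟨6917529302636429318, 1407993459531776, 2307813334050697225, 6919499352478085125, 1689468436238336, 6917529508744527878, 4722366482869645213696⟩)) (.node (.leaf ⟨1, 4096, 281474976710656, 1152921504606846976, 16777216, 68719476736, 4722366482869645213696⟩) (.leaf ⟨3459890757341544450, 2308376696471953408, 9223653511932174342, 9225061299031904258, 1126106199523330, 4611686087230767106, 4722366482869645213696⟩)))) (.node (.node (.node (.node (.leaf ⟨6917529165163921414, 1407649878925312, 8072983807038361604, 8071857907131502596, 1689124855631872, 6917529646217035782, 4722366482869645213696⟩) (.leaf ⟨2308658308837277702, 5766296579220725760, 2306687434210947075, 2307813608928600065, 563568462303237, 2305843215439273989, 4722366482869645213696⟩))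 (.leaf ⟨3460172026310819846, 9223653855529558016, 2308376284037681157, 9225342499130744837, 1126518516383752, 4611686636969807882, 4722366482869645213696⟩)) (.node (.leaf ⟨8071294957278724102, 3459327876090847232, 4613937818341736454, 9225905723962056704, 481170571267, 549789380617, 4722366482869645213696⟩) (.leaf ⟨4613093599469371398, 6918655546174234624, 9223372036854808585, 6918091977594503170, 1689056119386118, 6917529027792097287, 4722366482869645213696⟩))) (.node (.node (.node (.leaf ⟨8072139931947892742, 5766577847904788480, 3459327463773974528, 2533274790416393, 1689399616094213, 6917529165113614340, 4722366482869645213696⟩) (.leaf ⟨2307813815238000640, 6919499833598279680, 6917529027741761543, 1407787200450566, 1689193457684486, 6917529027741773828, 4722366482869645213696⟩)) (.leaf ⟨9223935124297482240, 4612530649633390592, 6917529027741782019, 1407787200425988, 1689193457659908, 6917529027741753352, 4722366482869645213696⟩)) (.node (.leaf ⟨10377982391472881664, 844974836940800, 5766577847971872776, 4613093805627838466,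 1689262244241408, 6917529508778106888, 4722366482869645213696⟩) (.leaf ⟨2306406234128908294, 3458764926204534784, 2533274891087878, 9224779824055209991, 134254595, 618575962112, 4722366482869645213696⟩)))))

def reflMat6 : Janko.Tree (M7) :=
  (.node (.node (.node (.node (.node (.leaf ⟨4613093599570034694, 6918654927698944000, 3459327463773995008, 2533274790420482, 1689399616106502, 6917529165113610247, 4722366482869645213696⟩) (.leaf ⟨1689193608642566, 6917529508794884096, 5765733422941102087, 2307813334050705412, 1689262210678790, 6917529302586122240, 4722366482869645213696⟩)) (.leaf ⟨1, 4096, 3459045988797251584, 11530059470998601728, 549923586048, 68853694464, 4722366482869645213696⟩)) (.node (.leaf ⟨5766577848005427206, 4613094011819810816, 10377982391321886729, 844424930164745, 1688987299241988, 6917529440092188678, 4722366482869645213696⟩) (.leaf ⟨1153484866927460358, 5766015585246797824, 8072983807105454090, 9223935261686116355, 563224965586949, 2305843627839987718, 4722366482869645213696⟩))) (.node (.node (.node (.leaf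 ⟨2252212197654534, 10376856972552069120, 10376293541562306567, 5765452360281243653, 137522839561, 134250505, 4722366482869645213696⟩) (.leaf ⟨2306406440304115718, 3458764857535389696, 562950054100997, 3460453775997689860, 50368515, 137522847744, 4722366482869645213696⟩)) (.leaf ⟨6918655546023215110, 8072139725755932672, 562949953429509, 3459327463773962248, 1688849910616071, 6917529165231046661, 4722366482869645213696⟩)) (.node (.leaf ⟨9225061505207107590, 3461579675988418560, 2308376284037652486, 9225342499130707974, 1126518516363267, 4611686636969811969, 4722366482869645213696⟩) (.leaf ⟨1, 4096, 1152921504606846976, 2814749767106560, 687194767360, 16777216, 4722366482869645213696⟩)))) (.node (.node (.node (.node (.leaf ⟨9224498143037489152, 2306688052753334272, 1688849960960009, 6917529439957970947, 1688849960939522, 6917529439957958664, 4722366482869645213696⟩) (.leaf ⟨563224915214342, 3460453776064798720, 2306405959267807238, 3458764926137421831, 618525622275, 137438961669, 4722366482869645213696⟩)) (.leaf ⟨68719476736, 167772160,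 40960, 1, 281474976710656, 1152921504606846976, 4722366482869645213696⟩)) (.node (.leaf ⟨6918092115033456640, 3458764651393712128, 5766577847971909634, 4613093805627801603, 1689262244253699, 6917529508778090496, 4722366482869645213696⟩) (.leaf ⟨1, 4096, 9226186786621882368, 1155173304420532224, 206175207424, 687245099008, 4722366482869645213696⟩))) (.node (.node (.node (.leaf ⟨5767140797925294086, 8072421269401788416, 6918091977695166470, 4612812330651115520, 343664517127, 137556430852, 4722366482869645213696⟩) (.leaf ⟨1689330946932742, 6917529233833091072, 8072702332061630467, 9223934986808209417, 1689124872388614, 6917529577547915264, 4722366482869645213696⟩)) (.leaf ⟨4612811918418116614, 5767141141422039040, 4612811918434893829, 5767141210141511680, 481120251909, 274911477762, 4722366482869645213696⟩)) (.node (.leaf ⟨2306406371634970626, 4613938230725713920, 11531466845982838790, 5766859735164817409, 1125968710242308, 4611686568233541635, 4722366482869645213696⟩) (.leaf ⟨4612249586923208704, 4613375211952144384, 5764607523134906373,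 1689262177140743, 1689262177153028, 6917529027724976133, 4722366482869645213696⟩)))))

def reflMat7 : Janko.Tree (M7) :=
  (.node (.node (.node (.node (.node (.leaf ⟨6918654927598256134, 8072139519698165760, 10377982391321886722, 844424930144258, 1688987299237895, 6917529440092176389, 4722366482869645213696⟩) (.leaf ⟨6919218427273936902, 1153485004416770048, 9223934986875318280, 4612249243258720261, 563156178980865, 2305843146803666953, 4722366482869645213696⟩)) (.leaf ⟨2307813402854031364, 10378545891081469952, 6918936402625339400, 2308658171297681416, 563293584396297, 2305843352827883523, 4722366482869645213696⟩)) (.node (.leaf ⟨1407649895677958, 5764608072941068288, 8072702332061642760, 9223934986808229890, 1689124872388613, 6917529577547911168, 4722366482869645213696⟩) (.leaf ⟨3460453638642597894, 2533687174389760, 9223372036955467782, 2306406371483996167, 206192017408, 151019522, 4722366482869645213696⟩))) (.node (.node (.node (.leaf ⟨2307531996663906306, 1154610904340373504, 3459608938817818632, 6917810777495736324, 1689399716777985,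 6917529233967308805, 4722366482869645213696⟩) (.leaf ⟨5765733835375378432, 2307813952593068032, 1688849960947721, 6917529439957970951, 1688849960951810, 6917529439957958660, 4722366482869645213696⟩)) (.leaf ⟨3460735044933386240, 10378545959884816384, 1407374984249353, 5764607935351123971, 1688849944182793, 6917529371238494211, 4722366482869645213696⟩)) (.node (.leaf ⟨9225342705305911298, 10376856903882907648, 3461579263688335366, 3460172301020958722, 1126449713000457, 4611686705722847241, 4722366482869645213696⟩) (.leaf ⟨3460172507196162054, 9223653924232257536, 10376856491448606726, 3459890551166341126, 1126037396160520, 4611686155983802378, 4722366482869645213696⟩)))) (.node (.node (.node (.node (.leaf ⟨9224217011574276100, 11530904170840211456, 6920343777441755140, 5765170610426617865, 1689193541545994, 6917529714986856453, 4722366482869645213696⟩) (.leaf ⟨8072139588367286278, 5766577848022228992, 9225905311645204480, 562949953445890, 1689056018710533, 6917529646267392004, 4722366482869645213696⟩)) (.leaf ⟨10378545891064676352,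 9224498211689857024, 6917529027741757444, 1407787200421896, 1689193457655816, 6917529027741777927, 4722366482869645213696⟩)) (.node (.leaf ⟨9225342705289134086, 10377137966492442624, 2308094809128067072, 9225342774008610821, 618609520649, 549822951432, 4722366482869645213696⟩) (.leaf ⟨6920344327281442818, 5765171091496509440, 3461016313701347337, 1154329154368335881, 1689399632875525, 6917529577497600009, 4722366482869645213696⟩))) (.node (.node (.node (.leaf ⟨1154610629479235586, 10377701534971469824, 6917810502684930057, 9225624111546400770, 1689193591906313, 6917529096410914822, 4722366482869645213696⟩) (.leaf ⟨10378827159882956802, 8071295300792229888, 11531466845982842885, 5766859735164788746, 1125968710213639, 4611686568233570312, 4722366482869645213696⟩)) (.leaf ⟨8071295025998200834, 2306406577726300160, 6918373452671918089, 11531467258199040006, 1126243672014850, 4611686224636162057, 4722366482869645213696⟩)) (.node (.leaf ⟨8071295644456714242, 2306406096706740224, 5766859322948587522, 1153766341853859845, 1126312240496642,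 4611686568317431817, 4722366482869645213696⟩) (.leaf ⟨4613094011937226758, 6918655477303762944, 844424930140168, 2307250384097284096, 1688849893847046, 6917529233900195847, 4722366482869645213696⟩)))))

def reflMat8 : Janko.Tree (M7) :=
  (.node (.node (.node (.node (.node (.leaf ⟨1153484798291869702, 5766014966687621120, 4612248968447942657, 3461298063488876552, 563431040131077, 2305843146686210054, 4722366482869645213696⟩) (.leaf ⟨9223935605417705472, 4612530993180442624, 5764607523134906376, 1689262177157127, 1689262177136644, 6917529027724976136, 4722366482869645213696⟩)) (.leaf ⟨9223935536614342660, 4612249655676256256, 5766014898018463754, 11531748733175738373, 563362438066180, 2305843352844640265, 4722366482869645213696⟩)) (.node (.leaf ⟨10376575566294810630, 6918936608850862080, 10378545341342429187, 10377419716246396929, 563087543377926, 2305843559086952454, 4722366482869645213696⟩) (.leaf ⟨2308094809077710848, 10376293678984462336, 8072139382208856066, 5766578260188082182, 1689124822093833, 6917529440025083904, 4722366482869645213696⟩)))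 (.node (.node (.node (.leaf ⟨3458764720012525568, 5767140797975625728, 4613093393411637248, 6918655339864793090, 1689330997297157, 6917529371355906050, 4722366482869645213696⟩) (.leaf ⟨10377982803638747142, 8071576432238682112, 8071576432255455232, 2307250796414107654, 274911469575, 274978594823, 4722366482869645213696⟩)) (.leaf ⟨1689331014041606, 6917529439991521280, 8071857907131498502, 4612248968380837897, 1689124805279750, 6917529371389485056, 4722366482869645213696⟩)) (.node (.leaf ⟨6917529577514336262, 1407993409200128, 2306687434143838217, 3460734838657544200, 1689468385906688, 6917529233866620934, 4722366482869645213696⟩) (.leaf ⟨3459609557360181252, 6917811121160208384, 2307531859107520521, 1154610491906097159, 1689468352364550, 6917529440041840650, 4722366482869645213696⟩)))) (.node (.node (.node (.node (.leaf ⟨4613656686861746182, 10377982391422574592, 2307250384197935104, 4613656755581222917, 618542428169, 343664521221, 4722366482869645213696⟩) (.leaf ⟨9223372311816568838, 2306406371551109120, 9224779411839021062,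 563362270302215, 206158442498, 343748378633, 4722366482869645213696⟩)) (.leaf ⟨11531467189580201990, 5766859941340012544, 2306405959200694281, 4613937955680051210, 1126518449246213, 4611686155916705795, 4722366482869645213696⟩)) (.node (.leaf ⟨3459328013529776128, 2533687140810752, 4613093393411616774, 6918655339864784905, 1689330997297152, 6917529371355914242, 4722366482869645213696⟩) (.leaf ⟨2307250384248242176, 2252349720494080, 6918654927648587784, 8072139794425090050, 1689193575124992, 6917529302602895363, 4722366482869645213696⟩))) (.node (.node (.node (.leaf ⟨1407856037330950, 5764607935384674304, 4613374868287668230, 8072983807038353417, 1689331014041605, 6917529439991517184, 4722366482869645213696⟩) (.leaf ⟨6918654927682142214, 8072140000617062400, 2307250384097247241, 2251799813718025, 1689468335575047, 6917529371288813573, 4722366482869645213696⟩)) (.leaf ⟨1407581075537926, 5764607798046384128, 9224497936761651204, 2306687434143834115, 1689056052248581, 6917529302653227008, 4722366482869645213696⟩)) (.node (.leaf ⟨6918655064986877958,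 8072139794559295488, 2533274790432774, 9225905311645171715, 1688849994502151, 6917529646149943301, 4722366482869645213696⟩) (.leaf ⟨2307814021346099204, 10378545547567972352, 5766296372995166211, 10376575428755218435, 563362421313545, 2305843421698355203, 4722366482869645213696⟩)))))

def reflMat9 : Janko.Tree (M7) :=
  (.node (.node (.node (.node (.node (.leaf ⟨3461297994903584772, 8072983875841703936, 5766014898018484225, 11531748733175758854, 563362438086663, 2305843352844668930, 4722366482869645213696⟩) (.leaf ⟨1689399767072774, 6917529508727775232, 9224497936761630727, 2306687434143862792, 1689056052248582, 6917529302653231104, 4722366482869645213696⟩)) (.leaf ⟨3459327463857848326, 4613938161838481408, 3459327463874625541, 4613938230557954048, 549822955524, 137489293315, 4722366482869645213696⟩)) (.node (.leaf ⟨10378545891165339652, 10377419785133637632, 2308657759081476101, 5766296785211392001, 563568512606217, 2305843696492380167, 4722366482869645213696⟩) (.leaf ⟨8072984219371962372, 9223935536698245120, 11531748320959549448,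 6919218289818210307, 563018773577736, 2305843627772907529, 4722366482869645213696⟩))) (.node (.node (.node (.leaf ⟨3460453844817805318, 2533618505244672, 3458764513921220613, 10378827228568903684, 549906841600, 33579010, 4722366482869645213696⟩) (.leaf ⟨6919499696142548992, 10377419578924859392, 1688849960951810, 6917529439957958660, 1688849960947721, 6917529439957970951, 4722366482869645213696⟩)) (.leaf ⟨9224498486584541184, 2306687571633111040, 1407374984228866, 5764607935351111688, 1688849944162306, 6917529371238481928, 4722366482869645213696⟩)) (.node (.leaf ⟨3461579676005171206, 3460171957457149952, 9225342361725325313, 10376856628854022153, 1126106216300547, 4611686499614760966, 4722366482869645213696⟩) (.leaf ⟨3461579607268917254, 3460172576049881088, 3459890413760962570, 2308376421443063810, 1126449696243715, 4611686293338890246, 4722366482869645213696⟩)))) (.node (.node (.node (.node (.leaf ⟨10377138378708615174, 3459890413811294208, 3459890413828067328, 2308095221344239622, 549789376515, 274928250887, 4722366482869645213696⟩)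 (.leaf ⟨4612530924528074752, 3461298338400305152, 1688849960943624, 6917529439957975049, 1688849960955907, 6917529439957954562, 4722366482869645213696⟩)) (.leaf ⟨3461016519943651332, 1154329360677748736, 6920343777441775623, 5765170610426646530, 1689193541566465, 6917529714986876934, 4722366482869645213696⟩)) (.node (.leaf ⟨10378827228719874050, 8071295369662701568, 1153765929637662726, 6918373864888111105, 1126587202281479, 4611686224720072712, 4722366482869645213696⟩) (.leaf ⟨10378827297389019142, 9223372380569624576, 2533274891075589, 9224779824055214084, 134225928, 618575990784, 4722366482869645213696⟩))) (.node (.node (.node (.leaf ⟨9225905311729057798, 8071295300775469056, 9225905311745835013, 8071295369494941696, 206275883015, 618609545224, 4722366482869645213696⟩) (.leaf ⟨6918373521324244998, 11531467189563449344, 4613937818274668549, 10378826953690980358, 1126381094195210, 4611686568216768515, 4722366482869645213696⟩)) (.leaf ⟨8072139588266622982, 5766578466497519616, 3458764513820573705, 5767140797824630786, 1689399699980293,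 6917529027674660868, 4722366482869645213696⟩)) (.node (.leaf ⟨8072984150803480580, 9223935193016975360, 1153484454660956163, 5766015310234689544, 563637232091144, 2305843146753347593, 4722366482869645213696⟩) (.leaf ⟨687194767360, 16777216, 4096, 10, 281474976710656, 1152921504606846976, 4722366482869645213696⟩)))))

def reflMat10 : Janko.Tree (M7) :=
  (.node (.node (.node (.node (.node (.leaf ⟨3459327463874625542, 4613938230557958144, 9225905311745835014, 8071295369494945792, 206275903492, 618609516547, 4722366482869645213696⟩) (.leaf ⟨844768644956166, 2308376558965907456, 10376293541562310660, 5765452360281255942, 137522839554, 134230018, 4722366482869645213696⟩)) (.leaf ⟨2533893366349824, 9225905311695503360, 6918654927648595968, 8072139794425077768, 1689193575088136, 6917529302602911746, 4722366482869645213696⟩)) (.node (.leaf ⟨5766859391600951302, 1153766273218273280, 8071294957211656197, 2306406096606076934, 1126174818328577, 4611686224736845832, 4722366482869645213696⟩) (.leaf ⟨3458764788782333958, 10378827228636012544,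 3460453363781496838, 2533687107276807, 549755846665, 412350414850, 4722366482869645213696⟩))) (.node (.node (.node (.leaf ⟨8072420857185566726, 6918092389911388160, 4612811918434893830, 5767141210141515776, 481120239622, 274911490057, 4722366482869645213696⟩) (.leaf ⟨10377419716279926784, 5765733697919647744, 6917529027741773828, 1407787200421893, 1689193457655813, 6917529027741761543, 4722366482869645213696⟩)) (.leaf ⟨2308657965223116806, 5766296922667114496, 10378545341342449672, 10377419716246392842, 563087543406597, 2305843559086989317, 4722366482869645213696⟩)) (.node (.leaf ⟨6918655546056769542, 8072139382158548992, 5767140797824638976, 9223372036854784008, 1689262311362567, 6917529646116388869, 4722366482869645213696⟩) (.leaf ⟨1154610835553779714, 10377701053817692160, 5767422272868466690, 3459609213628592137, 1689262227496969, 6917529714970091526, 4722366482869645213696⟩)))) (.node (.node (.node (.node (.leaf ⟨2307250384130801664, 2252006005669888, 5766577847971872771, 4613093805627809801, 1689262244270080, 6917529508778102787,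 4722366482869645213696⟩) (.leaf ⟨5766015447690379270, 11531748870715367424, 3461297788678057992, 8072984081916235781, 563499826700298, 2305843627722559490, 4722366482869645213696⟩)) (.leaf ⟨6918092596069793792, 3458765132346163200, 6918654927648595977, 8072139794425053192, 1689193575108611, 6917529302602883072, 4722366482869645213696⟩)) (.node (.leaf ⟨11531748733226057734, 6919218564830355456, 4612248968447938570, 3461298063488856067, 563431040094214, 2305843146686238725, 4722366482869645213696⟩) (.leaf ⟨5764607729259773958, 1688987433459712, 2306687434143858690, 3460734838657531907, 1689468385910784, 6917529233866620933, 4722366482869645213696⟩))) (.node (.node (.node (.leaf ⟨10377419510171828228, 2306687983949987840, 5766296372995203080, 10376575428755214344, 563362421284866, 2305843421698342920, 4722366482869645213696⟩) (.leaf ⟨4613093530783449094, 6918655133706379264, 2251799813722115, 10377982391321894912, 1688850011287558, 6917529577480802311, 4722366482869645213696⟩)) (.leaf ⟨6919781171169591302, 10376293816423440384,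 10376856491515731972, 844837247021062, 137438973961, 137573203968, 4722366482869645213696⟩)) (.node (.leaf ⟨10376856903799013382, 844906067156992, 6919780827555450887, 10376293953778499589, 343748386816, 549755822088, 4722366482869645213696⟩) (.leaf ⟨9225342774176382978, 10376856835045990400, 9223653511932170245, 9225061299031941129, 1126106199502857, 4611686087230779401, 4722366482869645213696⟩)))))

def reflMat11 : Janko.Tree (M7) :=
  (.node (.node (.node (.node (.node (.leaf ⟨2306687983933194240, 3460735113585754112, 5764607523134910468, 1689262177132552, 1689262177161219, 6917529027724980228, 4722366482869645213696⟩) (.leaf ⟨9223372517991776262, 2306406302881964032, 3460453363781484549, 2533687107280900, 549755826178, 412350414857, 4722366482869645213696⟩)) (.leaf ⟨6917529646166704134, 1407581109116928, 9223934986808205315, 4612530443357532167, 1689056085823488, 6917529165214253062, 4722366482869645213696⟩)) (.node (.leaf ⟨6917529165214253062, 1407924756832256, 3461297788610973704, 8072702332061646852, 1689399733538816,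 6917529646166704134, 4722366482869645213696⟩) (.leaf ⟨4613093393461936134, 6918655477387649024, 2308094809027379208, 10376293541461659654, 1689468486578182, 6917529577396916231, 4722366482869645213696⟩))) (.node (.node (.node (.leaf ⟨4613093393344495622, 6918655133807042560, 10377137966391754755, 2305843009213702149, 1688987332800518, 6917529233799532551, 4722366482869645213696⟩) (.leaf ⟨10377137966442086400, 2305843146736533504, 4613093393411604482, 6918655339864797190, 1689330997272578, 6917529371355918336, 4722366482869645213696⟩)) (.leaf ⟨11530622695964147714, 2307532477700251648, 5767422272868478985, 3459609213628612610, 1689262227460098, 6917529714970087429, 4722366482869645213696⟩)) (.node (.leaf ⟨2251937386856448, 10377983009797177344, 8072139382208892937, 5766578260188102656, 1689124822056969, 6917529440025083909, 4722366482869645213696⟩) (.leaf ⟨9225624455277969412, 5767422891343757312, 10377700916378738697, 11530622558391009287, 1688987467001861, 6917529371339161601, 4722366482869645213696⟩)))) (.node (.node (.node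 (.node (.leaf ⟨3458765063727349760, 5767140797858185216, 8072139382208868352, 5766578260188106761, 1689124822089733, 6917529440025051138, 4722366482869645213696⟩) (.leaf ⟨6920062439903985666, 6920344052420321280, 1154328879557545988, 9224216736662822915, 1689537189269510, 6917529371372720129, 4722366482869645213696⟩)) (.leaf ⟨1, 4096, 11530059470998601728, 9226186786621882368, 68853694464, 206175207424, 4722366482869645213696⟩)) (.node (.leaf ⟨10377138309989138438, 3459890413828071424, 9225342361792438272, 10377138378708615173, 206309433347, 481170567175, 4722366482869645213696⟩) (.leaf ⟨9225623974157746180, 5767422410357751808, 2307531859107549186, 1154610491906076676, 1689468352344069, 6917529440041861121, 4722366482869645213696⟩))) (.node (.node (.leaf ⟨2308376696388059142, 2252280950710272, 5765451948065050631, 2305843421530570757, 412350451712, 206158467075, 4722366482869645213696⟩) (.leaf ⟨5764607660607406086, 1689399733542912, 9223934986808233992, 4612530443357552644, 1689056085827584, 6917529165214253061, 4722366482869645213696⟩))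 (.node (.leaf ⟨6919499764912357376, 10377420059910864896, 1407374984237065, 5764607935351123975, 1688849944170505, 6917529371238494215, 4722366482869645213696⟩) (.leaf ⟨5764608141610188806, 1689330963734528, 8072983807038332935, 8071857907131506695, 1689124855635968, 6917529646217035781, 4722366482869645213696⟩)))))

def reflMat12 : Janko.Tree (M7) :=
  (.node (.node (.node (.node (.node (.leaf ⟨1689056052248582, 6917529302653231104, 3460734838657548292, 10378545341275316227, 1689399767072774, 6917529508727775232, 4722366482869645213696⟩) (.leaf ⟨10378545547484069892, 10377419853702119424, 10376575016539029510, 6918936814841507850, 563087493046281, 2305843078033866759, 4722366482869645213696⟩)) (.leaf ⟨5766015104243990534, 11531748527101206528, 9223934986875338755, 4612249243258757126, 563156178984970, 2305843146803662850, 4722366482869645213696⟩)) (.node (.leaf ⟨4612811918434893830, 5767141210141515776, 8072420857185566726, 6918092389911388160, 274978598917, 481187348482, 4722366482869645213696⟩) (.leaf ⟨563568529375232, 3459327463824293888,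 5766577847971880960, 4613093805627826184, 1689262244233219, 6917529508778090505, 4722366482869645213696⟩))) (.node (.node (.node (.leaf ⟨5766296441664307206, 10376575428805550080, 2307813334117818374, 10378545616153227272, 563568579731465, 2305843490300387338, 4722366482869645213696⟩) (.leaf ⟨2308095221344239622, 9225342361775661056, 9225342361792434176, 10377138378708615174, 206309462024, 481170587652, 4722366482869645213696⟩)) (.leaf ⟨2533549752188934, 9224779824122322944, 10378826816352710662, 9223372449171656711, 137573171208, 618475327494, 4722366482869645213696⟩)) (.node (.leaf ⟨2307250727694630918, 4613656343365050368, 8071576432255459328, 2307250796414107653, 274911498244, 274978590724, 4722366482869645213696⟩) (.leaf ⟨1, 4096, 167772160, 687194767360, 281474976710656, 1152921504606846976, 4722366482869645213696⟩)))) (.node (.node (.node (.node (.leaf ⟨6917529233866620934, 1407512456749056, 10378545341275340802, 9224497936761634819, 1688987433455616, 6917529577514336262, 4722366482869645213696⟩) (.leaf ⟨1407855970222086,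 5764607729226244096, 4612530443357536259, 3461297788610949129, 1689330946932741, 6917529233833086976, 4722366482869645213696⟩)) (.leaf ⟨845043455754240, 2307250521536200704, 8072139382208864258, 5766578260188082176, 1689124822056962, 6917529440025063430, 4722366482869645213696⟩)) (.node (.leaf ⟨2307813608962129920, 6919499627456626688, 5764607523134926852, 1689262177132549, 1689262177161222, 6917529027724996612, 4722366482869645213696⟩) (.leaf ⟨5766578466346500102, 4613093736958681088, 2533274790404101, 9225905311645171720, 1688849994506244, 6917529646149955590, 4722366482869645213696⟩))) (.node (.node (.leaf ⟨10376293953812037632, 10377138172550184960, 5766577847971893251, 4613093805627809792, 1689262244241417, 6917529508778082312, 4722366482869645213696⟩) (.leaf ⟨4612249312145965060, 3461297994819715072, 11531748320959553539, 6919218289818247176, 563018773590019, 2305843627772878850, 4722366482869645213696⟩)) (.node (.leaf ⟨3459890757324767238, 2308094809128067072, 10377137966492442624, 3459890826044243973, 137489317890, 206275887107,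 4722366482869645213696⟩) (.leaf ⟨11530059470998601728, 9226186786621882368, 16777216, 68719476736, 4104, 12289, 4722366482869645213696⟩)))))

def reflMat13 : Janko.Tree (M7) :=
  (.node (.node (.node (.node (.node (.leaf ⟨3461298407220445184, 8072702881884536832, 6917529027741753352, 1407787200446471, 1689193457680391, 6917529027741782019, 4722366482869645213696⟩) (.leaf ⟨9223372243046760448, 6918091977745498112, 8072139382208888832, 5766578260188078082, 1689124822069254, 6917529440025051145, 4722366482869645213696⟩)) (.leaf ⟨10376293885176446982, 5765452222926184448, 2251799914373124, 10376856903731933190, 151003141, 549906808840, 4722366482869645213696⟩)) (.node (.leaf ⟨6920062921057763330, 6920344258494865408, 11530903895995850759, 3461016588512169992, 1688918630092806, 6917529440008310785, 4722366482869645213696⟩) (.leaf ⟨4612249105937203200, 4613375280721952768, 6917529027741782022, 1407787200442372, 1689193457676292, 6917529027741753349, 4722366482869645213696⟩))) (.node (.node (.node (.leaf ⟨8071576775752155142, 2307250384197935104,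 10377982391422574592, 8071576844471631877, 137556410370, 412434317318, 4722366482869645213696⟩) (.leaf ⟨8072139382141747206, 5766578054130327552, 2308094809027379203, 10376293541461630981, 1689468486565893, 6917529577396920324, 4722366482869645213696⟩)) (.leaf ⟨10377982734919270406, 8071576432255459328, 4613656343365050368, 10377982803638747141, 481187340295, 481120247815, 4722366482869645213696⟩)) (.node (.leaf ⟨5764607660557074438, 1689124855635968, 4612248968380846084, 4613374868287672324, 1689330963734528, 6917529165163921413, 4722366482869645213696⟩) (.leaf ⟨3459890826044243974, 2308094809111289856, 2308094809128062976, 9225342774008610822, 618609541122, 549822939139, 4722366482869645213696⟩)))) (.node (.node (.node (.node (.leaf ⟨10377701534854021122, 11530622627177570304, 3459608938817789955, 6917810777495707655, 1689399716749322, 6917529233967304710, 4722366482869645213696⟩) (.leaf ⟨2306406302798053378, 4613938161855242240, 1153765929637666821, 6918373864888082442, 1126587202310148, 4611686224720044035, 4722366482869645213696⟩))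 (.leaf ⟨9223653855512756230, 9225061574060826624, 9225342361725329418, 10376856628854018050, 1126106216280072, 4611686499614724101, 4722366482869645213696⟩)) (.node (.leaf ⟨5764607798029582342, 1689468436242432, 10377419441368494089, 5765733422941106181, 1688987383128064, 6917529302636429317, 4722366482869645213696⟩) (.leaf ⟨549923586048, 68853694464, 12289, 40963, 281474976710656, 1152921504606846976, 4722366482869645213696⟩))) (.node (.node (.leaf ⟨2252418339307520, 10377982528760840192, 4613093393411612674, 6918655339864797184, 1689330997264393, 6917529371355938821, 4722366482869645213696⟩) (.leaf ⟨5767140797908516870, 8072421200682311680, 5767140797925294085, 8072421269401784320, 412434325511, 618542436356, 4722366482869645213696⟩)) (.node (.leaf ⟨8072702813232168960, 9223935536597565440, 1407374984232968, 5764607935351128073, 1688849944166408, 6917529371238498313, 4722366482869645213696⟩) (.leaf ⟨10376293953845592070, 5765452429101391872, 844425030815751, 2308376696320966661, 33562629, 206191984648, 4722366482869645213696⟩)))))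

def reflMat14 : Janko.Tree (M7) :=
  (.node (.node (.node (.node (.node (.leaf ⟨6918936471294443526, 2308658171348017152, 10377419441435615238, 2306687709021745160, 563087425949698, 2305843284225839105, 4722366482869645213696⟩) (.leaf ⟨1154329498032799748, 9224216599274209280, 6920062302465040386, 6920343914847158280, 1689193558351880, 6917529646133170184, 4722366482869645213696⟩)) (.leaf ⟨3459327669932392448, 2533618538774528, 8072139382208888837, 5766578260188069890, 1689124822089728, 6917529440025059330, 4722366482869645213696⟩)) (.node (.leaf ⟨5765452360348336134, 2305843490350718976, 10376856491515727879, 844837247008773, 137438978050, 137573183488, 4722366482869645213696⟩) (.leaf ⟨5765170610460164098, 5764889273023078400, 11530903895995879428, 3461016588512141315, 1688918630096901, 6917529440008282122, 4722366482869645213696⟩))) (.node (.node (.node (.leaf ⟨9224216668094332932, 11530904377116082176, 5764888998044532743, 6920062439870468098, 1689262277799946, 6917529096394125317, 4722366482869645213696⟩) (.leaf ⟨8071858388251705344,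 4612249243292270592, 1407374984232964, 5764607935351115785, 1688849944166404, 6917529371238486025, 4722366482869645213696⟩)) (.leaf ⟨2533755927396358, 9224779755453177856, 2306405959267794949, 3458764926137425924, 618525622280, 137438990342, 4722366482869645213696⟩)) (.node (.leaf ⟨2308095152624762886, 9225342361792438272, 3459890413828071424, 2308095221344239621, 549789405192, 274928271364, 4722366482869645213696⟩) (.leaf ⟨2306687640352587780, 2307813746384322560, 2308657759081496582, 5766296785211371530, 563568512634882, 2305843696492359684, 4722366482869645213696⟩)))) (.node (.node (.node (.node (.leaf ⟨11531467258282901510, 5766859460454670336, 10378826816285593602, 8071295094617034753, 1126037463240709, 4611686637036929027, 4722366482869645213696⟩) (.leaf ⟨10376575222680649734, 6918936952297250816, 2306687434210967560, 2307813608928595978, 563568462274566, 2305843215439237126, 4722366482869645213696⟩)) (.leaf ⟨5765171091613941762, 5764889479097622528, 1154328879557517319, 9224216736662851592, 1689537189273605, 6917529371372691466,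 4722366482869645213696⟩)) (.node (.leaf ⟨2306687984033857540, 2307813677815840768, 10376575016539009029, 6918936814841528321, 563087493074946, 2305843078033846276, 4722366482869645213696⟩) (.leaf ⟨1, 4096, 16777216, 68719476736, 2814749767106560, 11529215046068469760, 4722366482869645213696⟩))) (.node (.node (.leaf ⟨68853694464, 206175207424, 40963, 32778, 281474976710656, 1152921504606846976, 4722366482869645213696⟩) (.leaf ⟨8072140000734478342, 5766578397627047936, 2251799813693448, 10377982391321923584, 1688850011275269, 6917529577480806404, 4722366482869645213696⟩)) (.node (.leaf ⟨8072984425580724224, 8071858250795974656, 6917529027741753349, 1407787200430087, 1689193457664007, 6917529027741782022, 4722366482869645213696⟩) (.leaf ⟨5767140935263584256, 9223372174427947008, 6918654927648624642, 8072139794425053187, 1689193575112712, 6917529302602911744, 4722366482869645213696⟩)))))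

def reflMat15 : Janko.Tree (M7) :=
  (.node (.node (.node (.node (.node (.leaf ⟨11529215046068469760, 281474976710656, 16777216, 68719476736, 4096, 10, 4722366482869645213696⟩) (.leaf ⟨2308376627718914054, 2252074775502848, 6919780827555454980, 10376293953778511878, 343748415488, 549755850755, 4722366482869645213696⟩)) (.leaf ⟨5767422753988673540, 3459609488540057600, 11530622420985593864, 2307531996512948233, 1688918613319683, 6917529371322392584, 4722366482869645213696⟩)) (.node (.leaf ⟨563087476260864, 3459327463908179968, 6918654927648624640, 8072139794425073667, 1689193575088131, 6917529302602883081, 4722366482869645213696⟩) (.leaf ⟨6918655271195639814, 8072139519547170816, 2305843009213718530, 2308094809027391488, 1689468369129479, 6917529027691429893, 4722366482869645213696⟩))) (.node (.node (.node (.leaf ⟨8071576844471631878, 2307250384181157888, 2307250384197931008, 4613656755581222918, 618542415874, 343664508934, 4722366482869645213696⟩) (.leaf ⟨10378827091213811718, 9223372449238769664, 562950054113286, 3460453775997685767,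 50339848, 137522876416, 4722366482869645213696⟩)) (.leaf ⟨6917810777529253892, 9225624042977902592, 11530622420985606147, 2307531996512919554, 1688918613315592, 6917529371322355715, 4722366482869645213696⟩)) (.node (.leaf ⟨5767141416299921408, 9223372655380398080, 5766577847971880969, 4613093805627801608, 1689262244257800, 6917529508778119168, 4722366482869645213696⟩) (.leaf ⟨1155173304420532224, 3459045988797251584, 16777216, 68719476736, 40963, 32778, 4722366482869645213696⟩)))) (.node (.node (.node (.node (.leaf ⟨8072983944594718720, 8071858319565783040, 5764607523134935046, 1689262177153028, 1689262177140743, 6917529027725004806, 4722366482869645213696⟩) (.leaf ⟨8072420857168789510, 6918092321191911424, 8072420857185566725, 6918092389911384064, 274978586630, 481187360777, 4722366482869645213696⟩)) (.leaf ⟨8071858182110052352, 4612249449568141312, 1688849960955911, 6917529439957966850, 1688849960943620, 6917529439957962761, 4722366482869645213696⟩)) (.node (.leaf ⟨6918091977695166470, 4612812330651115520, 5767140797925294086,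 8072421269401788416, 412434321412, 618542407687, 4722366482869645213696⟩) (.leaf ⟨10377982391355441152, 844631122116608, 6918654927648587779, 8072139794425061385, 1689193575096320, 6917529302602899464, 4722366482869645213696⟩))) (.node (.node (.leaf ⟨1689124805279750, 6917529371389485056, 4613374868287680517, 8072983807038341122, 1689331014041606, 6917529439991521280, 4722366482869645213696⟩) (.leaf ⟨1689124872388614, 6917529577547915264, 4612530443357548552, 3461297788610969602, 1689330946932742, 6917529233833091072, 4722366482869645213696⟩)) (.node (.leaf ⟨2305843421564108800, 2308095015185809408, 6918654927648608259, 8072139794425061376, 1689193575124994, 6917529302602874883, 4722366482869645213696⟩) (.leaf ⟨10376293885210001408, 10377138516147568640, 6918654927648612360, 8072139794425090048, 1689193575096329, 6917529302602874888, 4722366482869645213696⟩)))))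

def reflMat : Janko.Tree (M7) :=
  (.node (.node (.node (.node reflMat0 reflMat8) (.node reflMat4 reflMat12)) (.node (.node reflMat2 reflMat10) (.node reflMat6 reflMat14))) (.node (.node (.node reflMat1 reflMat9) (.node reflMat5 reflMat13)) (.node (.node reflMat3 reflMat11) (.node reflMat7 reflMat15))))

end Cfsg.Agent.Lie.J2Cert
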