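import Cfsg.Agent.Lib.Lie.Ico.Scaled

/-!
Minimal vectors of the icosian lattice: candidate tables (generated).
-/

set_option autoImplicit false
set_option maxRecDepth 100000
set_option maxHeartbeats 0

namespace Cfsg.Agent.Lie.Ico

def unitList : List SQ := [
  ⟨-2, 0, 0, 0, 0, 0, 0, 0⟩,
  ⟨-1, 0, -1, 0, -1, 0, -1, 0⟩,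
  ⟨-1, 0, -1, 0, -1, 0, 1, 0⟩,
  ⟨-1, 0, -1, 0, 1, 0, -1, 0⟩,
  ⟨-1, 0, -1, 0, 1, 0, 1, 0⟩,
  ⟨-1, 0, -1, 1, 0, 0, 0, -1⟩,
  ⟨-1, 0, -1, 1, 0, 0, 0, 1⟩,
  ⟨-1, 0, 0, -1, -1, 1, 0, 0⟩,
  ⟨-1, 0, 0, -1, 1, -1, 0, 0⟩,
  ⟨-1, 0, 0, 0, 0, -1, -1, 1⟩,
  ⟨-1, 0, 0, 0, 0, -1, 1, -1⟩,
  ⟨-1, 0, 0, 0, 0, 1, -1, 1⟩,
  ⟨-1, 0, 0, 0, 0, 1, 1, -1⟩,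
  ⟨-1, 0, 0, 1, -1, 1, 0, 0⟩,
  ⟨-1, 0, 0, 1, 1, -1, 0, 0⟩,
  ⟨-1, 0, 1, -1, 0, 0, 0, -1⟩,
  ⟨-1, 0, 1, -1, 0, 0, 0, 1⟩,
  ⟨-1, 0, 1, 0, -1, 0, -1, 0⟩,
  ⟨-1, 0, 1, 0, -1, 0, 1, 0⟩,
  ⟨-1, 0, 1, 0, 1, 0, -1, 0⟩,
  ⟨-1, 0, 1, 0, 1, 0, 1, 0⟩,
  ⟨-1, 1, -1, 0, 0, -1, 0, 0⟩,
  ⟨-1, 1, -1, 0, 0, 1, 0, 0⟩,
  ⟨-1, 1, 0, -1, 0, 0, -1, 0⟩,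
  ⟨-1, 1, 0, -1, 0, 0, 1, 0⟩,
  ⟨-1, 1, 0, 0, -1, 0, 0, -1⟩,
  ⟨-1, 1, 0, 0, -1, 0, 0, 1⟩,
  ⟨-1, 1, 0, 0, 1, 0, 0, -1⟩,
  ⟨-1, 1, 0, 0, 1, 0, 0, 1⟩,
  ⟨-1, 1, 0, 1, 0, 0, -1, 0⟩,
  ⟨-1, 1, 0, 1, 0, 0, 1, 0⟩,
  ⟨-1, 1, 1, 0, 0, -1, 0, 0⟩,
  ⟨-1, 1, 1, 0, 0, 1, 0, 0⟩,
  ⟨0, -1, -1, 0, 0, 0, -1, 1⟩,
  ⟨0, -1, -1, 0, 0, 0, 1, -1⟩,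
  ⟨0, -1, -1, 1, -1, 0, 0, 0⟩,
  ⟨0, -1, -1, 1, 1, 0, 0, 0⟩,
  ⟨0, -1, 0, 0, -1, 1, -1, 0⟩,
  ⟨0, -1, 0, 0, -1, 1, 1, 0⟩,
  ⟨0, -1, 0, 0, 1, -1, -1, 0⟩,
  ⟨0, -1, 0, 0, 1, -1, 1, 0⟩,
  ⟨0, -1, 1, -1, -1, 0, 0, 0⟩,
  ⟨0, -1, 1, -1, 1, 0, 0, 0⟩,
  ⟨0, -1, 1, 0, 0, 0, -1, 1⟩,
  ⟨0, -1, 1, 0, 0, 0, 1, -1⟩,
  ⟨0, 0, -2, 0, 0, 0, 0, 0⟩,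
  ⟨0, 0, -1, 0, -1, 1, 0, -1⟩,
  ⟨0, 0, -1, 0, -1, 1, 0, 1⟩,
  ⟨0, 0, -1, 0, 1, -1, 0, -1⟩,
  ⟨0, 0, -1, 0, 1, -1, 0, 1⟩,
  ⟨0, 0, -1, 1, 0, -1, -1, 0⟩,
  ⟨0, 0, -1, 1, 0, -1, 1, 0⟩,
  ⟨0, 0, -1, 1, 0, 1, -1, 0⟩,
  ⟨0, 0, -1, 1, 0, 1, 1, 0⟩,
  ⟨0, 0, 0, -1, -1, 0, -1, 1⟩,
  ⟨0, 0, 0, -1, -1, 0, 1, -1⟩,
  ⟨0, 0, 0, -1, 1, 0, -1, 1⟩,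
  ⟨0, 0, 0, -1, 1, 0, 1, -1⟩,
  ⟨0, 0, 0, 0, -2, 0, 0, 0⟩,
  ⟨0, 0, 0, 0, 0, 0, -2, 0⟩,
  ⟨0, 0, 0, 0, 0, 0, 2, 0⟩,
  ⟨0, 0, 0, 0, 2, 0, 0, 0⟩,
  ⟨0, 0, 0, 1, -1, 0, -1, 1⟩,
  ⟨0, 0, 0, 1, -1, 0, 1, -1⟩,
  ⟨0, 0, 0, 1, 1, 0, -1, 1⟩,
  ⟨0, 0, 0, 1, 1, 0, 1, -1⟩,
  ⟨0, 0, 1, -1, 0, -1, -1, 0⟩,
  ⟨0, 0, 1, -1, 0, -1, 1, 0⟩,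
  ⟨0, 0, 1, -1, 0, 1, -1, 0⟩,
  ⟨0, 0, 1, -1, 0, 1, 1, 0⟩,
  ⟨0, 0, 1, 0, -1, 1, 0, -1⟩,
  ⟨0, 0, 1, 0, -1, 1, 0, 1⟩,
  ⟨0, 0, 1, 0, 1, -1, 0, -1⟩,
  ⟨0, 0, 1, 0, 1, -1, 0, 1⟩,
  ⟨0, 0, 2, 0, 0, 0, 0, 0⟩,
  ⟨0, 1, -1, 0, 0, 0, -1, 1⟩,
  ⟨0, 1, -1, 0, 0, 0, 1, -1⟩,
  ⟨0, 1, -1, 1, -1, 0, 0, 0⟩,
  ⟨0, 1, -1, 1, 1, 0, 0, 0⟩,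
  ⟨0, 1, 0, 0, -1, 1, -1, 0⟩,
  ⟨0, 1, 0, 0, -1, 1, 1, 0⟩,
  ⟨0, 1, 0, 0, 1, -1, -1, 0⟩,
  ⟨0, 1, 0, 0, 1, -1, 1, 0⟩,
  ⟨0, 1, 1, -1, -1, 0, 0, 0⟩,
  ⟨0, 1, 1, -1, 1, 0, 0, 0⟩,
  ⟨0, 1, 1, 0, 0, 0, -1, 1⟩,
  ⟨0, 1, 1, 0, 0, 0, 1, -1⟩,
  ⟨1, -1, -1, 0, 0, -1, 0, 0⟩,
  ⟨1, -1, -1, 0, 0, 1, 0, 0⟩,
  ⟨1, -1, 0, -1, 0, 0, -1, 0⟩,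
  ⟨1, -1, 0, -1, 0, 0, 1, 0⟩,
  ⟨1, -1, 0, 0, -1, 0, 0, -1⟩,
  ⟨1, -1, 0, 0, -1, 0, 0, 1⟩,
  ⟨1, -1, 0, 0, 1, 0, 0, -1⟩,
  ⟨1, -1, 0, 0, 1, 0, 0, 1⟩,
  ⟨1, -1, 0, 1, 0, 0, -1, 0⟩,
  ⟨1, -1, 0, 1, 0, 0, 1, 0⟩,
  ⟨1, -1, 1, 0, 0, -1, 0, 0⟩,
  ⟨1, -1, 1, 0, 0, 1, 0, 0⟩,
  ⟨1, 0, -1, 0, -1, 0, -1, 0⟩,
  ⟨1, 0, -1, 0, -1, 0, 1, 0⟩,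
  ⟨1, 0, -1, 0, 1, 0, -1, 0⟩,
  ⟨1, 0, -1, 0, 1, 0, 1, 0⟩,
  ⟨1, 0, -1, 1, 0, 0, 0, -1⟩,
  ⟨1, 0, -1, 1, 0, 0, 0, 1⟩,
  ⟨1, 0, 0, -1, -1, 1, 0, 0⟩,
  ⟨1, 0, 0, -1, 1, -1, 0, 0⟩,
  ⟨1, 0, 0, 0, 0, -1, -1, 1⟩,
  ⟨1, 0, 0, 0, 0, -1, 1, -1⟩,
  ⟨1, 0, 0, 0, 0, 1, -1, 1⟩,
  ⟨1, 0, 0, 0, 0, 1, 1, -1⟩,
  ⟨1, 0, 0, 1, -1, 1, 0, 0⟩,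
  ⟨1, 0, 0, 1, 1, -1, 0, 0⟩,
  ⟨1, 0, 1, -1, 0, 0, 0, -1⟩,
  ⟨1, 0, 1, -1, 0, 0, 0, 1⟩,
  ⟨1, 0, 1, 0, -1, 0, -1, 0⟩,
  ⟨1, 0, 1, 0, -1, 0, 1, 0⟩,
  ⟨1, 0, 1, 0, 1, 0, -1, 0⟩,
  ⟨1, 0, 1, 0, 1, 0, 1, 0⟩,
  ⟨2, 0, 0, 0, 0, 0, 0, 0⟩]

def repList : List SQ := [
  ⟨-2, 0, 0, 0, 0, 0, 0, 0⟩,
  ⟨-1, -1, -1, 0, 0, -1, 0, 0⟩,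
  ⟨-2, 1, -1, 0, 0, 0, -1, 1⟩,
  ⟨-2, 0, -2, 0, 0, 0, 0, 0⟩,
  ⟨-2, 0, -1, 0, -1, 1, 0, -1⟩,
  ⟨-2, 0, -1, 0, -1, 1, 0, 1⟩,
  ⟨-2, 0, -1, 0, 1, -1, 0, -1⟩,
  ⟨-2, 0, -1, 0, 1, -1, 0, 1⟩,
  ⟨-2, -1, -1, 0, 0, 0, -1, 1⟩,
  ⟨-2, -1, -1, 0, 0, 0, 1, -1⟩,
  ⟨-2, -1, -1, 1, -1, 0, 0, 0⟩,
  ⟨-2, -1, -1, 1, 1, 0, 0, 0⟩,
  ⟨-2, -1, 0, 0, -1, 1, -1, 0⟩,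
  ⟨-2, -1, 0, 0, -1, 1, 1, 0⟩,
  ⟨-3, 1, -1, 0, 0, -1, 0, 0⟩,
  ⟨-3, 1, -1, 0, 0, 1, 0, 0⟩,
  ⟨-3, 1, 0, -1, 0, 0, -1, 0⟩,
  ⟨-3, 1, 0, -1, 0, 0, 1, 0⟩,
  ⟨-3, 1, 0, 0, -1, 0, 0, -1⟩,
  ⟨-3, 1, 0, 0, -1, 0, 0, 1⟩,
  ⟨-3, 0, -1, 0, -1, 0, -1, 0⟩,
  ⟨-3, 0, -1, 0, -1, 0, 1, 0⟩,
  ⟨-3, 0, -1, 0, 1, 0, -1, 0⟩,
  ⟨-3, 0, -1, 0, 1, 0, 1, 0⟩,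
  ⟨-3, 0, -1, 1, 0, 0, 0, -1⟩,
  ⟨-3, 0, -1, 1, 0, 0, 0, 1⟩,
  ⟨-3, 0, 0, -1, -1, 1, 0, 0⟩,
  ⟨-3, 0, 0, -1, 1, -1, 0, 0⟩,
  ⟨-3, 0, 0, 0, 0, -1, -1, 1⟩,
  ⟨-3, 0, 0, 0, 0, -1, 1, -1⟩,
  ⟨-4, 0, 0, 0, 0, 0, 0, 0⟩,
  ⟨-3, 0, -2, 0, 0, -1, -1, 1⟩,
  ⟨-3, 0, -2, 0, 0, -1, 1, -1⟩,
  ⟨-3, 0, -2, 0, 0, 1, -1, 1⟩,
  ⟨-3, 0, -2, 0, 0, 1, 1, -1⟩,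
  ⟨-3, 0, -2, 1, -1, -1, 0, 0⟩,
  ⟨-3, 0, -2, 1, 1, 1, 0, 0⟩,
  ⟨-3, 0, -1, -1, 0, 0, -2, 1⟩,
  ⟨-3, 0, -1, -1, 0, 0, 2, -1⟩,
  ⟨-3, 0, -1, 0, -1, 0, 1, -2⟩,
  ⟨-3, 0, -1, 0, -1, 2, 1, 0⟩,
  ⟨-3, 0, -1, 0, 1, -2, -1, 0⟩,
  ⟨-3, 0, -1, 0, 1, 0, -1, 2⟩,
  ⟨-3, 0, -1, 1, -2, 0, 0, -1⟩,
  ⟨-3, 0, -1, 1, -2, 0, 0, 1⟩,
  ⟨-3, 0, -1, 1, 2, 0, 0, -1⟩,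
  ⟨-3, 0, -1, 1, 2, 0, 0, 1⟩,
  ⟨-3, 0, -1, 2, -1, 0, -1, 0⟩,
  ⟨-3, 0, -1, 2, 1, 0, 1, 0⟩,
  ⟨-3, 0, 0, -1, -1, 1, -2, 0⟩,
  ⟨-3, 0, 0, -1, 1, -1, 2, 0⟩]

def bucket0 : List (SQ × ℕ × ℕ) := [
  (⟨0, 0, 0, 0, 0, 0, 0, 0⟩, 0, 0)]

def bucket1 : List (SQ × ℕ × ℕ) := [
  (⟨-1, 0, -1, 1, 0, 0, 0, -1⟩, 0, 114),
  (⟨-1, 1, 1, 0, 0, 1, 0, 0⟩, 0, 87),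
  (⟨0, -1, 0, 0, -1, 1, 1, 0⟩, 0, 81),
  (⟨0, 0, 0, -1, 1, 0, 1, -1⟩, 0, 62),
  (⟨0, 0, 0, 1, -1, 0, -1, 1⟩, 0, 57),
  (⟨0, 1, 0, 0, 1, -1, -1, 0⟩, 0, 38),
  (⟨1, -1, -1, 0, 0, -1, 0, 0⟩, 0, 32),
  (⟨1, 0, 1, -1, 0, 0, 0, 1⟩, 0, 5)]

def bucket2 : List (SQ × ℕ × ℕ) := [
  (⟨-1, 0, -1, 1, 0, 0, 0, 1⟩, 0, 113),
  (⟨-1, 1, 1, 0, 0, -1, 0, 0⟩, 0, 88),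
  (⟨0, -1, 0, 0, 1, -1, -1, 0⟩, 0, 80),
  (⟨0, 0, 0, -1, -1, 0, -1, 1⟩, 0, 65),
  (⟨0, 0, 0, 1, 1, 0, 1, -1⟩, 0, 54),
  (⟨0, 1, 0, 0, -1, 1, 1, 0⟩, 0, 39),
  (⟨1, -1, -1, 0, 0, 1, 0, 0⟩, 0, 31),
  (⟨1, 0, 1, -1, 0, 0, 0, -1⟩, 0, 6)]

def bucket3 : List (SQ × ℕ × ℕ) := [
  (⟨-1, 0, -1, 0, -1, 0, -1, 0⟩, 0, 118),
  (⟨-1, 0, -1, 0, 1, 0, 1, 0⟩, 0, 115),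
  (⟨-1, 0, 1, 0, -1, 0, 1, 0⟩, 0, 101),
  (⟨-1, 0, 1, 0, 1, 0, -1, 0⟩, 0, 100),
  (⟨1, 0, -1, 0, -1, 0, 1, 0⟩, 0, 19),
  (⟨1, 0, -1, 0, 1, 0, -1, 0⟩, 0, 18),
  (⟨1, 0, 1, 0, -1, 0, -1, 0⟩, 0, 4),
  (⟨1, 0, 1, 0, 1, 0, 1, 0⟩, 0, 1)]

def bucket4 : List (SQ × ℕ × ℕ) := [
  (⟨-1, 0, 0, 0, 0, 1, 1, -1⟩, 0, 107),
  (⟨-1, 1, 0, 1, 0, 0, -1, 0⟩, 0, 90),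
  (⟨0, -1, -1, 1, -1, 0, 0, 0⟩, 0, 84),
  (⟨0, 0, -1, 0, 1, -1, 0, -1⟩, 0, 71),
  (⟨0, 0, 1, 0, -1, 1, 0, 1⟩, 0, 48),
  (⟨0, 1, 1, -1, 1, 0, 0, 0⟩, 0, 35),
  (⟨1, -1, 0, -1, 0, 0, 1, 0⟩, 0, 29),
  (⟨1, 0, 0, 0, 0, -1, -1, 1⟩, 0, 12)]

def bucket5 : List (SQ × ℕ × ℕ) := [
  (⟨-1, 0, 0, 1, -1, 1, 0, 0⟩, 0, 106),
  (⟨-1, 1, 0, 0, 1, 0, 0, -1⟩, 0, 92),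
  (⟨0, -1, -1, 0, 0, 0, 1, -1⟩, 0, 85),
  (⟨0, 0, -1, 1, 0, -1, -1, 0⟩, 0, 69),
  (⟨0, 0, 1, -1, 0, 1, 1, 0⟩, 0, 50),
  (⟨0, 1, 1, 0, 0, 0, -1, 1⟩, 0, 34),
  (⟨1, -1, 0, 0, -1, 0, 0, 1⟩, 0, 27),
  (⟨1, 0, 0, -1, 1, -1, 0, 0⟩, 0, 13)]

def bucket6 : List (SQ × ℕ × ℕ) := [
  (⟨-1, 0, 0, -1, -1, 1, 0, 0⟩, 0, 112),
  (⟨-1, 1, 0, 0, 1, 0, 0, 1⟩, 0, 91),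
  (⟨0, -1, 1, 0, 0, 0, -1, 1⟩, 0, 76),
  (⟨0, 0, -1, 1, 0, 1, -1, 0⟩, 0, 67),
  (⟨0, 0, 1, -1, 0, -1, 1, 0⟩, 0, 52),
  (⟨0, 1, -1, 0, 0, 0, 1, -1⟩, 0, 43),
  (⟨1, -1, 0, 0, -1, 0, 0, -1⟩, 0, 28),
  (⟨1, 0, 0, 1, 1, -1, 0, 0⟩, 0, 7)]

def bucket7 : List (SQ × ℕ × ℕ) := [
  (⟨-1, 0, 0, 0, 0, -1, 1, -1⟩, 0, 109),
  (⟨-1, 1, 0, -1, 0, 0, -1, 0⟩, 0, 96),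
  (⟨0, -1, 1, -1, 1, 0, 0, 0⟩, 0, 77),
  (⟨0, 0, -1, 0, 1, -1, 0, 1⟩, 0, 70),
  (⟨0, 0, 1, 0, -1, 1, 0, -1⟩, 0, 49),
  (⟨0, 1, -1, 1, -1, 0, 0, 0⟩, 0, 42),
  (⟨1, -1, 0, 1, 0, 0, 1, 0⟩, 0, 23),
  (⟨1, 0, 0, 0, 0, 1, -1, 1⟩, 0, 10)]

def bucket8 : List (SQ × ℕ × ℕ) := [
  (⟨-2, 0, 0, 0, 0, 0, 0, 0⟩, 0, 119),
  (⟨0, 0, -2, 0, 0, 0, 0, 0⟩, 0, 74),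
  (⟨0, 0, 0, 0, -2, 0, 0, 0⟩, 0, 61),
  (⟨0, 0, 0, 0, 0, 0, -2, 0⟩, 0, 60),
  (⟨0, 0, 0, 0, 0, 0, 2, 0⟩, 0, 59),
  (⟨0, 0, 0, 0, 2, 0, 0, 0⟩, 0, 58),
  (⟨0, 0, 2, 0, 0, 0, 0, 0⟩, 0, 45),
  (⟨2, 0, 0, 0, 0, 0, 0, 0⟩, 0, 0)]

def bucket9 : List (SQ × ℕ × ℕ) := [
  (⟨-1, 0, 1, -1, 0, 0, 0, 1⟩, 0, 103),
  (⟨-1, 1, -1, 0, 0, 1, 0, 0⟩, 0, 97),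
  (⟨0, -1, 0, 0, -1, 1, -1, 0⟩, 0, 82),
  (⟨0, 0, 0, -1, -1, 0, 1, -1⟩, 0, 64),
  (⟨0, 0, 0, 1, 1, 0, -1, 1⟩, 0, 55),
  (⟨0, 1, 0, 0, 1, -1, 1, 0⟩, 0, 37),
  (⟨1, -1, 1, 0, 0, -1, 0, 0⟩, 0, 22),
  (⟨1, 0, -1, 1, 0, 0, 0, -1⟩, 0, 16)]

def bucket10 : List (SQ × ℕ × ℕ) := [
  (⟨-1, 0, 1, -1, 0, 0, 0, -1⟩, 0, 104),
  (⟨-1, 1, -1, 0, 0, -1, 0, 0⟩, 0, 98),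
  (⟨0, -1, 0, 0, 1, -1, 1, 0⟩, 0, 79),
  (⟨0, 0, 0, -1, 1, 0, -1, 1⟩, 0, 63),
  (⟨0, 0, 0, 1, -1, 0, 1, -1⟩, 0, 56),
  (⟨0, 1, 0, 0, -1, 1, -1, 0⟩, 0, 40),
  (⟨1, -1, 1, 0, 0, 1, 0, 0⟩, 0, 21),
  (⟨1, 0, -1, 1, 0, 0, 0, 1⟩, 0, 15)]

def bucket11 : List (SQ × ℕ × ℕ) := [
  (⟨-1, 0, -1, 0, -1, 0, 1, 0⟩, 0, 117),
  (⟨-1, 0, -1, 0, 1, 0, -1, 0⟩, 0, 116),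
  (⟨-1, 0, 1, 0, -1, 0, -1, 0⟩, 0, 102),
  (⟨-1, 0, 1, 0, 1, 0, 1, 0⟩, 0, 99),
  (⟨1, 0, -1, 0, -1, 0, -1, 0⟩, 0, 20),
  (⟨1, 0, -1, 0, 1, 0, 1, 0⟩, 0, 17),
  (⟨1, 0, 1, 0, -1, 0, 1, 0⟩, 0, 3),
  (⟨1, 0, 1, 0, 1, 0, -1, 0⟩, 0, 2)]

def bucket12 : List (SQ × ℕ × ℕ) := [
  (⟨-1, 0, 0, 0, 0, -1, -1, 1⟩, 0, 110),
  (⟨-1, 1, 0, 1, 0, 0, 1, 0⟩, 0, 89),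
  (⟨0, -1, -1, 1, 1, 0, 0, 0⟩, 0, 83),
  (⟨0, 0, -1, 0, -1, 1, 0, 1⟩, 0, 72),
  (⟨0, 0, 1, 0, 1, -1, 0, -1⟩, 0, 47),
  (⟨0, 1, 1, -1, -1, 0, 0, 0⟩, 0, 36),
  (⟨1, -1, 0, -1, 0, 0, -1, 0⟩, 0, 30),
  (⟨1, 0, 0, 0, 0, 1, 1, -1⟩, 0, 9)]

def bucket13 : List (SQ × ℕ × ℕ) := [
  (⟨-1, 0, 0, -1, 1, -1, 0, 0⟩, 0, 111),
  (⟨-1, 1, 0, 0, -1, 0, 0, -1⟩, 0, 94),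
  (⟨0, -1, 1, 0, 0, 0, 1, -1⟩, 0, 75),
  (⟨0, 0, -1, 1, 0, -1, 1, 0⟩, 0, 68),
  (⟨0, 0, 1, -1, 0, 1, -1, 0⟩, 0, 51),
  (⟨0, 1, -1, 0, 0, 0, -1, 1⟩, 0, 44),
  (⟨1, -1, 0, 0, 1, 0, 0, 1⟩, 0, 25),
  (⟨1, 0, 0, 1, -1, 1, 0, 0⟩, 0, 8)]

def bucket14 : List (SQ × ℕ × ℕ) := [
  (⟨-1, 0, 0, 1, 1, -1, 0, 0⟩, 0, 105),
  (⟨-1, 1, 0, 0, -1, 0, 0, 1⟩, 0, 93),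
  (⟨0, -1, -1, 0, 0, 0, -1, 1⟩, 0, 86),
  (⟨0, 0, -1, 1, 0, 1, 1, 0⟩, 0, 66),
  (⟨0, 0, 1, -1, 0, -1, -1, 0⟩, 0, 53),
  (⟨0, 1, 1, 0, 0, 0, 1, -1⟩, 0, 33),
  (⟨1, -1, 0, 0, 1, 0, 0, -1⟩, 0, 26),
  (⟨1, 0, 0, -1, -1, 1, 0, 0⟩, 0, 14)]

def bucket15 : List (SQ × ℕ × ℕ) := [
  (⟨-1, 0, 0, 0, 0, 1, -1, 1⟩, 0, 108),
  (⟨-1, 1, 0, -1, 0, 0, 1, 0⟩, 0, 95),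
  (⟨0, -1, 1, -1, -1, 0, 0, 0⟩, 0, 78),
  (⟨0, 0, -1, 0, -1, 1, 0, -1⟩, 0, 73),
  (⟨0, 0, 1, 0, 1, -1, 0, 1⟩, 0, 46),
  (⟨0, 1, -1, 1, 1, 0, 0, 0⟩, 0, 41),
  (⟨1, -1, 0, 1, 0, 0, -1, 0⟩, 0, 24),
  (⟨1, 0, 0, 0, 0, -1, 1, -1⟩, 0, 11)]

def bucket16 : List (SQ × ℕ × ℕ) := [
  (⟨-1, -1, 1, 0, 0, -1, 0, 0⟩, 1, 75),
  (⟨-1, 0, -1, -1, 0, 0, 0, 1⟩, 1, 103),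
  (⟨0, -1, 0, 0, 1, 1, -1, 0⟩, 1, 58),
  (⟨0, 0, 0, -1, -1, 0, -1, -1⟩, 1, 30),
  (⟨0, 0, 0, 1, 1, 0, 1, 1⟩, 1, 89),
  (⟨0, 1, 0, 0, -1, -1, 1, 0⟩, 1, 61),
  (⟨1, 0, 1, 1, 0, 0, 0, -1⟩, 1, 16),
  (⟨1, 1, -1, 0, 0, 1, 0, 0⟩, 1, 44)]

def bucket17 : List (SQ × ℕ × ℕ) := [
  (⟨-1, -1, 1, 0, 0, 1, 0, 0⟩, 1, 21),
  (⟨-1, 0, -1, -1, 0, 0, 0, -1⟩, 1, 112),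
  (⟨0, -1, 0, 0, -1, -1, 1, 0⟩, 1, 84),
  (⟨0, 0, 0, -1, 1, 0, 1, 1⟩, 1, 59),
  (⟨0, 0, 0, 1, -1, 0, -1, -1⟩, 1, 60),
  (⟨0, 1, 0, 0, 1, 1, -1, 0⟩, 1, 35),
  (⟨1, 0, 1, 1, 0, 0, 0, 1⟩, 1, 7),
  (⟨1, 1, -1, 0, 0, -1, 0, 0⟩, 1, 98)]

def bucket18 : List (SQ × ℕ × ℕ) := [
  (⟨0, -2, 0, 0, 0, 0, 0, 0⟩, 1, 83),
  (⟨0, 0, 0, -2, 0, 0, 0, 0⟩, 1, 29),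
  (⟨0, 0, 0, 0, 0, -2, 0, 0⟩, 1, 109),
  (⟨0, 0, 0, 0, 0, 0, 0, -2⟩, 1, 73),
  (⟨0, 0, 0, 0, 0, 0, 0, 2⟩, 1, 46),
  (⟨0, 0, 0, 0, 0, 2, 0, 0⟩, 1, 10),
  (⟨0, 0, 0, 2, 0, 0, 0, 0⟩, 1, 90),
  (⟨0, 2, 0, 0, 0, 0, 0, 0⟩, 1, 36)]

def bucket19 : List (SQ × ℕ × ℕ) := [
  (⟨-1, -1, 0, -1, 0, 0, -1, 0⟩, 1, 77),
  (⟨-1, 0, 0, 0, 0, -1, 1, 1⟩, 1, 101),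
  (⟨0, -1, 1, 1, 1, 0, 0, 0⟩, 1, 54),
  (⟨0, 0, -1, 0, 1, 1, 0, 1⟩, 1, 91),
  (⟨0, 0, 1, 0, -1, -1, 0, -1⟩, 1, 28),
  (⟨0, 1, -1, -1, -1, 0, 0, 0⟩, 1, 65),
  (⟨1, 0, 0, 0, 0, 1, -1, -1⟩, 1, 18),
  (⟨1, 1, 0, 1, 0, 0, 1, 0⟩, 1, 42)]

def bucket20 : List (SQ × ℕ × ℕ) := [
  (⟨-1, -1, 0, 0, 1, 0, 0, 1⟩, 1, 99),
  (⟨-1, 0, 0, -1, -1, -1, 0, 0⟩, 1, 78),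
  (⟨0, -1, 1, 0, 0, 0, -1, -1⟩, 1, 26),
  (⟨0, 0, -1, -1, 0, 1, -1, 0⟩, 1, 63),
  (⟨0, 0, 1, 1, 0, -1, 1, 0⟩, 1, 56),
  (⟨0, 1, -1, 0, 0, 0, 1, 1⟩, 1, 93),
  (⟨1, 0, 0, 1, 1, 1, 0, 0⟩, 1, 41),
  (⟨1, 1, 0, 0, -1, 0, 0, -1⟩, 1, 20)]

def bucket21 : List (SQ × ℕ × ℕ) := [
  (⟨-1, -1, 0, 0, 1, 0, 0, -1⟩, 1, 107),
  (⟨-1, 0, 0, 1, -1, -1, 0, 0⟩, 1, 102),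
  (⟨0, -1, -1, 0, 0, 0, 1, 1⟩, 1, 113),
  (⟨0, 0, -1, -1, 0, -1, -1, 0⟩, 1, 111),
  (⟨0, 0, 1, 1, 0, 1, 1, 0⟩, 1, 8),
  (⟨0, 1, 1, 0, 0, 0, -1, -1⟩, 1, 6),
  (⟨1, 0, 0, -1, 1, 1, 0, 0⟩, 1, 17),
  (⟨1, 1, 0, 0, -1, 0, 0, 1⟩, 1, 12)]

def bucket22 : List (SQ × ℕ × ℕ) := [
  (⟨-1, -1, 0, 1, 0, 0, -1, 0⟩, 1, 100),
  (⟨-1, 0, 0, 0, 0, 1, 1, 1⟩, 1, 48),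
  (⟨0, -1, -1, -1, -1, 0, 0, 0⟩, 1, 86),
  (⟨0, 0, -1, 0, 1, 1, 0, -1⟩, 1, 97),
  (⟨0, 0, 1, 0, -1, -1, 0, 1⟩, 1, 22),
  (⟨0, 1, 1, 1, 1, 0, 0, 0⟩, 1, 33),
  (⟨1, 0, 0, 0, 0, -1, -1, -1⟩, 1, 71),
  (⟨1, 1, 0, -1, 0, 0, 1, 0⟩, 1, 19)]

def bucket23 : List (SQ × ℕ × ℕ) := [
  (⟨0, -1, 0, -1, 0, -1, 0, 1⟩, 1, 79),
  (⟨0, -1, 0, -1, 0, 1, 0, -1⟩, 1, 31),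
  (⟨0, -1, 0, 1, 0, -1, 0, -1⟩, 1, 114),
  (⟨0, -1, 0, 1, 0, 1, 0, 1⟩, 1, 55),
  (⟨0, 1, 0, -1, 0, -1, 0, -1⟩, 1, 64),
  (⟨0, 1, 0, -1, 0, 1, 0, 1⟩, 1, 5),
  (⟨0, 1, 0, 1, 0, -1, 0, 1⟩, 1, 88),
  (⟨0, 1, 0, 1, 0, 1, 0, -1⟩, 1, 40)]

def bucket24 : List (SQ × ℕ × ℕ) := [
  (⟨-1, -1, -1, 0, 0, -1, 0, 0⟩, 1, 119),
  (⟨-1, 0, 1, 1, 0, 0, 0, -1⟩, 1, 49),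
  (⟨0, -1, 0, 0, 1, 1, 1, 0⟩, 1, 66),
  (⟨0, 0, 0, -1, 1, 0, -1, -1⟩, 1, 62),
  (⟨0, 0, 0, 1, -1, 0, 1, 1⟩, 1, 57),
  (⟨0, 1, 0, 0, -1, -1, -1, 0⟩, 1, 53),
  (⟨1, 0, -1, -1, 0, 0, 0, 1⟩, 1, 70),
  (⟨1, 1, 1, 0, 0, 1, 0, 0⟩, 1, 0)]

def bucket25 : List (SQ × ℕ × ℕ) := [
  (⟨-1, -1, -1, 0, 0, 1, 0, 0⟩, 1, 108),
  (⟨-1, 0, 1, 1, 0, 0, 0, 1⟩, 1, 45),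
  (⟨0, -1, 0, 0, -1, -1, -1, 0⟩, 1, 80),
  (⟨0, 0, 0, -1, -1, 0, 1, 1⟩, 1, 27),
  (⟨0, 0, 0, 1, 1, 0, -1, -1⟩, 1, 92),
  (⟨0, 1, 0, 0, 1, 1, 1, 0⟩, 1, 39),
  (⟨1, 0, -1, -1, 0, 0, 0, -1⟩, 1, 74),
  (⟨1, 1, 1, 0, 0, -1, 0, 0⟩, 1, 11)]

def bucket26 : List (SQ × ℕ × ℕ) := [
  (⟨0, -1, 0, -1, 0, -1, 0, -1⟩, 1, 85),
  (⟨0, -1, 0, -1, 0, 1, 0, 1⟩, 1, 25),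
  (⟨0, -1, 0, 1, 0, -1, 0, 1⟩, 1, 105),
  (⟨0, -1, 0, 1, 0, 1, 0, -1⟩, 1, 67),
  (⟨0, 1, 0, -1, 0, -1, 0, 1⟩, 1, 52),
  (⟨0, 1, 0, -1, 0, 1, 0, -1⟩, 1, 14),
  (⟨0, 1, 0, 1, 0, -1, 0, -1⟩, 1, 94),
  (⟨0, 1, 0, 1, 0, 1, 0, 1⟩, 1, 34)]

def bucket27 : List (SQ × ℕ × ℕ) := [
  (⟨-1, -1, 0, -1, 0, 0, 1, 0⟩, 1, 81),
  (⟨-1, 0, 0, 0, 0, 1, -1, -1⟩, 1, 51),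
  (⟨0, -1, 1, 1, -1, 0, 0, 0⟩, 1, 24),
  (⟨0, 0, -1, 0, -1, -1, 0, -1⟩, 1, 118),
  (⟨0, 0, 1, 0, 1, 1, 0, 1⟩, 1, 1),
  (⟨0, 1, -1, -1, 1, 0, 0, 0⟩, 1, 95),
  (⟨1, 0, 0, 0, 0, -1, 1, 1⟩, 1, 68),
  (⟨1, 1, 0, 1, 0, 0, -1, 0⟩, 1, 38)]

def bucket28 : List (SQ × ℕ × ℕ) := [
  (⟨-1, -1, 0, 0, -1, 0, 0, 1⟩, 1, 76),
  (⟨-1, 0, 0, 1, 1, 1, 0, 0⟩, 1, 87),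
  (⟨0, -1, -1, 0, 0, 0, -1, -1⟩, 1, 116),
  (⟨0, 0, -1, -1, 0, 1, 1, 0⟩, 1, 72),
  (⟨0, 0, 1, 1, 0, -1, -1, 0⟩, 1, 47),
  (⟨0, 1, 1, 0, 0, 0, 1, 1⟩, 1, 3),
  (⟨1, 0, 0, -1, -1, -1, 0, 0⟩, 1, 32),
  (⟨1, 1, 0, 0, 1, 0, 0, -1⟩, 1, 43)]

def bucket29 : List (SQ × ℕ × ℕ) := [
  (⟨-1, -1, 0, 0, -1, 0, 0, -1⟩, 1, 82),
  (⟨-1, 0, 0, -1, 1, 1, 0, 0⟩, 1, 50),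
  (⟨0, -1, 1, 0, 0, 0, 1, 1⟩, 1, 23),
  (⟨0, 0, -1, -1, 0, -1, 1, 0⟩, 1, 117),
  (⟨0, 0, 1, 1, 0, 1, -1, 0⟩, 1, 2),
  (⟨0, 1, -1, 0, 0, 0, -1, -1⟩, 1, 96),
  (⟨1, 0, 0, 1, -1, -1, 0, 0⟩, 1, 69),
  (⟨1, 1, 0, 0, 1, 0, 0, 1⟩, 1, 37)]

def bucket30 : List (SQ × ℕ × ℕ) := [
  (⟨-1, -1, 0, 1, 0, 0, 1, 0⟩, 1, 106),
  (⟨-1, 0, 0, 0, 0, -1, -1, -1⟩, 1, 104),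
  (⟨0, -1, -1, -1, 1, 0, 0, 0⟩, 1, 115),
  (⟨0, 0, -1, 0, -1, -1, 0, 1⟩, 1, 110),
  (⟨0, 0, 1, 0, 1, 1, 0, -1⟩, 1, 9),
  (⟨0, 1, 1, 1, -1, 0, 0, 0⟩, 1, 4),
  (⟨1, 0, 0, 0, 0, 1, 1, 1⟩, 1, 15),
  (⟨1, 1, 0, -1, 0, 0, -1, 0⟩, 1, 13)]

def bucket31 : List (SQ × ℕ × ℕ) := [
  (⟨-2, 1, 0, 0, 1, -1, 1, 0⟩, 2, 109),
  (⟨-1, 0, 1, -1, 0, 0, -2, 1⟩, 2, 100),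
  (⟨-1, 1, -1, 0, -2, 1, 0, 0⟩, 2, 112),
  (⟨0, 0, -2, 1, 1, 0, -1, 1⟩, 2, 113),
  (⟨0, 0, 2, -1, -1, 0, 1, -1⟩, 2, 6),
  (⟨1, -1, 1, 0, 2, -1, 0, 0⟩, 2, 7),
  (⟨1, 0, -1, 1, 0, 0, 2, -1⟩, 2, 19),
  (⟨2, -1, 0, 0, -1, 1, -1, 0⟩, 2, 10)]

def bucket32 : List (SQ × ℕ × ℕ) := [
  (⟨-2, 1, 0, 0, -1, 1, -1, 0⟩, 2, 87),
  (⟨-1, 0, 1, -1, 0, 0, 2, -1⟩, 2, 75),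
  (⟨-1, 1, -1, 0, 2, -1, 0, 0⟩, 2, 115),
  (⟨0, 0, -2, 1, -1, 0, 1, -1⟩, 2, 73),
  (⟨0, 0, 2, -1, 1, 0, -1, 1⟩, 2, 46),
  (⟨1, -1, 1, 0, -2, 1, 0, 0⟩, 2, 4),
  (⟨1, 0, -1, 1, 0, 0, -2, 1⟩, 2, 44),
  (⟨2, -1, 0, 0, 1, -1, 1, 0⟩, 2, 32)]

def bucket33 : List (SQ × ℕ × ℕ) := [
  (⟨-1, 1, -1, 1, -1, 1, 1, -1⟩, 2, 39),
  (⟨-1, 1, -1, 1, 1, -1, -1, 1⟩, 2, 98),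
  (⟨-1, 1, 1, -1, -1, 1, -1, 1⟩, 2, 103),
  (⟨-1, 1, 1, -1, 1, -1, 1, -1⟩, 2, 62),
  (⟨1, -1, -1, 1, -1, 1, -1, 1⟩, 2, 57),
  (⟨1, -1, -1, 1, 1, -1, 1, -1⟩, 2, 16),
  (⟨1, -1, 1, -1, -1, 1, 1, -1⟩, 2, 21),
  (⟨1, -1, 1, -1, 1, -1, -1, 1⟩, 2, 80)]

def bucket34 : List (SQ × ℕ × ℕ) := [
  (⟨-2, 1, 1, -1, -1, 0, 0, 0⟩, 2, 104),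
  (⟨-1, 0, 0, 0, 2, -1, -1, 1⟩, 2, 105),
  (⟨-1, 1, -2, 1, 0, 0, 1, 0⟩, 2, 117),
  (⟨0, 0, -1, 0, -1, 1, -2, 1⟩, 2, 108),
  (⟨0, 0, 1, 0, 1, -1, 2, -1⟩, 2, 11),
  (⟨1, -1, 2, -1, 0, 0, -1, 0⟩, 2, 2),
  (⟨1, 0, 0, 0, -2, 1, 1, -1⟩, 2, 14),
  (⟨2, -1, -1, 1, 1, 0, 0, 0⟩, 2, 15)]

def bucket35 : List (SQ × ℕ × ℕ) := [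
  (⟨-2, 1, -1, 0, 0, 0, -1, 1⟩, 2, 119),
  (⟨-1, 0, 2, -1, 1, -1, 0, 0⟩, 2, 47),
  (⟨-1, 1, 0, 0, -1, 0, 2, -1⟩, 2, 64),
  (⟨0, 0, -1, 1, 2, -1, 1, 0⟩, 2, 68),
  (⟨0, 0, 1, -1, -2, 1, -1, 0⟩, 2, 51),
  (⟨1, -1, 0, 0, 1, 0, -2, 1⟩, 2, 55),
  (⟨1, 0, -2, 1, -1, 1, 0, 0⟩, 2, 72),
  (⟨2, -1, 1, 0, 0, 0, 1, -1⟩, 2, 0)]

def bucket36 : List (SQ × ℕ × ℕ) := [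
  (⟨-2, 1, 1, 0, 0, 0, 1, -1⟩, 2, 33),
  (⟨-1, 0, -2, 1, 1, -1, 0, 0⟩, 2, 114),
  (⟨-1, 1, 0, 0, -1, 0, -2, 1⟩, 2, 96),
  (⟨0, 0, -1, 1, -2, 1, 1, 0⟩, 2, 61),
  (⟨0, 0, 1, -1, 2, -1, -1, 0⟩, 2, 58),
  (⟨1, -1, 0, 0, 1, 0, 2, -1⟩, 2, 23),
  (⟨1, 0, 2, -1, -1, 1, 0, 0⟩, 2, 5),
  (⟨2, -1, -1, 0, 0, 0, -1, 1⟩, 2, 86)]

def bucket37 : List (SQ × ℕ × ℕ) := [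
  (⟨-2, 1, -1, 1, 1, 0, 0, 0⟩, 2, 89),
  (⟨-1, 0, 0, 0, -2, 1, -1, 1⟩, 2, 102),
  (⟨-1, 1, 2, -1, 0, 0, 1, 0⟩, 2, 52),
  (⟨0, 0, -1, 0, -1, 1, 2, -1⟩, 2, 81),
  (⟨0, 0, 1, 0, 1, -1, -2, 1⟩, 2, 38),
  (⟨1, -1, -2, 1, 0, 0, -1, 0⟩, 2, 67),
  (⟨1, 0, 0, 0, 2, -1, 1, -1⟩, 2, 17),
  (⟨2, -1, 1, -1, -1, 0, 0, 0⟩, 2, 30)]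

def bucket38 : List (SQ × ℕ × ℕ) := [
  (⟨-1, 1, -1, 1, -1, 1, -1, 1⟩, 2, 93),
  (⟨-1, 1, -1, 1, 1, -1, 1, -1⟩, 2, 43),
  (⟨-1, 1, 1, -1, -1, 1, 1, -1⟩, 2, 50),
  (⟨-1, 1, 1, -1, 1, -1, -1, 1⟩, 2, 111),
  (⟨1, -1, -1, 1, -1, 1, 1, -1⟩, 2, 8),
  (⟨1, -1, -1, 1, 1, -1, -1, 1⟩, 2, 69),
  (⟨1, -1, 1, -1, -1, 1, -1, 1⟩, 2, 76),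
  (⟨1, -1, 1, -1, 1, -1, 1, -1⟩, 2, 26)]

def bucket39 : List (SQ × ℕ × ℕ) := [
  (⟨-2, 1, 0, 0, 1, -1, -1, 0⟩, 2, 92),
  (⟨-1, 0, -1, 1, 0, 0, 2, -1⟩, 2, 56),
  (⟨-1, 1, 1, 0, -2, 1, 0, 0⟩, 2, 36),
  (⟨0, 0, -2, 1, -1, 0, -1, 1⟩, 2, 118),
  (⟨0, 0, 2, -1, 1, 0, 1, -1⟩, 2, 1),
  (⟨1, -1, -1, 0, 2, -1, 0, 0⟩, 2, 83),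
  (⟨1, 0, 1, -1, 0, 0, -2, 1⟩, 2, 63),
  (⟨2, -1, 0, 0, -1, 1, 1, 0⟩, 2, 27)]

def bucket40 : List (SQ × ℕ × ℕ) := [
  (⟨-2, 1, 0, 0, -1, 1, 1, 0⟩, 2, 101),
  (⟨-1, 0, -1, 1, 0, 0, -2, 1⟩, 2, 90),
  (⟨-1, 1, 1, 0, 2, -1, 0, 0⟩, 2, 37),
  (⟨0, 0, -2, 1, 1, 0, 1, -1⟩, 2, 66),
  (⟨0, 0, 2, -1, -1, 0, -1, 1⟩, 2, 53),
  (⟨1, -1, -1, 0, -2, 1, 0, 0⟩, 2, 82),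
  (⟨1, 0, 1, -1, 0, 0, 2, -1⟩, 2, 29),
  (⟨2, -1, 0, 0, 1, -1, -1, 0⟩, 2, 18)]

def bucket41 : List (SQ × ℕ × ℕ) := [
  (⟨-2, 2, 0, 0, 0, 0, 0, 0⟩, 2, 95),
  (⟨0, 0, -2, 2, 0, 0, 0, 0⟩, 2, 42),
  (⟨0, 0, 0, 0, -2, 2, 0, 0⟩, 2, 48),
  (⟨0, 0, 0, 0, 0, 0, -2, 2⟩, 2, 110),
  (⟨0, 0, 0, 0, 0, 0, 2, -2⟩, 2, 9),
  (⟨0, 0, 0, 0, 2, -2, 0, 0⟩, 2, 71),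
  (⟨0, 0, 2, -2, 0, 0, 0, 0⟩, 2, 77),
  (⟨2, -2, 0, 0, 0, 0, 0, 0⟩, 2, 24)]

def bucket42 : List (SQ × ℕ × ℕ) := [
  (⟨-2, 1, 1, -1, 1, 0, 0, 0⟩, 2, 99),
  (⟨-1, 0, 0, 0, -2, 1, 1, -1⟩, 2, 49),
  (⟨-1, 1, -2, 1, 0, 0, -1, 0⟩, 2, 97),
  (⟨0, 0, -1, 0, 1, -1, 2, -1⟩, 2, 85),
  (⟨0, 0, 1, 0, -1, 1, -2, 1⟩, 2, 34),
  (⟨1, -1, 2, -1, 0, 0, 1, 0⟩, 2, 22),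
  (⟨1, 0, 0, 0, 2, -1, -1, 1⟩, 2, 70),
  (⟨2, -1, -1, 1, -1, 0, 0, 0⟩, 2, 20)]

def bucket43 : List (SQ × ℕ × ℕ) := [
  (⟨-2, 1, 1, 0, 0, 0, -1, 1⟩, 2, 88),
  (⟨-1, 0, -2, 1, -1, 1, 0, 0⟩, 2, 106),
  (⟨-1, 1, 0, 0, 1, 0, 2, -1⟩, 2, 59),
  (⟨0, 0, -1, 1, 2, -1, -1, 0⟩, 2, 41),
  (⟨0, 0, 1, -1, -2, 1, 1, 0⟩, 2, 78),
  (⟨1, -1, 0, 0, -1, 0, -2, 1⟩, 2, 60),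
  (⟨1, 0, 2, -1, 1, -1, 0, 0⟩, 2, 13),
  (⟨2, -1, -1, 0, 0, 0, 1, -1⟩, 2, 31)]

def bucket44 : List (SQ × ℕ × ℕ) := [
  (⟨-2, 1, -1, 0, 0, 0, 1, -1⟩, 2, 107),
  (⟨-1, 0, 2, -1, -1, 1, 0, 0⟩, 2, 45),
  (⟨-1, 1, 0, 0, 1, 0, -2, 1⟩, 2, 91),
  (⟨0, 0, -1, 1, -2, 1, -1, 0⟩, 2, 40),
  (⟨0, 0, 1, -1, 2, -1, 1, 0⟩, 2, 79),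
  (⟨1, -1, 0, 0, -1, 0, 2, -1⟩, 2, 28),
  (⟨1, 0, -2, 1, 1, -1, 0, 0⟩, 2, 74),
  (⟨2, -1, 1, 0, 0, 0, -1, 1⟩, 2, 12)]

def bucket45 : List (SQ × ℕ × ℕ) := [
  (⟨-2, 1, -1, 1, -1, 0, 0, 0⟩, 2, 94),
  (⟨-1, 0, 0, 0, 2, -1, 1, -1⟩, 2, 54),
  (⟨-1, 1, 2, -1, 0, 0, -1, 0⟩, 2, 35),
  (⟨0, 0, -1, 0, 1, -1, -2, 1⟩, 2, 116),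
  (⟨0, 0, 1, 0, -1, 1, 2, -1⟩, 2, 3),
  (⟨1, -1, -2, 1, 0, 0, 1, 0⟩, 2, 84),
  (⟨1, 0, 0, 0, -2, 1, -1, 1⟩, 2, 65),
  (⟨2, -1, 1, -1, 1, 0, 0, 0⟩, 2, 25)]

def bucket46 : List (SQ × ℕ × ℕ) := [
  (⟨-2, 0, -2, 0, 0, 0, 0, 0⟩, 3, 119),
  (⟨-2, 0, 0, 0, -2, 0, 0, 0⟩, 3, 102),
  (⟨-2, 0, 0, 0, 0, 0, -2, 0⟩, 3, 100),
  (⟨-2, 0, 0, 0, 0, 0, 2, 0⟩, 3, 101),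
  (⟨-2, 0, 0, 0, 2, 0, 0, 0⟩, 3, 99),
  (⟨-2, 0, 2, 0, 0, 0, 0, 0⟩, 3, 45),
  (⟨-2, 1, 0, -1, 0, -1, 0, -1⟩, 3, 104),
  (⟨-2, 1, 0, -1, 0, 1, 0, 1⟩, 3, 103),
  (⟨-2, 1, 0, 1, 0, -1, 0, 1⟩, 3, 88),
  (⟨-2, 1, 0, 1, 0, 1, 0, -1⟩, 3, 87),
  (⟨-1, -1, -1, 1, -1, 1, 1, -1⟩, 3, 106),
  (⟨-1, -1, -1, 1, 1, -1, -1, 1⟩, 3, 105),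
  (⟨-1, -1, 1, -1, -1, 1, -1, 1⟩, 3, 76),
  (⟨-1, -1, 1, -1, 1, -1, 1, -1⟩, 3, 75),
  (⟨-1, 0, -1, 0, -1, 0, -1, 2⟩, 3, 110),
  (⟨-1, 0, -1, 0, -1, 2, -1, 0⟩, 3, 108),
  (⟨-1, 0, -1, 0, 1, -2, 1, 0⟩, 3, 109),
  (⟨-1, 0, -1, 0, 1, 0, 1, -2⟩, 3, 107),
  (⟨-1, 0, -1, 2, -1, 0, -1, 0⟩, 3, 90),
  (⟨-1, 0, -1, 2, 1, 0, 1, 0⟩, 3, 89),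
  (⟨-1, 0, 1, -2, -1, 0, 1, 0⟩, 3, 78),
  (⟨-1, 0, 1, -2, 1, 0, -1, 0⟩, 3, 77),
  (⟨-1, 0, 1, 0, -1, 0, 1, -2⟩, 3, 49),
  (⟨-1, 0, 1, 0, -1, 2, 1, 0⟩, 3, 48),
  (⟨-1, 0, 1, 0, 1, -2, -1, 0⟩, 3, 47),
  (⟨-1, 0, 1, 0, 1, 0, -1, 2⟩, 3, 46),
  (⟨-1, 1, -1, -1, -1, 1, 1, -1⟩, 3, 112),
  (⟨-1, 1, -1, -1, 1, -1, -1, 1⟩, 3, 111),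
  (⟨-1, 1, -1, 1, -1, -1, 1, -1⟩, 3, 94),
  (⟨-1, 1, -1, 1, -1, 1, 1, 1⟩, 3, 93),
  (⟨-1, 1, -1, 1, 1, -1, -1, -1⟩, 3, 92),
  (⟨-1, 1, -1, 1, 1, 1, -1, 1⟩, 3, 91),
  (⟨-1, 1, 1, -1, -1, -1, -1, 1⟩, 3, 53),
  (⟨-1, 1, 1, -1, -1, 1, -1, -1⟩, 3, 51),
  (⟨-1, 1, 1, -1, 1, -1, 1, 1⟩, 3, 52),
  (⟨-1, 1, 1, -1, 1, 1, 1, -1⟩, 3, 50),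
  (⟨-1, 1, 1, 1, -1, 1, -1, 1⟩, 3, 34),
  (⟨-1, 1, 1, 1, 1, -1, 1, -1⟩, 3, 33),
  (⟨-1, 2, -1, 0, -1, 0, -1, 0⟩, 3, 96),
  (⟨-1, 2, -1, 0, 1, 0, 1, 0⟩, 3, 95),
  (⟨-1, 2, 1, 0, -1, 0, 1, 0⟩, 3, 36),
  (⟨-1, 2, 1, 0, 1, 0, -1, 0⟩, 3, 35),
  (⟨0, -1, -2, 1, 0, -1, 0, -1⟩, 3, 114),
  (⟨0, -1, -2, 1, 0, 1, 0, 1⟩, 3, 113),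
  (⟨0, -1, 0, -1, -2, 1, 0, -1⟩, 3, 82),
  (⟨0, -1, 0, -1, 0, -1, -2, 1⟩, 3, 80),
  (⟨0, -1, 0, -1, 0, 1, 2, -1⟩, 3, 81),
  (⟨0, -1, 0, -1, 2, -1, 0, 1⟩, 3, 79),
  (⟨0, -1, 0, 1, -2, 1, 0, 1⟩, 3, 57),
  (⟨0, -1, 0, 1, 0, -1, 2, -1⟩, 3, 56),
  (⟨0, -1, 0, 1, 0, 1, -2, 1⟩, 3, 55),
  (⟨0, -1, 0, 1, 2, -1, 0, -1⟩, 3, 54),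
  (⟨0, -1, 2, -1, 0, -1, 0, 1⟩, 3, 22),
  (⟨0, -1, 2, -1, 0, 1, 0, -1⟩, 3, 21),
  (⟨0, 0, -2, 0, -2, 0, 0, 0⟩, 3, 118),
  (⟨0, 0, -2, 0, 0, 0, -2, 0⟩, 3, 116),
  (⟨0, 0, -2, 0, 0, 0, 2, 0⟩, 3, 117),
  (⟨0, 0, -2, 0, 2, 0, 0, 0⟩, 3, 115),
  (⟨0, 0, 0, 0, -2, 0, -2, 0⟩, 3, 60),
  (⟨0, 0, 0, 0, -2, 0, 2, 0⟩, 3, 61),
  (⟨0, 0, 0, 0, 2, 0, -2, 0⟩, 3, 58),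
  (⟨0, 0, 0, 0, 2, 0, 2, 0⟩, 3, 59),
  (⟨0, 0, 2, 0, -2, 0, 0, 0⟩, 3, 4),
  (⟨0, 0, 2, 0, 0, 0, -2, 0⟩, 3, 2),
  (⟨0, 0, 2, 0, 0, 0, 2, 0⟩, 3, 3),
  (⟨0, 0, 2, 0, 2, 0, 0, 0⟩, 3, 1),
  (⟨0, 1, -2, 1, 0, -1, 0, 1⟩, 3, 98),
  (⟨0, 1, -2, 1, 0, 1, 0, -1⟩, 3, 97),
  (⟨0, 1, 0, -1, -2, 1, 0, 1⟩, 3, 65),
  (⟨0, 1, 0, -1, 0, -1, 2, -1⟩, 3, 64),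
  (⟨0, 1, 0, -1, 0, 1, -2, 1⟩, 3, 63),
  (⟨0, 1, 0, -1, 2, -1, 0, -1⟩, 3, 62),
  (⟨0, 1, 0, 1, -2, 1, 0, -1⟩, 3, 40),
  (⟨0, 1, 0, 1, 0, -1, -2, 1⟩, 3, 38),
  (⟨0, 1, 0, 1, 0, 1, 2, -1⟩, 3, 39),
  (⟨0, 1, 0, 1, 2, -1, 0, 1⟩, 3, 37),
  (⟨0, 1, 2, -1, 0, -1, 0, -1⟩, 3, 6),
  (⟨0, 1, 2, -1, 0, 1, 0, 1⟩, 3, 5),
  (⟨1, -2, -1, 0, -1, 0, 1, 0⟩, 3, 84),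
  (⟨1, -2, -1, 0, 1, 0, -1, 0⟩, 3, 83),
  (⟨1, -2, 1, 0, -1, 0, -1, 0⟩, 3, 24),
  (⟨1, -2, 1, 0, 1, 0, 1, 0⟩, 3, 23),
  (⟨1, -1, -1, -1, -1, 1, -1, 1⟩, 3, 86),
  (⟨1, -1, -1, -1, 1, -1, 1, -1⟩, 3, 85),
  (⟨1, -1, -1, 1, -1, -1, -1, 1⟩, 3, 69),
  (⟨1, -1, -1, 1, -1, 1, -1, -1⟩, 3, 67),
  (⟨1, -1, -1, 1, 1, -1, 1, 1⟩, 3, 68),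
  (⟨1, -1, -1, 1, 1, 1, 1, -1⟩, 3, 66),
  (⟨1, -1, 1, -1, -1, -1, 1, -1⟩, 3, 28),
  (⟨1, -1, 1, -1, -1, 1, 1, 1⟩, 3, 27),
  (⟨1, -1, 1, -1, 1, -1, -1, -1⟩, 3, 26),
  (⟨1, -1, 1, -1, 1, 1, -1, 1⟩, 3, 25),
  (⟨1, -1, 1, 1, -1, 1, 1, -1⟩, 3, 8),
  (⟨1, -1, 1, 1, 1, -1, -1, 1⟩, 3, 7),
  (⟨1, 0, -1, 0, -1, 0, 1, -2⟩, 3, 73),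
  (⟨1, 0, -1, 0, -1, 2, 1, 0⟩, 3, 72),
  (⟨1, 0, -1, 0, 1, -2, -1, 0⟩, 3, 71),
  (⟨1, 0, -1, 0, 1, 0, -1, 2⟩, 3, 70),
  (⟨1, 0, -1, 2, -1, 0, 1, 0⟩, 3, 42),
  (⟨1, 0, -1, 2, 1, 0, -1, 0⟩, 3, 41),
  (⟨1, 0, 1, -2, -1, 0, -1, 0⟩, 3, 30),
  (⟨1, 0, 1, -2, 1, 0, 1, 0⟩, 3, 29),
  (⟨1, 0, 1, 0, -1, 0, -1, 2⟩, 3, 12),
  (⟨1, 0, 1, 0, -1, 2, -1, 0⟩, 3, 10),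
  (⟨1, 0, 1, 0, 1, -2, 1, 0⟩, 3, 11),
  (⟨1, 0, 1, 0, 1, 0, 1, -2⟩, 3, 9),
  (⟨1, 1, -1, 1, -1, 1, -1, 1⟩, 3, 44),
  (⟨1, 1, -1, 1, 1, -1, 1, -1⟩, 3, 43),
  (⟨1, 1, 1, -1, -1, 1, 1, -1⟩, 3, 14),
  (⟨1, 1, 1, -1, 1, -1, -1, 1⟩, 3, 13),
  (⟨2, -1, 0, -1, 0, -1, 0, 1⟩, 3, 32),
  (⟨2, -1, 0, -1, 0, 1, 0, -1⟩, 3, 31),
  (⟨2, -1, 0, 1, 0, -1, 0, -1⟩, 3, 16),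
  (⟨2, -1, 0, 1, 0, 1, 0, 1⟩, 3, 15),
  (⟨2, 0, -2, 0, 0, 0, 0, 0⟩, 3, 74),
  (⟨2, 0, 0, 0, -2, 0, 0, 0⟩, 3, 20),
  (⟨2, 0, 0, 0, 0, 0, -2, 0⟩, 3, 18),
  (⟨2, 0, 0, 0, 0, 0, 2, 0⟩, 3, 19),
  (⟨2, 0, 0, 0, 2, 0, 0, 0⟩, 3, 17),
  (⟨2, 0, 2, 0, 0, 0, 0, 0⟩, 3, 0)]

def bucket47 : List (SQ × ℕ × ℕ) := [
  (⟨-2, 0, 0, -1, -1, 0, 1, -1⟩, 5, 104),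
  (⟨-2, 0, 0, 1, 1, 0, -1, 1⟩, 5, 105),
  (⟨-2, 1, 0, 0, -1, -1, -1, 0⟩, 6, 102),
  (⟨-1, -1, -1, 0, 2, -1, 0, 0⟩, 4, 79),
  (⟨-1, 0, 1, -1, -2, 0, 0, 1⟩, 7, 78),
  (⟨-1, 0, 1, -1, 2, 0, 0, 1⟩, 7, 99),
  (⟨-1, 0, 1, 1, 0, 0, 2, -1⟩, 7, 56),
  (⟨-1, 1, -1, 0, 0, 1, -2, 0⟩, 4, 116),
  (⟨-1, 1, -1, 0, 0, 1, 2, 0⟩, 4, 95),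
  (⟨-1, 1, 1, -2, 0, -1, 0, 0⟩, 4, 53),
  (⟨-1, 2, -1, 1, 0, 0, 0, 1⟩, 7, 93),
  (⟨0, -1, -2, 0, -1, 1, -1, 0⟩, 6, 86),
  (⟨0, -1, 0, 0, 1, -1, -1, 2⟩, 6, 46),
  (⟨0, -1, 2, 0, -1, 1, -1, 0⟩, 6, 21),
  (⟨0, 0, -2, 1, -1, 0, 1, 1⟩, 5, 117),
  (⟨0, 0, 0, -1, -1, 2, -1, 1⟩, 5, 108),
  (⟨0, 0, 0, 1, 1, -2, 1, -1⟩, 5, 11),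
  (⟨0, 0, 2, -1, 1, 0, -1, -1⟩, 5, 2),
  (⟨0, 1, -2, 0, 1, -1, 1, 0⟩, 6, 98),
  (⟨0, 1, 0, 0, -1, 1, 1, -2⟩, 6, 73),
  (⟨0, 1, 2, 0, 1, -1, 1, 0⟩, 6, 33),
  (⟨1, -2, 1, -1, 0, 0, 0, -1⟩, 7, 26),
  (⟨1, -1, -1, 2, 0, 1, 0, 0⟩, 4, 66),
  (⟨1, -1, 1, 0, 0, -1, -2, 0⟩, 4, 24),
  (⟨1, -1, 1, 0, 0, -1, 2, 0⟩, 4, 3),
  (⟨1, 0, -1, -1, 0, 0, -2, 1⟩, 7, 63),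
  (⟨1, 0, -1, 1, -2, 0, 0, -1⟩, 7, 20),
  (⟨1, 0, -1, 1, 2, 0, 0, -1⟩, 7, 41),
  (⟨1, 1, 1, 0, -2, 1, 0, 0⟩, 4, 40),
  (⟨2, -1, 0, 0, 1, 1, 1, 0⟩, 6, 17),
  (⟨2, 0, 0, -1, -1, 0, 1, -1⟩, 5, 14),
  (⟨2, 0, 0, 1, 1, 0, -1, 1⟩, 5, 15)]

def bucket48 : List (SQ × ℕ × ℕ) := [
  (⟨-2, 0, 0, -1, 1, 0, -1, 1⟩, 6, 103),
  (⟨-2, 0, 0, 1, -1, 0, 1, -1⟩, 6, 106),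
  (⟨-2, 1, 0, 0, 1, 1, 1, 0⟩, 5, 99),
  (⟨-1, -1, -1, 0, -2, 1, 0, 0⟩, 7, 82),
  (⟨-1, 0, 1, -1, -2, 0, 0, -1⟩, 4, 102),
  (⟨-1, 0, 1, -1, 2, 0, 0, -1⟩, 4, 77),
  (⟨-1, 0, 1, 1, 0, 0, -2, 1⟩, 4, 55),
  (⟨-1, 1, -1, 0, 0, -1, -2, 0⟩, 7, 96),
  (⟨-1, 1, -1, 0, 0, -1, 2, 0⟩, 7, 117),
  (⟨-1, 1, 1, -2, 0, 1, 0, 0⟩, 7, 50),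
  (⟨-1, 2, -1, 1, 0, 0, 0, -1⟩, 4, 92),
  (⟨0, -1, -2, 0, 1, -1, 1, 0⟩, 5, 85),
  (⟨0, -1, 0, 0, -1, 1, 1, -2⟩, 5, 49),
  (⟨0, -1, 2, 0, 1, -1, 1, 0⟩, 5, 22),
  (⟨0, 0, -2, 1, 1, 0, -1, -1⟩, 6, 116),
  (⟨0, 0, 0, -1, 1, -2, 1, -1⟩, 6, 109),
  (⟨0, 0, 0, 1, -1, 2, -1, 1⟩, 6, 10),
  (⟨0, 0, 2, -1, -1, 0, 1, 1⟩, 6, 3),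
  (⟨0, 1, -2, 0, -1, 1, -1, 0⟩, 5, 97),
  (⟨0, 1, 0, 0, 1, -1, -1, 2⟩, 5, 70),
  (⟨0, 1, 2, 0, -1, 1, -1, 0⟩, 5, 34),
  (⟨1, -2, 1, -1, 0, 0, 0, 1⟩, 4, 27),
  (⟨1, -1, -1, 2, 0, -1, 0, 0⟩, 7, 69),
  (⟨1, -1, 1, 0, 0, 1, -2, 0⟩, 7, 2),
  (⟨1, -1, 1, 0, 0, 1, 2, 0⟩, 7, 23),
  (⟨1, 0, -1, -1, 0, 0, 2, -1⟩, 4, 64),
  (⟨1, 0, -1, 1, -2, 0, 0, 1⟩, 4, 42),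
  (⟨1, 0, -1, 1, 2, 0, 0, 1⟩, 4, 17),
  (⟨1, 1, 1, 0, 2, -1, 0, 0⟩, 7, 37),
  (⟨2, -1, 0, 0, -1, -1, -1, 0⟩, 5, 20),
  (⟨2, 0, 0, -1, 1, 0, -1, 1⟩, 6, 13),
  (⟨2, 0, 0, 1, -1, 0, 1, -1⟩, 6, 16)]

def bucket49 : List (SQ × ℕ × ℕ) := [
  (⟨-2, 1, 0, -1, 0, -1, 0, 1⟩, 5, 111),
  (⟨-2, 1, 0, -1, 0, 1, 0, -1⟩, 6, 112),
  (⟨-2, 1, 0, 1, 0, -1, 0, -1⟩, 7, 94),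
  (⟨-2, 1, 0, 1, 0, 1, 0, 1⟩, 4, 91),
  (⟨0, -1, -2, 1, 0, -1, 0, 1⟩, 4, 68),
  (⟨0, -1, -2, 1, 0, 1, 0, -1⟩, 7, 67),
  (⟨0, -1, 0, -1, -2, 1, 0, 1⟩, 6, 27),
  (⟨0, -1, 0, -1, 0, -1, 2, -1⟩, 7, 85),
  (⟨0, -1, 0, -1, 0, 1, -2, 1⟩, 4, 86),
  (⟨0, -1, 0, -1, 2, -1, 0, -1⟩, 5, 26),
  (⟨0, -1, 0, 1, -2, 1, 0, -1⟩, 4, 106),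
  (⟨0, -1, 0, 1, 0, -1, -2, 1⟩, 5, 69),
  (⟨0, -1, 0, 1, 0, 1, 2, -1⟩, 6, 66),
  (⟨0, -1, 0, 1, 2, -1, 0, 1⟩, 7, 105),
  (⟨0, -1, 2, -1, 0, -1, 0, -1⟩, 6, 75),
  (⟨0, -1, 2, -1, 0, 1, 0, 1⟩, 5, 76),
  (⟨0, 1, -2, 1, 0, -1, 0, -1⟩, 5, 43),
  (⟨0, 1, -2, 1, 0, 1, 0, 1⟩, 6, 44),
  (⟨0, 1, 0, -1, -2, 1, 0, -1⟩, 7, 14),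
  (⟨0, 1, 0, -1, 0, -1, -2, 1⟩, 6, 53),
  (⟨0, 1, 0, -1, 0, 1, 2, -1⟩, 5, 50),
  (⟨0, 1, 0, -1, 2, -1, 0, 1⟩, 4, 13),
  (⟨0, 1, 0, 1, -2, 1, 0, 1⟩, 5, 93),
  (⟨0, 1, 0, 1, 0, -1, 2, -1⟩, 4, 33),
  (⟨0, 1, 0, 1, 0, 1, -2, 1⟩, 7, 34),
  (⟨0, 1, 0, 1, 2, -1, 0, -1⟩, 6, 92),
  (⟨0, 1, 2, -1, 0, -1, 0, 1⟩, 7, 52),
  (⟨0, 1, 2, -1, 0, 1, 0, -1⟩, 4, 51),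
  (⟨2, -1, 0, -1, 0, -1, 0, -1⟩, 4, 28),
  (⟨2, -1, 0, -1, 0, 1, 0, 1⟩, 7, 25),
  (⟨2, -1, 0, 1, 0, -1, 0, 1⟩, 6, 7),
  (⟨2, -1, 0, 1, 0, 1, 0, -1⟩, 5, 8)]

def bucket50 : List (SQ × ℕ × ℕ) := [
  (⟨-2, 0, -1, 0, -1, 1, 0, 1⟩, 5, 119),
  (⟨-2, 0, 1, 0, 1, -1, 0, -1⟩, 5, 47),
  (⟨-2, 1, -1, -1, 1, 0, 0, 0⟩, 4, 111),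
  (⟨-1, -1, 2, -1, 0, 0, 1, 0⟩, 7, 75),
  (⟨-1, 0, -2, 0, 0, -1, -1, 1⟩, 6, 110),
  (⟨-1, 0, 0, 0, -2, 1, -1, -1⟩, 6, 82),
  (⟨-1, 0, 2, 0, 0, -1, -1, 1⟩, 6, 45),
  (⟨-1, 1, 0, -1, 0, 0, -1, 2⟩, 7, 103),
  (⟨-1, 1, 0, 1, -2, 0, 1, 0⟩, 7, 61),
  (⟨-1, 1, 0, 1, 2, 0, 1, 0⟩, 7, 89),
  (⟨-1, 2, 0, 0, 0, -1, 1, -1⟩, 6, 94),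
  (⟨0, -1, -1, 1, 1, 0, -2, 0⟩, 4, 83),
  (⟨0, -1, -1, 1, 1, 0, 2, 0⟩, 4, 59),
  (⟨0, -1, 1, -1, 1, -2, 0, 0⟩, 4, 22),
  (⟨0, 0, -1, 0, -1, -1, 2, -1⟩, 5, 64),
  (⟨0, 0, -1, 2, 1, -1, 0, 1⟩, 5, 68),
  (⟨0, 0, 1, -2, -1, 1, 0, -1⟩, 5, 51),
  (⟨0, 0, 1, 0, 1, 1, -2, 1⟩, 5, 55),
  (⟨0, 1, -1, 1, -1, 2, 0, 0⟩, 4, 97),
  (⟨0, 1, 1, -1, -1, 0, -2, 0⟩, 4, 60),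
  (⟨0, 1, 1, -1, -1, 0, 2, 0⟩, 4, 36),
  (⟨1, -2, 0, 0, 0, 1, -1, 1⟩, 6, 25),
  (⟨1, -1, 0, -1, -2, 0, -1, 0⟩, 7, 30),
  (⟨1, -1, 0, -1, 2, 0, -1, 0⟩, 7, 58),
  (⟨1, -1, 0, 1, 0, 0, 1, -2⟩, 7, 16),
  (⟨1, 0, -2, 0, 0, 1, 1, -1⟩, 6, 74),
  (⟨1, 0, 0, 0, 2, -1, 1, 1⟩, 6, 37),
  (⟨1, 0, 2, 0, 0, 1, 1, -1⟩, 6, 9),
  (⟨1, 1, -2, 1, 0, 0, -1, 0⟩, 7, 44),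
  (⟨2, -1, 1, 1, -1, 0, 0, 0⟩, 4, 8),
  (⟨2, 0, -1, 0, -1, 1, 0, 1⟩, 5, 72),
  (⟨2, 0, 1, 0, 1, -1, 0, -1⟩, 5, 0)]

def bucket51 : List (SQ × ℕ × ℕ) := [
  (⟨-2, 0, -1, 1, 0, -1, 1, 0⟩, 5, 109),
  (⟨-2, 0, 1, -1, 0, 1, -1, 0⟩, 5, 100),
  (⟨-2, 1, 1, 0, 0, 0, 1, 1⟩, 7, 101),
  (⟨-1, -1, 0, 0, -1, 0, -2, 1⟩, 6, 76),
  (⟨-1, 0, -2, 1, 1, 1, 0, 0⟩, 4, 115),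
  (⟨-1, 0, 0, -1, 1, -1, -2, 0⟩, 4, 80),
  (⟨-1, 0, 0, -1, 1, -1, 2, 0⟩, 4, 52),
  (⟨-1, 1, -2, 0, -1, 0, 0, -1⟩, 6, 118),
  (⟨-1, 1, 0, 0, 1, -2, 0, 1⟩, 6, 88),
  (⟨-1, 1, 2, 0, -1, 0, 0, -1⟩, 6, 49),
  (⟨-1, 2, 0, -1, -1, 1, 0, 0⟩, 4, 96),
  (⟨0, -1, 1, -2, 0, 0, -1, 1⟩, 7, 77),
  (⟨0, -1, 1, 0, -2, 0, 1, -1⟩, 7, 28),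
  (⟨0, -1, 1, 0, 2, 0, 1, -1⟩, 7, 54),
  (⟨0, 0, -1, -1, -2, 1, 1, 0⟩, 5, 112),
  (⟨0, 0, -1, 1, 0, 1, -1, 2⟩, 5, 113),
  (⟨0, 0, 1, -1, 0, -1, 1, -2⟩, 5, 6),
  (⟨0, 0, 1, 1, 2, -1, -1, 0⟩, 5, 7),
  (⟨0, 1, -1, 0, -2, 0, -1, 1⟩, 7, 65),
  (⟨0, 1, -1, 0, 2, 0, -1, 1⟩, 7, 91),
  (⟨0, 1, -1, 2, 0, 0, 1, -1⟩, 7, 42),
  (⟨1, -2, 0, 1, 1, -1, 0, 0⟩, 4, 23),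
  (⟨1, -1, -2, 0, 1, 0, 0, 1⟩, 6, 70),
  (⟨1, -1, 0, 0, -1, 2, 0, -1⟩, 6, 31),
  (⟨1, -1, 2, 0, 1, 0, 0, 1⟩, 6, 1),
  (⟨1, 0, 0, 1, -1, 1, -2, 0⟩, 4, 67),
  (⟨1, 0, 0, 1, -1, 1, 2, 0⟩, 4, 39),
  (⟨1, 0, 2, -1, -1, -1, 0, 0⟩, 4, 4),
  (⟨1, 1, 0, 0, 1, 0, 2, -1⟩, 6, 43),
  (⟨2, -1, -1, 0, 0, 0, -1, -1⟩, 7, 18),
  (⟨2, 0, -1, 1, 0, -1, 1, 0⟩, 5, 19),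
  (⟨2, 0, 1, -1, 0, 1, -1, 0⟩, 5, 10)]

def bucket52 : List (SQ × ℕ × ℕ) := [
  (⟨-2, 0, -1, 1, 0, 1, 1, 0⟩, 7, 106),
  (⟨-2, 0, 1, -1, 0, -1, -1, 0⟩, 7, 104),
  (⟨-2, 1, -1, 0, 0, 0, -1, -1⟩, 5, 92),
  (⟨-1, -1, 0, 0, -1, 0, 2, -1⟩, 4, 101),
  (⟨-1, 0, 0, 1, 1, -1, -2, 0⟩, 6, 100),
  (⟨-1, 0, 0, 1, 1, -1, 2, 0⟩, 6, 89),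
  (⟨-1, 0, 2, -1, 1, 1, 0, 0⟩, 6, 50),
  (⟨-1, 1, -2, 0, -1, 0, 0, 1⟩, 4, 98),
  (⟨-1, 1, 0, 0, 1, -2, 0, -1⟩, 4, 47),
  (⟨-1, 1, 2, 0, -1, 0, 0, 1⟩, 4, 34),
  (⟨-1, 2, 0, 1, -1, 1, 0, 0⟩, 6, 40),
  (⟨0, -1, -1, 0, -2, 0, -1, 1⟩, 5, 118),
  (⟨0, -1, -1, 0, 2, 0, -1, 1⟩, 5, 83),
  (⟨0, -1, -1, 2, 0, 0, 1, -1⟩, 5, 56),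
  (⟨0, 0, -1, -1, 2, -1, 1, 0⟩, 7, 115),
  (⟨0, 0, -1, 1, 0, -1, -1, 2⟩, 7, 110),
  (⟨0, 0, 1, -1, 0, 1, 1, -2⟩, 7, 9),
  (⟨0, 0, 1, 1, -2, 1, -1, 0⟩, 7, 4),
  (⟨0, 1, 1, -2, 0, 0, -1, 1⟩, 5, 63),
  (⟨0, 1, 1, 0, -2, 0, 1, -1⟩, 5, 36),
  (⟨0, 1, 1, 0, 2, 0, 1, -1⟩, 5, 1),
  (⟨1, -2, 0, -1, 1, -1, 0, 0⟩, 6, 79),
  (⟨1, -1, -2, 0, 1, 0, 0, -1⟩, 4, 85),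
  (⟨1, -1, 0, 0, -1, 2, 0, 1⟩, 4, 72),
  (⟨1, -1, 2, 0, 1, 0, 0, -1⟩, 4, 21),
  (⟨1, 0, -2, 1, -1, -1, 0, 0⟩, 6, 69),
  (⟨1, 0, 0, -1, -1, 1, -2, 0⟩, 6, 30),
  (⟨1, 0, 0, -1, -1, 1, 2, 0⟩, 6, 19),
  (⟨1, 1, 0, 0, 1, 0, -2, 1⟩, 4, 18),
  (⟨2, -1, 1, 0, 0, 0, 1, 1⟩, 5, 27),
  (⟨2, 0, -1, 1, 0, 1, 1, 0⟩, 7, 15),
  (⟨2, 0, 1, -1, 0, -1, -1, 0⟩, 7, 13)]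

def bucket53 : List (SQ × ℕ × ℕ) := [
  (⟨-2, 0, -1, 0, -1, 1, 0, -1⟩, 4, 119),
  (⟨-2, 0, 1, 0, 1, -1, 0, 1⟩, 4, 46),
  (⟨-2, 1, 1, 1, -1, 0, 0, 0⟩, 5, 88),
  (⟨-1, -1, -2, 1, 0, 0, 1, 0⟩, 6, 113),
  (⟨-1, 0, -2, 0, 0, 1, -1, 1⟩, 7, 108),
  (⟨-1, 0, 0, 0, 2, -1, -1, -1⟩, 7, 92),
  (⟨-1, 0, 2, 0, 0, 1, -1, 1⟩, 7, 45),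
  (⟨-1, 1, 0, -1, -2, 0, 1, 0⟩, 6, 61),
  (⟨-1, 1, 0, -1, 2, 0, 1, 0⟩, 6, 95),
  (⟨-1, 1, 0, 1, 0, 0, -1, 2⟩, 6, 34),
  (⟨-1, 2, 0, 0, 0, 1, 1, -1⟩, 7, 39),
  (⟨0, -1, -1, 1, -1, 2, 0, 0⟩, 5, 106),
  (⟨0, -1, 1, -1, -1, 0, -2, 0⟩, 5, 60),
  (⟨0, -1, 1, -1, -1, 0, 2, 0⟩, 5, 78),
  (⟨0, 0, -1, 0, -1, -1, -2, 1⟩, 4, 69),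
  (⟨0, 0, -1, 2, 1, -1, 0, -1⟩, 4, 54),
  (⟨0, 0, 1, -2, -1, 1, 0, 1⟩, 4, 65),
  (⟨0, 0, 1, 0, 1, 1, 2, -1⟩, 4, 50),
  (⟨0, 1, -1, 1, 1, 0, -2, 0⟩, 5, 41),
  (⟨0, 1, -1, 1, 1, 0, 2, 0⟩, 5, 59),
  (⟨0, 1, 1, -1, 1, -2, 0, 0⟩, 5, 13),
  (⟨1, -2, 0, 0, 0, -1, -1, 1⟩, 7, 80),
  (⟨1, -1, 0, -1, 0, 0, 1, -2⟩, 6, 85),
  (⟨1, -1, 0, 1, -2, 0, -1, 0⟩, 6, 24),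
  (⟨1, -1, 0, 1, 2, 0, -1, 0⟩, 6, 58),
  (⟨1, 0, -2, 0, 0, -1, 1, -1⟩, 7, 74),
  (⟨1, 0, 0, 0, -2, 1, 1, 1⟩, 7, 27),
  (⟨1, 0, 2, 0, 0, -1, 1, -1⟩, 7, 11),
  (⟨1, 1, 2, -1, 0, 0, -1, 0⟩, 6, 6),
  (⟨2, -1, -1, -1, 1, 0, 0, 0⟩, 5, 31),
  (⟨2, 0, -1, 0, -1, 1, 0, -1⟩, 4, 73),
  (⟨2, 0, 1, 0, 1, -1, 0, 1⟩, 4, 0)]

def bucket54 : List (SQ × ℕ × ℕ) := [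
  (⟨-1, 0, -1, 0, -1, 0, 1, -2⟩, 7, 73),
  (⟨-1, 0, -1, 0, -1, 2, 1, 0⟩, 6, 72),
  (⟨-1, 0, -1, 0, 1, -2, -1, 0⟩, 5, 71),
  (⟨-1, 0, -1, 0, 1, 0, -1, 2⟩, 4, 70),
  (⟨-1, 0, -1, 2, -1, 0, 1, 0⟩, 4, 89),
  (⟨-1, 0, -1, 2, 1, 0, -1, 0⟩, 7, 90),
  (⟨-1, 0, 1, -2, -1, 0, -1, 0⟩, 6, 78),
  (⟨-1, 0, 1, -2, 1, 0, 1, 0⟩, 5, 77),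
  (⟨-1, 0, 1, 0, -1, 0, -1, 2⟩, 5, 110),
  (⟨-1, 0, 1, 0, -1, 2, -1, 0⟩, 4, 108),
  (⟨-1, 0, 1, 0, 1, -2, 1, 0⟩, 7, 109),
  (⟨-1, 0, 1, 0, 1, 0, 1, -2⟩, 6, 107),
  (⟨-1, 2, -1, 0, -1, 0, 1, 0⟩, 5, 95),
  (⟨-1, 2, -1, 0, 1, 0, -1, 0⟩, 6, 96),
  (⟨-1, 2, 1, 0, -1, 0, -1, 0⟩, 7, 36),
  (⟨-1, 2, 1, 0, 1, 0, 1, 0⟩, 4, 35),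
  (⟨1, -2, -1, 0, -1, 0, -1, 0⟩, 4, 84),
  (⟨1, -2, -1, 0, 1, 0, 1, 0⟩, 7, 83),
  (⟨1, -2, 1, 0, -1, 0, 1, 0⟩, 6, 23),
  (⟨1, -2, 1, 0, 1, 0, -1, 0⟩, 5, 24),
  (⟨1, 0, -1, 0, -1, 0, -1, 2⟩, 6, 12),
  (⟨1, 0, -1, 0, -1, 2, -1, 0⟩, 7, 10),
  (⟨1, 0, -1, 0, 1, -2, 1, 0⟩, 4, 11),
  (⟨1, 0, -1, 0, 1, 0, 1, -2⟩, 5, 9),
  (⟨1, 0, -1, 2, -1, 0, -1, 0⟩, 5, 42),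
  (⟨1, 0, -1, 2, 1, 0, 1, 0⟩, 6, 41),
  (⟨1, 0, 1, -2, -1, 0, 1, 0⟩, 7, 29),
  (⟨1, 0, 1, -2, 1, 0, -1, 0⟩, 4, 30),
  (⟨1, 0, 1, 0, -1, 0, 1, -2⟩, 4, 49),
  (⟨1, 0, 1, 0, -1, 2, 1, 0⟩, 5, 48),
  (⟨1, 0, 1, 0, 1, -2, -1, 0⟩, 6, 47),
  (⟨1, 0, 1, 0, 1, 0, -1, 2⟩, 7, 46)]

def bucket55 : List (SQ × ℕ × ℕ) := [
  (⟨-2, 0, 0, -1, 1, 0, 1, -1⟩, 7, 107),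
  (⟨-2, 0, 0, 1, -1, 0, -1, 1⟩, 7, 102),
  (⟨-2, 1, 0, 0, -1, -1, 1, 0⟩, 4, 88),
  (⟨-1, -1, 1, 0, 2, -1, 0, 0⟩, 6, 99),
  (⟨-1, 0, -1, -1, 0, 0, -2, 1⟩, 5, 116),
  (⟨-1, 0, -1, 1, -2, 0, 0, -1⟩, 5, 94),
  (⟨-1, 0, -1, 1, 2, 0, 0, -1⟩, 5, 54),
  (⟨-1, 1, -1, 2, 0, -1, 0, 0⟩, 6, 90),
  (⟨-1, 1, 1, 0, 0, 1, -2, 0⟩, 6, 51),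
  (⟨-1, 1, 1, 0, 0, 1, 2, 0⟩, 6, 39),
  (⟨-1, 2, 1, -1, 0, 0, 0, -1⟩, 5, 35),
  (⟨0, -1, -2, 0, -1, 1, 1, 0⟩, 4, 117),
  (⟨0, -1, 0, 0, 1, -1, 1, -2⟩, 4, 75),
  (⟨0, -1, 2, 0, -1, 1, 1, 0⟩, 4, 48),
  (⟨0, 0, -2, 1, 1, 0, 1, 1⟩, 7, 113),
  (⟨0, 0, 0, -1, 1, -2, -1, 1⟩, 7, 111),
  (⟨0, 0, 0, 1, -1, 2, 1, -1⟩, 7, 8),
  (⟨0, 0, 2, -1, -1, 0, -1, -1⟩, 7, 6),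
  (⟨0, 1, -2, 0, 1, -1, -1, 0⟩, 4, 71),
  (⟨0, 1, 0, 0, -1, 1, -1, 2⟩, 4, 44),
  (⟨0, 1, 2, 0, 1, -1, -1, 0⟩, 4, 2),
  (⟨1, -2, -1, 1, 0, 0, 0, 1⟩, 5, 84),
  (⟨1, -1, -1, 0, 0, -1, -2, 0⟩, 6, 80),
  (⟨1, -1, -1, 0, 0, -1, 2, 0⟩, 6, 68),
  (⟨1, -1, 1, -2, 0, 1, 0, 0⟩, 6, 29),
  (⟨1, 0, 1, -1, -2, 0, 0, 1⟩, 5, 65),
  (⟨1, 0, 1, -1, 2, 0, 0, 1⟩, 5, 25),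
  (⟨1, 0, 1, 1, 0, 0, 2, -1⟩, 5, 3),
  (⟨1, 1, -1, 0, -2, 1, 0, 0⟩, 6, 20),
  (⟨2, -1, 0, 0, 1, 1, -1, 0⟩, 4, 31),
  (⟨2, 0, 0, -1, 1, 0, 1, -1⟩, 7, 17),
  (⟨2, 0, 0, 1, -1, 0, -1, 1⟩, 7, 12)]

def bucket56 : List (SQ × ℕ × ℕ) := [
  (⟨-2, 0, 0, -1, -1, 0, -1, 1⟩, 4, 110),
  (⟨-2, 0, 0, 1, 1, 0, 1, -1⟩, 4, 99),
  (⟨-2, 1, 0, 0, 1, 1, -1, 0⟩, 7, 87),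
  (⟨-1, -1, 1, 0, -2, 1, 0, 0⟩, 5, 102),
  (⟨-1, 0, -1, -1, 0, 0, 2, -1⟩, 6, 117),
  (⟨-1, 0, -1, 1, -2, 0, 0, 1⟩, 6, 57),
  (⟨-1, 0, -1, 1, 2, 0, 0, 1⟩, 6, 91),
  (⟨-1, 1, -1, 2, 0, 1, 0, 0⟩, 5, 89),
  (⟨-1, 1, 1, 0, 0, -1, -2, 0⟩, 5, 38),
  (⟨-1, 1, 1, 0, 0, -1, 2, 0⟩, 5, 52),
  (⟨-1, 2, 1, -1, 0, 0, 0, 1⟩, 6, 36),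
  (⟨0, -1, -2, 0, 1, -1, -1, 0⟩, 7, 116),
  (⟨0, -1, 0, 0, -1, 1, -1, 2⟩, 7, 76),
  (⟨0, -1, 2, 0, 1, -1, -1, 0⟩, 7, 47),
  (⟨0, 0, -2, 1, -1, 0, -1, -1⟩, 4, 114),
  (⟨0, 0, 0, -1, -1, 2, 1, -1⟩, 4, 112),
  (⟨0, 0, 0, 1, 1, -2, -1, 1⟩, 4, 7),
  (⟨0, 0, 2, -1, 1, 0, 1, 1⟩, 4, 5),
  (⟨0, 1, -2, 0, -1, 1, 1, 0⟩, 7, 72),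
  (⟨0, 1, 0, 0, 1, -1, 1, -2⟩, 7, 43),
  (⟨0, 1, 2, 0, -1, 1, 1, 0⟩, 7, 3),
  (⟨1, -2, -1, 1, 0, 0, 0, -1⟩, 6, 83),
  (⟨1, -1, -1, 0, 0, 1, -2, 0⟩, 5, 67),
  (⟨1, -1, -1, 0, 0, 1, 2, 0⟩, 5, 81),
  (⟨1, -1, 1, -2, 0, -1, 0, 0⟩, 5, 30),
  (⟨1, 0, 1, -1, -2, 0, 0, -1⟩, 6, 28),
  (⟨1, 0, 1, -1, 2, 0, 0, -1⟩, 6, 62),
  (⟨1, 0, 1, 1, 0, 0, -2, 1⟩, 6, 2),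
  (⟨1, 1, -1, 0, 2, -1, 0, 0⟩, 5, 17),
  (⟨2, -1, 0, 0, -1, -1, 1, 0⟩, 7, 32),
  (⟨2, 0, 0, -1, -1, 0, -1, 1⟩, 4, 20),
  (⟨2, 0, 0, 1, 1, 0, 1, -1⟩, 4, 9)]

def bucket57 : List (SQ × ℕ × ℕ) := [
  (⟨-1, -1, -1, 1, -1, 1, -1, 1⟩, 4, 113),
  (⟨-1, -1, -1, 1, 1, -1, 1, -1⟩, 7, 114),
  (⟨-1, -1, 1, -1, -1, 1, 1, -1⟩, 6, 81),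
  (⟨-1, -1, 1, -1, 1, -1, -1, 1⟩, 5, 80),
  (⟨-1, 1, -1, -1, -1, 1, -1, 1⟩, 6, 65),
  (⟨-1, 1, -1, -1, 1, -1, 1, -1⟩, 5, 62),
  (⟨-1, 1, -1, 1, -1, -1, -1, 1⟩, 5, 98),
  (⟨-1, 1, -1, 1, -1, 1, -1, -1⟩, 7, 40),
  (⟨-1, 1, -1, 1, 1, -1, 1, 1⟩, 4, 37),
  (⟨-1, 1, -1, 1, 1, 1, 1, -1⟩, 6, 97),
  (⟨-1, 1, 1, -1, -1, -1, 1, -1⟩, 7, 64),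
  (⟨-1, 1, 1, -1, -1, 1, 1, 1⟩, 5, 103),
  (⟨-1, 1, 1, -1, 1, -1, -1, -1⟩, 6, 104),
  (⟨-1, 1, 1, -1, 1, 1, -1, 1⟩, 4, 63),
  (⟨-1, 1, 1, 1, -1, 1, 1, -1⟩, 4, 87),
  (⟨-1, 1, 1, 1, 1, -1, -1, 1⟩, 7, 88),
  (⟨1, -1, -1, -1, -1, 1, 1, -1⟩, 7, 31),
  (⟨1, -1, -1, -1, 1, -1, -1, 1⟩, 4, 32),
  (⟨1, -1, -1, 1, -1, -1, 1, -1⟩, 4, 56),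
  (⟨1, -1, -1, 1, -1, 1, 1, 1⟩, 6, 15),
  (⟨1, -1, -1, 1, 1, -1, -1, -1⟩, 5, 16),
  (⟨1, -1, -1, 1, 1, 1, -1, 1⟩, 7, 55),
  (⟨1, -1, 1, -1, -1, -1, -1, 1⟩, 6, 22),
  (⟨1, -1, 1, -1, -1, 1, -1, -1⟩, 4, 82),
  (⟨1, -1, 1, -1, 1, -1, 1, 1⟩, 7, 79),
  (⟨1, -1, 1, -1, 1, 1, 1, -1⟩, 5, 21),
  (⟨1, -1, 1, 1, -1, 1, -1, 1⟩, 5, 57),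
  (⟨1, -1, 1, 1, 1, -1, 1, -1⟩, 6, 54),
  (⟨1, 1, -1, 1, -1, 1, 1, -1⟩, 5, 39),
  (⟨1, 1, -1, 1, 1, -1, -1, 1⟩, 6, 38),
  (⟨1, 1, 1, -1, -1, 1, -1, 1⟩, 7, 5),
  (⟨1, 1, 1, -1, 1, -1, 1, -1⟩, 4, 6)]

def bucket58 : List (SQ × ℕ × ℕ) := [
  (⟨-2, 0, -1, 0, 1, -1, 0, -1⟩, 6, 119),
  (⟨-2, 0, 1, 0, -1, 1, 0, 1⟩, 6, 48),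
  (⟨-2, 1, -1, -1, -1, 0, 0, 0⟩, 7, 112),
  (⟨-1, -1, 2, -1, 0, 0, -1, 0⟩, 4, 76),
  (⟨-1, 0, -2, 0, 0, 1, 1, -1⟩, 5, 107),
  (⟨-1, 0, 0, 0, 2, -1, 1, 1⟩, 5, 79),
  (⟨-1, 0, 2, 0, 0, 1, 1, -1⟩, 5, 45),
  (⟨-1, 1, 0, -1, 0, 0, 1, -2⟩, 4, 104),
  (⟨-1, 1, 0, 1, -2, 0, -1, 0⟩, 4, 90),
  (⟨-1, 1, 0, 1, 2, 0, -1, 0⟩, 4, 58),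
  (⟨-1, 2, 0, 0, 0, 1, -1, 1⟩, 5, 91),
  (⟨0, -1, -1, 1, -1, 0, -2, 0⟩, 7, 60),
  (⟨0, -1, -1, 1, -1, 0, 2, 0⟩, 7, 84),
  (⟨0, -1, 1, -1, -1, 2, 0, 0⟩, 7, 21),
  (⟨0, 0, -1, 0, 1, 1, -2, 1⟩, 6, 63),
  (⟨0, 0, -1, 2, -1, 1, 0, -1⟩, 6, 67),
  (⟨0, 0, 1, -2, 1, -1, 0, 1⟩, 6, 52),
  (⟨0, 0, 1, 0, -1, -1, 2, -1⟩, 6, 56),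
  (⟨0, 1, -1, 1, 1, -2, 0, 0⟩, 7, 98),
  (⟨0, 1, 1, -1, 1, 0, -2, 0⟩, 7, 35),
  (⟨0, 1, 1, -1, 1, 0, 2, 0⟩, 7, 59),
  (⟨1, -2, 0, 0, 0, -1, 1, -1⟩, 5, 28),
  (⟨1, -1, 0, -1, -2, 0, 1, 0⟩, 4, 61),
  (⟨1, -1, 0, -1, 2, 0, 1, 0⟩, 4, 29),
  (⟨1, -1, 0, 1, 0, 0, -1, 2⟩, 4, 15),
  (⟨1, 0, -2, 0, 0, -1, -1, 1⟩, 5, 74),
  (⟨1, 0, 0, 0, -2, 1, -1, -1⟩, 5, 40),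
  (⟨1, 0, 2, 0, 0, -1, -1, 1⟩, 5, 12),
  (⟨1, 1, -2, 1, 0, 0, 1, 0⟩, 4, 43),
  (⟨2, -1, 1, 1, 1, 0, 0, 0⟩, 7, 7),
  (⟨2, 0, -1, 0, 1, -1, 0, -1⟩, 6, 71),
  (⟨2, 0, 1, 0, -1, 1, 0, 1⟩, 6, 0)]

def bucket59 : List (SQ × ℕ × ℕ) := [
  (⟨-2, 0, -1, 1, 0, -1, -1, 0⟩, 4, 105),
  (⟨-2, 0, 1, -1, 0, 1, 1, 0⟩, 4, 103),
  (⟨-2, 1, -1, 0, 0, 0, 1, 1⟩, 6, 93),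
  (⟨-1, -1, 0, 0, 1, 0, -2, 1⟩, 7, 100),
  (⟨-1, 0, 0, 1, -1, 1, -2, 0⟩, 5, 90),
  (⟨-1, 0, 0, 1, -1, 1, 2, 0⟩, 5, 101),
  (⟨-1, 0, 2, -1, -1, -1, 0, 0⟩, 5, 53),
  (⟨-1, 1, -2, 0, 1, 0, 0, -1⟩, 7, 97),
  (⟨-1, 1, 0, 0, -1, 2, 0, 1⟩, 7, 48),
  (⟨-1, 1, 2, 0, 1, 0, 0, -1⟩, 7, 33),
  (⟨-1, 2, 0, 1, 1, -1, 0, 0⟩, 5, 37),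
  (⟨0, -1, -1, 0, -2, 0, 1, -1⟩, 6, 84),
  (⟨0, -1, -1, 0, 2, 0, 1, -1⟩, 6, 115),
  (⟨0, -1, -1, 2, 0, 0, -1, 1⟩, 6, 55),
  (⟨0, 0, -1, -1, -2, 1, -1, 0⟩, 4, 118),
  (⟨0, 0, -1, 1, 0, 1, 1, -2⟩, 4, 107),
  (⟨0, 0, 1, -1, 0, -1, -1, 2⟩, 4, 12),
  (⟨0, 0, 1, 1, 2, -1, 1, 0⟩, 4, 1),
  (⟨0, 1, 1, -2, 0, 0, 1, -1⟩, 6, 64),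
  (⟨0, 1, 1, 0, -2, 0, -1, 1⟩, 6, 4),
  (⟨0, 1, 1, 0, 2, 0, -1, 1⟩, 6, 35),
  (⟨1, -2, 0, -1, -1, 1, 0, 0⟩, 5, 82),
  (⟨1, -1, -2, 0, -1, 0, 0, 1⟩, 7, 86),
  (⟨1, -1, 0, 0, 1, -2, 0, -1⟩, 7, 71),
  (⟨1, -1, 2, 0, -1, 0, 0, 1⟩, 7, 22),
  (⟨1, 0, -2, 1, 1, 1, 0, 0⟩, 5, 66),
  (⟨1, 0, 0, -1, 1, -1, -2, 0⟩, 5, 18),
  (⟨1, 0, 0, -1, 1, -1, 2, 0⟩, 5, 29),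
  (⟨1, 1, 0, 0, -1, 0, 2, -1⟩, 7, 19),
  (⟨2, -1, 1, 0, 0, 0, -1, -1⟩, 6, 26),
  (⟨2, 0, -1, 1, 0, -1, -1, 0⟩, 4, 16),
  (⟨2, 0, 1, -1, 0, 1, 1, 0⟩, 4, 14)]

def bucket60 : List (SQ × ℕ × ℕ) := [
  (⟨-2, 0, -1, 1, 0, 1, -1, 0⟩, 6, 108),
  (⟨-2, 0, 1, -1, 0, -1, 1, 0⟩, 6, 101),
  (⟨-2, 1, 1, 0, 0, 0, -1, -1⟩, 4, 100),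
  (⟨-1, -1, 0, 0, 1, 0, 2, -1⟩, 5, 75),
  (⟨-1, 0, -2, 1, -1, -1, 0, 0⟩, 7, 118),
  (⟨-1, 0, 0, -1, -1, 1, -2, 0⟩, 7, 51),
  (⟨-1, 0, 0, -1, -1, 1, 2, 0⟩, 7, 81),
  (⟨-1, 1, -2, 0, 1, 0, 0, 1⟩, 5, 115),
  (⟨-1, 1, 0, 0, -1, 2, 0, -1⟩, 5, 87),
  (⟨-1, 1, 2, 0, 1, 0, 0, 1⟩, 5, 46),
  (⟨-1, 2, 0, -1, 1, -1, 0, 0⟩, 7, 95),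
  (⟨0, -1, 1, -2, 0, 0, 1, -1⟩, 4, 78),
  (⟨0, -1, 1, 0, -2, 0, -1, 1⟩, 4, 57),
  (⟨0, -1, 1, 0, 2, 0, -1, 1⟩, 4, 25),
  (⟨0, 0, -1, -1, 2, -1, -1, 0⟩, 6, 111),
  (⟨0, 0, -1, 1, 0, -1, 1, -2⟩, 6, 114),
  (⟨0, 0, 1, -1, 0, 1, -1, 2⟩, 6, 5),
  (⟨0, 0, 1, 1, -2, 1, 1, 0⟩, 6, 8),
  (⟨0, 1, -1, 0, -2, 0, 1, -1⟩, 4, 94),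
  (⟨0, 1, -1, 0, 2, 0, 1, -1⟩, 4, 62),
  (⟨0, 1, -1, 2, 0, 0, -1, 1⟩, 4, 41),
  (⟨1, -2, 0, 1, -1, 1, 0, 0⟩, 7, 24),
  (⟨1, -1, -2, 0, -1, 0, 0, -1⟩, 5, 73),
  (⟨1, -1, 0, 0, 1, -2, 0, 1⟩, 5, 32),
  (⟨1, -1, 2, 0, -1, 0, 0, -1⟩, 5, 4),
  (⟨1, 0, 0, 1, 1, -1, -2, 0⟩, 7, 38),
  (⟨1, 0, 0, 1, 1, -1, 2, 0⟩, 7, 68),
  (⟨1, 0, 2, -1, 1, 1, 0, 0⟩, 7, 1),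
  (⟨1, 1, 0, 0, -1, 0, -2, 1⟩, 5, 44),
  (⟨2, -1, -1, 0, 0, 0, 1, 1⟩, 4, 19),
  (⟨2, 0, -1, 1, 0, 1, -1, 0⟩, 6, 18),
  (⟨2, 0, 1, -1, 0, -1, 1, 0⟩, 6, 11)]

def bucket61 : List (SQ × ℕ × ℕ) := [
  (⟨-2, 0, -1, 0, 1, -1, 0, 1⟩, 7, 119),
  (⟨-2, 0, 1, 0, -1, 1, 0, -1⟩, 7, 49),
  (⟨-2, 1, 1, 1, 1, 0, 0, 0⟩, 6, 87),
  (⟨-1, -1, -2, 1, 0, 0, -1, 0⟩, 5, 114),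
  (⟨-1, 0, -2, 0, 0, -1, 1, -1⟩, 4, 109),
  (⟨-1, 0, 0, 0, -2, 1, 1, 1⟩, 4, 93),
  (⟨-1, 0, 2, 0, 0, -1, 1, -1⟩, 4, 45),
  (⟨-1, 1, 0, -1, -2, 0, -1, 0⟩, 5, 96),
  (⟨-1, 1, 0, -1, 2, 0, -1, 0⟩, 5, 58),
  (⟨-1, 1, 0, 1, 0, 0, 1, -2⟩, 5, 33),
  (⟨-1, 2, 0, 0, 0, -1, -1, 1⟩, 4, 38),
  (⟨0, -1, -1, 1, 1, -2, 0, 0⟩, 6, 105),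
  (⟨0, -1, 1, -1, 1, 0, -2, 0⟩, 6, 77),
  (⟨0, -1, 1, -1, 1, 0, 2, 0⟩, 6, 59),
  (⟨0, 0, -1, 0, 1, 1, 2, -1⟩, 7, 66),
  (⟨0, 0, -1, 2, -1, 1, 0, 1⟩, 7, 57),
  (⟨0, 0, 1, -2, 1, -1, 0, -1⟩, 7, 62),
  (⟨0, 0, 1, 0, -1, -1, -2, 1⟩, 7, 53),
  (⟨0, 1, -1, 1, -1, 0, -2, 0⟩, 6, 60),
  (⟨0, 1, -1, 1, -1, 0, 2, 0⟩, 6, 42),
  (⟨0, 1, 1, -1, -1, 2, 0, 0⟩, 6, 14),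
  (⟨1, -2, 0, 0, 0, 1, 1, -1⟩, 4, 81),
  (⟨1, -1, 0, -1, 0, 0, -1, 2⟩, 5, 86),
  (⟨1, -1, 0, 1, -2, 0, 1, 0⟩, 5, 61),
  (⟨1, -1, 0, 1, 2, 0, 1, 0⟩, 5, 23),
  (⟨1, 0, -2, 0, 0, 1, -1, 1⟩, 4, 74),
  (⟨1, 0, 0, 0, 2, -1, -1, -1⟩, 4, 26),
  (⟨1, 0, 2, 0, 0, 1, -1, 1⟩, 4, 10),
  (⟨1, 1, 2, -1, 0, 0, 1, 0⟩, 5, 5),
  (⟨2, -1, -1, -1, -1, 0, 0, 0⟩, 6, 32),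
  (⟨2, 0, -1, 0, 1, -1, 0, 1⟩, 7, 70),
  (⟨2, 0, 1, 0, -1, 1, 0, -1⟩, 7, 0)]

def bucket62 : List (SQ × ℕ × ℕ) := [
  (⟨-2, -1, 0, 0, -1, 1, -1, 0⟩, 12, 119),
  (⟨-2, 0, 0, -1, 1, 0, -1, -1⟩, 11, 104),
  (⟨-2, 0, 0, 1, -1, 0, 1, 1⟩, 8, 101),
  (⟨-1, -1, -1, 0, 0, -1, -2, 0⟩, 9, 80),
  (⟨-1, -1, -1, 0, 0, -1, 2, 0⟩, 11, 117),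
  (⟨-1, -1, 1, -2, 0, 1, 0, 0⟩, 8, 77),
  (⟨-1, 0, -1, 1, 0, -2, 0, 1⟩, 12, 68),
  (⟨-1, 0, -1, 1, 0, 2, 0, 1⟩, 11, 108),
  (⟨-1, 0, 1, -1, 0, 0, 2, 1⟩, 13, 103),
  (⟨-1, 0, 1, 1, -2, 0, 0, -1⟩, 10, 102),
  (⟨-1, 0, 1, 1, 2, 0, 0, -1⟩, 8, 54),
  (⟨-1, 1, -1, 0, 2, 1, 0, 0⟩, 13, 58),
  (⟨-1, 1, 1, 0, 0, -1, 0, -2⟩, 12, 47),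
  (⟨-1, 1, 1, 0, 0, -1, 0, 2⟩, 10, 46),
  (⟨-1, 2, -1, -1, 0, 0, 0, -1⟩, 9, 96),
  (⟨0, -2, 0, -1, -1, 0, -1, 1⟩, 10, 86),
  (⟨0, -2, 0, 1, 1, 0, 1, -1⟩, 13, 75),
  (⟨0, -1, -2, 0, 1, 1, 1, 0⟩, 9, 115),
  (⟨0, -1, 0, -2, 1, -1, -1, 0⟩, 13, 30),
  (⟨0, -1, 0, 0, -1, -1, 1, -2⟩, 8, 28),
  (⟨0, -1, 0, 2, 1, -1, -1, 0⟩, 11, 105),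
  (⟨0, -1, 2, 0, 1, 1, 1, 0⟩, 10, 21),
  (⟨0, 0, -2, -1, -1, 0, 1, -1⟩, 12, 64),
  (⟨0, 0, 0, -1, 1, -2, 1, 1⟩, 9, 52),
  (⟨0, 0, 0, 1, -1, 2, -1, -1⟩, 9, 67),
  (⟨0, 0, 2, 1, 1, 0, -1, 1⟩, 12, 55),
  (⟨0, 1, -2, 0, -1, -1, -1, 0⟩, 10, 98),
  (⟨0, 1, 0, -2, -1, 1, 1, 0⟩, 11, 14),
  (⟨0, 1, 0, 0, 1, 1, -1, 2⟩, 8, 91),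
  (⟨0, 1, 0, 2, -1, 1, 1, 0⟩, 13, 89),
  (⟨0, 1, 2, 0, -1, -1, -1, 0⟩, 9, 4),
  (⟨0, 2, 0, -1, -1, 0, -1, 1⟩, 13, 44),
  (⟨0, 2, 0, 1, 1, 0, 1, -1⟩, 10, 33),
  (⟨1, -2, 1, 1, 0, 0, 0, 1⟩, 9, 23),
  (⟨1, -1, -1, 0, 0, 1, 0, -2⟩, 10, 73),
  (⟨1, -1, -1, 0, 0, 1, 0, 2⟩, 12, 72),
  (⟨1, -1, 1, 0, -2, -1, 0, 0⟩, 13, 61),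
  (⟨1, 0, -1, -1, -2, 0, 0, 1⟩, 8, 65),
  (⟨1, 0, -1, -1, 2, 0, 0, 1⟩, 10, 17),
  (⟨1, 0, -1, 1, 0, 0, -2, -1⟩, 13, 16),
  (⟨1, 0, 1, -1, 0, -2, 0, -1⟩, 11, 11),
  (⟨1, 0, 1, -1, 0, 2, 0, -1⟩, 12, 51),
  (⟨1, 1, -1, 2, 0, -1, 0, 0⟩, 8, 42),
  (⟨1, 1, 1, 0, 0, 1, -2, 0⟩, 11, 2),
  (⟨1, 1, 1, 0, 0, 1, 2, 0⟩, 9, 39),
  (⟨2, 0, 0, -1, 1, 0, -1, -1⟩, 8, 18),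
  (⟨2, 0, 0, 1, -1, 0, 1, 1⟩, 11, 15),
  (⟨2, 1, 0, 0, 1, -1, 1, 0⟩, 12, 0)]

def bucket63 : List (SQ × ℕ × ℕ) := [
  (⟨-2, -1, 0, 0, 1, -1, 1, 0⟩, 12, 79),
  (⟨-2, 0, 0, -1, -1, 0, 1, 1⟩, 10, 103),
  (⟨-2, 0, 0, 1, 1, 0, -1, -1⟩, 9, 100),
  (⟨-1, -1, -1, 0, 0, 1, -2, 0⟩, 10, 116),
  (⟨-1, -1, -1, 0, 0, 1, 2, 0⟩, 8, 81),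
  (⟨-1, -1, 1, -2, 0, -1, 0, 0⟩, 9, 78),
  (⟨-1, 0, -1, 1, 0, -2, 0, -1⟩, 10, 109),
  (⟨-1, 0, -1, 1, 0, 2, 0, -1⟩, 12, 107),
  (⟨-1, 0, 1, -1, 0, 0, -2, -1⟩, 13, 60),
  (⟨-1, 0, 1, 1, -2, 0, 0, 1⟩, 9, 57),
  (⟨-1, 0, 1, 1, 2, 0, 0, 1⟩, 11, 99),
  (⟨-1, 1, -1, 0, -2, -1, 0, 0⟩, 13, 98),
  (⟨-1, 1, 1, 0, 0, 1, 0, -2⟩, 11, 49),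
  (⟨-1, 1, 1, 0, 0, 1, 0, 2⟩, 12, 91),
  (⟨-1, 2, -1, -1, 0, 0, 0, 1⟩, 8, 95),
  (⟨0, -2, 0, -1, 1, 0, 1, -1⟩, 11, 85),
  (⟨0, -2, 0, 1, -1, 0, -1, 1⟩, 13, 84),
  (⟨0, -1, -2, 0, -1, -1, -1, 0⟩, 8, 118),
  (⟨0, -1, 0, -2, -1, 1, 1, 0⟩, 13, 112),
  (⟨0, -1, 0, 0, 1, 1, -1, 2⟩, 9, 25),
  (⟨0, -1, 0, 2, -1, 1, 1, 0⟩, 10, 106),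
  (⟨0, -1, 2, 0, -1, -1, -1, 0⟩, 11, 22),
  (⟨0, 0, -2, -1, 1, 0, -1, 1⟩, 12, 74),
  (⟨0, 0, 0, -1, -1, 2, -1, -1⟩, 8, 51),
  (⟨0, 0, 0, 1, 1, -2, 1, 1⟩, 8, 68),
  (⟨0, 0, 2, 1, -1, 0, 1, -1⟩, 12, 45),
  (⟨0, 1, -2, 0, 1, 1, 1, 0⟩, 11, 97),
  (⟨0, 1, 0, -2, 1, -1, -1, 0⟩, 10, 13),
  (⟨0, 1, 0, 0, -1, -1, 1, -2⟩, 9, 94),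
  (⟨0, 1, 0, 2, 1, -1, -1, 0⟩, 13, 7),
  (⟨0, 1, 2, 0, 1, 1, 1, 0⟩, 8, 1),
  (⟨0, 2, 0, -1, 1, 0, 1, -1⟩, 13, 35),
  (⟨0, 2, 0, 1, -1, 0, -1, 1⟩, 11, 34),
  (⟨1, -2, 1, 1, 0, 0, 0, -1⟩, 8, 24),
  (⟨1, -1, -1, 0, 0, -1, 0, -2⟩, 12, 28),
  (⟨1, -1, -1, 0, 0, -1, 0, 2⟩, 11, 70),
  (⟨1, -1, 1, 0, 2, 1, 0, 0⟩, 13, 21),
  (⟨1, 0, -1, -1, -2, 0, 0, -1⟩, 11, 20),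
  (⟨1, 0, -1, -1, 2, 0, 0, -1⟩, 9, 62),
  (⟨1, 0, -1, 1, 0, 0, 2, 1⟩, 13, 59),
  (⟨1, 0, 1, -1, 0, -2, 0, 1⟩, 12, 12),
  (⟨1, 0, 1, -1, 0, 2, 0, 1⟩, 10, 10),
  (⟨1, 1, -1, 2, 0, 1, 0, 0⟩, 9, 41),
  (⟨1, 1, 1, 0, 0, -1, -2, 0⟩, 8, 38),
  (⟨1, 1, 1, 0, 0, -1, 2, 0⟩, 10, 3),
  (⟨2, 0, 0, -1, -1, 0, 1, 1⟩, 9, 19),
  (⟨2, 0, 0, 1, 1, 0, -1, -1⟩, 10, 16),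
  (⟨2, 1, 0, 0, -1, 1, -1, 0⟩, 12, 40)]

def bucket64 : List (SQ × ℕ × ℕ) := [
  (⟨-1, -1, -1, -1, -1, 1, 1, -1⟩, 10, 112),
  (⟨-1, -1, -1, -1, 1, -1, -1, 1⟩, 11, 111),
  (⟨-1, -1, -1, 1, -1, -1, 1, -1⟩, 13, 109),
  (⟨-1, -1, -1, 1, -1, 1, 1, 1⟩, 9, 113),
  (⟨-1, -1, -1, 1, 1, -1, -1, -1⟩, 8, 114),
  (⟨-1, -1, -1, 1, 1, 1, -1, 1⟩, 13, 83),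
  (⟨-1, -1, 1, -1, -1, -1, -1, 1⟩, 12, 110),
  (⟨-1, -1, 1, -1, -1, 1, -1, -1⟩, 9, 82),
  (⟨-1, -1, 1, -1, 1, -1, 1, 1⟩, 8, 79),
  (⟨-1, -1, 1, -1, 1, 1, 1, -1⟩, 12, 77),
  (⟨-1, -1, 1, 1, -1, 1, -1, 1⟩, 11, 76),
  (⟨-1, -1, 1, 1, 1, -1, 1, -1⟩, 10, 75),
  (⟨-1, 1, -1, -1, -1, -1, 1, -1⟩, 8, 64),
  (⟨-1, 1, -1, -1, -1, 1, 1, 1⟩, 12, 95),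
  (⟨-1, 1, -1, -1, 1, -1, -1, -1⟩, 12, 71),
  (⟨-1, 1, -1, -1, 1, 1, -1, 1⟩, 9, 63),
  (⟨-1, 1, -1, 1, -1, -1, 1, 1⟩, 11, 93),
  (⟨-1, 1, -1, 1, 1, 1, -1, -1⟩, 10, 92),
  (⟨-1, 1, 1, -1, -1, -1, -1, -1⟩, 10, 53),
  (⟨-1, 1, 1, -1, 1, 1, 1, 1⟩, 11, 50),
  (⟨-1, 1, 1, 1, -1, -1, -1, 1⟩, 8, 88),
  (⟨-1, 1, 1, 1, -1, 1, -1, -1⟩, 13, 90),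
  (⟨-1, 1, 1, 1, 1, -1, 1, 1⟩, 13, 46),
  (⟨-1, 1, 1, 1, 1, 1, 1, -1⟩, 9, 87),
  (⟨1, -1, -1, -1, -1, -1, -1, 1⟩, 9, 32),
  (⟨1, -1, -1, -1, -1, 1, -1, -1⟩, 13, 73),
  (⟨1, -1, -1, -1, 1, -1, 1, 1⟩, 13, 29),
  (⟨1, -1, -1, -1, 1, 1, 1, -1⟩, 8, 31),
  (⟨1, -1, -1, 1, -1, -1, -1, -1⟩, 11, 69),
  (⟨1, -1, -1, 1, 1, 1, 1, 1⟩, 10, 66),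
  (⟨1, -1, 1, -1, -1, -1, 1, 1⟩, 10, 27),
  (⟨1, -1, 1, -1, 1, 1, -1, -1⟩, 11, 26),
  (⟨1, -1, 1, 1, -1, -1, 1, -1⟩, 9, 56),
  (⟨1, -1, 1, 1, -1, 1, 1, 1⟩, 12, 48),
  (⟨1, -1, 1, 1, 1, -1, -1, -1⟩, 12, 24),
  (⟨1, -1, 1, 1, 1, 1, -1, 1⟩, 8, 55),
  (⟨1, 1, -1, -1, -1, 1, -1, 1⟩, 10, 44),
  (⟨1, 1, -1, -1, 1, -1, 1, -1⟩, 11, 43),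
  (⟨1, 1, -1, 1, -1, -1, -1, 1⟩, 12, 42),
  (⟨1, 1, -1, 1, -1, 1, -1, -1⟩, 8, 40),
  (⟨1, 1, -1, 1, 1, -1, 1, 1⟩, 9, 37),
  (⟨1, 1, -1, 1, 1, 1, 1, -1⟩, 12, 9),
  (⟨1, 1, 1, -1, -1, -1, 1, -1⟩, 13, 36),
  (⟨1, 1, 1, -1, -1, 1, 1, 1⟩, 8, 5),
  (⟨1, 1, 1, -1, 1, -1, -1, -1⟩, 9, 6),
  (⟨1, 1, 1, -1, 1, 1, -1, 1⟩, 13, 10),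
  (⟨1, 1, 1, 1, -1, 1, 1, -1⟩, 11, 8),
  (⟨1, 1, 1, 1, 1, -1, -1, 1⟩, 10, 7)]

def bucket65 : List (SQ × ℕ × ℕ) := [
  (⟨-2, -1, -1, 1, 1, 0, 0, 0⟩, 11, 119),
  (⟨-2, 0, -1, 0, -1, -1, 0, -1⟩, 12, 109),
  (⟨-2, 0, 1, 0, 1, 1, 0, 1⟩, 8, 99),
  (⟨-1, -1, 0, -1, -2, 0, 1, 0⟩, 8, 78),
  (⟨-1, -1, 0, -1, 2, 0, 1, 0⟩, 13, 77),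
  (⟨-1, -1, 0, 1, 0, 0, -1, 2⟩, 12, 113),
  (⟨-1, 0, -2, 0, 0, 1, -1, -1⟩, 9, 116),
  (⟨-1, 0, 0, -2, 0, -1, 1, -1⟩, 11, 64),
  (⟨-1, 0, 0, 0, -2, -1, -1, 1⟩, 10, 110),
  (⟨-1, 0, 0, 2, 0, -1, 1, -1⟩, 8, 56),
  (⟨-1, 0, 2, 0, 0, 1, -1, -1⟩, 12, 100),
  (⟨-1, 1, 0, -1, 0, -2, -1, 0⟩, 9, 53),
  (⟨-1, 1, 0, -1, 0, 2, -1, 0⟩, 11, 51),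
  (⟨-1, 1, 2, 1, 0, 0, 1, 0⟩, 10, 45),
  (⟨-1, 2, 0, 0, 0, 1, 1, 1⟩, 13, 91),
  (⟨0, -2, -1, 0, 1, -1, 0, 1⟩, 9, 79),
  (⟨0, -2, 1, 0, -1, 1, 0, -1⟩, 10, 82),
  (⟨0, -1, -1, -1, -1, 2, 0, 0⟩, 12, 112),
  (⟨0, -1, 1, -1, 1, 0, 0, -2⟩, 8, 26),
  (⟨0, -1, 1, -1, 1, 0, 0, 2⟩, 10, 25),
  (⟨0, -1, 1, 1, -1, 0, -2, 0⟩, 9, 24),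
  (⟨0, -1, 1, 1, -1, 0, 2, 0⟩, 13, 101),
  (⟨0, 0, -1, 0, -1, 1, 2, 1⟩, 11, 72),
  (⟨0, 0, -1, 2, 1, 1, 0, -1⟩, 13, 54),
  (⟨0, 0, 1, -2, -1, -1, 0, 1⟩, 13, 65),
  (⟨0, 0, 1, 0, 1, -1, -2, -1⟩, 11, 47),
  (⟨0, 1, -1, -1, 1, 0, -2, 0⟩, 13, 18),
  (⟨0, 1, -1, -1, 1, 0, 2, 0⟩, 9, 95),
  (⟨0, 1, -1, 1, -1, 0, 0, -2⟩, 10, 94),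
  (⟨0, 1, -1, 1, -1, 0, 0, 2⟩, 8, 93),
  (⟨0, 1, 1, 1, 1, -2, 0, 0⟩, 12, 7),
  (⟨0, 2, -1, 0, 1, -1, 0, 1⟩, 10, 37),
  (⟨0, 2, 1, 0, -1, 1, 0, -1⟩, 9, 40),
  (⟨1, -2, 0, 0, 0, -1, -1, -1⟩, 13, 28),
  (⟨1, -1, -2, -1, 0, 0, -1, 0⟩, 10, 74),
  (⟨1, -1, 0, 1, 0, -2, 1, 0⟩, 11, 68),
  (⟨1, -1, 0, 1, 0, 2, 1, 0⟩, 9, 66),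
  (⟨1, 0, -2, 0, 0, -1, 1, 1⟩, 12, 19),
  (⟨1, 0, 0, -2, 0, 1, -1, 1⟩, 8, 63),
  (⟨1, 0, 0, 0, 2, 1, 1, -1⟩, 10, 9),
  (⟨1, 0, 0, 2, 0, 1, -1, 1⟩, 11, 55),
  (⟨1, 0, 2, 0, 0, -1, 1, 1⟩, 9, 3),
  (⟨1, 1, 0, -1, 0, 0, 1, -2⟩, 12, 6),
  (⟨1, 1, 0, 1, -2, 0, -1, 0⟩, 13, 42),
  (⟨1, 1, 0, 1, 2, 0, -1, 0⟩, 8, 41),
  (⟨2, 0, -1, 0, -1, -1, 0, -1⟩, 8, 20),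
  (⟨2, 0, 1, 0, 1, 1, 0, 1⟩, 12, 10),
  (⟨2, 1, 1, -1, -1, 0, 0, 0⟩, 11, 0)]

def bucket66 : List (SQ × ℕ × ℕ) := [
  (⟨-2, -1, 1, 0, 0, 0, 1, -1⟩, 8, 75),
  (⟨-2, 0, -1, -1, 0, 1, 1, 0⟩, 11, 112),
  (⟨-2, 0, 1, 1, 0, -1, -1, 0⟩, 12, 105),
  (⟨-1, -1, -2, 0, -1, 0, 0, 1⟩, 12, 117),
  (⟨-1, -1, 0, 0, 1, -2, 0, -1⟩, 11, 109),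
  (⟨-1, -1, 2, 0, -1, 0, 0, 1⟩, 10, 76),
  (⟨-1, 0, -2, -1, 1, -1, 0, 0⟩, 9, 111),
  (⟨-1, 0, 0, -1, -1, 1, 0, -2⟩, 12, 104),
  (⟨-1, 0, 0, -1, -1, 1, 0, 2⟩, 8, 103),
  (⟨-1, 0, 0, 1, 1, 1, -2, 0⟩, 11, 100),
  (⟨-1, 0, 0, 1, 1, 1, 2, 0⟩, 13, 99),
  (⟨-1, 1, 0, -2, 1, 0, 0, 1⟩, 13, 63),
  (⟨-1, 1, 0, 0, -1, 0, -2, -1⟩, 9, 60),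
  (⟨-1, 1, 0, 2, 1, 0, 0, 1⟩, 8, 89),
  (⟨-1, 2, 0, 1, -1, -1, 0, 0⟩, 10, 88),
  (⟨0, -2, -1, 1, 0, 1, -1, 0⟩, 9, 83),
  (⟨0, -2, 1, -1, 0, -1, 1, 0⟩, 13, 78),
  (⟨0, -1, -1, 0, -2, 0, -1, -1⟩, 10, 118),
  (⟨0, -1, -1, 0, 2, 0, -1, -1⟩, 13, 26),
  (⟨0, -1, -1, 2, 0, 0, 1, 1⟩, 11, 113),
  (⟨0, -1, 1, 0, 0, -2, -1, 1⟩, 9, 22),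
  (⟨0, -1, 1, 0, 0, 2, -1, 1⟩, 12, 108),
  (⟨0, 0, -1, -1, 0, -1, -1, 2⟩, 10, 70),
  (⟨0, 0, -1, 1, -2, -1, 1, 0⟩, 8, 61),
  (⟨0, 0, 1, -1, 2, 1, -1, 0⟩, 8, 58),
  (⟨0, 0, 1, 1, 0, 1, 1, -2⟩, 10, 49),
  (⟨0, 1, -1, 0, 0, -2, 1, -1⟩, 12, 11),
  (⟨0, 1, -1, 0, 0, 2, 1, -1⟩, 9, 97),
  (⟨0, 1, 1, -2, 0, 0, -1, -1⟩, 11, 6),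
  (⟨0, 1, 1, 0, -2, 0, 1, 1⟩, 13, 93),
  (⟨0, 1, 1, 0, 2, 0, 1, 1⟩, 10, 1),
  (⟨0, 2, -1, 1, 0, 1, -1, 0⟩, 13, 41),
  (⟨0, 2, 1, -1, 0, -1, 1, 0⟩, 9, 36),
  (⟨1, -2, 0, -1, 1, 1, 0, 0⟩, 10, 31),
  (⟨1, -1, 0, -2, -1, 0, 0, -1⟩, 8, 30),
  (⟨1, -1, 0, 0, 1, 0, 2, 1⟩, 9, 59),
  (⟨1, -1, 0, 2, -1, 0, 0, -1⟩, 13, 56),
  (⟨1, 0, 0, -1, -1, -1, -2, 0⟩, 13, 20),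
  (⟨1, 0, 0, -1, -1, -1, 2, 0⟩, 11, 19),
  (⟨1, 0, 0, 1, 1, -1, 0, -2⟩, 8, 16),
  (⟨1, 0, 0, 1, 1, -1, 0, 2⟩, 12, 15),
  (⟨1, 0, 2, 1, -1, 1, 0, 0⟩, 9, 8),
  (⟨1, 1, -2, 0, 1, 0, 0, -1⟩, 10, 43),
  (⟨1, 1, 0, 0, -1, 2, 0, 1⟩, 11, 10),
  (⟨1, 1, 2, 0, 1, 0, 0, -1⟩, 12, 2),
  (⟨2, 0, -1, -1, 0, 1, 1, 0⟩, 12, 14),
  (⟨2, 0, 1, 1, 0, -1, -1, 0⟩, 11, 7),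
  (⟨2, 1, -1, 0, 0, 0, -1, 1⟩, 8, 44)]

def bucket67 : List (SQ × ℕ × ℕ) := [
  (⟨-2, -1, -1, 0, 0, 0, -1, 1⟩, 8, 119),
  (⟨-2, 0, -1, -1, 0, -1, 1, 0⟩, 13, 111),
  (⟨-2, 0, 1, 1, 0, 1, -1, 0⟩, 10, 100),
  (⟨-1, -1, -2, 0, -1, 0, 0, -1⟩, 11, 118),
  (⟨-1, -1, 0, 0, 1, -2, 0, 1⟩, 10, 79),
  (⟨-1, -1, 2, 0, -1, 0, 0, -1⟩, 13, 102),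
  (⟨-1, 0, 0, -1, 1, 1, -2, 0⟩, 12, 116),
  (⟨-1, 0, 0, -1, 1, 1, 2, 0⟩, 10, 50),
  (⟨-1, 0, 0, 1, -1, 1, 0, -2⟩, 8, 49),
  (⟨-1, 0, 0, 1, -1, 1, 0, 2⟩, 13, 113),
  (⟨-1, 0, 2, 1, 1, -1, 0, 0⟩, 9, 45),
  (⟨-1, 1, 0, -2, 1, 0, 0, -1⟩, 8, 62),
  (⟨-1, 1, 0, 0, -1, 0, 2, 1⟩, 9, 93),
  (⟨-1, 1, 0, 2, 1, 0, 0, -1⟩, 12, 54),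
  (⟨-1, 2, 0, -1, -1, -1, 0, 0⟩, 11, 36),
  (⟨0, -2, -1, 1, 0, -1, -1, 0⟩, 12, 84),
  (⟨0, -2, 1, -1, 0, 1, 1, 0⟩, 9, 81),
  (⟨0, -1, -1, 0, 0, -2, 1, -1⟩, 9, 109),
  (⟨0, -1, -1, 0, 0, 2, 1, -1⟩, 13, 107),
  (⟨0, -1, 1, -2, 0, 0, -1, -1⟩, 10, 30),
  (⟨0, -1, 1, 0, -2, 0, 1, 1⟩, 11, 27),
  (⟨0, -1, 1, 0, 2, 0, 1, 1⟩, 12, 25),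
  (⟨0, 0, -1, -1, 0, 1, -1, 2⟩, 11, 63),
  (⟨0, 0, -1, 1, 2, 1, 1, 0⟩, 8, 66),
  (⟨0, 0, 1, -1, -2, -1, -1, 0⟩, 8, 53),
  (⟨0, 0, 1, 1, 0, -1, 1, -2⟩, 11, 56),
  (⟨0, 1, -1, 0, -2, 0, -1, -1⟩, 12, 94),
  (⟨0, 1, -1, 0, 2, 0, -1, -1⟩, 11, 92),
  (⟨0, 1, -1, 2, 0, 0, 1, 1⟩, 10, 89),
  (⟨0, 1, 1, 0, 0, -2, -1, 1⟩, 13, 12),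
  (⟨0, 1, 1, 0, 0, 2, -1, 1⟩, 9, 10),
  (⟨0, 2, -1, 1, 0, -1, -1, 0⟩, 9, 38),
  (⟨0, 2, 1, -1, 0, 1, 1, 0⟩, 12, 35),
  (⟨1, -2, 0, 1, 1, 1, 0, 0⟩, 11, 83),
  (⟨1, -1, 0, -2, -1, 0, 0, 1⟩, 12, 65),
  (⟨1, -1, 0, 0, 1, 0, -2, -1⟩, 9, 26),
  (⟨1, -1, 0, 2, -1, 0, 0, 1⟩, 8, 57),
  (⟨1, 0, -2, -1, -1, 1, 0, 0⟩, 9, 74),
  (⟨1, 0, 0, -1, 1, -1, 0, -2⟩, 13, 6),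
  (⟨1, 0, 0, -1, 1, -1, 0, 2⟩, 8, 70),
  (⟨1, 0, 0, 1, -1, -1, -2, 0⟩, 10, 69),
  (⟨1, 0, 0, 1, -1, -1, 2, 0⟩, 12, 3),
  (⟨1, 1, -2, 0, 1, 0, 0, 1⟩, 13, 17),
  (⟨1, 1, 0, 0, -1, 2, 0, -1⟩, 10, 40),
  (⟨1, 1, 2, 0, 1, 0, 0, 1⟩, 11, 1),
  (⟨2, 0, -1, -1, 0, -1, 1, 0⟩, 10, 19),
  (⟨2, 0, 1, 1, 0, 1, -1, 0⟩, 13, 8),
  (⟨2, 1, 1, 0, 0, 0, 1, -1⟩, 8, 0)]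

def bucket68 : List (SQ × ℕ × ℕ) := [
  (⟨-2, -1, 1, -1, -1, 0, 0, 0⟩, 11, 78),
  (⟨-2, 0, -1, 0, -1, -1, 0, 1⟩, 9, 110),
  (⟨-2, 0, 1, 0, 1, 1, 0, -1⟩, 13, 100),
  (⟨-1, -1, 0, -1, 0, 0, -1, 2⟩, 13, 86),
  (⟨-1, -1, 0, 1, -2, 0, 1, 0⟩, 12, 101),
  (⟨-1, -1, 0, 1, 2, 0, 1, 0⟩, 9, 99),
  (⟨-1, 0, -2, 0, 0, -1, -1, -1⟩, 13, 71),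
  (⟨-1, 0, 0, -2, 0, 1, 1, -1⟩, 9, 112),
  (⟨-1, 0, 0, 0, 2, 1, -1, 1⟩, 10, 58),
  (⟨-1, 0, 0, 2, 0, 1, 1, -1⟩, 11, 106),
  (⟨-1, 0, 2, 0, 0, -1, -1, -1⟩, 8, 47),
  (⟨-1, 1, -2, -1, 0, 0, 1, 0⟩, 10, 95),
  (⟨-1, 1, 0, 1, 0, -2, -1, 0⟩, 11, 88),
  (⟨-1, 1, 0, 1, 0, 2, -1, 0⟩, 8, 87),
  (⟨-1, 2, 0, 0, 0, -1, 1, 1⟩, 12, 37),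
  (⟨0, -2, -1, 0, 1, -1, 0, -1⟩, 10, 85),
  (⟨0, -2, 1, 0, -1, 1, 0, 1⟩, 8, 76),
  (⟨0, -1, -1, -1, 1, 0, -2, 0⟩, 8, 116),
  (⟨0, -1, -1, -1, 1, 0, 2, 0⟩, 12, 29),
  (⟨0, -1, -1, 1, -1, 0, 0, -2⟩, 9, 114),
  (⟨0, -1, -1, 1, -1, 0, 0, 2⟩, 10, 113),
  (⟨0, -1, 1, 1, 1, -2, 0, 0⟩, 13, 22),
  (⟨0, 0, -1, 0, -1, 1, -2, -1⟩, 11, 60),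
  (⟨0, 0, -1, 2, 1, 1, 0, 1⟩, 12, 66),
  (⟨0, 0, 1, -2, -1, -1, 0, -1⟩, 12, 53),
  (⟨0, 0, 1, 0, 1, -1, 2, 1⟩, 11, 59),
  (⟨0, 1, -1, -1, -1, 2, 0, 0⟩, 13, 97),
  (⟨0, 1, 1, -1, 1, 0, 0, -2⟩, 10, 6),
  (⟨0, 1, 1, -1, 1, 0, 0, 2⟩, 9, 5),
  (⟨0, 1, 1, 1, -1, 0, -2, 0⟩, 12, 90),
  (⟨0, 1, 1, 1, -1, 0, 2, 0⟩, 8, 3),
  (⟨0, 2, -1, 0, 1, -1, 0, -1⟩, 8, 43),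
  (⟨0, 2, 1, 0, -1, 1, 0, 1⟩, 10, 34),
  (⟨1, -2, 0, 0, 0, 1, -1, -1⟩, 12, 82),
  (⟨1, -1, 0, -1, 0, -2, 1, 0⟩, 8, 32),
  (⟨1, -1, 0, -1, 0, 2, 1, 0⟩, 11, 31),
  (⟨1, -1, 2, 1, 0, 0, -1, 0⟩, 10, 24),
  (⟨1, 0, -2, 0, 0, 1, 1, 1⟩, 8, 72),
  (⟨1, 0, 0, -2, 0, -1, -1, 1⟩, 11, 13),
  (⟨1, 0, 0, 0, -2, -1, 1, -1⟩, 10, 61),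
  (⟨1, 0, 0, 2, 0, -1, -1, 1⟩, 9, 7),
  (⟨1, 0, 2, 0, 0, 1, 1, 1⟩, 13, 48),
  (⟨1, 1, 0, -1, -2, 0, -1, 0⟩, 9, 20),
  (⟨1, 1, 0, -1, 2, 0, -1, 0⟩, 12, 18),
  (⟨1, 1, 0, 1, 0, 0, 1, -2⟩, 13, 33),
  (⟨2, 0, -1, 0, -1, -1, 0, 1⟩, 13, 19),
  (⟨2, 0, 1, 0, 1, 1, 0, -1⟩, 9, 9),
  (⟨2, 1, -1, 1, 1, 0, 0, 0⟩, 11, 41)]

def bucket69 : List (SQ × ℕ × ℕ) := [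
  (⟨-1, -1, -1, -1, -1, 1, -1, 1⟩, 9, 86),
  (⟨-1, -1, -1, -1, 1, -1, 1, -1⟩, 8, 85),
  (⟨-1, -1, -1, 1, -1, -1, -1, 1⟩, 11, 110),
  (⟨-1, -1, -1, 1, -1, 1, -1, -1⟩, 13, 114),
  (⟨-1, -1, -1, 1, 1, -1, 1, 1⟩, 13, 79),
  (⟨-1, -1, -1, 1, 1, 1, 1, -1⟩, 10, 107),
  (⟨-1, -1, 1, -1, -1, -1, 1, -1⟩, 10, 78),
  (⟨-1, -1, 1, -1, -1, 1, 1, 1⟩, 12, 103),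
  (⟨-1, -1, 1, -1, 1, -1, -1, -1⟩, 12, 80),
  (⟨-1, -1, 1, -1, 1, 1, -1, 1⟩, 11, 77),
  (⟨-1, -1, 1, 1, -1, 1, 1, -1⟩, 9, 106),
  (⟨-1, -1, 1, 1, 1, -1, -1, 1⟩, 8, 105),
  (⟨-1, 1, -1, -1, -1, -1, -1, 1⟩, 12, 98),
  (⟨-1, 1, -1, -1, -1, 1, -1, -1⟩, 10, 96),
  (⟨-1, 1, -1, -1, 1, -1, 1, 1⟩, 11, 95),
  (⟨-1, 1, -1, -1, 1, 1, 1, -1⟩, 12, 62),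
  (⟨-1, 1, -1, 1, -1, -1, -1, -1⟩, 8, 94),
  (⟨-1, 1, -1, 1, 1, 1, 1, 1⟩, 9, 91),
  (⟨-1, 1, 1, -1, -1, -1, 1, 1⟩, 8, 52),
  (⟨-1, 1, 1, -1, 1, 1, -1, -1⟩, 9, 51),
  (⟨-1, 1, 1, 1, -1, -1, 1, -1⟩, 13, 88),
  (⟨-1, 1, 1, 1, -1, 1, 1, 1⟩, 11, 48),
  (⟨-1, 1, 1, 1, 1, -1, -1, -1⟩, 10, 47),
  (⟨-1, 1, 1, 1, 1, 1, -1, 1⟩, 13, 55),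
  (⟨1, -1, -1, -1, -1, -1, 1, -1⟩, 13, 64),
  (⟨1, -1, -1, -1, -1, 1, 1, 1⟩, 10, 72),
  (⟨1, -1, -1, -1, 1, -1, -1, -1⟩, 11, 71),
  (⟨1, -1, -1, -1, 1, 1, -1, 1⟩, 13, 31),
  (⟨1, -1, -1, 1, -1, -1, 1, 1⟩, 9, 68),
  (⟨1, -1, -1, 1, 1, 1, -1, -1⟩, 8, 67),
  (⟨1, -1, 1, -1, -1, -1, -1, -1⟩, 9, 28),
  (⟨1, -1, 1, -1, 1, 1, 1, 1⟩, 8, 25),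
  (⟨1, -1, 1, 1, -1, -1, -1, 1⟩, 12, 57),
  (⟨1, -1, 1, 1, -1, 1, -1, -1⟩, 11, 24),
  (⟨1, -1, 1, 1, 1, -1, 1, 1⟩, 10, 23),
  (⟨1, -1, 1, 1, 1, 1, 1, -1⟩, 12, 21),
  (⟨1, 1, -1, -1, -1, 1, 1, -1⟩, 8, 14),
  (⟨1, 1, -1, -1, 1, -1, -1, 1⟩, 9, 13),
  (⟨1, 1, -1, 1, -1, -1, 1, -1⟩, 11, 42),
  (⟨1, 1, -1, 1, -1, 1, 1, 1⟩, 12, 39),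
  (⟨1, 1, -1, 1, 1, -1, -1, -1⟩, 12, 16),
  (⟨1, 1, -1, 1, 1, 1, -1, 1⟩, 10, 41),
  (⟨1, 1, 1, -1, -1, -1, -1, 1⟩, 10, 12),
  (⟨1, 1, 1, -1, -1, 1, -1, -1⟩, 13, 40),
  (⟨1, 1, 1, -1, 1, -1, 1, 1⟩, 13, 5),
  (⟨1, 1, 1, -1, 1, 1, 1, -1⟩, 11, 9),
  (⟨1, 1, 1, 1, -1, 1, -1, 1⟩, 8, 34),
  (⟨1, 1, 1, 1, 1, -1, 1, -1⟩, 9, 33)]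

def bucket70 : List (SQ × ℕ × ℕ) := [
  (⟨-2, -1, 0, 0, -1, 1, 1, 0⟩, 13, 119),
  (⟨-2, 0, 0, -1, -1, 0, -1, -1⟩, 8, 104),
  (⟨-2, 0, 0, 1, 1, 0, 1, 1⟩, 10, 99),
  (⟨-1, -1, -1, 2, 0, 1, 0, 0⟩, 8, 106),
  (⟨-1, -1, 1, 0, 0, -1, -2, 0⟩, 10, 80),
  (⟨-1, -1, 1, 0, 0, -1, 2, 0⟩, 9, 101),
  (⟨-1, 0, -1, -1, -2, 0, 0, 1⟩, 11, 65),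
  (⟨-1, 0, -1, -1, 2, 0, 0, 1⟩, 8, 115),
  (⟨-1, 0, -1, 1, 0, 0, -2, -1⟩, 12, 114),
  (⟨-1, 0, 1, -1, 0, -2, 0, -1⟩, 13, 53),
  (⟨-1, 0, 1, -1, 0, 2, 0, -1⟩, 10, 51),
  (⟨-1, 1, -1, 0, 0, -1, 0, -2⟩, 11, 94),
  (⟨-1, 1, -1, 0, 0, -1, 0, 2⟩, 13, 70),
  (⟨-1, 1, 1, 0, 2, 1, 0, 0⟩, 12, 58),
  (⟨-1, 2, 1, 1, 0, 0, 0, 1⟩, 9, 34),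
  (⟨0, -2, 0, -1, 1, 0, -1, 1⟩, 12, 86),
  (⟨0, -2, 0, 1, -1, 0, 1, -1⟩, 11, 84),
  (⟨0, -1, -2, 0, 1, 1, -1, 0⟩, 11, 116),
  (⟨0, -1, 0, -2, 1, -1, 1, 0⟩, 10, 29),
  (⟨0, -1, 0, 0, -1, -1, -1, 2⟩, 8, 110),
  (⟨0, -1, 0, 2, 1, -1, 1, 0⟩, 12, 23),
  (⟨0, -1, 2, 0, 1, 1, -1, 0⟩, 9, 21),
  (⟨0, 0, -2, -1, 1, 0, 1, -1⟩, 13, 62),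
  (⟨0, 0, 0, -1, -1, 2, 1, 1⟩, 9, 72),
  (⟨0, 0, 0, 1, 1, -2, -1, -1⟩, 9, 47),
  (⟨0, 0, 2, 1, -1, 0, -1, 1⟩, 13, 57),
  (⟨0, 1, -2, 0, -1, -1, 1, 0⟩, 9, 98),
  (⟨0, 1, 0, -2, -1, 1, -1, 0⟩, 12, 96),
  (⟨0, 1, 0, 0, 1, 1, 1, -2⟩, 8, 9),
  (⟨0, 1, 0, 2, -1, 1, -1, 0⟩, 10, 90),
  (⟨0, 1, 2, 0, -1, -1, 1, 0⟩, 11, 3),
  (⟨0, 2, 0, -1, 1, 0, -1, 1⟩, 11, 35),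
  (⟨0, 2, 0, 1, -1, 0, 1, -1⟩, 12, 33),
  (⟨1, -2, -1, -1, 0, 0, 0, -1⟩, 9, 85),
  (⟨1, -1, -1, 0, -2, -1, 0, 0⟩, 12, 61),
  (⟨1, -1, 1, 0, 0, 1, 0, -2⟩, 13, 49),
  (⟨1, -1, 1, 0, 0, 1, 0, 2⟩, 11, 25),
  (⟨1, 0, -1, 1, 0, -2, 0, 1⟩, 10, 68),
  (⟨1, 0, -1, 1, 0, 2, 0, 1⟩, 13, 66),
  (⟨1, 0, 1, -1, 0, 0, 2, 1⟩, 12, 5),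
  (⟨1, 0, 1, 1, -2, 0, 0, -1⟩, 8, 4),
  (⟨1, 0, 1, 1, 2, 0, 0, -1⟩, 11, 54),
  (⟨1, 1, -1, 0, 0, 1, -2, 0⟩, 9, 18),
  (⟨1, 1, -1, 0, 0, 1, 2, 0⟩, 10, 39),
  (⟨1, 1, 1, -2, 0, -1, 0, 0⟩, 8, 13),
  (⟨2, 0, 0, -1, -1, 0, -1, -1⟩, 10, 20),
  (⟨2, 0, 0, 1, 1, 0, 1, 1⟩, 8, 15),
  (⟨2, 1, 0, 0, 1, -1, -1, 0⟩, 13, 0)]

def bucket71 : List (SQ × ℕ × ℕ) := [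
  (⟨-2, -1, 0, 0, 1, -1, -1, 0⟩, 13, 80),
  (⟨-2, 0, 0, -1, 1, 0, 1, 1⟩, 9, 103),
  (⟨-2, 0, 0, 1, -1, 0, -1, -1⟩, 11, 102),
  (⟨-1, -1, -1, 2, 0, -1, 0, 0⟩, 9, 105),
  (⟨-1, -1, 1, 0, 0, 1, -2, 0⟩, 8, 100),
  (⟨-1, -1, 1, 0, 0, 1, 2, 0⟩, 11, 81),
  (⟨-1, 0, -1, -1, -2, 0, 0, -1⟩, 9, 118),
  (⟨-1, 0, -1, -1, 2, 0, 0, -1⟩, 10, 62),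
  (⟨-1, 0, -1, 1, 0, 0, 2, 1⟩, 12, 59),
  (⟨-1, 0, 1, -1, 0, -2, 0, 1⟩, 11, 52),
  (⟨-1, 0, 1, -1, 0, 2, 0, 1⟩, 13, 108),
  (⟨-1, 1, -1, 0, 0, 1, 0, -2⟩, 13, 92),
  (⟨-1, 1, -1, 0, 0, 1, 0, 2⟩, 10, 91),
  (⟨-1, 1, 1, 0, -2, -1, 0, 0⟩, 12, 88),
  (⟨-1, 2, 1, 1, 0, 0, 0, -1⟩, 8, 33),
  (⟨0, -2, 0, -1, -1, 0, 1, -1⟩, 12, 78),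
  (⟨0, -2, 0, 1, 1, 0, -1, 1⟩, 10, 83),
  (⟨0, -1, -2, 0, -1, -1, 1, 0⟩, 10, 117),
  (⟨0, -1, 0, -2, -1, 1, -1, 0⟩, 11, 30),
  (⟨0, -1, 0, 0, 1, 1, 1, -2⟩, 9, 107),
  (⟨0, -1, 0, 2, -1, 1, -1, 0⟩, 12, 106),
  (⟨0, -1, 2, 0, -1, -1, 1, 0⟩, 8, 22),
  (⟨0, 0, -2, -1, -1, 0, -1, 1⟩, 13, 74),
  (⟨0, 0, 0, -1, 1, -2, -1, -1⟩, 8, 71),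
  (⟨0, 0, 0, 1, -1, 2, 1, 1⟩, 8, 48),
  (⟨0, 0, 2, 1, 1, 0, 1, -1⟩, 13, 45),
  (⟨0, 1, -2, 0, 1, 1, -1, 0⟩, 8, 97),
  (⟨0, 1, 0, -2, 1, -1, 1, 0⟩, 12, 13),
  (⟨0, 1, 0, 0, -1, -1, -1, 2⟩, 9, 12),
  (⟨0, 1, 0, 2, 1, -1, 1, 0⟩, 11, 89),
  (⟨0, 1, 2, 0, 1, 1, -1, 0⟩, 10, 2),
  (⟨0, 2, 0, -1, -1, 0, 1, -1⟩, 10, 36),
  (⟨0, 2, 0, 1, 1, 0, -1, 1⟩, 12, 41),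
  (⟨1, -2, -1, -1, 0, 0, 0, 1⟩, 8, 86),
  (⟨1, -1, -1, 0, 2, 1, 0, 0⟩, 12, 31),
  (⟨1, -1, 1, 0, 0, -1, 0, -2⟩, 10, 28),
  (⟨1, -1, 1, 0, 0, -1, 0, 2⟩, 13, 27),
  (⟨1, 0, -1, 1, 0, -2, 0, -1⟩, 13, 11),
  (⟨1, 0, -1, 1, 0, 2, 0, -1⟩, 11, 67),
  (⟨1, 0, 1, -1, 0, 0, -2, -1⟩, 12, 60),
  (⟨1, 0, 1, 1, -2, 0, 0, 1⟩, 10, 57),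
  (⟨1, 0, 1, 1, 2, 0, 0, 1⟩, 9, 1),
  (⟨1, 1, -1, 0, 0, -1, -2, 0⟩, 11, 38),
  (⟨1, 1, -1, 0, 0, -1, 2, 0⟩, 8, 19),
  (⟨1, 1, 1, -2, 0, 1, 0, 0⟩, 9, 14),
  (⟨2, 0, 0, -1, 1, 0, 1, 1⟩, 11, 17),
  (⟨2, 0, 0, 1, -1, 0, -1, -1⟩, 9, 16),
  (⟨2, 1, 0, 0, -1, 1, 1, 0⟩, 13, 39)]

def bucket72 : List (SQ × ℕ × ℕ) := [
  (⟨-2, 0, 0, -2, 0, 0, 0, 0⟩, 12, 111),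
  (⟨-2, 0, 0, 0, 0, -2, 0, 0⟩, 8, 109),
  (⟨-2, 0, 0, 0, 0, 0, 0, -2⟩, 10, 104),
  (⟨-2, 0, 0, 0, 0, 0, 0, 2⟩, 11, 103),
  (⟨-2, 0, 0, 0, 0, 2, 0, 0⟩, 9, 108),
  (⟨-2, 0, 0, 2, 0, 0, 0, 0⟩, 13, 105),
  (⟨0, -2, -2, 0, 0, 0, 0, 0⟩, 13, 85),
  (⟨0, -2, 0, 0, -2, 0, 0, 0⟩, 9, 84),
  (⟨0, -2, 0, 0, 0, 0, -2, 0⟩, 11, 80),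
  (⟨0, -2, 0, 0, 0, 0, 2, 0⟩, 10, 81),
  (⟨0, -2, 0, 0, 2, 0, 0, 0⟩, 8, 83),
  (⟨0, -2, 2, 0, 0, 0, 0, 0⟩, 12, 76),
  (⟨0, 0, -2, 0, 0, -2, 0, 0⟩, 11, 98),
  (⟨0, 0, -2, 0, 0, 0, 0, -2⟩, 8, 73),
  (⟨0, 0, -2, 0, 0, 0, 0, 2⟩, 9, 70),
  (⟨0, 0, -2, 0, 0, 2, 0, 0⟩, 10, 97),
  (⟨0, 0, 0, -2, -2, 0, 0, 0⟩, 10, 65),
  (⟨0, 0, 0, -2, 0, 0, -2, 0⟩, 9, 30),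
  (⟨0, 0, 0, -2, 0, 0, 2, 0⟩, 8, 29),
  (⟨0, 0, 0, -2, 2, 0, 0, 0⟩, 11, 62),
  (⟨0, 0, 0, 0, -2, 0, 0, -2⟩, 13, 94),
  (⟨0, 0, 0, 0, -2, 0, 0, 2⟩, 12, 93),
  (⟨0, 0, 0, 0, 0, -2, -2, 0⟩, 12, 69),
  (⟨0, 0, 0, 0, 0, -2, 2, 0⟩, 13, 52),
  (⟨0, 0, 0, 0, 0, 2, -2, 0⟩, 13, 67),
  (⟨0, 0, 0, 0, 0, 2, 2, 0⟩, 12, 50),
  (⟨0, 0, 0, 0, 2, 0, 0, -2⟩, 12, 26),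
  (⟨0, 0, 0, 0, 2, 0, 0, 2⟩, 13, 25),
  (⟨0, 0, 0, 2, -2, 0, 0, 0⟩, 11, 57),
  (⟨0, 0, 0, 2, 0, 0, -2, 0⟩, 8, 90),
  (⟨0, 0, 0, 2, 0, 0, 2, 0⟩, 9, 89),
  (⟨0, 0, 0, 2, 2, 0, 0, 0⟩, 10, 54),
  (⟨0, 0, 2, 0, 0, -2, 0, 0⟩, 10, 22),
  (⟨0, 0, 2, 0, 0, 0, 0, -2⟩, 9, 49),
  (⟨0, 0, 2, 0, 0, 0, 0, 2⟩, 8, 46),
  (⟨0, 0, 2, 0, 0, 2, 0, 0⟩, 11, 21),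
  (⟨0, 2, -2, 0, 0, 0, 0, 0⟩, 12, 43),
  (⟨0, 2, 0, 0, -2, 0, 0, 0⟩, 8, 36),
  (⟨0, 2, 0, 0, 0, 0, -2, 0⟩, 10, 38),
  (⟨0, 2, 0, 0, 0, 0, 2, 0⟩, 11, 39),
  (⟨0, 2, 0, 0, 2, 0, 0, 0⟩, 9, 35),
  (⟨0, 2, 2, 0, 0, 0, 0, 0⟩, 13, 34),
  (⟨2, 0, 0, -2, 0, 0, 0, 0⟩, 13, 14),
  (⟨2, 0, 0, 0, 0, -2, 0, 0⟩, 9, 11),
  (⟨2, 0, 0, 0, 0, 0, 0, -2⟩, 11, 16),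
  (⟨2, 0, 0, 0, 0, 0, 0, 2⟩, 10, 15),
  (⟨2, 0, 0, 0, 0, 2, 0, 0⟩, 8, 10),
  (⟨2, 0, 0, 2, 0, 0, 0, 0⟩, 12, 8)]

def bucket73 : List (SQ × ℕ × ℕ) := [
  (⟨-2, -1, -1, 1, -1, 0, 0, 0⟩, 10, 119),
  (⟨-2, 0, -1, 0, 1, 1, 0, 1⟩, 12, 115),
  (⟨-2, 0, 1, 0, -1, -1, 0, -1⟩, 9, 102),
  (⟨-1, -1, 0, -1, -2, 0, -1, 0⟩, 13, 118),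
  (⟨-1, -1, 0, -1, 2, 0, -1, 0⟩, 9, 77),
  (⟨-1, -1, 0, 1, 0, 0, 1, -2⟩, 12, 75),
  (⟨-1, 0, -2, 0, 0, -1, 1, 1⟩, 8, 117),
  (⟨-1, 0, 0, -2, 0, 1, -1, 1⟩, 10, 63),
  (⟨-1, 0, 0, 0, 2, 1, 1, -1⟩, 11, 107),
  (⟨-1, 0, 0, 2, 0, 1, -1, 1⟩, 9, 55),
  (⟨-1, 0, 2, 0, 0, -1, 1, 1⟩, 12, 46),
  (⟨-1, 1, 0, -1, 0, -2, 1, 0⟩, 10, 52),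
  (⟨-1, 1, 0, -1, 0, 2, 1, 0⟩, 8, 50),
  (⟨-1, 1, 2, 1, 0, 0, -1, 0⟩, 11, 45),
  (⟨-1, 2, 0, 0, 0, -1, -1, -1⟩, 13, 38),
  (⟨0, -2, -1, 0, -1, 1, 0, -1⟩, 8, 82),
  (⟨0, -2, 1, 0, 1, -1, 0, 1⟩, 11, 79),
  (⟨0, -1, -1, -1, 1, -2, 0, 0⟩, 12, 32),
  (⟨0, -1, 1, -1, -1, 0, 0, -2⟩, 11, 28),
  (⟨0, -1, 1, -1, -1, 0, 0, 2⟩, 9, 27),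
  (⟨0, -1, 1, 1, 1, 0, -2, 0⟩, 13, 24),
  (⟨0, -1, 1, 1, 1, 0, 2, 0⟩, 8, 23),
  (⟨0, 0, -1, 0, 1, -1, -2, -1⟩, 10, 71),
  (⟨0, 0, -1, 2, -1, -1, 0, 1⟩, 13, 68),
  (⟨0, 0, 1, -2, 1, 1, 0, -1⟩, 13, 51),
  (⟨0, 0, 1, 0, -1, 1, 2, 1⟩, 10, 48),
  (⟨0, 1, -1, -1, -1, 0, -2, 0⟩, 8, 96),
  (⟨0, 1, -1, -1, -1, 0, 2, 0⟩, 13, 95),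
  (⟨0, 1, -1, 1, 1, 0, 0, -2⟩, 9, 92),
  (⟨0, 1, -1, 1, 1, 0, 0, 2⟩, 11, 91),
  (⟨0, 1, 1, 1, -1, 2, 0, 0⟩, 12, 87),
  (⟨0, 2, -1, 0, -1, 1, 0, -1⟩, 11, 40),
  (⟨0, 2, 1, 0, 1, -1, 0, 1⟩, 8, 37),
  (⟨1, -2, 0, 0, 0, 1, 1, 1⟩, 13, 81),
  (⟨1, -1, -2, -1, 0, 0, 1, 0⟩, 11, 74),
  (⟨1, -1, 0, 1, 0, -2, -1, 0⟩, 8, 69),
  (⟨1, -1, 0, 1, 0, 2, -1, 0⟩, 10, 67),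
  (⟨1, 0, -2, 0, 0, 1, -1, -1⟩, 12, 73),
  (⟨1, 0, 0, -2, 0, -1, 1, -1⟩, 9, 64),
  (⟨1, 0, 0, 0, -2, -1, -1, 1⟩, 11, 12),
  (⟨1, 0, 0, 2, 0, -1, 1, -1⟩, 10, 56),
  (⟨1, 0, 2, 0, 0, 1, -1, -1⟩, 8, 2),
  (⟨1, 1, 0, -1, 0, 0, -1, 2⟩, 12, 44),
  (⟨1, 1, 0, 1, -2, 0, 1, 0⟩, 9, 42),
  (⟨1, 1, 0, 1, 2, 0, 1, 0⟩, 13, 1),
  (⟨2, 0, -1, 0, 1, 1, 0, 1⟩, 9, 17),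
  (⟨2, 0, 1, 0, -1, -1, 0, -1⟩, 12, 4),
  (⟨2, 1, 1, -1, 1, 0, 0, 0⟩, 10, 0)]

def bucket74 : List (SQ × ℕ × ℕ) := [
  (⟨-2, -1, -1, 0, 0, 0, 1, -1⟩, 9, 119),
  (⟨-2, 0, -1, -1, 0, 1, -1, 0⟩, 13, 116),
  (⟨-2, 0, 1, 1, 0, -1, 1, 0⟩, 11, 101),
  (⟨-1, -1, -2, 0, 1, 0, 0, 1⟩, 10, 115),
  (⟨-1, -1, 0, 0, -1, 2, 0, -1⟩, 11, 82),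
  (⟨-1, -1, 2, 0, 1, 0, 0, 1⟩, 13, 76),
  (⟨-1, 0, 0, -1, -1, -1, -2, 0⟩, 11, 53),
  (⟨-1, 0, 0, -1, -1, -1, 2, 0⟩, 12, 52),
  (⟨-1, 0, 0, 1, 1, -1, 0, -2⟩, 13, 47),
  (⟨-1, 0, 0, 1, 1, -1, 0, 2⟩, 9, 46),
  (⟨-1, 0, 2, 1, -1, 1, 0, 0⟩, 8, 45),
  (⟨-1, 1, 0, -2, -1, 0, 0, 1⟩, 9, 65),
  (⟨-1, 1, 0, 0, 1, 0, -2, -1⟩, 8, 92),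
  (⟨-1, 1, 0, 2, -1, 0, 0, 1⟩, 12, 89),
  (⟨-1, 2, 0, -1, 1, 1, 0, 0⟩, 10, 35),
  (⟨0, -2, -1, 1, 0, 1, 1, 0⟩, 12, 81),
  (⟨0, -2, 1, -1, 0, -1, -1, 0⟩, 8, 80),
  (⟨0, -1, -1, 0, 0, -2, -1, 1⟩, 13, 32),
  (⟨0, -1, -1, 0, 0, 2, -1, 1⟩, 8, 108),
  (⟨0, -1, 1, -2, 0, 0, 1, 1⟩, 11, 29),
  (⟨0, -1, 1, 0, -2, 0, -1, -1⟩, 12, 102),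
  (⟨0, -1, 1, 0, 2, 0, -1, -1⟩, 10, 26),
  (⟨0, 0, -1, -1, 0, -1, 1, -2⟩, 10, 64),
  (⟨0, 0, -1, 1, -2, -1, -1, 0⟩, 9, 69),
  (⟨0, 0, 1, -1, 2, 1, 1, 0⟩, 9, 50),
  (⟨0, 0, 1, 1, 0, 1, -1, 2⟩, 10, 55),
  (⟨0, 1, -1, 0, -2, 0, 1, 1⟩, 10, 93),
  (⟨0, 1, -1, 0, 2, 0, 1, 1⟩, 12, 17),
  (⟨0, 1, -1, 2, 0, 0, -1, -1⟩, 11, 90),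
  (⟨0, 1, 1, 0, 0, -2, 1, -1⟩, 8, 11),
  (⟨0, 1, 1, 0, 0, 2, 1, -1⟩, 13, 87),
  (⟨0, 2, -1, 1, 0, 1, 1, 0⟩, 8, 39),
  (⟨0, 2, 1, -1, 0, -1, -1, 0⟩, 12, 38),
  (⟨1, -2, 0, 1, -1, -1, 0, 0⟩, 10, 84),
  (⟨1, -1, 0, -2, 1, 0, 0, -1⟩, 12, 30),
  (⟨1, -1, 0, 0, -1, 0, 2, 1⟩, 8, 27),
  (⟨1, -1, 0, 2, 1, 0, 0, -1⟩, 9, 54),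
  (⟨1, 0, -2, -1, 1, -1, 0, 0⟩, 8, 74),
  (⟨1, 0, 0, -1, -1, 1, 0, -2⟩, 9, 73),
  (⟨1, 0, 0, -1, -1, 1, 0, 2⟩, 13, 72),
  (⟨1, 0, 0, 1, 1, 1, -2, 0⟩, 12, 67),
  (⟨1, 0, 0, 1, 1, 1, 2, 0⟩, 11, 66),
  (⟨1, 1, -2, 0, -1, 0, 0, -1⟩, 13, 43),
  (⟨1, 1, 0, 0, 1, -2, 0, 1⟩, 11, 37),
  (⟨1, 1, 2, 0, -1, 0, 0, -1⟩, 10, 4),
  (⟨2, 0, -1, -1, 0, 1, -1, 0⟩, 11, 18),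
  (⟨2, 0, 1, 1, 0, -1, 1, 0⟩, 13, 3),
  (⟨2, 1, 1, 0, 0, 0, -1, 1⟩, 9, 0)]

def bucket75 : List (SQ × ℕ × ℕ) := [
  (⟨-2, -1, 1, 0, 0, 0, -1, 1⟩, 9, 76),
  (⟨-2, 0, -1, -1, 0, -1, -1, 0⟩, 10, 111),
  (⟨-2, 0, 1, 1, 0, 1, 1, 0⟩, 12, 99),
  (⟨-1, -1, -2, 0, 1, 0, 0, -1⟩, 12, 85),
  (⟨-1, -1, 0, 0, -1, 2, 0, 1⟩, 10, 108),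
  (⟨-1, -1, 2, 0, 1, 0, 0, -1⟩, 11, 75),
  (⟨-1, 0, -2, -1, -1, 1, 0, 0⟩, 8, 112),
  (⟨-1, 0, 0, -1, 1, -1, 0, -2⟩, 9, 104),
  (⟨-1, 0, 0, -1, 1, -1, 0, 2⟩, 12, 70),
  (⟨-1, 0, 0, 1, -1, -1, -2, 0⟩, 13, 69),
  (⟨-1, 0, 0, 1, -1, -1, 2, 0⟩, 10, 101),
  (⟨-1, 1, 0, -2, -1, 0, 0, -1⟩, 13, 96),
  (⟨-1, 1, 0, 0, 1, 0, 2, 1⟩, 8, 59),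
  (⟨-1, 1, 0, 2, -1, 0, 0, -1⟩, 9, 90),
  (⟨-1, 2, 0, 1, 1, 1, 0, 0⟩, 11, 87),
  (⟨0, -2, -1, 1, 0, -1, 1, 0⟩, 8, 84),
  (⟨0, -2, 1, -1, 0, 1, -1, 0⟩, 13, 82),
  (⟨0, -1, -1, 0, -2, 0, 1, 1⟩, 13, 117),
  (⟨0, -1, -1, 0, 2, 0, 1, 1⟩, 11, 115),
  (⟨0, -1, -1, 2, 0, 0, -1, -1⟩, 10, 114),
  (⟨0, -1, 1, 0, 0, -2, 1, -1⟩, 12, 22),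
  (⟨0, -1, 1, 0, 0, 2, 1, -1⟩, 8, 21),
  (⟨0, 0, -1, -1, 0, 1, 1, -2⟩, 11, 73),
  (⟨0, 0, -1, 1, 2, 1, -1, 0⟩, 9, 58),
  (⟨0, 0, 1, -1, -2, -1, 1, 0⟩, 9, 61),
  (⟨0, 0, 1, 1, 0, -1, -1, 2⟩, 11, 46),
  (⟨0, 1, -1, 0, 0, -2, -1, 1⟩, 8, 98),
  (⟨0, 1, -1, 0, 0, 2, -1, 1⟩, 12, 97),
  (⟨0, 1, 1, -2, 0, 0, 1, 1⟩, 10, 5),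
  (⟨0, 1, 1, 0, -2, 0, -1, -1⟩, 11, 4),
  (⟨0, 1, 1, 0, 2, 0, -1, -1⟩, 13, 2),
  (⟨0, 2, -1, 1, 0, -1, 1, 0⟩, 13, 37),
  (⟨0, 2, 1, -1, 0, 1, -1, 0⟩, 8, 35),
  (⟨1, -2, 0, -1, -1, -1, 0, 0⟩, 11, 32),
  (⟨1, -1, 0, -2, 1, 0, 0, 1⟩, 9, 29),
  (⟨1, -1, 0, 0, -1, 0, -2, -1⟩, 8, 60),
  (⟨1, -1, 0, 2, 1, 0, 0, 1⟩, 13, 23),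
  (⟨1, 0, 0, -1, 1, 1, -2, 0⟩, 10, 18),
  (⟨1, 0, 0, -1, 1, 1, 2, 0⟩, 13, 50),
  (⟨1, 0, 0, 1, -1, 1, 0, -2⟩, 12, 49),
  (⟨1, 0, 0, 1, -1, 1, 0, 2⟩, 9, 15),
  (⟨1, 0, 2, 1, 1, -1, 0, 0⟩, 8, 7),
  (⟨1, 1, -2, 0, -1, 0, 0, 1⟩, 11, 44),
  (⟨1, 1, 0, 0, 1, -2, 0, -1⟩, 10, 11),
  (⟨1, 1, 2, 0, -1, 0, 0, 1⟩, 12, 34),
  (⟨2, 0, -1, -1, 0, -1, -1, 0⟩, 12, 20),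
  (⟨2, 0, 1, 1, 0, 1, 1, 0⟩, 10, 8),
  (⟨2, 1, -1, 0, 0, 0, 1, -1⟩, 9, 43)]

def bucket76 : List (SQ × ℕ × ℕ) := [
  (⟨-2, -1, 1, -1, 1, 0, 0, 0⟩, 10, 77),
  (⟨-2, 0, -1, 0, 1, 1, 0, -1⟩, 8, 107),
  (⟨-2, 0, 1, 0, -1, -1, 0, 1⟩, 13, 110),
  (⟨-1, -1, 0, -1, 0, 0, 1, -2⟩, 13, 104),
  (⟨-1, -1, 0, 1, -2, 0, -1, 0⟩, 8, 102),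
  (⟨-1, -1, 0, 1, 2, 0, -1, 0⟩, 12, 83),
  (⟨-1, 0, -2, 0, 0, 1, 1, 1⟩, 13, 115),
  (⟨-1, 0, 0, -2, 0, -1, -1, 1⟩, 8, 111),
  (⟨-1, 0, 0, 0, -2, -1, 1, -1⟩, 11, 61),
  (⟨-1, 0, 0, 2, 0, -1, -1, 1⟩, 10, 105),
  (⟨-1, 0, 2, 0, 0, 1, 1, 1⟩, 9, 48),
  (⟨-1, 1, -2, -1, 0, 0, -1, 0⟩, 11, 96),
  (⟨-1, 1, 0, 1, 0, -2, 1, 0⟩, 9, 88),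
  (⟨-1, 1, 0, 1, 0, 2, 1, 0⟩, 10, 87),
  (⟨-1, 2, 0, 0, 0, 1, -1, -1⟩, 12, 92),
  (⟨0, -2, -1, 0, -1, 1, 0, 1⟩, 11, 86),
  (⟨0, -2, 1, 0, 1, -1, 0, -1⟩, 9, 75),
  (⟨0, -1, -1, -1, -1, 0, -2, 0⟩, 12, 118),
  (⟨0, -1, -1, -1, -1, 0, 2, 0⟩, 9, 117),
  (⟨0, -1, -1, 1, 1, 0, 0, -2⟩, 11, 114),
  (⟨0, -1, -1, 1, 1, 0, 0, 2⟩, 8, 113),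
  (⟨0, -1, 1, 1, -1, 2, 0, 0⟩, 13, 106),
  (⟨0, 0, -1, 0, 1, -1, 2, 1⟩, 10, 59),
  (⟨0, 0, -1, 2, -1, -1, 0, -1⟩, 12, 56),
  (⟨0, 0, 1, -2, 1, 1, 0, 1⟩, 12, 63),
  (⟨0, 0, 1, 0, -1, 1, -2, -1⟩, 10, 60),
  (⟨0, 1, -1, -1, 1, -2, 0, 0⟩, 13, 13),
  (⟨0, 1, 1, -1, -1, 0, 0, -2⟩, 8, 6),
  (⟨0, 1, 1, -1, -1, 0, 0, 2⟩, 11, 5),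
  (⟨0, 1, 1, 1, 1, 0, -2, 0⟩, 9, 2),
  (⟨0, 1, 1, 1, 1, 0, 2, 0⟩, 12, 1),
  (⟨0, 2, -1, 0, -1, 1, 0, 1⟩, 9, 44),
  (⟨0, 2, 1, 0, 1, -1, 0, -1⟩, 11, 33),
  (⟨1, -2, 0, 0, 0, -1, 1, 1⟩, 12, 27),
  (⟨1, -1, 0, -1, 0, -2, -1, 0⟩, 10, 32),
  (⟨1, -1, 0, -1, 0, 2, -1, 0⟩, 9, 31),
  (⟨1, -1, 2, 1, 0, 0, 1, 0⟩, 11, 23),
  (⟨1, 0, -2, 0, 0, -1, -1, -1⟩, 9, 71),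
  (⟨1, 0, 0, -2, 0, 1, 1, -1⟩, 10, 14),
  (⟨1, 0, 0, 0, 2, 1, -1, 1⟩, 11, 58),
  (⟨1, 0, 0, 2, 0, 1, 1, -1⟩, 8, 8),
  (⟨1, 0, 2, 0, 0, -1, -1, -1⟩, 13, 4),
  (⟨1, 1, 0, -1, -2, 0, 1, 0⟩, 12, 36),
  (⟨1, 1, 0, -1, 2, 0, 1, 0⟩, 8, 17),
  (⟨1, 1, 0, 1, 0, 0, -1, 2⟩, 13, 15),
  (⟨2, 0, -1, 0, 1, 1, 0, -1⟩, 13, 9),
  (⟨2, 0, 1, 0, -1, -1, 0, 1⟩, 8, 12),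
  (⟨2, 1, -1, 1, -1, 0, 0, 0⟩, 10, 42)]

def bucket77 : List (SQ × ℕ × ℕ) := [
  (⟨-3, 1, -1, 0, 0, 1, 0, 0⟩, 15, 119),
  (⟨-2, 0, -2, 1, -1, 0, -1, 1⟩, 18, 113),
  (⟨-2, 0, 2, -1, 1, 0, 1, -1⟩, 16, 99),
  (⟨-2, 1, -2, 0, 1, -1, -1, 0⟩, 17, 116),
  (⟨-2, 1, 0, 0, -1, 1, -1, 2⟩, 16, 93),
  (⟨-2, 1, 2, 0, 1, -1, -1, 0⟩, 18, 100),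
  (⟨-2, 2, 0, -1, 1, 0, -1, 1⟩, 19, 91),
  (⟨-2, 2, 0, 1, -1, 0, 1, -1⟩, 14, 94),
  (⟨-1, 0, -1, 1, -2, 0, 2, -1⟩, 16, 56),
  (⟨-1, 0, -1, 1, 2, 0, 2, -1⟩, 19, 54),
  (⟨-1, 0, 1, -1, -2, 2, 0, -1⟩, 18, 112),
  (⟨-1, 0, 1, -1, 2, -2, 0, -1⟩, 15, 47),
  (⟨-1, 0, 3, -1, 0, 0, 0, 1⟩, 14, 45),
  (⟨-1, 1, -1, 0, 0, -1, -2, 2⟩, 14, 110),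
  (⟨-1, 1, -1, 0, 0, -1, 2, -2⟩, 18, 109),
  (⟨-1, 1, -1, 2, 2, -1, 0, 0⟩, 16, 41),
  (⟨-1, 1, 1, 0, -2, 1, -2, 0⟩, 17, 40),
  (⟨-1, 1, 1, 0, -2, 1, 2, 0⟩, 19, 101),
  (⟨-1, 2, 1, -1, 0, 0, 2, -1⟩, 17, 95),
  (⟨0, -1, -2, 2, 1, -1, 1, 0⟩, 15, 68),
  (⟨0, -1, 0, 0, -3, 1, -1, 0⟩, 14, 82),
  (⟨0, -1, 2, -2, 1, -1, 1, 0⟩, 19, 77),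
  (⟨0, 0, -2, 1, -1, 2, 1, -1⟩, 17, 66),
  (⟨0, 0, 0, -1, -1, 0, 3, -1⟩, 15, 64),
  (⟨0, 0, 0, 1, 1, 0, -3, 1⟩, 15, 55),
  (⟨0, 0, 2, -1, 1, -2, -1, 1⟩, 17, 53),
  (⟨0, 1, -2, 2, -1, 1, -1, 0⟩, 19, 42),
  (⟨0, 1, 0, 0, 3, -1, 1, 0⟩, 14, 37),
  (⟨0, 1, 2, -2, -1, 1, -1, 0⟩, 15, 51),
  (⟨1, -2, -1, 1, 0, 0, -2, 1⟩, 17, 24),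
  (⟨1, -1, -1, 0, 2, -1, -2, 0⟩, 19, 18),
  (⟨1, -1, -1, 0, 2, -1, 2, 0⟩, 17, 79),
  (⟨1, -1, 1, -2, -2, 1, 0, 0⟩, 16, 78),
  (⟨1, -1, 1, 0, 0, 1, -2, 2⟩, 18, 10),
  (⟨1, -1, 1, 0, 0, 1, 2, -2⟩, 14, 9),
  (⟨1, 0, -3, 1, 0, 0, 0, -1⟩, 14, 74),
  (⟨1, 0, -1, 1, -2, 2, 0, 1⟩, 15, 72),
  (⟨1, 0, -1, 1, 2, -2, 0, 1⟩, 18, 7),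
  (⟨1, 0, 1, -1, -2, 0, -2, 1⟩, 19, 65),
  (⟨1, 0, 1, -1, 2, 0, -2, 1⟩, 16, 63),
  (⟨2, -2, 0, -1, 1, 0, -1, 1⟩, 14, 25),
  (⟨2, -2, 0, 1, -1, 0, 1, -1⟩, 19, 28),
  (⟨2, -1, -2, 0, -1, 1, 1, 0⟩, 18, 19),
  (⟨2, -1, 0, 0, 1, -1, 1, -2⟩, 16, 26),
  (⟨2, -1, 2, 0, -1, 1, 1, 0⟩, 17, 3),
  (⟨2, 0, -2, 1, -1, 0, -1, 1⟩, 16, 20),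
  (⟨2, 0, 2, -1, 1, 0, 1, -1⟩, 18, 6),
  (⟨3, -1, 1, 0, 0, -1, 0, 0⟩, 15, 0)]

def bucket78 : List (SQ × ℕ × ℕ) := [
  (⟨-3, 1, -1, 0, 0, -1, 0, 0⟩, 14, 119),
  (⟨-2, 0, -2, 1, 1, 0, 1, -1⟩, 18, 115),
  (⟨-2, 0, 2, -1, -1, 0, -1, 1⟩, 17, 102),
  (⟨-2, 1, -2, 0, -1, 1, 1, 0⟩, 16, 117),
  (⟨-2, 1, 0, 0, 1, -1, 1, -2⟩, 17, 92),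
  (⟨-2, 1, 2, 0, -1, 1, 1, 0⟩, 18, 87),
  (⟨-2, 2, 0, -1, -1, 0, 1, -1⟩, 19, 95),
  (⟨-2, 2, 0, 1, 1, 0, -1, 1⟩, 15, 91),
  (⟨-1, 0, -1, 1, -2, 0, -2, 1⟩, 19, 118),
  (⟨-1, 0, -1, 1, 2, 0, -2, 1⟩, 17, 55),
  (⟨-1, 0, 1, -1, -2, 2, 0, 1⟩, 14, 48),
  (⟨-1, 0, 1, -1, 2, -2, 0, 1⟩, 18, 46),
  (⟨-1, 0, 3, -1, 0, 0, 0, -1⟩, 15, 45),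
  (⟨-1, 1, -1, 0, 0, 1, -2, 2⟩, 18, 44),
  (⟨-1, 1, -1, 0, 0, 1, 2, -2⟩, 15, 107),
  (⟨-1, 1, -1, 2, -2, 1, 0, 0⟩, 17, 42),
  (⟨-1, 1, 1, 0, 2, -1, -2, 0⟩, 19, 38),
  (⟨-1, 1, 1, 0, 2, -1, 2, 0⟩, 16, 37),
  (⟨-1, 2, 1, -1, 0, 0, -2, 1⟩, 16, 96),
  (⟨0, -1, -2, 2, -1, 1, -1, 0⟩, 14, 67),
  (⟨0, -1, 0, 0, 3, -1, 1, 0⟩, 15, 79),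
  (⟨0, -1, 2, -2, -1, 1, -1, 0⟩, 19, 51),
  (⟨0, 0, -2, 1, 1, -2, -1, 1⟩, 16, 69),
  (⟨0, 0, 0, -1, 1, 0, -3, 1⟩, 14, 63),
  (⟨0, 0, 0, 1, -1, 0, 3, -1⟩, 14, 56),
  (⟨0, 0, 2, -1, -1, 2, 1, -1⟩, 16, 50),
  (⟨0, 1, -2, 2, 1, -1, 1, 0⟩, 19, 68),
  (⟨0, 1, 0, 0, -3, 1, -1, 0⟩, 15, 40),
  (⟨0, 1, 2, -2, 1, -1, 1, 0⟩, 14, 52),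
  (⟨1, -2, -1, 1, 0, 0, 2, -1⟩, 16, 23),
  (⟨1, -1, -1, 0, -2, 1, -2, 0⟩, 16, 82),
  (⟨1, -1, -1, 0, -2, 1, 2, 0⟩, 19, 81),
  (⟨1, -1, 1, -2, 2, -1, 0, 0⟩, 17, 77),
  (⟨1, -1, 1, 0, 0, -1, -2, 2⟩, 15, 12),
  (⟨1, -1, 1, 0, 0, -1, 2, -2⟩, 18, 75),
  (⟨1, 0, -3, 1, 0, 0, 0, 1⟩, 15, 74),
  (⟨1, 0, -1, 1, -2, 2, 0, -1⟩, 18, 73),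
  (⟨1, 0, -1, 1, 2, -2, 0, -1⟩, 14, 71),
  (⟨1, 0, 1, -1, -2, 0, 2, -1⟩, 17, 64),
  (⟨1, 0, 1, -1, 2, 0, 2, -1⟩, 19, 1),
  (⟨2, -2, 0, -1, -1, 0, 1, -1⟩, 15, 28),
  (⟨2, -2, 0, 1, 1, 0, -1, 1⟩, 19, 24),
  (⟨2, -1, -2, 0, 1, -1, -1, 0⟩, 18, 32),
  (⟨2, -1, 0, 0, -1, 1, -1, 2⟩, 17, 27),
  (⟨2, -1, 2, 0, 1, -1, -1, 0⟩, 16, 2),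
  (⟨2, 0, -2, 1, 1, 0, 1, -1⟩, 17, 17),
  (⟨2, 0, 2, -1, -1, 0, -1, 1⟩, 18, 4),
  (⟨3, -1, 1, 0, 0, 1, 0, 0⟩, 14, 0)]

def bucket79 : List (SQ × ℕ × ℕ) := [
  (⟨-2, 0, -2, 2, 0, 0, 0, 0⟩, 19, 114),
  (⟨-2, 0, 0, 0, -2, 2, 0, 0⟩, 17, 106),
  (⟨-2, 0, 0, 0, 0, 0, -2, 2⟩, 15, 110),
  (⟨-2, 0, 0, 0, 0, 0, 2, -2⟩, 14, 107),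
  (⟨-2, 0, 0, 0, 2, -2, 0, 0⟩, 16, 105),
  (⟨-2, 0, 2, -2, 0, 0, 0, 0⟩, 18, 103),
  (⟨-2, 2, -2, 0, 0, 0, 0, 0⟩, 18, 98),
  (⟨-2, 2, 0, 0, -2, 0, 0, 0⟩, 16, 94),
  (⟨-2, 2, 0, 0, 0, 0, -2, 0⟩, 14, 96),
  (⟨-2, 2, 0, 0, 0, 0, 2, 0⟩, 15, 95),
  (⟨-2, 2, 0, 0, 2, 0, 0, 0⟩, 17, 91),
  (⟨-2, 2, 2, 0, 0, 0, 0, 0⟩, 19, 88),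
  (⟨0, 0, -2, 0, -2, 2, 0, 0⟩, 14, 72),
  (⟨0, 0, -2, 0, 0, 0, -2, 2⟩, 17, 86),
  (⟨0, 0, -2, 0, 0, 0, 2, -2⟩, 16, 85),
  (⟨0, 0, -2, 0, 2, -2, 0, 0⟩, 15, 71),
  (⟨0, 0, -2, 2, -2, 0, 0, 0⟩, 15, 42),
  (⟨0, 0, -2, 2, 0, 0, -2, 0⟩, 16, 67),
  (⟨0, 0, -2, 2, 0, 0, 2, 0⟩, 17, 68),
  (⟨0, 0, -2, 2, 2, 0, 0, 0⟩, 14, 41),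
  (⟨0, 0, 0, 0, -2, 0, -2, 2⟩, 18, 57),
  (⟨0, 0, 0, 0, -2, 0, 2, -2⟩, 19, 64),
  (⟨0, 0, 0, 0, -2, 2, -2, 0⟩, 19, 40),
  (⟨0, 0, 0, 0, -2, 2, 2, 0⟩, 18, 39),
  (⟨0, 0, 0, 0, 2, -2, -2, 0⟩, 18, 80),
  (⟨0, 0, 0, 0, 2, -2, 2, 0⟩, 19, 79),
  (⟨0, 0, 0, 0, 2, 0, -2, 2⟩, 19, 55),
  (⟨0, 0, 0, 0, 2, 0, 2, -2⟩, 18, 62),
  (⟨0, 0, 2, -2, -2, 0, 0, 0⟩, 14, 78),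
  (⟨0, 0, 2, -2, 0, 0, -2, 0⟩, 17, 51),
  (⟨0, 0, 2, -2, 0, 0, 2, 0⟩, 16, 52),
  (⟨0, 0, 2, -2, 2, 0, 0, 0⟩, 15, 77),
  (⟨0, 0, 2, 0, -2, 2, 0, 0⟩, 15, 48),
  (⟨0, 0, 2, 0, 0, 0, -2, 2⟩, 16, 34),
  (⟨0, 0, 2, 0, 0, 0, 2, -2⟩, 17, 33),
  (⟨0, 0, 2, 0, 2, -2, 0, 0⟩, 14, 47),
  (⟨2, -2, -2, 0, 0, 0, 0, 0⟩, 19, 31),
  (⟨2, -2, 0, 0, -2, 0, 0, 0⟩, 17, 28),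
  (⟨2, -2, 0, 0, 0, 0, -2, 0⟩, 15, 24),
  (⟨2, -2, 0, 0, 0, 0, 2, 0⟩, 14, 23),
  (⟨2, -2, 0, 0, 2, 0, 0, 0⟩, 16, 25),
  (⟨2, -2, 2, 0, 0, 0, 0, 0⟩, 18, 21),
  (⟨2, 0, -2, 2, 0, 0, 0, 0⟩, 18, 16),
  (⟨2, 0, 0, 0, -2, 2, 0, 0⟩, 16, 14),
  (⟨2, 0, 0, 0, 0, 0, -2, 2⟩, 14, 12),
  (⟨2, 0, 0, 0, 0, 0, 2, -2⟩, 15, 9),
  (⟨2, 0, 0, 0, 2, -2, 0, 0⟩, 17, 13),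
  (⟨2, 0, 2, -2, 0, 0, 0, 0⟩, 19, 5)]

def bucket80 : List (SQ × ℕ × ℕ) := [
  (⟨-3, 1, 0, 1, 0, 0, 1, 0⟩, 16, 89),
  (⟨-2, 0, -1, 0, 1, -1, 2, -1⟩, 15, 109),
  (⟨-2, 0, 1, 0, -1, 1, -2, 1⟩, 18, 108),
  (⟨-2, 1, -1, 1, 1, -2, 0, 0⟩, 18, 105),
  (⟨-2, 1, 1, -1, 1, 0, -2, 0⟩, 15, 100),
  (⟨-2, 1, 1, -1, 1, 0, 2, 0⟩, 19, 99),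
  (⟨-2, 2, -1, 0, -1, 1, 0, -1⟩, 17, 97),
  (⟨-2, 2, 1, 0, 1, -1, 0, 1⟩, 14, 88),
  (⟨-1, 0, -2, 0, -2, 1, 1, -1⟩, 18, 117),
  (⟨-1, 0, -2, 2, 0, 1, -1, 1⟩, 15, 113),
  (⟨-1, 0, 0, 0, 0, -1, -3, 1⟩, 17, 60),
  (⟨-1, 0, 2, -2, 0, 1, -1, 1⟩, 16, 103),
  (⟨-1, 0, 2, 0, -2, 1, 1, -1⟩, 14, 49),
  (⟨-1, 1, -2, 1, -2, 0, -1, 0⟩, 14, 118),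
  (⟨-1, 1, -2, 1, 2, 0, -1, 0⟩, 19, 41),
  (⟨-1, 1, 0, -1, -2, 2, 1, 0⟩, 15, 112),
  (⟨-1, 1, 0, -1, 2, -2, 1, 0⟩, 17, 111),
  (⟨-1, 1, 2, -1, 0, 0, 1, -2⟩, 18, 104),
  (⟨-1, 2, 0, 0, -2, 1, -1, 1⟩, 19, 93),
  (⟨0, -1, -3, 1, 1, 0, 0, 0⟩, 17, 83),
  (⟨0, -1, 1, -1, -1, 0, -2, 2⟩, 14, 76),
  (⟨0, -1, 1, -1, -1, 0, 2, -2⟩, 16, 75),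
  (⟨0, 0, -1, 0, -3, 1, 0, 1⟩, 16, 61),
  (⟨0, 0, -1, 2, -1, 1, 2, -1⟩, 19, 56),
  (⟨0, 0, 1, -2, 1, -1, -2, 1⟩, 19, 63),
  (⟨0, 0, 1, 0, 3, -1, 0, -1⟩, 16, 58),
  (⟨0, 1, -1, 1, 1, 0, -2, 2⟩, 16, 44),
  (⟨0, 1, -1, 1, 1, 0, 2, -2⟩, 14, 43),
  (⟨0, 1, 3, -1, -1, 0, 0, 0⟩, 17, 36),
  (⟨1, -2, 0, 0, 2, -1, 1, -1⟩, 19, 26),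
  (⟨1, -1, -2, 1, 0, 0, -1, 2⟩, 18, 15),
  (⟨1, -1, 0, 1, -2, 2, -1, 0⟩, 17, 8),
  (⟨1, -1, 0, 1, 2, -2, -1, 0⟩, 15, 7),
  (⟨1, -1, 2, -1, -2, 0, 1, 0⟩, 19, 78),
  (⟨1, -1, 2, -1, 2, 0, 1, 0⟩, 14, 1),
  (⟨1, 0, -2, 0, 2, -1, -1, 1⟩, 14, 70),
  (⟨1, 0, -2, 2, 0, -1, 1, -1⟩, 16, 16),
  (⟨1, 0, 0, 0, 0, 1, 3, -1⟩, 17, 59),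
  (⟨1, 0, 2, -2, 0, -1, 1, -1⟩, 15, 6),
  (⟨1, 0, 2, 0, 2, -1, -1, 1⟩, 18, 2),
  (⟨2, -2, -1, 0, -1, 1, 0, -1⟩, 14, 31),
  (⟨2, -2, 1, 0, 1, -1, 0, 1⟩, 17, 22),
  (⟨2, -1, -1, 1, -1, 0, -2, 0⟩, 19, 20),
  (⟨2, -1, -1, 1, -1, 0, 2, 0⟩, 15, 19),
  (⟨2, -1, 1, -1, -1, 2, 0, 0⟩, 18, 14),
  (⟨2, 0, -1, 0, 1, -1, 2, -1⟩, 18, 11),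
  (⟨2, 0, 1, 0, -1, 1, -2, 1⟩, 15, 10),
  (⟨3, -1, 0, -1, 0, 0, -1, 0⟩, 16, 30)]

def bucket81 : List (SQ × ℕ × ℕ) := [
  (⟨-3, 1, 0, 0, -1, 0, 0, -1⟩, 18, 119),
  (⟨-2, 0, -1, 1, 2, -1, -1, 0⟩, 15, 105),
  (⟨-2, 0, 1, -1, -2, 1, 1, 0⟩, 16, 101),
  (⟨-2, 1, 1, -2, 0, 0, 1, -1⟩, 15, 104),
  (⟨-2, 1, 1, 0, -2, 0, -1, 1⟩, 14, 102),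
  (⟨-2, 1, 1, 0, 2, 0, -1, 1⟩, 16, 91),
  (⟨-2, 2, -1, 1, 0, 1, 1, 0⟩, 19, 89),
  (⟨-2, 2, 1, -1, 0, -1, -1, 0⟩, 17, 96),
  (⟨-1, 0, -2, 1, -1, 1, -2, 0⟩, 17, 67),
  (⟨-1, 0, -2, 1, -1, 1, 2, 0⟩, 15, 117),
  (⟨-1, 0, 0, -1, 3, -1, 0, 0⟩, 19, 58),
  (⟨-1, 0, 0, 1, 1, -1, -2, 2⟩, 18, 55),
  (⟨-1, 0, 0, 1, 1, -1, 2, -2⟩, 16, 54),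
  (⟨-1, 1, -2, 0, 1, 0, 2, -1⟩, 17, 115),
  (⟨-1, 1, -2, 2, -1, 0, 0, 1⟩, 16, 42),
  (⟨-1, 1, 0, 0, -1, 2, -2, 1⟩, 15, 108),
  (⟨-1, 1, 2, -2, -1, 0, 0, 1⟩, 19, 103),
  (⟨-1, 1, 2, 0, 1, 0, 2, -1⟩, 14, 33),
  (⟨-1, 2, -2, 1, 1, -1, 0, 0⟩, 14, 98),
  (⟨0, -1, -1, 0, -2, 2, -1, 1⟩, 18, 72),
  (⟨0, -1, -1, 0, 2, -2, -1, 1⟩, 17, 80),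
  (⟨0, -1, 1, 0, 0, 0, 3, -1⟩, 19, 75),
  (⟨0, 0, -3, 1, 0, -1, 1, 0⟩, 18, 68),
  (⟨0, 0, -1, 1, -2, 1, 1, -2⟩, 14, 73),
  (⟨0, 0, 1, -1, 2, -1, -1, 2⟩, 14, 46),
  (⟨0, 0, 3, -1, 0, 1, -1, 0⟩, 18, 51),
  (⟨0, 1, -1, 0, 0, 0, -3, 1⟩, 19, 44),
  (⟨0, 1, 1, 0, -2, 2, 1, -1⟩, 17, 39),
  (⟨0, 1, 1, 0, 2, -2, 1, -1⟩, 18, 47),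
  (⟨1, -2, 2, -1, -1, 1, 0, 0⟩, 14, 21),
  (⟨1, -1, -2, 0, -1, 0, -2, 1⟩, 14, 86),
  (⟨1, -1, -2, 2, 1, 0, 0, -1⟩, 19, 16),
  (⟨1, -1, 0, 0, 1, -2, 2, -1⟩, 15, 11),
  (⟨1, -1, 2, -2, 1, 0, 0, -1⟩, 16, 77),
  (⟨1, -1, 2, 0, -1, 0, -2, 1⟩, 17, 4),
  (⟨1, 0, 0, -1, -1, 1, -2, 2⟩, 16, 65),
  (⟨1, 0, 0, -1, -1, 1, 2, -2⟩, 18, 64),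
  (⟨1, 0, 0, 1, -3, 1, 0, 0⟩, 19, 61),
  (⟨1, 0, 2, -1, 1, -1, -2, 0⟩, 15, 2),
  (⟨1, 0, 2, -1, 1, -1, 2, 0⟩, 17, 52),
  (⟨2, -2, -1, 1, 0, 1, 1, 0⟩, 17, 23),
  (⟨2, -2, 1, -1, 0, -1, -1, 0⟩, 19, 30),
  (⟨2, -1, -1, 0, -2, 0, 1, -1⟩, 16, 28),
  (⟨2, -1, -1, 0, 2, 0, 1, -1⟩, 14, 17),
  (⟨2, -1, -1, 2, 0, 0, -1, 1⟩, 15, 15),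
  (⟨2, 0, -1, 1, 2, -1, -1, 0⟩, 16, 18),
  (⟨2, 0, 1, -1, -2, 1, 1, 0⟩, 15, 14),
  (⟨3, -1, 0, 0, 1, 0, 0, 1⟩, 18, 0)]

def bucket82 : List (SQ × ℕ × ℕ) := [
  (⟨-3, 1, 0, 0, -1, 0, 0, 1⟩, 19, 119),
  (⟨-2, 0, -1, 1, -2, 1, -1, 0⟩, 16, 106),
  (⟨-2, 0, 1, -1, 2, -1, 1, 0⟩, 14, 99),
  (⟨-2, 1, -1, 0, -2, 0, 1, -1⟩, 15, 94),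
  (⟨-2, 1, -1, 0, 2, 0, 1, -1⟩, 16, 115),
  (⟨-2, 1, -1, 2, 0, 0, -1, 1⟩, 14, 90),
  (⟨-2, 2, -1, 1, 0, -1, 1, 0⟩, 17, 98),
  (⟨-2, 2, 1, -1, 0, 1, -1, 0⟩, 18, 96),
  (⟨-1, 0, 0, -1, 1, -1, -2, 2⟩, 16, 110),
  (⟨-1, 0, 0, -1, 1, -1, 2, -2⟩, 19, 62),
  (⟨-1, 0, 0, 1, 3, -1, 0, 0⟩, 18, 58),
  (⟨-1, 0, 2, -1, -1, 1, -2, 0⟩, 14, 51),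
  (⟨-1, 0, 2, -1, -1, 1, 2, 0⟩, 17, 101),
  (⟨-1, 1, -2, 0, 1, 0, -2, 1⟩, 15, 116),
  (⟨-1, 1, -2, 2, -1, 0, 0, -1⟩, 18, 114),
  (⟨-1, 1, 0, 0, -1, 2, 2, -1⟩, 14, 39),
  (⟨-1, 1, 2, -2, -1, 0, 0, -1⟩, 16, 104),
  (⟨-1, 1, 2, 0, 1, 0, -2, 1⟩, 17, 34),
  (⟨-1, 2, 2, -1, 1, -1, 0, 0⟩, 15, 35),
  (⟨0, -1, -1, 0, 0, 0, -3, 1⟩, 18, 86),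
  (⟨0, -1, 1, 0, -2, 2, 1, -1⟩, 19, 49),
  (⟨0, -1, 1, 0, 2, -2, 1, -1⟩, 17, 47),
  (⟨0, 0, -3, 1, 0, 1, 1, 0⟩, 19, 66),
  (⟨0, 0, -1, 1, 2, -1, 1, -2⟩, 15, 54),
  (⟨0, 0, 1, -1, -2, 1, -1, 2⟩, 15, 65),
  (⟨0, 0, 3, -1, 0, -1, -1, 0⟩, 19, 53),
  (⟨0, 1, -1, 0, -2, 2, -1, 1⟩, 17, 72),
  (⟨0, 1, -1, 0, 2, -2, -1, 1⟩, 19, 70),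
  (⟨0, 1, 1, 0, 0, 0, 3, -1⟩, 18, 33),
  (⟨1, -2, -2, 1, -1, 1, 0, 0⟩, 15, 84),
  (⟨1, -1, -2, 0, -1, 0, 2, -1⟩, 17, 85),
  (⟨1, -1, -2, 2, 1, 0, 0, 1⟩, 16, 15),
  (⟨1, -1, 0, 0, 1, -2, -2, 1⟩, 14, 80),
  (⟨1, -1, 2, -2, 1, 0, 0, 1⟩, 18, 5),
  (⟨1, -1, 2, 0, -1, 0, 2, -1⟩, 15, 3),
  (⟨1, 0, -2, 1, 1, -1, -2, 0⟩, 17, 18),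
  (⟨1, 0, -2, 1, 1, -1, 2, 0⟩, 14, 68),
  (⟨1, 0, 0, -1, -3, 1, 0, 0⟩, 18, 61),
  (⟨1, 0, 0, 1, -1, 1, -2, 2⟩, 19, 57),
  (⟨1, 0, 0, 1, -1, 1, 2, -2⟩, 16, 9),
  (⟨2, -2, -1, 1, 0, -1, 1, 0⟩, 18, 23),
  (⟨2, -2, 1, -1, 0, 1, -1, 0⟩, 17, 21),
  (⟨2, -1, 1, -2, 0, 0, 1, -1⟩, 14, 29),
  (⟨2, -1, 1, 0, -2, 0, -1, 1⟩, 16, 4),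
  (⟨2, -1, 1, 0, 2, 0, -1, 1⟩, 15, 25),
  (⟨2, 0, -1, 1, -2, 1, -1, 0⟩, 14, 20),
  (⟨2, 0, 1, -1, 2, -1, 1, 0⟩, 16, 13),
  (⟨3, -1, 0, 0, 1, 0, 0, -1⟩, 19, 0)]

def bucket83 : List (SQ × ℕ × ℕ) := [
  (⟨-3, 1, 0, -1, 0, 0, 1, 0⟩, 17, 119),
  (⟨-2, 0, -1, 0, 1, -1, -2, 1⟩, 19, 116),
  (⟨-2, 0, 1, 0, -1, 1, 2, -1⟩, 15, 101),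
  (⟨-2, 1, -1, 1, -1, 0, -2, 0⟩, 15, 90),
  (⟨-2, 1, -1, 1, -1, 0, 2, 0⟩, 18, 89),
  (⟨-2, 1, 1, -1, -1, 2, 0, 0⟩, 19, 87),
  (⟨-2, 2, -1, 0, -1, 1, 0, 1⟩, 14, 93),
  (⟨-2, 2, 1, 0, 1, -1, 0, -1⟩, 16, 92),
  (⟨-1, 0, -2, 0, 2, -1, 1, -1⟩, 14, 115),
  (⟨-1, 0, -2, 2, 0, -1, -1, 1⟩, 17, 69),
  (⟨-1, 0, 0, 0, 0, 1, -3, 1⟩, 16, 108),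
  (⟨-1, 0, 2, -2, 0, -1, -1, 1⟩, 15, 53),
  (⟨-1, 0, 2, 0, 2, -1, 1, -1⟩, 19, 47),
  (⟨-1, 1, -2, 1, 0, 0, 1, -2⟩, 19, 43),
  (⟨-1, 1, 0, 1, -2, 2, 1, 0⟩, 16, 39),
  (⟨-1, 1, 0, 1, 2, -2, 1, 0⟩, 15, 37),
  (⟨-1, 1, 2, -1, -2, 0, -1, 0⟩, 18, 102),
  (⟨-1, 1, 2, -1, 2, 0, -1, 0⟩, 14, 35),
  (⟨-1, 2, 0, 0, 2, -1, -1, 1⟩, 18, 38),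
  (⟨0, -1, -1, 1, 1, 0, -2, 2⟩, 14, 55),
  (⟨0, -1, -1, 1, 1, 0, 2, -2⟩, 17, 54),
  (⟨0, -1, 3, -1, -1, 0, 0, 0⟩, 16, 45),
  (⟨0, 0, -1, 0, -3, 1, 0, -1⟩, 17, 73),
  (⟨0, 0, -1, 2, -1, 1, -2, 1⟩, 18, 67),
  (⟨0, 0, 1, -2, 1, -1, 2, -1⟩, 18, 52),
  (⟨0, 0, 1, 0, 3, -1, 0, 1⟩, 17, 46),
  (⟨0, 1, -3, 1, 1, 0, 0, 0⟩, 16, 74),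
  (⟨0, 1, 1, -1, -1, 0, -2, 2⟩, 17, 65),
  (⟨0, 1, 1, -1, -1, 0, 2, -2⟩, 14, 64),
  (⟨1, -2, 0, 0, -2, 1, 1, -1⟩, 18, 81),
  (⟨1, -1, -2, 1, -2, 0, 1, 0⟩, 14, 84),
  (⟨1, -1, -2, 1, 2, 0, 1, 0⟩, 18, 17),
  (⟨1, -1, 0, -1, -2, 2, -1, 0⟩, 15, 82),
  (⟨1, -1, 0, -1, 2, -2, -1, 0⟩, 16, 80),
  (⟨1, -1, 2, -1, 0, 0, -1, 2⟩, 19, 76),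
  (⟨1, 0, -2, 0, -2, 1, -1, 1⟩, 19, 72),
  (⟨1, 0, -2, 2, 0, 1, 1, -1⟩, 15, 66),
  (⟨1, 0, 0, 0, 0, -1, 3, -1⟩, 16, 11),
  (⟨1, 0, 2, -2, 0, 1, 1, -1⟩, 17, 50),
  (⟨1, 0, 2, 0, -2, 1, -1, 1⟩, 14, 4),
  (⟨2, -2, -1, 0, -1, 1, 0, 1⟩, 16, 27),
  (⟨2, -2, 1, 0, 1, -1, 0, -1⟩, 14, 26),
  (⟨2, -1, -1, 1, 1, -2, 0, 0⟩, 19, 32),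
  (⟨2, -1, 1, -1, 1, 0, -2, 0⟩, 18, 30),
  (⟨2, -1, 1, -1, 1, 0, 2, 0⟩, 15, 29),
  (⟨2, 0, -1, 0, 1, -1, -2, 1⟩, 15, 18),
  (⟨2, 0, 1, 0, -1, 1, 2, -1⟩, 19, 3),
  (⟨3, -1, 0, 1, 0, 0, -1, 0⟩, 17, 0)]

def bucket84 : List (SQ × ℕ × ℕ) := [
  (⟨-2, 1, -2, 1, 0, -1, 0, 1⟩, 15, 98),
  (⟨-2, 1, -2, 1, 0, 1, 0, -1⟩, 14, 97),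
  (⟨-2, 1, 0, -1, -2, 1, 0, 1⟩, 18, 93),
  (⟨-2, 1, 0, -1, 0, -1, 2, -1⟩, 16, 109),
  (⟨-2, 1, 0, -1, 0, 1, -2, 1⟩, 17, 108),
  (⟨-2, 1, 0, -1, 2, -1, 0, -1⟩, 18, 111),
  (⟨-2, 1, 0, 1, -2, 1, 0, -1⟩, 19, 94),
  (⟨-2, 1, 0, 1, 0, -1, -2, 1⟩, 16, 90),
  (⟨-2, 1, 0, 1, 0, 1, 2, -1⟩, 17, 89),
  (⟨-2, 1, 0, 1, 2, -1, 0, 1⟩, 19, 105),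
  (⟨-2, 1, 2, -1, 0, -1, 0, -1⟩, 14, 104),
  (⟨-2, 1, 2, -1, 0, 1, 0, 1⟩, 15, 103),
  (⟨0, -1, -2, 1, -2, 1, 0, 1⟩, 17, 84),
  (⟨0, -1, -2, 1, 0, -1, 2, -1⟩, 19, 85),
  (⟨0, -1, -2, 1, 0, 1, -2, 1⟩, 19, 67),
  (⟨0, -1, -2, 1, 2, -1, 0, -1⟩, 16, 83),
  (⟨0, -1, 0, -1, -2, 1, 2, -1⟩, 14, 81),
  (⟨0, -1, 0, -1, 2, -1, -2, 1⟩, 15, 80),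
  (⟨0, -1, 0, 1, -2, 1, -2, 1⟩, 15, 57),
  (⟨0, -1, 0, 1, 2, -1, 2, -1⟩, 14, 54),
  (⟨0, -1, 2, -1, -2, 1, 0, -1⟩, 17, 49),
  (⟨0, -1, 2, -1, 0, -1, -2, 1⟩, 18, 76),
  (⟨0, -1, 2, -1, 0, 1, 2, -1⟩, 18, 50),
  (⟨0, -1, 2, -1, 2, -1, 0, 1⟩, 16, 46),
  (⟨0, 1, -2, 1, -2, 1, 0, -1⟩, 16, 73),
  (⟨0, 1, -2, 1, 0, -1, -2, 1⟩, 18, 69),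
  (⟨0, 1, -2, 1, 0, 1, 2, -1⟩, 18, 43),
  (⟨0, 1, -2, 1, 2, -1, 0, 1⟩, 17, 70),
  (⟨0, 1, 0, -1, -2, 1, -2, 1⟩, 14, 65),
  (⟨0, 1, 0, -1, 2, -1, 2, -1⟩, 15, 62),
  (⟨0, 1, 0, 1, -2, 1, 2, -1⟩, 15, 39),
  (⟨0, 1, 0, 1, 2, -1, -2, 1⟩, 14, 38),
  (⟨0, 1, 2, -1, -2, 1, 0, 1⟩, 16, 36),
  (⟨0, 1, 2, -1, 0, -1, 2, -1⟩, 19, 52),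
  (⟨0, 1, 2, -1, 0, 1, -2, 1⟩, 19, 34),
  (⟨0, 1, 2, -1, 2, -1, 0, -1⟩, 17, 35),
  (⟨2, -1, -2, 1, 0, -1, 0, -1⟩, 15, 16),
  (⟨2, -1, -2, 1, 0, 1, 0, 1⟩, 14, 15),
  (⟨2, -1, 0, -1, -2, 1, 0, -1⟩, 19, 14),
  (⟨2, -1, 0, -1, 0, -1, -2, 1⟩, 17, 30),
  (⟨2, -1, 0, -1, 0, 1, 2, -1⟩, 16, 29),
  (⟨2, -1, 0, -1, 2, -1, 0, 1⟩, 19, 25),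
  (⟨2, -1, 0, 1, -2, 1, 0, 1⟩, 18, 8),
  (⟨2, -1, 0, 1, 0, -1, 2, -1⟩, 17, 11),
  (⟨2, -1, 0, 1, 0, 1, -2, 1⟩, 16, 10),
  (⟨2, -1, 0, 1, 2, -1, 0, -1⟩, 18, 26),
  (⟨2, -1, 2, -1, 0, -1, 0, 1⟩, 14, 22),
  (⟨2, -1, 2, -1, 0, 1, 0, -1⟩, 15, 21)]

def bucket85 : List (SQ × ℕ × ℕ) := [
  (⟨-3, 1, 1, 0, 0, 1, 0, 0⟩, 14, 87),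
  (⟨-2, 0, -2, 1, 1, 0, -1, 1⟩, 16, 113),
  (⟨-2, 0, 2, -1, -1, 0, 1, -1⟩, 19, 104),
  (⟨-2, 1, -2, 0, 1, -1, 1, 0⟩, 19, 115),
  (⟨-2, 1, 0, 0, -1, 1, 1, -2⟩, 16, 107),
  (⟨-2, 1, 2, 0, 1, -1, 1, 0⟩, 17, 88),
  (⟨-2, 2, 0, -1, -1, 0, -1, 1⟩, 15, 96),
  (⟨-2, 2, 0, 1, 1, 0, 1, -1⟩, 18, 92),
  (⟨-1, 0, -3, 1, 0, 0, 0, -1⟩, 15, 114),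
  (⟨-1, 0, -1, 1, -2, 2, 0, 1⟩, 19, 106),
  (⟨-1, 0, -1, 1, 2, -2, 0, 1⟩, 14, 105),
  (⟨-1, 0, 1, -1, -2, 0, -2, 1⟩, 16, 102),
  (⟨-1, 0, 1, -1, 2, 0, -2, 1⟩, 18, 63),
  (⟨-1, 1, -1, 0, -2, 1, -2, 0⟩, 18, 118),
  (⟨-1, 1, -1, 0, -2, 1, 2, 0⟩, 17, 117),
  (⟨-1, 1, 1, -2, 2, -1, 0, 0⟩, 16, 111),
  (⟨-1, 1, 1, 0, 0, -1, -2, 2⟩, 19, 110),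
  (⟨-1, 1, 1, 0, 0, -1, 2, -2⟩, 15, 33),
  (⟨-1, 2, -1, 1, 0, 0, -2, 1⟩, 17, 44),
  (⟨0, -1, -2, 2, 1, -1, -1, 0⟩, 18, 83),
  (⟨0, -1, 0, 0, -3, 1, 1, 0⟩, 15, 61),
  (⟨0, -1, 2, -2, 1, -1, -1, 0⟩, 14, 77),
  (⟨0, 0, -2, 1, 1, -2, 1, -1⟩, 17, 71),
  (⟨0, 0, 0, -1, 1, 0, 3, -1⟩, 14, 59),
  (⟨0, 0, 0, 1, -1, 0, -3, 1⟩, 14, 60),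
  (⟨0, 0, 2, -1, -1, 2, -1, 1⟩, 17, 48),
  (⟨0, 1, -2, 2, -1, 1, 1, 0⟩, 14, 42),
  (⟨0, 1, 0, 0, 3, -1, -1, 0⟩, 15, 58),
  (⟨0, 1, 2, -2, -1, 1, 1, 0⟩, 18, 36),
  (⟨1, -2, 1, -1, 0, 0, 2, -1⟩, 17, 75),
  (⟨1, -1, -1, 0, 0, 1, -2, 2⟩, 15, 86),
  (⟨1, -1, -1, 0, 0, 1, 2, -2⟩, 19, 9),
  (⟨1, -1, -1, 2, -2, 1, 0, 0⟩, 16, 8),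
  (⟨1, -1, 1, 0, 2, -1, -2, 0⟩, 17, 2),
  (⟨1, -1, 1, 0, 2, -1, 2, 0⟩, 18, 1),
  (⟨1, 0, -1, 1, -2, 0, 2, -1⟩, 18, 56),
  (⟨1, 0, -1, 1, 2, 0, 2, -1⟩, 16, 17),
  (⟨1, 0, 1, -1, -2, 2, 0, -1⟩, 14, 14),
  (⟨1, 0, 1, -1, 2, -2, 0, -1⟩, 19, 13),
  (⟨1, 0, 3, -1, 0, 0, 0, 1⟩, 15, 5),
  (⟨2, -2, 0, -1, -1, 0, -1, 1⟩, 18, 27),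
  (⟨2, -2, 0, 1, 1, 0, 1, -1⟩, 15, 23),
  (⟨2, -1, -2, 0, -1, 1, -1, 0⟩, 17, 31),
  (⟨2, -1, 0, 0, 1, -1, -1, 2⟩, 16, 12),
  (⟨2, -1, 2, 0, -1, 1, -1, 0⟩, 19, 4),
  (⟨2, 0, -2, 1, 1, 0, -1, 1⟩, 19, 15),
  (⟨2, 0, 2, -1, -1, 0, 1, -1⟩, 16, 6),
  (⟨3, -1, -1, 0, 0, -1, 0, 0⟩, 14, 32)]

def bucket86 : List (SQ × ℕ × ℕ) := [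
  (⟨-3, 1, 1, 0, 0, -1, 0, 0⟩, 15, 88),
  (⟨-2, 0, -2, 1, -1, 0, 1, -1⟩, 17, 114),
  (⟨-2, 0, 2, -1, 1, 0, -1, 1⟩, 19, 100),
  (⟨-2, 1, -2, 0, -1, 1, -1, 0⟩, 19, 97),
  (⟨-2, 1, 0, 0, 1, -1, -1, 2⟩, 17, 110),
  (⟨-2, 1, 2, 0, -1, 1, -1, 0⟩, 16, 87),
  (⟨-2, 2, 0, -1, 1, 0, 1, -1⟩, 14, 95),
  (⟨-2, 2, 0, 1, -1, 0, -1, 1⟩, 18, 90),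
  (⟨-1, 0, -3, 1, 0, 0, 0, 1⟩, 14, 113),
  (⟨-1, 0, -1, 1, -2, 2, 0, -1⟩, 15, 106),
  (⟨-1, 0, -1, 1, 2, -2, 0, -1⟩, 19, 71),
  (⟨-1, 0, 1, -1, -2, 0, 2, -1⟩, 18, 101),
  (⟨-1, 0, 1, -1, 2, 0, 2, -1⟩, 17, 99),
  (⟨-1, 1, -1, 0, 2, -1, -2, 0⟩, 16, 116),
  (⟨-1, 1, -1, 0, 2, -1, 2, 0⟩, 18, 37),
  (⟨-1, 1, 1, -2, -2, 1, 0, 0⟩, 17, 112),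
  (⟨-1, 1, 1, 0, 0, 1, -2, 2⟩, 14, 34),
  (⟨-1, 1, 1, 0, 0, 1, 2, -2⟩, 19, 33),
  (⟨-1, 2, -1, 1, 0, 0, 2, -1⟩, 16, 43),
  (⟨0, -1, -2, 2, -1, 1, 1, 0⟩, 18, 66),
  (⟨0, -1, 0, 0, 3, -1, -1, 0⟩, 14, 58),
  (⟨0, -1, 2, -2, -1, 1, 1, 0⟩, 15, 78),
  (⟨0, 0, -2, 1, -1, 2, -1, 1⟩, 16, 72),
  (⟨0, 0, 0, -1, -1, 0, -3, 1⟩, 15, 60),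
  (⟨0, 0, 0, 1, 1, 0, 3, -1⟩, 15, 59),
  (⟨0, 0, 2, -1, 1, -2, 1, -1⟩, 16, 47),
  (⟨0, 1, -2, 2, 1, -1, -1, 0⟩, 15, 41),
  (⟨0, 1, 0, 0, -3, 1, 1, 0⟩, 14, 61),
  (⟨0, 1, 2, -2, 1, -1, -1, 0⟩, 18, 53),
  (⟨1, -2, 1, -1, 0, 0, -2, 1⟩, 16, 76),
  (⟨1, -1, -1, 0, 0, -1, -2, 2⟩, 19, 86),
  (⟨1, -1, -1, 0, 0, -1, 2, -2⟩, 14, 85),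
  (⟨1, -1, -1, 2, 2, -1, 0, 0⟩, 17, 7),
  (⟨1, -1, 1, 0, -2, 1, -2, 0⟩, 18, 82),
  (⟨1, -1, 1, 0, -2, 1, 2, 0⟩, 16, 3),
  (⟨1, 0, -1, 1, -2, 0, -2, 1⟩, 17, 20),
  (⟨1, 0, -1, 1, 2, 0, -2, 1⟩, 18, 18),
  (⟨1, 0, 1, -1, -2, 2, 0, 1⟩, 19, 48),
  (⟨1, 0, 1, -1, 2, -2, 0, 1⟩, 15, 13),
  (⟨1, 0, 3, -1, 0, 0, 0, -1⟩, 14, 6),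
  (⟨2, -2, 0, -1, 1, 0, 1, -1⟩, 18, 29),
  (⟨2, -2, 0, 1, -1, 0, -1, 1⟩, 14, 24),
  (⟨2, -1, -2, 0, 1, -1, 1, 0⟩, 16, 32),
  (⟨2, -1, 0, 0, -1, 1, 1, -2⟩, 17, 9),
  (⟨2, -1, 2, 0, 1, -1, 1, 0⟩, 19, 22),
  (⟨2, 0, -2, 1, -1, 0, 1, -1⟩, 19, 19),
  (⟨2, 0, 2, -1, 1, 0, -1, 1⟩, 17, 5),
  (⟨3, -1, -1, 0, 0, 1, 0, 0⟩, 15, 31)]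

def bucket87 : List (SQ × ℕ × ℕ) := [
  (⟨-2, 1, -2, 1, 0, -1, 0, -1⟩, 16, 114),
  (⟨-2, 1, -2, 1, 0, 1, 0, 1⟩, 17, 113),
  (⟨-2, 1, 0, -1, -2, 1, 0, -1⟩, 14, 112),
  (⟨-2, 1, 0, -1, 0, -1, -2, 1⟩, 18, 110),
  (⟨-2, 1, 0, -1, 0, 1, 2, -1⟩, 18, 95),
  (⟨-2, 1, 0, -1, 2, -1, 0, 1⟩, 15, 111),
  (⟨-2, 1, 0, 1, -2, 1, 0, 1⟩, 15, 93),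
  (⟨-2, 1, 0, 1, 0, -1, 2, -1⟩, 19, 109),
  (⟨-2, 1, 0, 1, 0, 1, -2, 1⟩, 19, 90),
  (⟨-2, 1, 0, 1, 2, -1, 0, -1⟩, 14, 92),
  (⟨-2, 1, 2, -1, 0, -1, 0, 1⟩, 16, 88),
  (⟨-2, 1, 2, -1, 0, 1, 0, -1⟩, 17, 87),
  (⟨0, -1, -2, 1, -2, 1, 0, -1⟩, 19, 73),
  (⟨0, -1, -2, 1, 0, -1, -2, 1⟩, 15, 69),
  (⟨0, -1, -2, 1, 0, 1, 2, -1⟩, 14, 66),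
  (⟨0, -1, -2, 1, 2, -1, 0, 1⟩, 19, 83),
  (⟨0, -1, 0, -1, -2, 1, -2, 1⟩, 17, 82),
  (⟨0, -1, 0, -1, 2, -1, 2, -1⟩, 16, 79),
  (⟨0, -1, 0, 1, -2, 1, 2, -1⟩, 17, 56),
  (⟨0, -1, 0, 1, 2, -1, -2, 1⟩, 16, 55),
  (⟨0, -1, 2, -1, -2, 1, 0, 1⟩, 18, 48),
  (⟨0, -1, 2, -1, 0, -1, 2, -1⟩, 14, 75),
  (⟨0, -1, 2, -1, 0, 1, -2, 1⟩, 15, 76),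
  (⟨0, -1, 2, -1, 2, -1, 0, -1⟩, 18, 77),
  (⟨0, 1, -2, 1, -2, 1, 0, 1⟩, 18, 42),
  (⟨0, 1, -2, 1, 0, -1, 2, -1⟩, 15, 43),
  (⟨0, 1, -2, 1, 0, 1, -2, 1⟩, 14, 44),
  (⟨0, 1, -2, 1, 2, -1, 0, -1⟩, 18, 71),
  (⟨0, 1, 0, -1, -2, 1, 2, -1⟩, 16, 64),
  (⟨0, 1, 0, -1, 2, -1, -2, 1⟩, 17, 63),
  (⟨0, 1, 0, 1, -2, 1, -2, 1⟩, 16, 40),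
  (⟨0, 1, 0, 1, 2, -1, 2, -1⟩, 17, 37),
  (⟨0, 1, 2, -1, -2, 1, 0, -1⟩, 19, 36),
  (⟨0, 1, 2, -1, 0, -1, -2, 1⟩, 14, 53),
  (⟨0, 1, 2, -1, 0, 1, 2, -1⟩, 15, 50),
  (⟨0, 1, 2, -1, 2, -1, 0, 1⟩, 19, 46),
  (⟨2, -1, -2, 1, 0, -1, 0, 1⟩, 17, 32),
  (⟨2, -1, -2, 1, 0, 1, 0, -1⟩, 16, 31),
  (⟨2, -1, 0, -1, -2, 1, 0, 1⟩, 14, 27),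
  (⟨2, -1, 0, -1, 0, -1, 2, -1⟩, 19, 29),
  (⟨2, -1, 0, -1, 0, 1, -2, 1⟩, 19, 10),
  (⟨2, -1, 0, -1, 2, -1, 0, -1⟩, 15, 26),
  (⟨2, -1, 0, 1, -2, 1, 0, -1⟩, 15, 8),
  (⟨2, -1, 0, 1, 0, -1, -2, 1⟩, 18, 24),
  (⟨2, -1, 0, 1, 0, 1, 2, -1⟩, 18, 9),
  (⟨2, -1, 0, 1, 2, -1, 0, 1⟩, 14, 7),
  (⟨2, -1, 2, -1, 0, -1, 0, -1⟩, 17, 6),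
  (⟨2, -1, 2, -1, 0, 1, 0, 1⟩, 16, 5)]

def bucket88 : List (SQ × ℕ × ℕ) := [
  (⟨-3, 1, 0, 1, 0, 0, -1, 0⟩, 17, 90),
  (⟨-2, 0, -1, 0, -1, 1, -2, 1⟩, 14, 108),
  (⟨-2, 0, 1, 0, 1, -1, 2, -1⟩, 18, 99),
  (⟨-2, 1, -1, 1, -1, 2, 0, 0⟩, 18, 97),
  (⟨-2, 1, 1, -1, -1, 0, -2, 0⟩, 19, 96),
  (⟨-2, 1, 1, -1, -1, 0, 2, 0⟩, 14, 101),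
  (⟨-2, 2, -1, 0, 1, -1, 0, 1⟩, 16, 98),
  (⟨-2, 2, 1, 0, -1, 1, 0, -1⟩, 15, 87),
  (⟨-1, 0, -2, 0, 2, -1, -1, 1⟩, 18, 70),
  (⟨-1, 0, -2, 2, 0, -1, 1, -1⟩, 14, 114),
  (⟨-1, 0, 0, 0, 0, 1, 3, -1⟩, 16, 59),
  (⟨-1, 0, 2, -2, 0, -1, 1, -1⟩, 17, 104),
  (⟨-1, 0, 2, 0, 2, -1, -1, 1⟩, 15, 46),
  (⟨-1, 1, -2, 1, -2, 0, 1, 0⟩, 19, 117),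
  (⟨-1, 1, -2, 1, 2, 0, 1, 0⟩, 15, 115),
  (⟨-1, 1, 0, -1, -2, 2, -1, 0⟩, 16, 112),
  (⟨-1, 1, 0, -1, 2, -2, -1, 0⟩, 14, 111),
  (⟨-1, 1, 2, -1, 0, 0, -1, 2⟩, 18, 34),
  (⟨-1, 2, 0, 0, 2, -1, 1, -1⟩, 19, 37),
  (⟨0, -1, -3, 1, -1, 0, 0, 0⟩, 16, 84),
  (⟨0, -1, 1, -1, 1, 0, -2, 2⟩, 17, 76),
  (⟨0, -1, 1, -1, 1, 0, 2, -2⟩, 15, 75),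
  (⟨0, 0, -1, 0, 3, -1, 0, -1⟩, 17, 58),
  (⟨0, 0, -1, 2, 1, -1, -2, 1⟩, 19, 69),
  (⟨0, 0, 1, -2, -1, 1, 2, -1⟩, 19, 50),
  (⟨0, 0, 1, 0, -3, 1, 0, 1⟩, 17, 61),
  (⟨0, 1, -1, 1, -1, 0, -2, 2⟩, 15, 44),
  (⟨0, 1, -1, 1, -1, 0, 2, -2⟩, 17, 43),
  (⟨0, 1, 3, -1, 1, 0, 0, 0⟩, 16, 35),
  (⟨1, -2, 0, 0, -2, 1, -1, 1⟩, 19, 82),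
  (⟨1, -1, -2, 1, 0, 0, 1, -2⟩, 18, 85),
  (⟨1, -1, 0, 1, -2, 2, 1, 0⟩, 14, 8),
  (⟨1, -1, 0, 1, 2, -2, 1, 0⟩, 16, 7),
  (⟨1, -1, 2, -1, -2, 0, -1, 0⟩, 15, 4),
  (⟨1, -1, 2, -1, 2, 0, -1, 0⟩, 19, 2),
  (⟨1, 0, -2, 0, -2, 1, 1, -1⟩, 15, 73),
  (⟨1, 0, -2, 2, 0, 1, -1, 1⟩, 17, 15),
  (⟨1, 0, 0, 0, 0, -1, -3, 1⟩, 16, 60),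
  (⟨1, 0, 2, -2, 0, 1, -1, 1⟩, 14, 5),
  (⟨1, 0, 2, 0, -2, 1, 1, -1⟩, 18, 49),
  (⟨2, -2, -1, 0, 1, -1, 0, 1⟩, 15, 32),
  (⟨2, -2, 1, 0, -1, 1, 0, -1⟩, 16, 21),
  (⟨2, -1, -1, 1, 1, 0, -2, 0⟩, 14, 18),
  (⟨2, -1, -1, 1, 1, 0, 2, 0⟩, 19, 23),
  (⟨2, -1, 1, -1, 1, -2, 0, 0⟩, 18, 22),
  (⟨2, 0, -1, 0, -1, 1, -2, 1⟩, 18, 20),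
  (⟨2, 0, 1, 0, 1, -1, 2, -1⟩, 14, 11),
  (⟨3, -1, 0, -1, 0, 0, 1, 0⟩, 17, 29)]

def bucket89 : List (SQ × ℕ × ℕ) := [
  (⟨-3, 1, 0, 0, 1, 0, 0, -1⟩, 19, 92),
  (⟨-2, 0, -1, 1, 2, -1, 1, 0⟩, 17, 105),
  (⟨-2, 0, 1, -1, -2, 1, -1, 0⟩, 15, 102),
  (⟨-2, 1, -1, 0, -2, 0, -1, 1⟩, 17, 118),
  (⟨-2, 1, -1, 0, 2, 0, -1, 1⟩, 14, 91),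
  (⟨-2, 1, -1, 2, 0, 0, 1, -1⟩, 15, 89),
  (⟨-2, 2, -1, 1, 0, 1, -1, 0⟩, 16, 97),
  (⟨-2, 2, 1, -1, 0, -1, 1, 0⟩, 18, 88),
  (⟨-1, 0, 0, -1, -1, 1, -2, 2⟩, 19, 108),
  (⟨-1, 0, 0, -1, -1, 1, 2, -2⟩, 17, 107),
  (⟨-1, 0, 0, 1, -3, 1, 0, 0⟩, 18, 106),
  (⟨-1, 0, 2, -1, 1, -1, -2, 0⟩, 16, 100),
  (⟨-1, 0, 2, -1, 1, -1, 2, 0⟩, 15, 52),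
  (⟨-1, 1, -2, 0, -1, 0, 2, -1⟩, 14, 117),
  (⟨-1, 1, -2, 2, 1, 0, 0, 1⟩, 18, 41),
  (⟨-1, 1, 0, 0, 1, -2, -2, 1⟩, 15, 38),
  (⟨-1, 1, 2, -2, 1, 0, 0, 1⟩, 17, 103),
  (⟨-1, 1, 2, 0, -1, 0, 2, -1⟩, 16, 33),
  (⟨-1, 2, 2, -1, -1, 1, 0, 0⟩, 14, 36),
  (⟨0, -1, -1, 0, 0, 0, 3, -1⟩, 18, 59),
  (⟨0, -1, 1, 0, -2, 2, -1, 1⟩, 16, 48),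
  (⟨0, -1, 1, 0, 2, -2, -1, 1⟩, 19, 80),
  (⟨0, 0, -3, 1, 0, -1, -1, 0⟩, 19, 74),
  (⟨0, 0, -1, 1, -2, 1, -1, 2⟩, 14, 57),
  (⟨0, 0, 1, -1, 2, -1, 1, -2⟩, 14, 62),
  (⟨0, 0, 3, -1, 0, 1, 1, 0⟩, 19, 45),
  (⟨0, 1, -1, 0, -2, 2, 1, -1⟩, 19, 39),
  (⟨0, 1, -1, 0, 2, -2, 1, -1⟩, 16, 71),
  (⟨0, 1, 1, 0, 0, 0, -3, 1⟩, 18, 60),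
  (⟨1, -2, -2, 1, 1, -1, 0, 0⟩, 14, 83),
  (⟨1, -1, -2, 0, 1, 0, -2, 1⟩, 16, 86),
  (⟨1, -1, -2, 2, -1, 0, 0, -1⟩, 17, 16),
  (⟨1, -1, 0, 0, -1, 2, 2, -1⟩, 15, 81),
  (⟨1, -1, 2, -2, -1, 0, 0, -1⟩, 18, 78),
  (⟨1, -1, 2, 0, 1, 0, -2, 1⟩, 14, 2),
  (⟨1, 0, -2, 1, -1, 1, -2, 0⟩, 15, 67),
  (⟨1, 0, -2, 1, -1, 1, 2, 0⟩, 16, 19),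
  (⟨1, 0, 0, -1, 3, -1, 0, 0⟩, 18, 13),
  (⟨1, 0, 0, 1, 1, -1, -2, 2⟩, 17, 12),
  (⟨1, 0, 0, 1, 1, -1, 2, -2⟩, 19, 11),
  (⟨2, -2, -1, 1, 0, 1, -1, 0⟩, 18, 31),
  (⟨2, -2, 1, -1, 0, -1, 1, 0⟩, 16, 22),
  (⟨2, -1, 1, -2, 0, 0, -1, 1⟩, 15, 30),
  (⟨2, -1, 1, 0, -2, 0, 1, -1⟩, 14, 28),
  (⟨2, -1, 1, 0, 2, 0, 1, -1⟩, 17, 1),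
  (⟨2, 0, -1, 1, 2, -1, 1, 0⟩, 15, 17),
  (⟨2, 0, 1, -1, -2, 1, -1, 0⟩, 17, 14),
  (⟨3, -1, 0, 0, -1, 0, 0, 1⟩, 19, 27)]

def bucket90 : List (SQ × ℕ × ℕ) := [
  (⟨-3, 1, 0, 0, 1, 0, 0, 1⟩, 18, 91),
  (⟨-2, 0, -1, 1, -2, 1, 1, 0⟩, 14, 106),
  (⟨-2, 0, 1, -1, 2, -1, -1, 0⟩, 17, 100),
  (⟨-2, 1, 1, -2, 0, 0, -1, 1⟩, 14, 103),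
  (⟨-2, 1, 1, 0, -2, 0, 1, -1⟩, 17, 94),
  (⟨-2, 1, 1, 0, 2, 0, 1, -1⟩, 15, 99),
  (⟨-2, 2, -1, 1, 0, -1, -1, 0⟩, 19, 98),
  (⟨-2, 2, 1, -1, 0, 1, 1, 0⟩, 16, 95),
  (⟨-1, 0, -2, 1, 1, -1, -2, 0⟩, 14, 116),
  (⟨-1, 0, -2, 1, 1, -1, 2, 0⟩, 16, 68),
  (⟨-1, 0, 0, -1, -3, 1, 0, 0⟩, 19, 112),
  (⟨-1, 0, 0, 1, -1, 1, -2, 2⟩, 17, 57),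
  (⟨-1, 0, 0, 1, -1, 1, 2, -2⟩, 18, 107),
  (⟨-1, 1, -2, 0, -1, 0, -2, 1⟩, 16, 118),
  (⟨-1, 1, -2, 2, 1, 0, 0, -1⟩, 17, 41),
  (⟨-1, 1, 0, 0, 1, -2, 2, -1⟩, 14, 109),
  (⟨-1, 1, 2, -2, 1, 0, 0, -1⟩, 19, 35),
  (⟨-1, 1, 2, 0, -1, 0, -2, 1⟩, 15, 34),
  (⟨-1, 2, -2, 1, -1, 1, 0, 0⟩, 15, 97),
  (⟨0, -1, -1, 0, -2, 2, 1, -1⟩, 16, 81),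
  (⟨0, -1, -1, 0, 2, -2, 1, -1⟩, 18, 79),
  (⟨0, -1, 1, 0, 0, 0, -3, 1⟩, 19, 60),
  (⟨0, 0, -3, 1, 0, 1, -1, 0⟩, 18, 74),
  (⟨0, 0, -1, 1, 2, -1, -1, 2⟩, 15, 70),
  (⟨0, 0, 1, -1, -2, 1, 1, -2⟩, 15, 49),
  (⟨0, 0, 3, -1, 0, -1, 1, 0⟩, 18, 45),
  (⟨0, 1, -1, 0, 0, 0, 3, -1⟩, 19, 59),
  (⟨0, 1, 1, 0, -2, 2, -1, 1⟩, 18, 40),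
  (⟨0, 1, 1, 0, 2, -2, -1, 1⟩, 16, 38),
  (⟨1, -2, 2, -1, 1, -1, 0, 0⟩, 15, 22),
  (⟨1, -1, -2, 0, 1, 0, 2, -1⟩, 15, 85),
  (⟨1, -1, -2, 2, -1, 0, 0, 1⟩, 19, 84),
  (⟨1, -1, 0, 0, -1, 2, -2, 1⟩, 14, 10),
  (⟨1, -1, 2, -2, -1, 0, 0, 1⟩, 17, 78),
  (⟨1, -1, 2, 0, 1, 0, 2, -1⟩, 16, 1),
  (⟨1, 0, 0, -1, 1, -1, -2, 2⟩, 18, 12),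
  (⟨1, 0, 0, -1, 1, -1, 2, -2⟩, 17, 62),
  (⟨1, 0, 0, 1, 3, -1, 0, 0⟩, 19, 7),
  (⟨1, 0, 2, -1, -1, 1, -2, 0⟩, 16, 51),
  (⟨1, 0, 2, -1, -1, 1, 2, 0⟩, 14, 3),
  (⟨2, -2, -1, 1, 0, -1, -1, 0⟩, 16, 24),
  (⟨2, -2, 1, -1, 0, 1, 1, 0⟩, 19, 21),
  (⟨2, -1, -1, 0, -2, 0, -1, 1⟩, 15, 20),
  (⟨2, -1, -1, 0, 2, 0, -1, 1⟩, 17, 25),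
  (⟨2, -1, -1, 2, 0, 0, 1, -1⟩, 14, 16),
  (⟨2, 0, -1, 1, -2, 1, 1, 0⟩, 17, 19),
  (⟨2, 0, 1, -1, 2, -1, -1, 0⟩, 14, 13),
  (⟨3, -1, 0, 0, -1, 0, 0, -1⟩, 18, 28)]

def bucket91 : List (SQ × ℕ × ℕ) := [
  (⟨-3, 1, 0, -1, 0, 0, -1, 0⟩, 16, 119),
  (⟨-2, 0, -1, 0, -1, 1, 2, -1⟩, 19, 107),
  (⟨-2, 0, 1, 0, 1, -1, -2, 1⟩, 14, 100),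
  (⟨-2, 1, -1, 1, 1, 0, -2, 0⟩, 18, 116),
  (⟨-2, 1, -1, 1, 1, 0, 2, 0⟩, 14, 89),
  (⟨-2, 1, 1, -1, 1, -2, 0, 0⟩, 19, 111),
  (⟨-2, 2, -1, 0, 1, -1, 0, -1⟩, 15, 92),
  (⟨-2, 2, 1, 0, -1, 1, 0, 1⟩, 17, 93),
  (⟨-1, 0, -2, 0, -2, 1, -1, 1⟩, 15, 118),
  (⟨-1, 0, -2, 2, 0, 1, 1, -1⟩, 16, 66),
  (⟨-1, 0, 0, 0, 0, -1, 3, -1⟩, 17, 109),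
  (⟨-1, 0, 2, -2, 0, 1, 1, -1⟩, 14, 50),
  (⟨-1, 0, 2, 0, -2, 1, -1, 1⟩, 19, 102),
  (⟨-1, 1, -2, 1, 0, 0, -1, 2⟩, 19, 113),
  (⟨-1, 1, 0, 1, -2, 2, -1, 0⟩, 14, 40),
  (⟨-1, 1, 0, 1, 2, -2, -1, 0⟩, 17, 38),
  (⟨-1, 1, 2, -1, -2, 0, 1, 0⟩, 15, 36),
  (⟨-1, 1, 2, -1, 2, 0, 1, 0⟩, 18, 35),
  (⟨-1, 2, 0, 0, -2, 1, 1, -1⟩, 18, 94),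
  (⟨0, -1, -1, 1, -1, 0, -2, 2⟩, 16, 57),
  (⟨0, -1, -1, 1, -1, 0, 2, -2⟩, 15, 56),
  (⟨0, -1, 3, -1, 1, 0, 0, 0⟩, 17, 45),
  (⟨0, 0, -1, 0, 3, -1, 0, 1⟩, 16, 70),
  (⟨0, 0, -1, 2, 1, -1, 2, -1⟩, 18, 54),
  (⟨0, 0, 1, -2, -1, 1, -2, 1⟩, 18, 65),
  (⟨0, 0, 1, 0, -3, 1, 0, -1⟩, 16, 49),
  (⟨0, 1, -3, 1, -1, 0, 0, 0⟩, 17, 74),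
  (⟨0, 1, 1, -1, 1, 0, -2, 2⟩, 15, 63),
  (⟨0, 1, 1, -1, 1, 0, 2, -2⟩, 16, 62),
  (⟨1, -2, 0, 0, 2, -1, -1, 1⟩, 18, 25),
  (⟨1, -1, -2, 1, -2, 0, -1, 0⟩, 18, 84),
  (⟨1, -1, -2, 1, 2, 0, -1, 0⟩, 15, 83),
  (⟨1, -1, 0, -1, -2, 2, 1, 0⟩, 17, 81),
  (⟨1, -1, 0, -1, 2, -2, 1, 0⟩, 14, 79),
  (⟨1, -1, 2, -1, 0, 0, 1, -2⟩, 19, 6),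
  (⟨1, 0, -2, 0, 2, -1, 1, -1⟩, 19, 17),
  (⟨1, 0, -2, 2, 0, -1, -1, 1⟩, 14, 69),
  (⟨1, 0, 0, 0, 0, 1, -3, 1⟩, 17, 10),
  (⟨1, 0, 2, -2, 0, -1, -1, 1⟩, 16, 53),
  (⟨1, 0, 2, 0, 2, -1, 1, -1⟩, 15, 1),
  (⟨2, -2, -1, 0, 1, -1, 0, -1⟩, 17, 26),
  (⟨2, -2, 1, 0, -1, 1, 0, 1⟩, 15, 27),
  (⟨2, -1, -1, 1, -1, 2, 0, 0⟩, 19, 8),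
  (⟨2, -1, 1, -1, -1, 0, -2, 0⟩, 14, 30),
  (⟨2, -1, 1, -1, -1, 0, 2, 0⟩, 18, 3),
  (⟨2, 0, -1, 0, -1, 1, 2, -1⟩, 14, 19),
  (⟨2, 0, 1, 0, 1, -1, -2, 1⟩, 19, 12),
  (⟨3, -1, 0, 1, 0, 0, 1, 0⟩, 16, 0)]

def bucket92 : List (SQ × ℕ × ℕ) := [
  (⟨-3, 0, 1, -1, 0, 0, 0, 1⟩, 24, 103),
  (⟨-2, 0, -2, 1, 1, 0, 1, 1⟩, 27, 113),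
  (⟨-2, 0, 0, -1, 1, -2, -1, 1⟩, 25, 111),
  (⟨-2, 0, 0, 1, -1, 2, 1, -1⟩, 23, 106),
  (⟨-2, 0, 2, -1, -1, 0, -1, -1⟩, 28, 104),
  (⟨-2, 1, -2, 0, -1, -1, 1, 0⟩, 28, 117),
  (⟨-2, 1, 0, -2, -1, 1, -1, 0⟩, 27, 112),
  (⟨-2, 1, 0, 0, 1, 1, 1, -2⟩, 22, 107),
  (⟨-2, 1, 0, 2, -1, 1, -1, 0⟩, 21, 90),
  (⟨-2, 1, 2, 0, -1, -1, 1, 0⟩, 26, 88),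
  (⟨-2, 2, 0, -1, -1, 0, 1, 1⟩, 29, 93),
  (⟨-2, 2, 0, 1, 1, 0, -1, -1⟩, 20, 92),
  (⟨-1, -1, -1, 0, 0, 1, -2, 2⟩, 28, 108),
  (⟨-1, -1, -1, 0, 0, 1, 2, -2⟩, 21, 107),
  (⟨-1, -1, -1, 2, -2, 1, 0, 0⟩, 20, 106),
  (⟨-1, -1, 1, 0, 2, -1, -2, 0⟩, 27, 100),
  (⟨-1, -1, 1, 0, 2, -1, 2, 0⟩, 29, 99),
  (⟨-1, 0, -1, -1, -2, 0, -2, 1⟩, 26, 118),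
  (⟨-1, 0, -1, -1, 2, 0, -2, 1⟩, 29, 63),
  (⟨-1, 0, 1, -1, 0, -2, 2, -1⟩, 27, 109),
  (⟨-1, 0, 1, -1, 0, 2, 2, -1⟩, 20, 50),
  (⟨-1, 0, 1, 1, -2, 2, 0, 1⟩, 22, 48),
  (⟨-1, 0, 1, 1, 2, -2, 0, 1⟩, 28, 105),
  (⟨-1, 1, -3, 0, 0, 1, 0, 0⟩, 25, 97),
  (⟨-1, 1, -1, 0, 2, -1, 0, -2⟩, 23, 92),
  (⟨-1, 1, -1, 0, 2, -1, 0, 2⟩, 26, 70),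
  (⟨-1, 1, -1, 2, 0, -1, -2, 0⟩, 22, 90),
  (⟨-1, 1, -1, 2, 0, -1, 2, 0⟩, 24, 89),
  (⟨-1, 2, 1, -1, -2, 0, 0, -1⟩, 25, 36),
  (⟨-1, 2, 1, -1, 2, 0, 0, -1⟩, 21, 35),
  (⟨-1, 2, 1, 1, 0, 0, -2, 1⟩, 23, 34),
  (⟨0, -2, -2, 1, -1, 0, 1, -1⟩, 22, 84),
  (⟨0, -2, 2, -1, 1, 0, -1, 1⟩, 26, 76),
  (⟨0, -1, -2, 0, 1, -1, 1, -2⟩, 20, 85),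
  (⟨0, -1, -2, 2, -1, -1, -1, 0⟩, 23, 69),
  (⟨0, -1, 0, 0, -1, 1, -3, 0⟩, 25, 60),
  (⟨0, -1, 2, -2, -1, -1, -1, 0⟩, 29, 78),
  (⟨0, -1, 2, 0, 1, -1, 1, -2⟩, 24, 75),
  (⟨0, 0, -2, 1, 1, -2, -1, -1⟩, 21, 71),
  (⟨0, 0, 0, -1, -3, 0, 1, -1⟩, 24, 61),
  (⟨0, 0, 0, 1, 3, 0, -1, 1⟩, 24, 58),
  (⟨0, 0, 2, -1, -1, 2, 1, 1⟩, 21, 48),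
  (⟨0, 1, -2, 0, -1, 1, -1, 2⟩, 24, 44),
  (⟨0, 1, -2, 2, 1, 1, 1, 0⟩, 29, 41),
  (⟨0, 1, 0, 0, 1, -1, 3, 0⟩, 25, 59),
  (⟨0, 1, 2, -2, 1, 1, 1, 0⟩, 23, 50),
  (⟨0, 1, 2, 0, -1, 1, -1, 2⟩, 20, 34),
  (⟨0, 2, -2, 1, -1, 0, 1, -1⟩, 26, 43),
  (⟨0, 2, 2, -1, 1, 0, -1, 1⟩, 22, 35),
  (⟨1, -2, -1, -1, 0, 0, 2, -1⟩, 23, 85),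
  (⟨1, -2, -1, 1, -2, 0, 0, 1⟩, 21, 84),
  (⟨1, -2, -1, 1, 2, 0, 0, 1⟩, 25, 83),
  (⟨1, -1, 1, -2, 0, 1, -2, 0⟩, 24, 30),
  (⟨1, -1, 1, -2, 0, 1, 2, 0⟩, 22, 29),
  (⟨1, -1, 1, 0, -2, 1, 0, -2⟩, 26, 49),
  (⟨1, -1, 1, 0, -2, 1, 0, 2⟩, 23, 27),
  (⟨1, -1, 3, 0, 0, -1, 0, 0⟩, 25, 22),
  (⟨1, 0, -1, -1, -2, 2, 0, -1⟩, 28, 14),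
  (⟨1, 0, -1, -1, 2, -2, 0, -1⟩, 22, 71),
  (⟨1, 0, -1, 1, 0, -2, -2, 1⟩, 20, 69),
  (⟨1, 0, -1, 1, 0, 2, -2, 1⟩, 27, 10),
  (⟨1, 0, 1, 1, -2, 0, 2, -1⟩, 29, 56),
  (⟨1, 0, 1, 1, 2, 0, 2, -1⟩, 26, 1),
  (⟨1, 1, -1, 0, -2, 1, -2, 0⟩, 29, 20),
  (⟨1, 1, -1, 0, -2, 1, 2, 0⟩, 27, 19),
  (⟨1, 1, 1, -2, 2, -1, 0, 0⟩, 20, 13),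
  (⟨1, 1, 1, 0, 0, -1, -2, 2⟩, 21, 12),
  (⟨1, 1, 1, 0, 0, -1, 2, -2⟩, 28, 11),
  (⟨2, -2, 0, -1, -1, 0, 1, 1⟩, 20, 27),
  (⟨2, -2, 0, 1, 1, 0, -1, -1⟩, 29, 26),
  (⟨2, -1, -2, 0, 1, 1, -1, 0⟩, 26, 31),
  (⟨2, -1, 0, -2, 1, -1, 1, 0⟩, 21, 29),
  (⟨2, -1, 0, 0, -1, -1, -1, 2⟩, 22, 12),
  (⟨2, -1, 0, 2, 1, -1, 1, 0⟩, 27, 7),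
  (⟨2, -1, 2, 0, 1, 1, -1, 0⟩, 28, 2),
  (⟨2, 0, -2, 1, 1, 0, 1, 1⟩, 28, 15),
  (⟨2, 0, 0, -1, 1, -2, -1, 1⟩, 23, 13),
  (⟨2, 0, 0, 1, -1, 2, 1, -1⟩, 25, 8),
  (⟨2, 0, 2, -1, -1, 0, -1, -1⟩, 27, 6),
  (⟨3, 0, -1, 1, 0, 0, 0, -1⟩, 24, 16)]

def bucket93 : List (SQ × ℕ × ℕ) := [
  (⟨-3, 0, 1, -1, 0, 0, 0, -1⟩, 25, 104),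
  (⟨-2, 0, -2, 1, -1, 0, -1, -1⟩, 26, 114),
  (⟨-2, 0, 0, -1, -1, 2, 1, -1⟩, 24, 112),
  (⟨-2, 0, 0, 1, 1, -2, -1, 1⟩, 20, 105),
  (⟨-2, 0, 2, -1, 1, 0, 1, 1⟩, 28, 99),
  (⟨-2, 1, -2, 0, 1, 1, -1, 0⟩, 28, 97),
  (⟨-2, 1, 0, -2, 1, -1, 1, 0⟩, 26, 111),
  (⟨-2, 1, 0, 0, -1, -1, -1, 2⟩, 21, 110),
  (⟨-2, 1, 0, 2, 1, -1, 1, 0⟩, 22, 89),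
  (⟨-2, 1, 2, 0, 1, 1, -1, 0⟩, 27, 87),
  (⟨-2, 2, 0, -1, 1, 0, -1, -1⟩, 29, 96),
  (⟨-2, 2, 0, 1, -1, 0, 1, 1⟩, 23, 93),
  (⟨-1, -1, -1, 0, 0, -1, -2, 2⟩, 22, 110),
  (⟨-1, -1, -1, 0, 0, -1, 2, -2⟩, 28, 85),
  (⟨-1, -1, -1, 2, 2, -1, 0, 0⟩, 23, 105),
  (⟨-1, -1, 1, 0, -2, 1, -2, 0⟩, 29, 82),
  (⟨-1, -1, 1, 0, -2, 1, 2, 0⟩, 26, 101),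
  (⟨-1, 0, -1, -1, -2, 0, 2, -1⟩, 29, 117),
  (⟨-1, 0, -1, -1, 2, 0, 2, -1⟩, 27, 115),
  (⟨-1, 0, 1, -1, 0, -2, -2, 1⟩, 23, 53),
  (⟨-1, 0, 1, -1, 0, 2, -2, 1⟩, 26, 108),
  (⟨-1, 0, 1, 1, -2, 2, 0, -1⟩, 28, 49),
  (⟨-1, 0, 1, 1, 2, -2, 0, -1⟩, 21, 47),
  (⟨-1, 1, -3, 0, 0, -1, 0, 0⟩, 24, 98),
  (⟨-1, 1, -1, 0, -2, 1, 0, -2⟩, 27, 73),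
  (⟨-1, 1, -1, 0, -2, 1, 0, 2⟩, 20, 93),
  (⟨-1, 1, -1, 2, 0, 1, -2, 0⟩, 25, 90),
  (⟨-1, 1, -1, 2, 0, 1, 2, 0⟩, 21, 89),
  (⟨-1, 2, 1, -1, -2, 0, 0, 1⟩, 22, 36),
  (⟨-1, 2, 1, -1, 2, 0, 0, 1⟩, 24, 35),
  (⟨-1, 2, 1, 1, 0, 0, 2, -1⟩, 20, 33),
  (⟨0, -2, -2, 1, 1, 0, -1, 1⟩, 21, 83),
  (⟨0, -2, 2, -1, -1, 0, 1, -1⟩, 27, 75),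
  (⟨0, -1, -2, 0, -1, 1, -1, 2⟩, 23, 86),
  (⟨0, -1, -2, 2, 1, 1, 1, 0⟩, 20, 66),
  (⟨0, -1, 0, 0, 1, -1, 3, 0⟩, 24, 59),
  (⟨0, -1, 2, -2, 1, 1, 1, 0⟩, 29, 50),
  (⟨0, -1, 2, 0, -1, 1, -1, 2⟩, 25, 76),
  (⟨0, 0, -2, 1, -1, 2, 1, 1⟩, 22, 72),
  (⟨0, 0, 0, -1, 3, 0, -1, 1⟩, 25, 58),
  (⟨0, 0, 0, 1, -3, 0, 1, -1⟩, 25, 61),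
  (⟨0, 0, 2, -1, 1, -2, -1, -1⟩, 22, 47),
  (⟨0, 1, -2, 0, 1, -1, 1, -2⟩, 25, 43),
  (⟨0, 1, -2, 2, -1, -1, -1, 0⟩, 29, 69),
  (⟨0, 1, 0, 0, -1, 1, -3, 0⟩, 24, 60),
  (⟨0, 1, 2, -2, -1, -1, -1, 0⟩, 20, 53),
  (⟨0, 1, 2, 0, 1, -1, 1, -2⟩, 23, 33),
  (⟨0, 2, -2, 1, 1, 0, -1, 1⟩, 27, 44),
  (⟨0, 2, 2, -1, -1, 0, 1, -1⟩, 21, 36),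
  (⟨1, -2, -1, -1, 0, 0, -2, 1⟩, 20, 86),
  (⟨1, -2, -1, 1, -2, 0, 0, -1⟩, 24, 84),
  (⟨1, -2, -1, 1, 2, 0, 0, -1⟩, 22, 83),
  (⟨1, -1, 1, -2, 0, -1, -2, 0⟩, 21, 30),
  (⟨1, -1, 1, -2, 0, -1, 2, 0⟩, 25, 29),
  (⟨1, -1, 1, 0, 2, -1, 0, -2⟩, 20, 26),
  (⟨1, -1, 1, 0, 2, -1, 0, 2⟩, 27, 46),
  (⟨1, -1, 3, 0, 0, 1, 0, 0⟩, 24, 21),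
  (⟨1, 0, -1, -1, -2, 2, 0, 1⟩, 21, 72),
  (⟨1, 0, -1, -1, 2, -2, 0, 1⟩, 28, 70),
  (⟨1, 0, -1, 1, 0, -2, 2, -1⟩, 26, 11),
  (⟨1, 0, -1, 1, 0, 2, 2, -1⟩, 23, 66),
  (⟨1, 0, 1, 1, -2, 0, -2, 1⟩, 27, 4),
  (⟨1, 0, 1, 1, 2, 0, -2, 1⟩, 29, 2),
  (⟨1, 1, -1, 0, 2, -1, -2, 0⟩, 26, 18),
  (⟨1, 1, -1, 0, 2, -1, 2, 0⟩, 29, 37),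
  (⟨1, 1, 1, -2, -2, 1, 0, 0⟩, 23, 14),
  (⟨1, 1, 1, 0, 0, 1, -2, 2⟩, 28, 34),
  (⟨1, 1, 1, 0, 0, 1, 2, -2⟩, 22, 9),
  (⟨2, -2, 0, -1, 1, 0, -1, -1⟩, 23, 26),
  (⟨2, -2, 0, 1, -1, 0, 1, 1⟩, 29, 23),
  (⟨2, -1, -2, 0, -1, -1, 1, 0⟩, 27, 32),
  (⟨2, -1, 0, -2, -1, 1, -1, 0⟩, 22, 30),
  (⟨2, -1, 0, 0, 1, 1, 1, -2⟩, 21, 9),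
  (⟨2, -1, 0, 2, -1, 1, -1, 0⟩, 26, 8),
  (⟨2, -1, 2, 0, -1, -1, 1, 0⟩, 28, 22),
  (⟨2, 0, -2, 1, -1, 0, -1, -1⟩, 28, 20),
  (⟨2, 0, 0, -1, -1, 2, 1, -1⟩, 20, 14),
  (⟨2, 0, 0, 1, 1, -2, -1, 1⟩, 24, 7),
  (⟨2, 0, 2, -1, 1, 0, 1, 1⟩, 26, 5),
  (⟨3, 0, -1, 1, 0, 0, 0, 1⟩, 25, 15)]

def bucket94 : List (SQ × ℕ × ℕ) := [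
  (⟨-3, 0, -1, 0, -1, 0, 1, 0⟩, 21, 119),
  (⟨-3, 0, -1, 0, 1, 0, -1, 0⟩, 22, 119),
  (⟨-3, 0, 1, 0, -1, 0, -1, 0⟩, 23, 102),
  (⟨-3, 0, 1, 0, 1, 0, 1, 0⟩, 20, 99),
  (⟨-1, 0, -3, 0, -1, 0, 1, 0⟩, 20, 117),
  (⟨-1, 0, -3, 0, 1, 0, -1, 0⟩, 23, 116),
  (⟨-1, 0, -1, 0, -3, 0, 1, 0⟩, 22, 61),
  (⟨-1, 0, -1, 0, -1, 0, 3, 0⟩, 23, 117),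
  (⟨-1, 0, -1, 0, -1, 2, -1, 2⟩, 25, 108),
  (⟨-1, 0, -1, 0, 1, -2, 1, -2⟩, 24, 109),
  (⟨-1, 0, -1, 0, 1, 0, -3, 0⟩, 20, 116),
  (⟨-1, 0, -1, 0, 3, 0, -1, 0⟩, 21, 58),
  (⟨-1, 0, -1, 2, -1, 0, -1, 2⟩, 27, 57),
  (⟨-1, 0, -1, 2, -1, 2, -1, 0⟩, 29, 67),
  (⟨-1, 0, -1, 2, 1, -2, 1, 0⟩, 29, 105),
  (⟨-1, 0, -1, 2, 1, 0, 1, -2⟩, 26, 54),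
  (⟨-1, 0, 1, -2, -1, 0, 1, -2⟩, 26, 104),
  (⟨-1, 0, 1, -2, -1, 2, 1, 0⟩, 28, 50),
  (⟨-1, 0, 1, -2, 1, -2, -1, 0⟩, 28, 111),
  (⟨-1, 0, 1, -2, 1, 0, -1, 2⟩, 27, 103),
  (⟨-1, 0, 1, 0, -3, 0, -1, 0⟩, 20, 102),
  (⟨-1, 0, 1, 0, -1, 0, -3, 0⟩, 21, 60),
  (⟨-1, 0, 1, 0, -1, 2, 1, -2⟩, 25, 49),
  (⟨-1, 0, 1, 0, 1, -2, -1, 2⟩, 24, 46),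
  (⟨-1, 0, 1, 0, 1, 0, 3, 0⟩, 22, 59),
  (⟨-1, 0, 1, 0, 3, 0, 1, 0⟩, 23, 99),
  (⟨-1, 0, 3, 0, -1, 0, -1, 0⟩, 22, 45),
  (⟨-1, 0, 3, 0, 1, 0, 1, 0⟩, 21, 45),
  (⟨-1, 2, -1, 0, -1, 0, -1, 2⟩, 28, 93),
  (⟨-1, 2, -1, 0, -1, 2, -1, 0⟩, 26, 97),
  (⟨-1, 2, -1, 0, 1, -2, 1, 0⟩, 27, 98),
  (⟨-1, 2, -1, 0, 1, 0, 1, -2⟩, 28, 43),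
  (⟨-1, 2, -1, 2, -1, 0, -1, 0⟩, 24, 90),
  (⟨-1, 2, -1, 2, 1, 0, 1, 0⟩, 25, 89),
  (⟨-1, 2, 1, -2, -1, 0, 1, 0⟩, 24, 36),
  (⟨-1, 2, 1, -2, 1, 0, -1, 0⟩, 25, 35),
  (⟨-1, 2, 1, 0, -1, 0, 1, -2⟩, 29, 94),
  (⟨-1, 2, 1, 0, -1, 2, 1, 0⟩, 27, 39),
  (⟨-1, 2, 1, 0, 1, -2, -1, 0⟩, 26, 38),
  (⟨-1, 2, 1, 0, 1, 0, -1, 2⟩, 29, 34),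
  (⟨1, -2, -1, 0, -1, 0, 1, -2⟩, 29, 85),
  (⟨1, -2, -1, 0, -1, 2, 1, 0⟩, 26, 81),
  (⟨1, -2, -1, 0, 1, -2, -1, 0⟩, 27, 80),
  (⟨1, -2, -1, 0, 1, 0, -1, 2⟩, 29, 25),
  (⟨1, -2, -1, 2, -1, 0, 1, 0⟩, 25, 84),
  (⟨1, -2, -1, 2, 1, 0, -1, 0⟩, 24, 83),
  (⟨1, -2, 1, -2, -1, 0, -1, 0⟩, 25, 30),
  (⟨1, -2, 1, -2, 1, 0, 1, 0⟩, 24, 29),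
  (⟨1, -2, 1, 0, -1, 0, -1, 2⟩, 28, 76),
  (⟨1, -2, 1, 0, -1, 2, -1, 0⟩, 27, 21),
  (⟨1, -2, 1, 0, 1, -2, 1, 0⟩, 26, 22),
  (⟨1, -2, 1, 0, 1, 0, 1, -2⟩, 28, 26),
  (⟨1, 0, -3, 0, -1, 0, -1, 0⟩, 21, 74),
  (⟨1, 0, -3, 0, 1, 0, 1, 0⟩, 22, 74),
  (⟨1, 0, -1, 0, -3, 0, -1, 0⟩, 23, 20),
  (⟨1, 0, -1, 0, -1, 0, -3, 0⟩, 22, 60),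
  (⟨1, 0, -1, 0, -1, 2, 1, -2⟩, 24, 73),
  (⟨1, 0, -1, 0, 1, -2, -1, 2⟩, 25, 70),
  (⟨1, 0, -1, 0, 1, 0, 3, 0⟩, 21, 59),
  (⟨1, 0, -1, 0, 3, 0, 1, 0⟩, 20, 17),
  (⟨1, 0, -1, 2, -1, 0, 1, -2⟩, 27, 16),
  (⟨1, 0, -1, 2, -1, 2, 1, 0⟩, 28, 8),
  (⟨1, 0, -1, 2, 1, -2, -1, 0⟩, 28, 69),
  (⟨1, 0, -1, 2, 1, 0, -1, 2⟩, 26, 15),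
  (⟨1, 0, 1, -2, -1, 0, -1, 2⟩, 26, 65),
  (⟨1, 0, 1, -2, -1, 2, -1, 0⟩, 29, 14),
  (⟨1, 0, 1, -2, 1, -2, 1, 0⟩, 29, 52),
  (⟨1, 0, 1, -2, 1, 0, 1, -2⟩, 27, 62),
  (⟨1, 0, 1, 0, -3, 0, 1, 0⟩, 21, 61),
  (⟨1, 0, 1, 0, -1, 0, 3, 0⟩, 20, 3),
  (⟨1, 0, 1, 0, -1, 2, -1, 2⟩, 24, 10),
  (⟨1, 0, 1, 0, 1, -2, 1, -2⟩, 25, 11),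
  (⟨1, 0, 1, 0, 1, 0, -3, 0⟩, 23, 2),
  (⟨1, 0, 1, 0, 3, 0, -1, 0⟩, 22, 58),
  (⟨1, 0, 3, 0, -1, 0, 1, 0⟩, 23, 3),
  (⟨1, 0, 3, 0, 1, 0, -1, 0⟩, 20, 2),
  (⟨3, 0, -1, 0, -1, 0, -1, 0⟩, 20, 20),
  (⟨3, 0, -1, 0, 1, 0, 1, 0⟩, 23, 17),
  (⟨3, 0, 1, 0, -1, 0, 1, 0⟩, 22, 0),
  (⟨3, 0, 1, 0, 1, 0, -1, 0⟩, 21, 0)]

def bucket95 : List (SQ × ℕ × ℕ) := [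
  (⟨-3, 0, 0, 0, 0, -1, -1, 1⟩, 28, 119),
  (⟨-2, 0, -1, 0, 1, 1, -2, 1⟩, 27, 108),
  (⟨-2, 0, -1, 2, -1, 1, 0, -1⟩, 22, 106),
  (⟨-2, 0, 1, -2, 1, -1, 0, 1⟩, 29, 103),
  (⟨-2, 0, 1, 0, -1, -1, 2, -1⟩, 24, 101),
  (⟨-2, 1, -1, -1, -1, 0, -2, 0⟩, 25, 96),
  (⟨-2, 1, -1, -1, -1, 0, 2, 0⟩, 27, 117),
  (⟨-2, 1, -1, 1, 1, 0, 0, -2⟩, 21, 92),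
  (⟨-2, 1, -1, 1, 1, 0, 0, 2⟩, 24, 91),
  (⟨-2, 1, 1, 1, -1, 2, 0, 0⟩, 20, 87),
  (⟨-2, 2, -1, 0, -1, -1, 0, 1⟩, 26, 98),
  (⟨-2, 2, 1, 0, 1, 1, 0, -1⟩, 23, 87),
  (⟨-1, -1, -2, 1, 0, 0, 1, -2⟩, 23, 114),
  (⟨-1, -1, 0, 1, -2, 2, 1, 0⟩, 21, 106),
  (⟨-1, -1, 0, 1, 2, -2, 1, 0⟩, 27, 105),
  (⟨-1, -1, 2, -1, -2, 0, -1, 0⟩, 26, 102),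
  (⟨-1, -1, 2, -1, 2, 0, -1, 0⟩, 24, 77),
  (⟨-1, 0, -2, 0, 2, -1, 1, 1⟩, 25, 115),
  (⟨-1, 0, -2, 2, 0, -1, -1, -1⟩, 20, 114),
  (⟨-1, 0, 0, -2, -2, 1, -1, 1⟩, 24, 65),
  (⟨-1, 0, 0, 2, -2, 1, -1, 1⟩, 23, 57),
  (⟨-1, 0, 2, -2, 0, -1, -1, -1⟩, 27, 104),
  (⟨-1, 0, 2, 0, 2, -1, 1, 1⟩, 26, 46),
  (⟨-1, 1, 0, -1, -2, 0, 1, -2⟩, 28, 64),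
  (⟨-1, 1, 0, -1, 2, 0, 1, -2⟩, 20, 62),
  (⟨-1, 1, 0, 1, 0, 0, 3, 0⟩, 29, 89),
  (⟨-1, 1, 2, -1, 0, -2, 1, 0⟩, 25, 52),
  (⟨-1, 1, 2, -1, 0, 2, 1, 0⟩, 22, 50),
  (⟨-1, 2, -2, 0, 0, 1, -1, 1⟩, 29, 44),
  (⟨-1, 2, 0, 0, 2, -1, -1, -1⟩, 22, 92),
  (⟨-1, 2, 2, 0, 0, 1, -1, 1⟩, 21, 34),
  (⟨0, -2, -1, 0, -1, 1, 2, -1⟩, 20, 81),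
  (⟨0, -2, 1, 0, 1, -1, -2, 1⟩, 25, 80),
  (⟨0, -1, -1, -1, 1, 0, -2, 2⟩, 26, 86),
  (⟨0, -1, -1, -1, 1, 0, 2, -2⟩, 22, 85),
  (⟨0, -1, -1, 1, 3, 0, 0, 0⟩, 29, 58),
  (⟨0, -1, 1, -1, -1, 2, -2, 0⟩, 28, 51),
  (⟨0, -1, 1, -1, -1, 2, 2, 0⟩, 23, 81),
  (⟨0, 0, -3, 0, -1, 1, 0, 1⟩, 28, 72),
  (⟨0, 0, -1, 2, -1, -1, -2, 1⟩, 21, 69),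
  (⟨0, 0, 1, -2, 1, 1, 2, -1⟩, 21, 50),
  (⟨0, 0, 3, 0, 1, -1, 0, -1⟩, 28, 47),
  (⟨0, 1, -1, 1, 1, -2, -2, 0⟩, 23, 38),
  (⟨0, 1, -1, 1, 1, -2, 2, 0⟩, 28, 68),
  (⟨0, 1, 1, -1, -3, 0, 0, 0⟩, 29, 61),
  (⟨0, 1, 1, 1, -1, 0, -2, 2⟩, 22, 34),
  (⟨0, 1, 1, 1, -1, 0, 2, -2⟩, 26, 33),
  (⟨0, 2, -1, 0, -1, 1, 2, -1⟩, 25, 39),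
  (⟨0, 2, 1, 0, 1, -1, -2, 1⟩, 20, 38),
  (⟨1, -2, -2, 0, 0, -1, 1, -1⟩, 21, 85),
  (⟨1, -2, 0, 0, -2, 1, 1, 1⟩, 22, 27),
  (⟨1, -2, 2, 0, 0, -1, 1, -1⟩, 29, 75),
  (⟨1, -1, -2, 1, 0, -2, -1, 0⟩, 22, 69),
  (⟨1, -1, -2, 1, 0, 2, -1, 0⟩, 25, 67),
  (⟨1, -1, 0, -1, 0, 0, -3, 0⟩, 29, 30),
  (⟨1, -1, 0, 1, -2, 0, -1, 2⟩, 20, 57),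
  (⟨1, -1, 0, 1, 2, 0, -1, 2⟩, 28, 55),
  (⟨1, 0, -2, 0, -2, 1, -1, -1⟩, 26, 73),
  (⟨1, 0, -2, 2, 0, 1, 1, 1⟩, 27, 15),
  (⟨1, 0, 0, -2, 2, -1, 1, -1⟩, 23, 62),
  (⟨1, 0, 0, 2, 2, -1, 1, -1⟩, 24, 54),
  (⟨1, 0, 2, -2, 0, 1, 1, 1⟩, 20, 5),
  (⟨1, 0, 2, 0, -2, 1, -1, -1⟩, 25, 4),
  (⟨1, 1, -2, 1, -2, 0, 1, 0⟩, 24, 42),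
  (⟨1, 1, -2, 1, 2, 0, 1, 0⟩, 26, 17),
  (⟨1, 1, 0, -1, -2, 2, -1, 0⟩, 27, 14),
  (⟨1, 1, 0, -1, 2, -2, -1, 0⟩, 21, 13),
  (⟨1, 1, 2, -1, 0, 0, -1, 2⟩, 23, 5),
  (⟨2, -2, -1, 0, -1, -1, 0, 1⟩, 23, 32),
  (⟨2, -2, 1, 0, 1, 1, 0, -1⟩, 26, 21),
  (⟨2, -1, -1, -1, 1, -2, 0, 0⟩, 20, 32),
  (⟨2, -1, 1, -1, -1, 0, 0, -2⟩, 24, 28),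
  (⟨2, -1, 1, -1, -1, 0, 0, 2⟩, 21, 27),
  (⟨2, -1, 1, 1, 1, 0, -2, 0⟩, 27, 2),
  (⟨2, -1, 1, 1, 1, 0, 2, 0⟩, 25, 23),
  (⟨2, 0, -1, 0, 1, 1, -2, 1⟩, 24, 18),
  (⟨2, 0, -1, 2, -1, 1, 0, -1⟩, 29, 16),
  (⟨2, 0, 1, -2, 1, -1, 0, 1⟩, 22, 13),
  (⟨2, 0, 1, 0, -1, -1, 2, -1⟩, 27, 11),
  (⟨3, 0, 0, 0, 0, 1, 1, -1⟩, 28, 0)]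

def bucket96 : List (SQ × ℕ × ℕ) := [
  (⟨-3, 0, 0, -1, 1, -1, 0, 0⟩, 27, 119),
  (⟨-2, 0, -1, -1, -2, 1, -1, 0⟩, 28, 112),
  (⟨-2, 0, -1, 1, 0, 1, 1, -2⟩, 20, 107),
  (⟨-2, 0, 1, -1, 0, -1, -1, 2⟩, 26, 110),
  (⟨-2, 0, 1, 1, 2, -1, 1, 0⟩, 24, 99),
  (⟨-2, 1, -1, 0, -2, 0, 1, 1⟩, 24, 93),
  (⟨-2, 1, -1, 0, 2, 0, 1, 1⟩, 29, 91),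
  (⟨-2, 1, -1, 2, 0, 0, -1, -1⟩, 23, 90),
  (⟨-2, 1, 1, 0, 0, -2, 1, -1⟩, 28, 109),
  (⟨-2, 1, 1, 0, 0, 2, 1, -1⟩, 21, 87),
  (⟨-2, 2, -1, -1, 0, -1, 1, 0⟩, 25, 95),
  (⟨-2, 2, 1, 1, 0, 1, -1, 0⟩, 22, 87),
  (⟨-1, -1, -2, 0, 1, 0, -2, 1⟩, 25, 116),
  (⟨-1, -1, -2, 2, -1, 0, 0, -1⟩, 21, 114),
  (⟨-1, -1, 0, 0, -1, 2, 2, -1⟩, 22, 81),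
  (⟨-1, -1, 2, -2, -1, 0, 0, -1⟩, 24, 78),
  (⟨-1, -1, 2, 0, 1, 0, -2, 1⟩, 28, 100),
  (⟨-1, 0, -2, 1, 1, -1, 0, -2⟩, 22, 114),
  (⟨-1, 0, -2, 1, 1, -1, 0, 2⟩, 28, 113),
  (⟨-1, 0, 0, -1, 1, 1, -2, 2⟩, 24, 63),
  (⟨-1, 0, 0, -1, 1, 1, 2, -2⟩, 23, 107),
  (⟨-1, 0, 2, -1, -1, -1, -2, 0⟩, 25, 53),
  (⟨-1, 0, 2, -1, -1, -1, 2, 0⟩, 29, 101),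
  (⟨-1, 1, -2, 0, -1, 2, 0, 1⟩, 27, 72),
  (⟨-1, 1, 0, -2, -1, 0, -2, 1⟩, 29, 65),
  (⟨-1, 1, 0, 0, -3, 0, 0, -1⟩, 26, 94),
  (⟨-1, 1, 0, 2, -1, 0, -2, 1⟩, 20, 90),
  (⟨-1, 1, 2, 0, -1, 2, 0, 1⟩, 23, 48),
  (⟨-1, 2, 0, 1, 1, -1, -2, 0⟩, 21, 38),
  (⟨-1, 2, 0, 1, 1, -1, 2, 0⟩, 26, 37),
  (⟨-1, 2, 2, -1, 1, 1, 0, 0⟩, 20, 35),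
  (⟨0, -2, -1, 1, -2, 1, 1, 0⟩, 23, 84),
  (⟨0, -2, 1, -1, 2, -1, -1, 0⟩, 29, 77),
  (⟨0, -1, -1, 2, -2, 0, -1, 1⟩, 22, 57),
  (⟨0, -1, -1, 2, 2, 0, -1, 1⟩, 27, 55),
  (⟨0, -1, 1, 0, -2, 2, 1, 1⟩, 20, 48),
  (⟨0, -1, 1, 0, 2, -2, 1, 1⟩, 25, 79),
  (⟨0, -1, 3, 0, 0, 0, 1, -1⟩, 26, 45),
  (⟨0, 0, -1, -1, 2, -1, 1, -2⟩, 21, 62),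
  (⟨0, 0, -1, 1, 0, -1, 3, 0⟩, 27, 68),
  (⟨0, 0, 1, -1, 0, 1, -3, 0⟩, 27, 51),
  (⟨0, 0, 1, 1, -2, 1, -1, 2⟩, 21, 57),
  (⟨0, 1, -3, 0, 0, 0, -1, 1⟩, 26, 74),
  (⟨0, 1, -1, 0, -2, 2, -1, -1⟩, 25, 40),
  (⟨0, 1, -1, 0, 2, -2, -1, -1⟩, 20, 71),
  (⟨0, 1, 1, -2, -2, 0, 1, -1⟩, 27, 64),
  (⟨0, 1, 1, -2, 2, 0, 1, -1⟩, 22, 62),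
  (⟨0, 2, -1, 1, -2, 1, 1, 0⟩, 29, 42),
  (⟨0, 2, 1, -1, 2, -1, -1, 0⟩, 23, 35),
  (⟨1, -2, -2, 1, -1, -1, 0, 0⟩, 20, 84),
  (⟨1, -2, 0, -1, -1, 1, -2, 0⟩, 26, 82),
  (⟨1, -2, 0, -1, -1, 1, 2, 0⟩, 21, 81),
  (⟨1, -1, -2, 0, 1, -2, 0, -1⟩, 23, 71),
  (⟨1, -1, 0, -2, 1, 0, 2, -1⟩, 20, 29),
  (⟨1, -1, 0, 0, 3, 0, 0, 1⟩, 26, 25),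
  (⟨1, -1, 0, 2, 1, 0, 2, -1⟩, 29, 54),
  (⟨1, -1, 2, 0, 1, -2, 0, -1⟩, 27, 47),
  (⟨1, 0, -2, 1, 1, 1, -2, 0⟩, 29, 18),
  (⟨1, 0, -2, 1, 1, 1, 2, 0⟩, 25, 66),
  (⟨1, 0, 0, 1, -1, -1, -2, 2⟩, 23, 12),
  (⟨1, 0, 0, 1, -1, -1, 2, -2⟩, 24, 56),
  (⟨1, 0, 2, -1, -1, 1, 0, -2⟩, 28, 6),
  (⟨1, 0, 2, -1, -1, 1, 0, 2⟩, 22, 5),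
  (⟨1, 1, -2, 0, -1, 0, 2, -1⟩, 28, 19),
  (⟨1, 1, -2, 2, 1, 0, 0, 1⟩, 24, 41),
  (⟨1, 1, 0, 0, 1, -2, -2, 1⟩, 22, 38),
  (⟨1, 1, 2, -2, 1, 0, 0, 1⟩, 21, 5),
  (⟨1, 1, 2, 0, -1, 0, 2, -1⟩, 25, 3),
  (⟨2, -2, -1, -1, 0, -1, 1, 0⟩, 22, 32),
  (⟨2, -2, 1, 1, 0, 1, -1, 0⟩, 25, 24),
  (⟨2, -1, -1, 0, 0, -2, -1, 1⟩, 21, 32),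
  (⟨2, -1, -1, 0, 0, 2, -1, 1⟩, 28, 10),
  (⟨2, -1, 1, -2, 0, 0, 1, 1⟩, 23, 29),
  (⟨2, -1, 1, 0, -2, 0, -1, -1⟩, 29, 28),
  (⟨2, -1, 1, 0, 2, 0, -1, -1⟩, 24, 26),
  (⟨2, 0, -1, -1, -2, 1, -1, 0⟩, 24, 20),
  (⟨2, 0, -1, 1, 0, 1, 1, -2⟩, 26, 9),
  (⟨2, 0, 1, -1, 0, -1, -1, 2⟩, 20, 12),
  (⟨2, 0, 1, 1, 2, -1, 1, 0⟩, 28, 7),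
  (⟨3, 0, 0, 1, -1, 1, 0, 0⟩, 27, 0)]

def bucket97 : List (SQ × ℕ × ℕ) := [
  (⟨-3, 0, 0, 1, 1, -1, 0, 0⟩, 26, 105),
  (⟨-2, 0, -1, -1, 2, -1, -1, 0⟩, 24, 111),
  (⟨-2, 0, -1, 1, 0, -1, 1, -2⟩, 27, 114),
  (⟨-2, 0, 1, -1, 0, 1, -1, 2⟩, 22, 103),
  (⟨-2, 0, 1, 1, -2, 1, 1, 0⟩, 29, 106),
  (⟨-2, 1, -1, 0, 0, -2, -1, 1⟩, 29, 110),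
  (⟨-2, 1, -1, 0, 0, 2, -1, 1⟩, 23, 108),
  (⟨-2, 1, 1, -2, 0, 0, 1, 1⟩, 21, 103),
  (⟨-2, 1, 1, 0, -2, 0, -1, -1⟩, 24, 102),
  (⟨-2, 1, 1, 0, 2, 0, -1, -1⟩, 28, 92),
  (⟨-2, 2, -1, -1, 0, 1, 1, 0⟩, 20, 95),
  (⟨-2, 2, 1, 1, 0, -1, -1, 0⟩, 25, 88),
  (⟨-1, -1, -2, 0, 1, 0, 2, -1⟩, 29, 115),
  (⟨-1, -1, -2, 2, -1, 0, 0, 1⟩, 24, 113),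
  (⟨-1, -1, 0, 0, -1, 2, -2, 1⟩, 20, 108),
  (⟨-1, -1, 2, -2, -1, 0, 0, 1⟩, 23, 78),
  (⟨-1, -1, 2, 0, 1, 0, 2, -1⟩, 25, 75),
  (⟨-1, 0, -2, 1, -1, -1, -2, 0⟩, 28, 118),
  (⟨-1, 0, -2, 1, -1, -1, 2, 0⟩, 25, 117),
  (⟨-1, 0, 0, 1, 1, 1, -2, 2⟩, 21, 55),
  (⟨-1, 0, 0, 1, 1, 1, 2, -2⟩, 24, 107),
  (⟨-1, 0, 2, -1, 1, -1, 0, -2⟩, 29, 104),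
  (⟨-1, 0, 2, -1, 1, -1, 0, 2⟩, 20, 46),
  (⟨-1, 1, -2, 0, -1, 2, 0, -1⟩, 21, 97),
  (⟨-1, 1, 0, -2, -1, 0, 2, -1⟩, 22, 64),
  (⟨-1, 1, 0, 0, -3, 0, 0, 1⟩, 27, 61),
  (⟨-1, 1, 0, 2, -1, 0, 2, -1⟩, 28, 56),
  (⟨-1, 1, 2, 0, -1, 2, 0, -1⟩, 26, 87),
  (⟨-1, 2, -2, 1, 1, 1, 0, 0⟩, 22, 97),
  (⟨-1, 2, 0, -1, 1, -1, -2, 0⟩, 27, 96),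
  (⟨-1, 2, 0, -1, 1, -1, 2, 0⟩, 23, 95),
  (⟨0, -2, -1, 1, 2, -1, 1, 0⟩, 28, 83),
  (⟨0, -2, 1, -1, -2, 1, -1, 0⟩, 21, 82),
  (⟨0, -1, -3, 0, 0, 0, -1, 1⟩, 27, 86),
  (⟨0, -1, -1, 0, -2, 2, -1, -1⟩, 22, 82),
  (⟨0, -1, -1, 0, 2, -2, -1, -1⟩, 25, 71),
  (⟨0, -1, 1, -2, -2, 0, 1, -1⟩, 20, 78),
  (⟨0, -1, 1, -2, 2, 0, 1, -1⟩, 26, 77),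
  (⟨0, 0, -1, -1, -2, 1, 1, -2⟩, 23, 73),
  (⟨0, 0, -1, 1, 0, 1, 3, 0⟩, 26, 59),
  (⟨0, 0, 1, -1, 0, -1, -3, 0⟩, 26, 60),
  (⟨0, 0, 1, 1, 2, -1, -1, 2⟩, 23, 46),
  (⟨0, 1, -1, 2, -2, 0, -1, 1⟩, 26, 42),
  (⟨0, 1, -1, 2, 2, 0, -1, 1⟩, 20, 41),
  (⟨0, 1, 1, 0, -2, 2, 1, 1⟩, 25, 48),
  (⟨0, 1, 1, 0, 2, -2, 1, 1⟩, 22, 37),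
  (⟨0, 1, 3, 0, 0, 0, 1, -1⟩, 27, 33),
  (⟨0, 2, -1, 1, 2, -1, 1, 0⟩, 21, 37),
  (⟨0, 2, 1, -1, -2, 1, -1, 0⟩, 28, 36),
  (⟨1, -2, 0, 1, -1, 1, -2, 0⟩, 23, 24),
  (⟨1, -2, 0, 1, -1, 1, 2, 0⟩, 27, 23),
  (⟨1, -2, 2, -1, -1, -1, 0, 0⟩, 22, 22),
  (⟨1, -1, -2, 0, 1, -2, 0, 1⟩, 26, 32),
  (⟨1, -1, 0, -2, 1, 0, -2, 1⟩, 28, 63),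
  (⟨1, -1, 0, 0, 3, 0, 0, -1⟩, 27, 58),
  (⟨1, -1, 0, 2, 1, 0, -2, 1⟩, 22, 55),
  (⟨1, -1, 2, 0, 1, -2, 0, 1⟩, 21, 22),
  (⟨1, 0, -2, 1, -1, 1, 0, -2⟩, 20, 73),
  (⟨1, 0, -2, 1, -1, 1, 0, 2⟩, 29, 15),
  (⟨1, 0, 0, -1, -1, -1, -2, 2⟩, 24, 12),
  (⟨1, 0, 0, -1, -1, -1, 2, -2⟩, 21, 64),
  (⟨1, 0, 2, -1, 1, 1, -2, 0⟩, 25, 2),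
  (⟨1, 0, 2, -1, 1, 1, 2, 0⟩, 28, 1),
  (⟨1, 1, -2, 0, -1, 0, -2, 1⟩, 25, 44),
  (⟨1, 1, -2, 2, 1, 0, 0, -1⟩, 23, 41),
  (⟨1, 1, 0, 0, 1, -2, 2, -1⟩, 20, 11),
  (⟨1, 1, 2, -2, 1, 0, 0, -1⟩, 24, 6),
  (⟨1, 1, 2, 0, -1, 0, -2, 1⟩, 29, 4),
  (⟨2, -2, -1, -1, 0, 1, 1, 0⟩, 25, 31),
  (⟨2, -2, 1, 1, 0, -1, -1, 0⟩, 20, 24),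
  (⟨2, -1, -1, 0, -2, 0, 1, 1⟩, 28, 27),
  (⟨2, -1, -1, 0, 2, 0, 1, 1⟩, 24, 17),
  (⟨2, -1, -1, 2, 0, 0, -1, -1⟩, 21, 16),
  (⟨2, -1, 1, 0, 0, -2, 1, -1⟩, 23, 11),
  (⟨2, -1, 1, 0, 0, 2, 1, -1⟩, 29, 9),
  (⟨2, 0, -1, -1, 2, -1, -1, 0⟩, 29, 13),
  (⟨2, 0, -1, 1, 0, -1, 1, -2⟩, 22, 16),
  (⟨2, 0, 1, -1, 0, 1, -1, 2⟩, 27, 5),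
  (⟨2, 0, 1, 1, -2, 1, 1, 0⟩, 24, 8),
  (⟨3, 0, 0, -1, -1, 1, 0, 0⟩, 26, 14)]

def bucket98 : List (SQ × ℕ × ℕ) := [
  (⟨-3, 0, 0, 0, 0, 1, -1, 1⟩, 29, 108),
  (⟨-2, 0, -1, 0, 1, 1, 2, -1⟩, 25, 107),
  (⟨-2, 0, -1, 2, -1, 1, 0, 1⟩, 28, 106),
  (⟨-2, 0, 1, -2, 1, -1, 0, -1⟩, 23, 104),
  (⟨-2, 0, 1, 0, -1, -1, -2, 1⟩, 27, 102),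
  (⟨-2, 1, -1, -1, 1, -2, 0, 0⟩, 21, 111),
  (⟨-2, 1, 1, -1, -1, 0, 0, -2⟩, 20, 104),
  (⟨-2, 1, 1, -1, -1, 0, 0, 2⟩, 25, 103),
  (⟨-2, 1, 1, 1, 1, 0, -2, 0⟩, 24, 100),
  (⟨-2, 1, 1, 1, 1, 0, 2, 0⟩, 27, 89),
  (⟨-2, 2, -1, 0, -1, -1, 0, -1⟩, 22, 94),
  (⟨-2, 2, 1, 0, 1, 1, 0, 1⟩, 26, 91),
  (⟨-1, -1, -2, 1, -2, 0, -1, 0⟩, 25, 118),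
  (⟨-1, -1, -2, 1, 2, 0, -1, 0⟩, 26, 83),
  (⟨-1, -1, 0, -1, -2, 2, 1, 0⟩, 27, 81),
  (⟨-1, -1, 0, -1, 2, -2, 1, 0⟩, 20, 79),
  (⟨-1, -1, 2, -1, 0, 0, 1, -2⟩, 22, 75),
  (⟨-1, 0, -2, 0, -2, 1, 1, 1⟩, 26, 117),
  (⟨-1, 0, -2, 2, 0, 1, -1, -1⟩, 27, 67),
  (⟨-1, 0, 0, -2, 2, -1, -1, 1⟩, 22, 111),
  (⟨-1, 0, 0, 2, 2, -1, -1, 1⟩, 25, 105),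
  (⟨-1, 0, 2, -2, 0, 1, -1, -1⟩, 21, 51),
  (⟨-1, 0, 2, 0, -2, 1, 1, 1⟩, 24, 48),
  (⟨-1, 1, -2, 1, 0, -2, 1, 0⟩, 23, 98),
  (⟨-1, 1, -2, 1, 0, 2, 1, 0⟩, 24, 97),
  (⟨-1, 1, 0, -1, 0, 0, 3, 0⟩, 28, 59),
  (⟨-1, 1, 0, 1, -2, 0, 1, -2⟩, 21, 94),
  (⟨-1, 1, 0, 1, 2, 0, 1, -2⟩, 29, 92),
  (⟨-1, 2, -2, 0, 0, -1, -1, 1⟩, 20, 98),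
  (⟨-1, 2, 0, 0, -2, 1, -1, -1⟩, 23, 40),
  (⟨-1, 2, 2, 0, 0, -1, -1, 1⟩, 28, 88),
  (⟨0, -2, -1, 0, -1, 1, -2, 1⟩, 24, 86),
  (⟨0, -2, 1, 0, 1, -1, 2, -1⟩, 21, 75),
  (⟨0, -1, -1, 1, 1, -2, -2, 0⟩, 29, 80),
  (⟨0, -1, -1, 1, 1, -2, 2, 0⟩, 22, 68),
  (⟨0, -1, 1, -1, -3, 0, 0, 0⟩, 28, 78),
  (⟨0, -1, 1, 1, -1, 0, -2, 2⟩, 26, 57),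
  (⟨0, -1, 1, 1, -1, 0, 2, -2⟩, 23, 56),
  (⟨0, 0, -3, 0, -1, 1, 0, -1⟩, 29, 74),
  (⟨0, 0, -1, 2, -1, -1, 2, -1⟩, 20, 56),
  (⟨0, 0, 1, -2, 1, 1, -2, 1⟩, 20, 63),
  (⟨0, 0, 3, 0, 1, -1, 0, 1⟩, 29, 45),
  (⟨0, 1, -1, -1, 1, 0, -2, 2⟩, 23, 63),
  (⟨0, 1, -1, -1, 1, 0, 2, -2⟩, 26, 62),
  (⟨0, 1, -1, 1, 3, 0, 0, 0⟩, 28, 41),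
  (⟨0, 1, 1, -1, -1, 2, -2, 0⟩, 22, 51),
  (⟨0, 1, 1, -1, -1, 2, 2, 0⟩, 29, 39),
  (⟨0, 2, -1, 0, -1, 1, -2, 1⟩, 21, 44),
  (⟨0, 2, 1, 0, 1, -1, 2, -1⟩, 24, 33),
  (⟨1, -2, -2, 0, 0, 1, 1, -1⟩, 28, 31),
  (⟨1, -2, 0, 0, 2, -1, 1, 1⟩, 23, 79),
  (⟨1, -2, 2, 0, 0, 1, 1, -1⟩, 20, 21),
  (⟨1, -1, 0, -1, -2, 0, -1, 2⟩, 29, 27),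
  (⟨1, -1, 0, -1, 2, 0, -1, 2⟩, 21, 25),
  (⟨1, -1, 0, 1, 0, 0, -3, 0⟩, 28, 60),
  (⟨1, -1, 2, -1, 0, -2, -1, 0⟩, 24, 22),
  (⟨1, -1, 2, -1, 0, 2, -1, 0⟩, 23, 21),
  (⟨1, 0, -2, 0, 2, -1, -1, -1⟩, 24, 71),
  (⟨1, 0, -2, 2, 0, -1, 1, 1⟩, 21, 68),
  (⟨1, 0, 0, -2, -2, 1, 1, -1⟩, 25, 14),
  (⟨1, 0, 0, 2, -2, 1, 1, -1⟩, 22, 8),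
  (⟨1, 0, 2, -2, 0, -1, 1, 1⟩, 27, 52),
  (⟨1, 0, 2, 0, 2, -1, -1, -1⟩, 26, 2),
  (⟨1, 1, -2, 1, 0, 0, -1, 2⟩, 22, 44),
  (⟨1, 1, 0, 1, -2, 2, -1, 0⟩, 20, 40),
  (⟨1, 1, 0, 1, 2, -2, -1, 0⟩, 27, 38),
  (⟨1, 1, 2, -1, -2, 0, 1, 0⟩, 26, 36),
  (⟨1, 1, 2, -1, 2, 0, 1, 0⟩, 25, 1),
  (⟨2, -2, -1, 0, -1, -1, 0, -1⟩, 26, 28),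
  (⟨2, -2, 1, 0, 1, 1, 0, 1⟩, 22, 25),
  (⟨2, -1, -1, -1, -1, 0, -2, 0⟩, 27, 30),
  (⟨2, -1, -1, -1, -1, 0, 2, 0⟩, 24, 19),
  (⟨2, -1, -1, 1, 1, 0, 0, -2⟩, 25, 16),
  (⟨2, -1, -1, 1, 1, 0, 0, 2⟩, 20, 15),
  (⟨2, -1, 1, 1, -1, 2, 0, 0⟩, 21, 8),
  (⟨2, 0, -1, 0, 1, 1, 2, -1⟩, 27, 17),
  (⟨2, 0, -1, 2, -1, 1, 0, 1⟩, 23, 15),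
  (⟨2, 0, 1, -2, 1, -1, 0, -1⟩, 28, 13),
  (⟨2, 0, 1, 0, -1, -1, -2, 1⟩, 25, 12),
  (⟨3, 0, 0, 0, 0, -1, 1, -1⟩, 29, 11)]

def bucket99 : List (SQ × ℕ × ℕ) := [
  (⟨-2, 0, -2, 0, -2, 0, 0, 0⟩, 23, 118),
  (⟨-2, 0, -2, 0, 0, 0, -2, 0⟩, 21, 116),
  (⟨-2, 0, -2, 0, 0, 0, 2, 0⟩, 22, 117),
  (⟨-2, 0, -2, 0, 2, 0, 0, 0⟩, 20, 115),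
  (⟨-2, 0, 0, 0, -2, 0, -2, 0⟩, 22, 102),
  (⟨-2, 0, 0, 0, -2, 0, 2, 0⟩, 20, 101),
  (⟨-2, 0, 0, 0, 2, 0, -2, 0⟩, 23, 100),
  (⟨-2, 0, 0, 0, 2, 0, 2, 0⟩, 21, 99),
  (⟨-2, 0, 2, 0, -2, 0, 0, 0⟩, 21, 102),
  (⟨-2, 0, 2, 0, 0, 0, -2, 0⟩, 20, 100),
  (⟨-2, 0, 2, 0, 0, 0, 2, 0⟩, 23, 101),
  (⟨-2, 0, 2, 0, 2, 0, 0, 0⟩, 22, 99),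
  (⟨-2, 2, 0, -2, 0, 0, 0, 0⟩, 28, 95),
  (⟨-2, 2, 0, 0, 0, -2, 0, 0⟩, 24, 88),
  (⟨-2, 2, 0, 0, 0, 0, 0, -2⟩, 26, 92),
  (⟨-2, 2, 0, 0, 0, 0, 0, 2⟩, 27, 93),
  (⟨-2, 2, 0, 0, 0, 2, 0, 0⟩, 25, 87),
  (⟨-2, 2, 0, 2, 0, 0, 0, 0⟩, 29, 90),
  (⟨0, -2, -2, 2, 0, 0, 0, 0⟩, 29, 83),
  (⟨0, -2, 0, 0, -2, 2, 0, 0⟩, 25, 82),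
  (⟨0, -2, 0, 0, 0, 0, -2, 2⟩, 27, 76),
  (⟨0, -2, 0, 0, 0, 0, 2, -2⟩, 26, 75),
  (⟨0, -2, 0, 0, 2, -2, 0, 0⟩, 24, 79),
  (⟨0, -2, 2, -2, 0, 0, 0, 0⟩, 28, 77),
  (⟨0, 0, -2, 0, -2, 0, -2, 0⟩, 20, 118),
  (⟨0, 0, -2, 0, -2, 0, 2, 0⟩, 21, 117),
  (⟨0, 0, -2, 0, 2, 0, -2, 0⟩, 22, 116),
  (⟨0, 0, -2, 0, 2, 0, 2, 0⟩, 23, 115),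
  (⟨0, 0, -2, 2, 0, -2, 0, 0⟩, 27, 69),
  (⟨0, 0, -2, 2, 0, 0, 0, -2⟩, 24, 114),
  (⟨0, 0, -2, 2, 0, 0, 0, 2⟩, 25, 113),
  (⟨0, 0, -2, 2, 0, 2, 0, 0⟩, 26, 66),
  (⟨0, 0, 0, -2, -2, 2, 0, 0⟩, 26, 112),
  (⟨0, 0, 0, -2, 0, 0, -2, 2⟩, 25, 63),
  (⟨0, 0, 0, -2, 0, 0, 2, -2⟩, 24, 64),
  (⟨0, 0, 0, -2, 2, -2, 0, 0⟩, 27, 111),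
  (⟨0, 0, 0, 0, -2, 2, 0, -2⟩, 29, 73),
  (⟨0, 0, 0, 0, -2, 2, 0, 2⟩, 28, 48),
  (⟨0, 0, 0, 0, 0, -2, -2, 2⟩, 28, 110),
  (⟨0, 0, 0, 0, 0, -2, 2, -2⟩, 29, 109),
  (⟨0, 0, 0, 0, 0, 2, -2, 2⟩, 29, 10),
  (⟨0, 0, 0, 0, 0, 2, 2, -2⟩, 28, 9),
  (⟨0, 0, 0, 0, 2, -2, 0, -2⟩, 28, 71),
  (⟨0, 0, 0, 0, 2, -2, 0, 2⟩, 29, 46),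
  (⟨0, 0, 0, 2, -2, 2, 0, 0⟩, 27, 8),
  (⟨0, 0, 0, 2, 0, 0, -2, 2⟩, 24, 55),
  (⟨0, 0, 0, 2, 0, 0, 2, -2⟩, 25, 56),
  (⟨0, 0, 0, 2, 2, -2, 0, 0⟩, 26, 7),
  (⟨0, 0, 2, -2, 0, -2, 0, 0⟩, 26, 53),
  (⟨0, 0, 2, -2, 0, 0, 0, -2⟩, 25, 6),
  (⟨0, 0, 2, -2, 0, 0, 0, 2⟩, 24, 5),
  (⟨0, 0, 2, -2, 0, 2, 0, 0⟩, 27, 50),
  (⟨0, 0, 2, 0, -2, 0, -2, 0⟩, 23, 4),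
  (⟨0, 0, 2, 0, -2, 0, 2, 0⟩, 22, 3),
  (⟨0, 0, 2, 0, 2, 0, -2, 0⟩, 21, 2),
  (⟨0, 0, 2, 0, 2, 0, 2, 0⟩, 20, 1),
  (⟨0, 2, -2, 2, 0, 0, 0, 0⟩, 28, 42),
  (⟨0, 2, 0, 0, -2, 2, 0, 0⟩, 24, 40),
  (⟨0, 2, 0, 0, 0, 0, -2, 2⟩, 26, 44),
  (⟨0, 2, 0, 0, 0, 0, 2, -2⟩, 27, 43),
  (⟨0, 2, 0, 0, 2, -2, 0, 0⟩, 25, 37),
  (⟨0, 2, 2, -2, 0, 0, 0, 0⟩, 29, 36),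
  (⟨2, -2, 0, -2, 0, 0, 0, 0⟩, 29, 29),
  (⟨2, -2, 0, 0, 0, -2, 0, 0⟩, 25, 32),
  (⟨2, -2, 0, 0, 0, 0, 0, -2⟩, 27, 26),
  (⟨2, -2, 0, 0, 0, 0, 0, 2⟩, 26, 27),
  (⟨2, -2, 0, 0, 0, 2, 0, 0⟩, 24, 31),
  (⟨2, -2, 0, 2, 0, 0, 0, 0⟩, 28, 24),
  (⟨2, 0, -2, 0, -2, 0, 0, 0⟩, 22, 20),
  (⟨2, 0, -2, 0, 0, 0, -2, 0⟩, 23, 18),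
  (⟨2, 0, -2, 0, 0, 0, 2, 0⟩, 20, 19),
  (⟨2, 0, -2, 0, 2, 0, 0, 0⟩, 21, 17),
  (⟨2, 0, 0, 0, -2, 0, -2, 0⟩, 21, 20),
  (⟨2, 0, 0, 0, -2, 0, 2, 0⟩, 23, 19),
  (⟨2, 0, 0, 0, 2, 0, -2, 0⟩, 20, 18),
  (⟨2, 0, 0, 0, 2, 0, 2, 0⟩, 22, 17),
  (⟨2, 0, 2, 0, -2, 0, 0, 0⟩, 20, 4),
  (⟨2, 0, 2, 0, 0, 0, -2, 0⟩, 22, 2),
  (⟨2, 0, 2, 0, 0, 0, 2, 0⟩, 21, 3),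
  (⟨2, 0, 2, 0, 2, 0, 0, 0⟩, 23, 1)]

def bucket100 : List (SQ × ℕ × ℕ) := [
  (⟨-3, 0, -1, 1, 0, 0, 0, -1⟩, 24, 119),
  (⟨-2, 0, -2, 1, -1, 0, 1, 1⟩, 29, 113),
  (⟨-2, 0, 0, -1, -1, 2, -1, 1⟩, 21, 108),
  (⟨-2, 0, 0, 1, 1, -2, 1, -1⟩, 25, 109),
  (⟨-2, 0, 2, -1, 1, 0, -1, -1⟩, 26, 100),
  (⟨-2, 1, -2, 0, -1, -1, -1, 0⟩, 27, 118),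
  (⟨-2, 1, 0, -2, -1, 1, 1, 0⟩, 23, 112),
  (⟨-2, 1, 0, 0, 1, 1, -1, 2⟩, 20, 91),
  (⟨-2, 1, 0, 2, -1, 1, 1, 0⟩, 26, 89),
  (⟨-2, 1, 2, 0, -1, -1, -1, 0⟩, 29, 102),
  (⟨-2, 2, 0, -1, 1, 0, 1, 1⟩, 22, 95),
  (⟨-2, 2, 0, 1, -1, 0, -1, -1⟩, 28, 94),
  (⟨-1, -1, -1, 0, 2, -1, -2, 0⟩, 28, 116),
  (⟨-1, -1, -1, 0, 2, -1, 2, 0⟩, 26, 79),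
  (⟨-1, -1, 1, -2, -2, 1, 0, 0⟩, 22, 78),
  (⟨-1, -1, 1, 0, 0, 1, -2, 2⟩, 23, 76),
  (⟨-1, -1, 1, 0, 0, 1, 2, -2⟩, 29, 107),
  (⟨-1, 0, -1, -1, -2, 2, 0, -1⟩, 20, 112),
  (⟨-1, 0, -1, -1, 2, -2, 0, -1⟩, 29, 111),
  (⟨-1, 0, -1, 1, 0, -2, -2, 1⟩, 26, 69),
  (⟨-1, 0, -1, 1, 0, 2, -2, 1⟩, 22, 108),
  (⟨-1, 0, 1, 1, -2, 0, 2, -1⟩, 27, 56),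
  (⟨-1, 0, 1, 1, 2, 0, 2, -1⟩, 28, 54),
  (⟨-1, 1, 1, -2, 0, -1, -2, 0⟩, 24, 53),
  (⟨-1, 1, 1, -2, 0, -1, 2, 0⟩, 20, 52),
  (⟨-1, 1, 1, 0, 2, -1, 0, -2⟩, 27, 92),
  (⟨-1, 1, 1, 0, 2, -1, 0, 2⟩, 21, 46),
  (⟨-1, 1, 3, 0, 0, 1, 0, 0⟩, 25, 45),
  (⟨-1, 2, -1, -1, 0, 0, 2, -1⟩, 21, 95),
  (⟨-1, 2, -1, 1, -2, 0, 0, 1⟩, 25, 93),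
  (⟨-1, 2, -1, 1, 2, 0, 0, 1⟩, 23, 91),
  (⟨0, -2, -2, 1, 1, 0, 1, -1⟩, 27, 83),
  (⟨0, -2, 2, -1, -1, 0, -1, 1⟩, 20, 76),
  (⟨0, -1, -2, 0, 1, -1, -1, 2⟩, 24, 70),
  (⟨0, -1, -2, 2, -1, -1, 1, 0⟩, 28, 84),
  (⟨0, -1, 0, 0, -1, 1, 3, 0⟩, 25, 81),
  (⟨0, -1, 2, -2, -1, -1, 1, 0⟩, 21, 78),
  (⟨0, -1, 2, 0, 1, -1, -1, 2⟩, 22, 46),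
  (⟨0, 0, -2, 1, -1, 2, -1, -1⟩, 23, 67),
  (⟨0, 0, 0, -1, 3, 0, 1, -1⟩, 24, 62),
  (⟨0, 0, 0, 1, -3, 0, -1, 1⟩, 24, 57),
  (⟨0, 0, 2, -1, 1, -2, 1, 1⟩, 23, 52),
  (⟨0, 1, -2, 0, -1, 1, 1, -2⟩, 22, 73),
  (⟨0, 1, -2, 2, 1, 1, -1, 0⟩, 21, 41),
  (⟨0, 1, 0, 0, 1, -1, -3, 0⟩, 25, 38),
  (⟨0, 1, 2, -2, 1, 1, -1, 0⟩, 28, 35),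
  (⟨0, 1, 2, 0, -1, 1, 1, -2⟩, 24, 49),
  (⟨0, 2, -2, 1, 1, 0, 1, -1⟩, 20, 43),
  (⟨0, 2, 2, -1, -1, 0, -1, 1⟩, 27, 36),
  (⟨1, -2, 1, -1, -2, 0, 0, -1⟩, 23, 28),
  (⟨1, -2, 1, -1, 2, 0, 0, -1⟩, 25, 26),
  (⟨1, -2, 1, 1, 0, 0, -2, 1⟩, 21, 24),
  (⟨1, -1, -3, 0, 0, -1, 0, 0⟩, 25, 74),
  (⟨1, -1, -1, 0, -2, 1, 0, -2⟩, 21, 73),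
  (⟨1, -1, -1, 0, -2, 1, 0, 2⟩, 27, 27),
  (⟨1, -1, -1, 2, 0, 1, -2, 0⟩, 20, 67),
  (⟨1, -1, -1, 2, 0, 1, 2, 0⟩, 24, 66),
  (⟨1, 0, -1, -1, -2, 0, -2, 1⟩, 28, 65),
  (⟨1, 0, -1, -1, 2, 0, -2, 1⟩, 27, 63),
  (⟨1, 0, 1, -1, 0, -2, 2, -1⟩, 22, 11),
  (⟨1, 0, 1, -1, 0, 2, 2, -1⟩, 26, 50),
  (⟨1, 0, 1, 1, -2, 2, 0, 1⟩, 29, 8),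
  (⟨1, 0, 1, 1, 2, -2, 0, 1⟩, 20, 7),
  (⟨1, 1, -1, 0, 0, -1, -2, 2⟩, 29, 12),
  (⟨1, 1, -1, 0, 0, -1, 2, -2⟩, 23, 43),
  (⟨1, 1, -1, 2, 2, -1, 0, 0⟩, 22, 41),
  (⟨1, 1, 1, 0, -2, 1, -2, 0⟩, 26, 40),
  (⟨1, 1, 1, 0, -2, 1, 2, 0⟩, 28, 3),
  (⟨2, -2, 0, -1, 1, 0, 1, 1⟩, 28, 25),
  (⟨2, -2, 0, 1, -1, 0, -1, -1⟩, 22, 24),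
  (⟨2, -1, -2, 0, 1, 1, 1, 0⟩, 29, 17),
  (⟨2, -1, 0, -2, 1, -1, -1, 0⟩, 26, 30),
  (⟨2, -1, 0, 0, -1, -1, 1, -2⟩, 20, 28),
  (⟨2, -1, 0, 2, 1, -1, -1, 0⟩, 23, 7),
  (⟨2, -1, 2, 0, 1, 1, 1, 0⟩, 27, 1),
  (⟨2, 0, -2, 1, -1, 0, 1, 1⟩, 26, 19),
  (⟨2, 0, 0, -1, -1, 2, -1, 1⟩, 25, 10),
  (⟨2, 0, 0, 1, 1, -2, 1, -1⟩, 21, 11),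
  (⟨2, 0, 2, -1, 1, 0, -1, -1⟩, 29, 6),
  (⟨3, 0, 1, -1, 0, 0, 0, 1⟩, 24, 0)]

def bucket101 : List (SQ × ℕ × ℕ) := [
  (⟨-3, 0, -1, 1, 0, 0, 0, 1⟩, 25, 119),
  (⟨-2, 0, -2, 1, 1, 0, -1, -1⟩, 29, 116),
  (⟨-2, 0, 0, -1, 1, -2, 1, -1⟩, 22, 109),
  (⟨-2, 0, 0, 1, -1, 2, -1, 1⟩, 24, 108),
  (⟨-2, 0, 2, -1, -1, 0, 1, 1⟩, 27, 101),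
  (⟨-2, 1, -2, 0, 1, 1, 1, 0⟩, 26, 115),
  (⟨-2, 1, 0, -2, 1, -1, -1, 0⟩, 20, 111),
  (⟨-2, 1, 0, 0, -1, -1, 1, -2⟩, 23, 94),
  (⟨-2, 1, 0, 2, 1, -1, -1, 0⟩, 27, 90),
  (⟨-2, 1, 2, 0, 1, 1, 1, 0⟩, 29, 87),
  (⟨-2, 2, 0, -1, -1, 0, -1, -1⟩, 21, 96),
  (⟨-2, 2, 0, 1, 1, 0, 1, 1⟩, 28, 89),
  (⟨-1, -1, -1, 0, -2, 1, -2, 0⟩, 27, 82),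
  (⟨-1, -1, -1, 0, -2, 1, 2, 0⟩, 28, 81),
  (⟨-1, -1, 1, -2, 2, -1, 0, 0⟩, 21, 77),
  (⟨-1, -1, 1, 0, 0, -1, -2, 2⟩, 29, 76),
  (⟨-1, -1, 1, 0, 0, -1, 2, -2⟩, 20, 75),
  (⟨-1, 0, -1, -1, -2, 2, 0, 1⟩, 29, 72),
  (⟨-1, 0, -1, -1, 2, -2, 0, 1⟩, 23, 111),
  (⟨-1, 0, -1, 1, 0, -2, 2, -1⟩, 21, 109),
  (⟨-1, 0, -1, 1, 0, 2, 2, -1⟩, 27, 66),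
  (⟨-1, 0, 1, 1, -2, 0, -2, 1⟩, 28, 102),
  (⟨-1, 0, 1, 1, 2, 0, -2, 1⟩, 26, 55),
  (⟨-1, 1, 1, -2, 0, 1, -2, 0⟩, 23, 51),
  (⟨-1, 1, 1, -2, 0, 1, 2, 0⟩, 25, 50),
  (⟨-1, 1, 1, 0, -2, 1, 0, -2⟩, 22, 49),
  (⟨-1, 1, 1, 0, -2, 1, 0, 2⟩, 26, 93),
  (⟨-1, 1, 3, 0, 0, -1, 0, 0⟩, 24, 45),
  (⟨-1, 2, -1, -1, 0, 0, -2, 1⟩, 22, 96),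
  (⟨-1, 2, -1, 1, -2, 0, 0, -1⟩, 20, 94),
  (⟨-1, 2, -1, 1, 2, 0, 0, -1⟩, 24, 92),
  (⟨0, -2, -2, 1, -1, 0, -1, 1⟩, 26, 84),
  (⟨0, -2, 2, -1, 1, 0, 1, -1⟩, 23, 75),
  (⟨0, -1, -2, 0, -1, 1, 1, -2⟩, 25, 73),
  (⟨0, -1, -2, 2, 1, 1, -1, 0⟩, 28, 67),
  (⟨0, -1, 0, 0, 1, -1, -3, 0⟩, 24, 80),
  (⟨0, -1, 2, -2, 1, 1, -1, 0⟩, 22, 77),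
  (⟨0, -1, 2, 0, -1, 1, 1, -2⟩, 21, 49),
  (⟨0, 0, -2, 1, 1, -2, 1, 1⟩, 20, 68),
  (⟨0, 0, 0, -1, -3, 0, -1, 1⟩, 25, 65),
  (⟨0, 0, 0, 1, 3, 0, 1, -1⟩, 25, 54),
  (⟨0, 0, 2, -1, -1, 2, -1, -1⟩, 20, 51),
  (⟨0, 1, -2, 0, 1, -1, -1, 2⟩, 21, 70),
  (⟨0, 1, -2, 2, -1, -1, 1, 0⟩, 22, 42),
  (⟨0, 1, 0, 0, -1, 1, 3, 0⟩, 24, 39),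
  (⟨0, 1, 2, -2, -1, -1, 1, 0⟩, 28, 52),
  (⟨0, 1, 2, 0, 1, -1, -1, 2⟩, 25, 46),
  (⟨0, 2, -2, 1, -1, 0, -1, 1⟩, 23, 44),
  (⟨0, 2, 2, -1, 1, 0, 1, -1⟩, 26, 35),
  (⟨1, -2, 1, -1, -2, 0, 0, 1⟩, 24, 27),
  (⟨1, -2, 1, -1, 2, 0, 0, 1⟩, 20, 25),
  (⟨1, -2, 1, 1, 0, 0, 2, -1⟩, 22, 23),
  (⟨1, -1, -3, 0, 0, 1, 0, 0⟩, 24, 74),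
  (⟨1, -1, -1, 0, 2, -1, 0, -2⟩, 26, 26),
  (⟨1, -1, -1, 0, 2, -1, 0, 2⟩, 22, 70),
  (⟨1, -1, -1, 2, 0, -1, -2, 0⟩, 25, 69),
  (⟨1, -1, -1, 2, 0, -1, 2, 0⟩, 23, 68),
  (⟨1, 0, -1, -1, -2, 0, 2, -1⟩, 26, 64),
  (⟨1, 0, -1, -1, 2, 0, 2, -1⟩, 28, 17),
  (⟨1, 0, 1, -1, 0, -2, -2, 1⟩, 27, 53),
  (⟨1, 0, 1, -1, 0, 2, -2, 1⟩, 21, 10),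
  (⟨1, 0, 1, 1, -2, 2, 0, -1⟩, 23, 8),
  (⟨1, 0, 1, 1, 2, -2, 0, -1⟩, 29, 47),
  (⟨1, 1, -1, 0, 0, 1, -2, 2⟩, 20, 44),
  (⟨1, 1, -1, 0, 0, 1, 2, -2⟩, 29, 43),
  (⟨1, 1, -1, 2, -2, 1, 0, 0⟩, 21, 42),
  (⟨1, 1, 1, 0, 2, -1, -2, 0⟩, 28, 38),
  (⟨1, 1, 1, 0, 2, -1, 2, 0⟩, 27, 37),
  (⟨2, -2, 0, -1, -1, 0, -1, -1⟩, 28, 30),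
  (⟨2, -2, 0, 1, 1, 0, 1, 1⟩, 21, 23),
  (⟨2, -1, -2, 0, -1, -1, -1, 0⟩, 29, 32),
  (⟨2, -1, 0, -2, -1, 1, 1, 0⟩, 27, 29),
  (⟨2, -1, 0, 0, 1, 1, -1, 2⟩, 23, 25),
  (⟨2, -1, 0, 2, -1, 1, 1, 0⟩, 20, 8),
  (⟨2, -1, 2, 0, -1, -1, -1, 0⟩, 26, 4),
  (⟨2, 0, -2, 1, 1, 0, -1, -1⟩, 27, 18),
  (⟨2, 0, 0, -1, 1, -2, 1, -1⟩, 24, 11),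
  (⟨2, 0, 0, 1, -1, 2, -1, 1⟩, 22, 10),
  (⟨2, 0, 2, -1, -1, 0, 1, 1⟩, 29, 3),
  (⟨3, 0, 1, -1, 0, 0, 0, -1⟩, 25, 0)]

def bucket102 : List (SQ × ℕ × ℕ) := [
  (⟨-3, 0, -1, 0, -1, 0, -1, 0⟩, 20, 119),
  (⟨-3, 0, -1, 0, 1, 0, 1, 0⟩, 23, 119),
  (⟨-3, 0, 1, 0, -1, 0, 1, 0⟩, 22, 101),
  (⟨-3, 0, 1, 0, 1, 0, -1, 0⟩, 21, 100),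
  (⟨-1, 0, -3, 0, -1, 0, -1, 0⟩, 22, 118),
  (⟨-1, 0, -3, 0, 1, 0, 1, 0⟩, 21, 115),
  (⟨-1, 0, -1, 0, -3, 0, -1, 0⟩, 21, 118),
  (⟨-1, 0, -1, 0, -1, 0, -3, 0⟩, 23, 60),
  (⟨-1, 0, -1, 0, -1, 2, 1, -2⟩, 26, 107),
  (⟨-1, 0, -1, 0, 1, -2, -1, 2⟩, 27, 110),
  (⟨-1, 0, -1, 0, 1, 0, 3, 0⟩, 20, 59),
  (⟨-1, 0, -1, 0, 3, 0, 1, 0⟩, 22, 115),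
  (⟨-1, 0, -1, 2, -1, 0, 1, -2⟩, 29, 114),
  (⟨-1, 0, -1, 2, -1, 2, 1, 0⟩, 25, 106),
  (⟨-1, 0, -1, 2, 1, -2, -1, 0⟩, 24, 105),
  (⟨-1, 0, -1, 2, 1, 0, -1, 2⟩, 29, 55),
  (⟨-1, 0, 1, -2, -1, 0, -1, 2⟩, 28, 103),
  (⟨-1, 0, 1, -2, -1, 2, -1, 0⟩, 25, 51),
  (⟨-1, 0, 1, -2, 1, -2, 1, 0⟩, 24, 52),
  (⟨-1, 0, 1, -2, 1, 0, 1, -2⟩, 28, 62),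
  (⟨-1, 0, 1, 0, -3, 0, 1, 0⟩, 23, 61),
  (⟨-1, 0, 1, 0, -1, 0, 3, 0⟩, 21, 101),
  (⟨-1, 0, 1, 0, -1, 2, -1, 2⟩, 27, 48),
  (⟨-1, 0, 1, 0, 1, -2, 1, -2⟩, 26, 47),
  (⟨-1, 0, 1, 0, 1, 0, -3, 0⟩, 22, 100),
  (⟨-1, 0, 1, 0, 3, 0, -1, 0⟩, 20, 58),
  (⟨-1, 0, 3, 0, -1, 0, 1, 0⟩, 20, 45),
  (⟨-1, 0, 3, 0, 1, 0, -1, 0⟩, 23, 45),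
  (⟨-1, 2, -1, 0, -1, 0, 1, -2⟩, 24, 94),
  (⟨-1, 2, -1, 0, -1, 2, 1, 0⟩, 28, 39),
  (⟨-1, 2, -1, 0, 1, -2, -1, 0⟩, 28, 98),
  (⟨-1, 2, -1, 0, 1, 0, -1, 2⟩, 25, 91),
  (⟨-1, 2, -1, 2, -1, 0, 1, 0⟩, 27, 42),
  (⟨-1, 2, -1, 2, 1, 0, -1, 0⟩, 26, 41),
  (⟨-1, 2, 1, -2, -1, 0, -1, 0⟩, 26, 96),
  (⟨-1, 2, 1, -2, 1, 0, 1, 0⟩, 27, 95),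
  (⟨-1, 2, 1, 0, -1, 0, -1, 2⟩, 24, 34),
  (⟨-1, 2, 1, 0, -1, 2, -1, 0⟩, 29, 40),
  (⟨-1, 2, 1, 0, 1, -2, 1, 0⟩, 29, 88),
  (⟨-1, 2, 1, 0, 1, 0, 1, -2⟩, 25, 33),
  (⟨1, -2, -1, 0, -1, 0, -1, 2⟩, 25, 86),
  (⟨1, -2, -1, 0, -1, 2, -1, 0⟩, 29, 31),
  (⟨1, -2, -1, 0, 1, -2, 1, 0⟩, 29, 79),
  (⟨1, -2, -1, 0, 1, 0, 1, -2⟩, 24, 85),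
  (⟨1, -2, -1, 2, -1, 0, -1, 0⟩, 27, 24),
  (⟨1, -2, -1, 2, 1, 0, 1, 0⟩, 26, 23),
  (⟨1, -2, 1, -2, -1, 0, 1, 0⟩, 26, 78),
  (⟨1, -2, 1, -2, 1, 0, -1, 0⟩, 27, 77),
  (⟨1, -2, 1, 0, -1, 0, 1, -2⟩, 25, 28),
  (⟨1, -2, 1, 0, -1, 2, 1, 0⟩, 28, 21),
  (⟨1, -2, 1, 0, 1, -2, -1, 0⟩, 28, 80),
  (⟨1, -2, 1, 0, 1, 0, -1, 2⟩, 24, 25),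
  (⟨1, 0, -3, 0, -1, 0, 1, 0⟩, 23, 74),
  (⟨1, 0, -3, 0, 1, 0, -1, 0⟩, 20, 74),
  (⟨1, 0, -1, 0, -3, 0, 1, 0⟩, 20, 61),
  (⟨1, 0, -1, 0, -1, 0, 3, 0⟩, 22, 19),
  (⟨1, 0, -1, 0, -1, 2, -1, 2⟩, 26, 72),
  (⟨1, 0, -1, 0, 1, -2, 1, -2⟩, 27, 71),
  (⟨1, 0, -1, 0, 1, 0, -3, 0⟩, 21, 18),
  (⟨1, 0, -1, 0, 3, 0, -1, 0⟩, 23, 58),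
  (⟨1, 0, -1, 2, -1, 0, -1, 2⟩, 28, 57),
  (⟨1, 0, -1, 2, -1, 2, -1, 0⟩, 24, 67),
  (⟨1, 0, -1, 2, 1, -2, 1, 0⟩, 25, 68),
  (⟨1, 0, -1, 2, 1, 0, 1, -2⟩, 28, 16),
  (⟨1, 0, 1, -2, -1, 0, 1, -2⟩, 29, 64),
  (⟨1, 0, 1, -2, -1, 2, 1, 0⟩, 24, 14),
  (⟨1, 0, 1, -2, 1, -2, -1, 0⟩, 25, 13),
  (⟨1, 0, 1, -2, 1, 0, -1, 2⟩, 29, 5),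
  (⟨1, 0, 1, 0, -3, 0, -1, 0⟩, 22, 4),
  (⟨1, 0, 1, 0, -1, 0, -3, 0⟩, 20, 60),
  (⟨1, 0, 1, 0, -1, 2, 1, -2⟩, 27, 9),
  (⟨1, 0, 1, 0, 1, -2, -1, 2⟩, 26, 12),
  (⟨1, 0, 1, 0, 1, 0, 3, 0⟩, 23, 59),
  (⟨1, 0, 1, 0, 3, 0, 1, 0⟩, 21, 1),
  (⟨1, 0, 3, 0, -1, 0, -1, 0⟩, 21, 4),
  (⟨1, 0, 3, 0, 1, 0, 1, 0⟩, 22, 1),
  (⟨3, 0, -1, 0, -1, 0, 1, 0⟩, 21, 19),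
  (⟨3, 0, -1, 0, 1, 0, -1, 0⟩, 22, 18),
  (⟨3, 0, 1, 0, -1, 0, -1, 0⟩, 23, 0),
  (⟨3, 0, 1, 0, 1, 0, 1, 0⟩, 20, 0)]

def bucket103 : List (SQ × ℕ × ℕ) := [
  (⟨-3, 0, 0, 0, 0, 1, 1, -1⟩, 28, 107),
  (⟨-2, 0, -1, 0, -1, -1, 2, -1⟩, 26, 109),
  (⟨-2, 0, -1, 2, 1, -1, 0, 1⟩, 21, 105),
  (⟨-2, 0, 1, -2, -1, 1, 0, -1⟩, 29, 112),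
  (⟨-2, 0, 1, 0, 1, 1, -2, 1⟩, 25, 100),
  (⟨-2, 1, -1, -1, 1, 0, -2, 0⟩, 26, 116),
  (⟨-2, 1, -1, -1, 1, 0, 2, 0⟩, 24, 95),
  (⟨-2, 1, -1, 1, -1, 0, 0, -2⟩, 25, 94),
  (⟨-2, 1, -1, 1, -1, 0, 0, 2⟩, 22, 93),
  (⟨-2, 1, 1, 1, 1, -2, 0, 0⟩, 23, 88),
  (⟨-2, 2, -1, 0, 1, 1, 0, -1⟩, 27, 97),
  (⟨-2, 2, 1, 0, -1, -1, 0, 1⟩, 20, 88),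
  (⟨-1, -1, -2, 1, 0, 0, -1, 2⟩, 20, 113),
  (⟨-1, -1, 0, 1, -2, 2, -1, 0⟩, 26, 106),
  (⟨-1, -1, 0, 1, 2, -2, -1, 0⟩, 22, 105),
  (⟨-1, -1, 2, -1, -2, 0, 1, 0⟩, 25, 78),
  (⟨-1, -1, 2, -1, 2, 0, 1, 0⟩, 27, 99),
  (⟨-1, 0, -2, 0, -2, 1, -1, -1⟩, 24, 118),
  (⟨-1, 0, -2, 2, 0, 1, 1, 1⟩, 23, 113),
  (⟨-1, 0, 0, -2, 2, -1, 1, -1⟩, 25, 62),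
  (⟨-1, 0, 0, 2, 2, -1, 1, -1⟩, 20, 54),
  (⟨-1, 0, 2, -2, 0, 1, 1, 1⟩, 26, 103),
  (⟨-1, 0, 2, 0, -2, 1, -1, -1⟩, 27, 49),
  (⟨-1, 1, 0, -1, -2, 0, -1, 2⟩, 23, 65),
  (⟨-1, 1, 0, -1, 2, 0, -1, 2⟩, 28, 91),
  (⟨-1, 1, 0, 1, 0, 0, -3, 0⟩, 29, 60),
  (⟨-1, 1, 2, -1, 0, -2, -1, 0⟩, 21, 53),
  (⟨-1, 1, 2, -1, 0, 2, -1, 0⟩, 24, 51),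
  (⟨-1, 2, -2, 0, 0, -1, 1, -1⟩, 29, 98),
  (⟨-1, 2, 0, 0, -2, 1, 1, 1⟩, 21, 93),
  (⟨-1, 2, 2, 0, 0, -1, 1, -1⟩, 22, 33),
  (⟨0, -2, -1, 0, 1, -1, -2, 1⟩, 23, 80),
  (⟨0, -2, 1, 0, -1, 1, 2, -1⟩, 24, 81),
  (⟨0, -1, -1, -1, -1, 0, -2, 2⟩, 21, 86),
  (⟨0, -1, -1, -1, -1, 0, 2, -2⟩, 27, 85),
  (⟨0, -1, -1, 1, -3, 0, 0, 0⟩, 29, 84),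
  (⟨0, -1, 1, -1, 1, -2, -2, 0⟩, 20, 80),
  (⟨0, -1, 1, -1, 1, -2, 2, 0⟩, 28, 79),
  (⟨0, 0, -3, 0, 1, -1, 0, -1⟩, 28, 74),
  (⟨0, 0, -1, 2, 1, 1, 2, -1⟩, 22, 66),
  (⟨0, 0, 1, -2, -1, -1, -2, 1⟩, 22, 53),
  (⟨0, 0, 3, 0, -1, 1, 0, 1⟩, 28, 45),
  (⟨0, 1, -1, 1, -1, 2, -2, 0⟩, 28, 40),
  (⟨0, 1, -1, 1, -1, 2, 2, 0⟩, 20, 39),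
  (⟨0, 1, 1, -1, 3, 0, 0, 0⟩, 29, 35),
  (⟨0, 1, 1, 1, 1, 0, -2, 2⟩, 27, 34),
  (⟨0, 1, 1, 1, 1, 0, 2, -2⟩, 21, 33),
  (⟨0, 2, -1, 0, 1, -1, -2, 1⟩, 24, 38),
  (⟨0, 2, 1, 0, -1, 1, 2, -1⟩, 23, 39),
  (⟨1, -2, -2, 0, 0, 1, -1, 1⟩, 22, 86),
  (⟨1, -2, 0, 0, 2, -1, -1, -1⟩, 21, 26),
  (⟨1, -2, 2, 0, 0, 1, -1, 1⟩, 29, 21),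
  (⟨1, -1, -2, 1, 0, -2, 1, 0⟩, 24, 68),
  (⟨1, -1, -2, 1, 0, 2, 1, 0⟩, 21, 66),
  (⟨1, -1, 0, -1, 0, 0, 3, 0⟩, 29, 59),
  (⟨1, -1, 0, 1, -2, 0, 1, -2⟩, 28, 28),
  (⟨1, -1, 0, 1, 2, 0, 1, -2⟩, 23, 54),
  (⟨1, 0, -2, 0, 2, -1, 1, 1⟩, 27, 70),
  (⟨1, 0, -2, 2, 0, -1, -1, -1⟩, 26, 16),
  (⟨1, 0, 0, -2, -2, 1, -1, 1⟩, 20, 65),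
  (⟨1, 0, 0, 2, -2, 1, -1, 1⟩, 25, 57),
  (⟨1, 0, 2, -2, 0, -1, -1, -1⟩, 23, 6),
  (⟨1, 0, 2, 0, 2, -1, 1, 1⟩, 24, 1),
  (⟨1, 1, -2, 1, -2, 0, -1, 0⟩, 27, 20),
  (⟨1, 1, -2, 1, 2, 0, -1, 0⟩, 25, 41),
  (⟨1, 1, 0, -1, -2, 2, 1, 0⟩, 22, 14),
  (⟨1, 1, 0, -1, 2, -2, 1, 0⟩, 26, 13),
  (⟨1, 1, 2, -1, 0, 0, 1, -2⟩, 20, 6),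
  (⟨2, -2, -1, 0, 1, 1, 0, -1⟩, 20, 31),
  (⟨2, -2, 1, 0, -1, -1, 0, 1⟩, 27, 22),
  (⟨2, -1, -1, -1, -1, 2, 0, 0⟩, 23, 31),
  (⟨2, -1, 1, -1, 1, 0, 0, -2⟩, 22, 26),
  (⟨2, -1, 1, -1, 1, 0, 0, 2⟩, 25, 25),
  (⟨2, -1, 1, 1, -1, 0, -2, 0⟩, 24, 24),
  (⟨2, -1, 1, 1, -1, 0, 2, 0⟩, 26, 3),
  (⟨2, 0, -1, 0, -1, -1, 2, -1⟩, 25, 19),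
  (⟨2, 0, -1, 2, 1, -1, 0, 1⟩, 29, 7),
  (⟨2, 0, 1, -2, -1, 1, 0, -1⟩, 21, 14),
  (⟨2, 0, 1, 0, 1, 1, -2, 1⟩, 26, 10),
  (⟨3, 0, 0, 0, 0, -1, -1, 1⟩, 28, 12)]

def bucket104 : List (SQ × ℕ × ℕ) := [
  (⟨-3, 0, 0, 1, -1, 1, 0, 0⟩, 27, 106),
  (⟨-2, 0, -1, -1, -2, 1, 1, 0⟩, 25, 112),
  (⟨-2, 0, -1, 1, 0, 1, -1, 2⟩, 26, 113),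
  (⟨-2, 0, 1, -1, 0, -1, 1, -2⟩, 21, 104),
  (⟨-2, 0, 1, 1, 2, -1, -1, 0⟩, 29, 100),
  (⟨-2, 1, -1, 0, 0, -2, 1, -1⟩, 20, 109),
  (⟨-2, 1, -1, 0, 0, 2, 1, -1⟩, 29, 97),
  (⟨-2, 1, 1, -2, 0, 0, -1, -1⟩, 22, 104),
  (⟨-2, 1, 1, 0, -2, 0, 1, 1⟩, 28, 101),
  (⟨-2, 1, 1, 0, 2, 0, 1, 1⟩, 25, 99),
  (⟨-2, 2, -1, -1, 0, -1, -1, 0⟩, 23, 96),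
  (⟨-2, 2, 1, 1, 0, 1, 1, 0⟩, 24, 87),
  (⟨-1, -1, -2, 0, -1, 0, -2, 1⟩, 29, 86),
  (⟨-1, -1, -2, 2, 1, 0, 0, -1⟩, 25, 114),
  (⟨-1, -1, 0, 0, 1, -2, 2, -1⟩, 23, 109),
  (⟨-1, -1, 2, -2, 1, 0, 0, -1⟩, 20, 77),
  (⟨-1, -1, 2, 0, -1, 0, -2, 1⟩, 24, 76),
  (⟨-1, 0, -2, 1, 1, 1, -2, 0⟩, 24, 116),
  (⟨-1, 0, -2, 1, 1, 1, 2, 0⟩, 28, 66),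
  (⟨-1, 0, 0, 1, -1, -1, -2, 2⟩, 25, 110),
  (⟨-1, 0, 0, 1, -1, -1, 2, -2⟩, 22, 56),
  (⟨-1, 0, 2, -1, -1, 1, 0, -2⟩, 23, 49),
  (⟨-1, 0, 2, -1, -1, 1, 0, 2⟩, 29, 48),
  (⟨-1, 1, -2, 0, 1, -2, 0, 1⟩, 22, 98),
  (⟨-1, 1, 0, -2, 1, 0, -2, 1⟩, 21, 63),
  (⟨-1, 1, 0, 0, 3, 0, 0, -1⟩, 26, 58),
  (⟨-1, 1, 0, 2, 1, 0, -2, 1⟩, 28, 90),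
  (⟨-1, 1, 2, 0, 1, -2, 0, 1⟩, 27, 88),
  (⟨-1, 2, -2, 1, -1, -1, 0, 0⟩, 21, 98),
  (⟨-1, 2, 0, -1, -1, 1, -2, 0⟩, 20, 96),
  (⟨-1, 2, 0, -1, -1, 1, 2, 0⟩, 26, 95),
  (⟨0, -2, -1, 1, -2, 1, -1, 0⟩, 28, 82),
  (⟨0, -2, 1, -1, 2, -1, 1, 0⟩, 22, 79),
  (⟨0, -1, -3, 0, 0, 0, 1, -1⟩, 26, 85),
  (⟨0, -1, -1, 0, -2, 2, 1, 1⟩, 24, 72),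
  (⟨0, -1, -1, 0, 2, -2, 1, 1⟩, 21, 79),
  (⟨0, -1, 1, -2, -2, 0, -1, 1⟩, 27, 78),
  (⟨0, -1, 1, -2, 2, 0, -1, 1⟩, 23, 77),
  (⟨0, 0, -1, -1, 2, -1, -1, 2⟩, 20, 70),
  (⟨0, 0, -1, 1, 0, -1, -3, 0⟩, 27, 60),
  (⟨0, 0, 1, -1, 0, 1, 3, 0⟩, 27, 59),
  (⟨0, 0, 1, 1, -2, 1, 1, -2⟩, 20, 49),
  (⟨0, 1, -1, 2, -2, 0, 1, -1⟩, 23, 42),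
  (⟨0, 1, -1, 2, 2, 0, 1, -1⟩, 27, 41),
  (⟨0, 1, 1, 0, -2, 2, -1, -1⟩, 21, 40),
  (⟨0, 1, 1, 0, 2, -2, -1, -1⟩, 24, 47),
  (⟨0, 1, 3, 0, 0, 0, -1, 1⟩, 26, 34),
  (⟨0, 2, -1, 1, -2, 1, -1, 0⟩, 22, 40),
  (⟨0, 2, 1, -1, 2, -1, 1, 0⟩, 28, 37),
  (⟨1, -2, 0, 1, 1, -1, -2, 0⟩, 26, 24),
  (⟨1, -2, 0, 1, 1, -1, 2, 0⟩, 20, 23),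
  (⟨1, -2, 2, -1, 1, 1, 0, 0⟩, 21, 21),
  (⟨1, -1, -2, 0, -1, 2, 0, -1⟩, 27, 31),
  (⟨1, -1, 0, -2, -1, 0, 2, -1⟩, 28, 29),
  (⟨1, -1, 0, 0, -3, 0, 0, 1⟩, 26, 61),
  (⟨1, -1, 0, 2, -1, 0, 2, -1⟩, 21, 56),
  (⟨1, -1, 2, 0, -1, 2, 0, -1⟩, 22, 21),
  (⟨1, 0, -2, 1, 1, -1, 0, -2⟩, 29, 71),
  (⟨1, 0, -2, 1, 1, -1, 0, 2⟩, 23, 70),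
  (⟨1, 0, 0, -1, 1, 1, -2, 2⟩, 22, 63),
  (⟨1, 0, 0, -1, 1, 1, 2, -2⟩, 25, 9),
  (⟨1, 0, 2, -1, -1, -1, -2, 0⟩, 28, 53),
  (⟨1, 0, 2, -1, -1, -1, 2, 0⟩, 24, 3),
  (⟨1, 1, -2, 0, 1, 0, 2, -1⟩, 24, 43),
  (⟨1, 1, -2, 2, -1, 0, 0, 1⟩, 20, 42),
  (⟨1, 1, 0, 0, -1, 2, -2, 1⟩, 23, 10),
  (⟨1, 1, 2, -2, -1, 0, 0, 1⟩, 25, 5),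
  (⟨1, 1, 2, 0, 1, 0, 2, -1⟩, 29, 33),
  (⟨2, -2, -1, -1, 0, -1, -1, 0⟩, 24, 32),
  (⟨2, -2, 1, 1, 0, 1, 1, 0⟩, 23, 23),
  (⟨2, -1, -1, 0, -2, 0, -1, -1⟩, 25, 20),
  (⟨2, -1, -1, 0, 2, 0, -1, -1⟩, 28, 18),
  (⟨2, -1, -1, 2, 0, 0, 1, 1⟩, 22, 15),
  (⟨2, -1, 1, 0, 0, -2, -1, 1⟩, 29, 22),
  (⟨2, -1, 1, 0, 0, 2, -1, 1⟩, 20, 10),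
  (⟨2, 0, -1, -1, -2, 1, 1, 0⟩, 29, 19),
  (⟨2, 0, -1, 1, 0, 1, -1, 2⟩, 21, 15),
  (⟨2, 0, 1, -1, 0, -1, 1, -2⟩, 26, 6),
  (⟨2, 0, 1, 1, 2, -1, -1, 0⟩, 25, 7),
  (⟨3, 0, 0, -1, 1, -1, 0, 0⟩, 27, 13)]

def bucket105 : List (SQ × ℕ × ℕ) := [
  (⟨-3, 0, 0, -1, -1, 1, 0, 0⟩, 26, 119),
  (⟨-2, 0, -1, -1, 2, -1, 1, 0⟩, 28, 115),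
  (⟨-2, 0, -1, 1, 0, -1, -1, 2⟩, 23, 110),
  (⟨-2, 0, 1, -1, 0, 1, 1, -2⟩, 27, 107),
  (⟨-2, 0, 1, 1, -2, 1, -1, 0⟩, 25, 102),
  (⟨-2, 1, -1, 0, -2, 0, -1, -1⟩, 29, 118),
  (⟨-2, 1, -1, 0, 2, 0, -1, -1⟩, 25, 92),
  (⟨-2, 1, -1, 2, 0, 0, 1, 1⟩, 20, 89),
  (⟨-2, 1, 1, 0, 0, -2, -1, 1⟩, 22, 88),
  (⟨-2, 1, 1, 0, 0, 2, -1, 1⟩, 28, 87),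
  (⟨-2, 2, -1, -1, 0, 1, -1, 0⟩, 24, 96),
  (⟨-2, 2, 1, 1, 0, -1, 1, 0⟩, 21, 88),
  (⟨-1, -1, -2, 0, -1, 0, 2, -1⟩, 24, 117),
  (⟨-1, -1, -2, 2, 1, 0, 0, 1⟩, 22, 113),
  (⟨-1, -1, 0, 0, 1, -2, -2, 1⟩, 21, 80),
  (⟨-1, -1, 2, -2, 1, 0, 0, 1⟩, 25, 77),
  (⟨-1, -1, 2, 0, -1, 0, 2, -1⟩, 28, 75),
  (⟨-1, 0, -2, 1, -1, 1, 0, -2⟩, 28, 73),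
  (⟨-1, 0, -2, 1, -1, 1, 0, 2⟩, 21, 113),
  (⟨-1, 0, 0, -1, -1, -1, -2, 2⟩, 20, 110),
  (⟨-1, 0, 0, -1, -1, -1, 2, -2⟩, 25, 64),
  (⟨-1, 0, 2, -1, 1, 1, -2, 0⟩, 29, 51),
  (⟨-1, 0, 2, -1, 1, 1, 2, 0⟩, 24, 50),
  (⟨-1, 1, -2, 0, 1, -2, 0, -1⟩, 26, 71),
  (⟨-1, 1, 0, -2, 1, 0, 2, -1⟩, 29, 95),
  (⟨-1, 1, 0, 0, 3, 0, 0, 1⟩, 27, 91),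
  (⟨-1, 1, 0, 2, 1, 0, 2, -1⟩, 23, 89),
  (⟨-1, 1, 2, 0, 1, -2, 0, -1⟩, 20, 47),
  (⟨-1, 2, 0, 1, -1, 1, -2, 0⟩, 27, 40),
  (⟨-1, 2, 0, 1, -1, 1, 2, 0⟩, 22, 39),
  (⟨-1, 2, 2, -1, -1, -1, 0, 0⟩, 23, 36),
  (⟨0, -2, -1, 1, 2, -1, -1, 0⟩, 20, 83),
  (⟨0, -2, 1, -1, -2, 1, 1, 0⟩, 29, 81),
  (⟨0, -1, -1, 2, -2, 0, 1, -1⟩, 26, 56),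
  (⟨0, -1, -1, 2, 2, 0, 1, -1⟩, 21, 54),
  (⟨0, -1, 1, 0, -2, 2, -1, -1⟩, 24, 82),
  (⟨0, -1, 1, 0, 2, -2, -1, -1⟩, 23, 47),
  (⟨0, -1, 3, 0, 0, 0, -1, 1⟩, 27, 45),
  (⟨0, 0, -1, -1, -2, 1, -1, 2⟩, 22, 65),
  (⟨0, 0, -1, 1, 0, 1, -3, 0⟩, 26, 67),
  (⟨0, 0, 1, -1, 0, -1, 3, 0⟩, 26, 52),
  (⟨0, 0, 1, 1, 2, -1, 1, -2⟩, 22, 54),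
  (⟨0, 1, -3, 0, 0, 0, 1, -1⟩, 27, 74),
  (⟨0, 1, -1, 0, -2, 2, 1, 1⟩, 23, 72),
  (⟨0, 1, -1, 0, 2, -2, 1, 1⟩, 24, 37),
  (⟨0, 1, 1, -2, -2, 0, -1, 1⟩, 21, 65),
  (⟨0, 1, 1, -2, 2, 0, -1, 1⟩, 26, 63),
  (⟨0, 2, -1, 1, 2, -1, -1, 0⟩, 29, 38),
  (⟨0, 2, 1, -1, -2, 1, 1, 0⟩, 20, 36),
  (⟨1, -2, -2, 1, 1, 1, 0, 0⟩, 23, 83),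
  (⟨1, -2, 0, -1, 1, -1, -2, 0⟩, 22, 80),
  (⟨1, -2, 0, -1, 1, -1, 2, 0⟩, 27, 79),
  (⟨1, -1, -2, 0, -1, 2, 0, 1⟩, 20, 72),
  (⟨1, -1, 0, -2, -1, 0, -2, 1⟩, 23, 30),
  (⟨1, -1, 0, 0, -3, 0, 0, -1⟩, 27, 28),
  (⟨1, -1, 0, 2, -1, 0, -2, 1⟩, 29, 24),
  (⟨1, -1, 2, 0, -1, 2, 0, 1⟩, 26, 48),
  (⟨1, 0, -2, 1, -1, -1, -2, 0⟩, 24, 69),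
  (⟨1, 0, -2, 1, -1, -1, 2, 0⟩, 29, 68),
  (⟨1, 0, 0, 1, 1, 1, -2, 2⟩, 25, 55),
  (⟨1, 0, 0, 1, 1, 1, 2, -2⟩, 20, 9),
  (⟨1, 0, 2, -1, 1, -1, 0, -2⟩, 21, 6),
  (⟨1, 0, 2, -1, 1, -1, 0, 2⟩, 28, 46),
  (⟨1, 1, -2, 0, 1, 0, -2, 1⟩, 28, 44),
  (⟨1, 1, -2, 2, -1, 0, 0, -1⟩, 25, 42),
  (⟨1, 1, 0, 0, -1, 2, 2, -1⟩, 21, 39),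
  (⟨1, 1, 2, -2, -1, 0, 0, -1⟩, 22, 6),
  (⟨1, 1, 2, 0, 1, 0, -2, 1⟩, 24, 2),
  (⟨2, -2, -1, -1, 0, 1, -1, 0⟩, 21, 31),
  (⟨2, -2, 1, 1, 0, -1, 1, 0⟩, 24, 23),
  (⟨2, -1, -1, 0, 0, -2, 1, -1⟩, 28, 32),
  (⟨2, -1, -1, 0, 0, 2, 1, -1⟩, 22, 31),
  (⟨2, -1, 1, -2, 0, 0, -1, -1⟩, 20, 30),
  (⟨2, -1, 1, 0, -2, 0, 1, 1⟩, 25, 27),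
  (⟨2, -1, 1, 0, 2, 0, 1, 1⟩, 29, 1),
  (⟨2, 0, -1, -1, 2, -1, 1, 0⟩, 25, 17),
  (⟨2, 0, -1, 1, 0, -1, -1, 2⟩, 27, 12),
  (⟨2, 0, 1, -1, 0, 1, 1, -2⟩, 23, 9),
  (⟨2, 0, 1, 1, -2, 1, -1, 0⟩, 28, 4),
  (⟨3, 0, 0, 1, 1, -1, 0, 0⟩, 26, 0)]

def bucket106 : List (SQ × ℕ × ℕ) := [
  (⟨-3, 0, 0, 0, 0, -1, 1, -1⟩, 29, 119),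
  (⟨-2, 0, -1, 0, -1, -1, -2, 1⟩, 24, 110),
  (⟨-2, 0, -1, 2, 1, -1, 0, -1⟩, 28, 114),
  (⟨-2, 0, 1, -2, -1, 1, 0, 1⟩, 20, 103),
  (⟨-2, 0, 1, 0, 1, 1, 2, -1⟩, 26, 99),
  (⟨-2, 1, -1, -1, -1, 2, 0, 0⟩, 22, 112),
  (⟨-2, 1, 1, -1, 1, 0, 0, -2⟩, 24, 104),
  (⟨-2, 1, 1, -1, 1, 0, 0, 2⟩, 23, 103),
  (⟨-2, 1, 1, 1, -1, 0, -2, 0⟩, 26, 90),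
  (⟨-2, 1, 1, 1, -1, 0, 2, 0⟩, 25, 101),
  (⟨-2, 2, -1, 0, 1, 1, 0, 1⟩, 21, 91),
  (⟨-2, 2, 1, 0, -1, -1, 0, -1⟩, 27, 94),
  (⟨-1, -1, -2, 1, -2, 0, 1, 0⟩, 27, 84),
  (⟨-1, -1, -2, 1, 2, 0, 1, 0⟩, 24, 115),
  (⟨-1, -1, 0, -1, -2, 2, -1, 0⟩, 23, 82),
  (⟨-1, -1, 0, -1, 2, -2, -1, 0⟩, 26, 80),
  (⟨-1, -1, 2, -1, 0, 0, -1, 2⟩, 21, 76),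
  (⟨-1, 0, -2, 0, 2, -1, -1, -1⟩, 27, 116),
  (⟨-1, 0, -2, 2, 0, -1, 1, 1⟩, 26, 68),
  (⟨-1, 0, 0, -2, -2, 1, 1, -1⟩, 21, 112),
  (⟨-1, 0, 0, 2, -2, 1, 1, -1⟩, 24, 106),
  (⟨-1, 0, 2, -2, 0, -1, 1, 1⟩, 22, 52),
  (⟨-1, 0, 2, 0, 2, -1, -1, -1⟩, 25, 47),
  (⟨-1, 1, -2, 1, 0, -2, -1, 0⟩, 25, 98),
  (⟨-1, 1, -2, 1, 0, 2, -1, 0⟩, 20, 97),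
  (⟨-1, 1, 0, -1, 0, 0, -3, 0⟩, 28, 96),
  (⟨-1, 1, 0, 1, -2, 0, -1, 2⟩, 29, 57),
  (⟨-1, 1, 0, 1, 2, 0, -1, 2⟩, 22, 91),
  (⟨-1, 2, -2, 0, 0, 1, 1, -1⟩, 23, 97),
  (⟨-1, 2, 0, 0, 2, -1, 1, 1⟩, 20, 37),
  (⟨-1, 2, 2, 0, 0, 1, 1, -1⟩, 28, 33),
  (⟨0, -2, -1, 0, 1, -1, 2, -1⟩, 25, 85),
  (⟨0, -2, 1, 0, -1, 1, -2, 1⟩, 22, 76),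
  (⟨0, -1, -1, 1, -1, 2, -2, 0⟩, 21, 67),
  (⟨0, -1, -1, 1, -1, 2, 2, 0⟩, 29, 66),
  (⟨0, -1, 1, -1, 3, 0, 0, 0⟩, 28, 58),
  (⟨0, -1, 1, 1, 1, 0, -2, 2⟩, 20, 55),
  (⟨0, -1, 1, 1, 1, 0, 2, -2⟩, 27, 54),
  (⟨0, 0, -3, 0, 1, -1, 0, 1⟩, 29, 70),
  (⟨0, 0, -1, 2, 1, 1, -2, 1⟩, 23, 55),
  (⟨0, 0, 1, -2, -1, -1, 2, -1⟩, 23, 64),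
  (⟨0, 0, 3, 0, -1, 1, 0, -1⟩, 29, 49),
  (⟨0, 1, -1, -1, -1, 0, -2, 2⟩, 27, 65),
  (⟨0, 1, -1, -1, -1, 0, 2, -2⟩, 20, 64),
  (⟨0, 1, -1, 1, -3, 0, 0, 0⟩, 28, 61),
  (⟨0, 1, 1, -1, 1, -2, -2, 0⟩, 29, 53),
  (⟨0, 1, 1, -1, 1, -2, 2, 0⟩, 21, 52),
  (⟨0, 2, -1, 0, 1, -1, 2, -1⟩, 22, 43),
  (⟨0, 2, 1, 0, -1, 1, -2, 1⟩, 25, 34),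
  (⟨1, -2, -2, 0, 0, -1, -1, 1⟩, 28, 86),
  (⟨1, -2, 0, 0, -2, 1, -1, -1⟩, 20, 82),
  (⟨1, -2, 2, 0, 0, -1, -1, 1⟩, 23, 22),
  (⟨1, -1, 0, -1, -2, 0, 1, -2⟩, 22, 28),
  (⟨1, -1, 0, -1, 2, 0, 1, -2⟩, 29, 62),
  (⟨1, -1, 0, 1, 0, 0, 3, 0⟩, 28, 23),
  (⟨1, -1, 2, -1, 0, -2, 1, 0⟩, 20, 22),
  (⟨1, -1, 2, -1, 0, 2, 1, 0⟩, 25, 21),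
  (⟨1, 0, -2, 0, -2, 1, 1, 1⟩, 25, 72),
  (⟨1, 0, -2, 2, 0, 1, -1, -1⟩, 22, 67),
  (⟨1, 0, 0, -2, 2, -1, -1, 1⟩, 24, 13),
  (⟨1, 0, 0, 2, 2, -1, -1, 1⟩, 21, 7),
  (⟨1, 0, 2, -2, 0, 1, -1, -1⟩, 26, 51),
  (⟨1, 0, 2, 0, -2, 1, 1, 1⟩, 27, 3),
  (⟨1, 1, -2, 1, 0, 0, 1, -2⟩, 21, 43),
  (⟨1, 1, 0, 1, -2, 2, 1, 0⟩, 26, 39),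
  (⟨1, 1, 0, 1, 2, -2, 1, 0⟩, 23, 37),
  (⟨1, 1, 2, -1, -2, 0, -1, 0⟩, 24, 4),
  (⟨1, 1, 2, -1, 2, 0, -1, 0⟩, 27, 35),
  (⟨2, -2, -1, 0, 1, 1, 0, 1⟩, 27, 25),
  (⟨2, -2, 1, 0, -1, -1, 0, -1⟩, 21, 28),
  (⟨2, -1, -1, -1, 1, 0, -2, 0⟩, 25, 18),
  (⟨2, -1, -1, -1, 1, 0, 2, 0⟩, 26, 29),
  (⟨2, -1, -1, 1, -1, 0, 0, -2⟩, 23, 16),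
  (⟨2, -1, -1, 1, -1, 0, 0, 2⟩, 24, 15),
  (⟨2, -1, 1, 1, 1, -2, 0, 0⟩, 22, 7),
  (⟨2, 0, -1, 0, -1, -1, -2, 1⟩, 26, 20),
  (⟨2, 0, -1, 2, 1, -1, 0, -1⟩, 20, 16),
  (⟨2, 0, 1, -2, -1, 1, 0, 1⟩, 28, 5),
  (⟨2, 0, 1, 0, 1, 1, 2, -1⟩, 24, 9),
  (⟨3, 0, 0, 0, 0, 1, -1, 1⟩, 29, 0)]

def bucket107 : List (SQ × ℕ × ℕ) := [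
  (⟨-4, 0, 0, 0, 0, 0, 0, 0⟩, 30, 119),
  (⟨-3, 0, -1, 0, -1, 0, 1, -2⟩, 39, 119),
  (⟨-3, 0, -1, 0, -1, 2, 1, 0⟩, 40, 119),
  (⟨-3, 0, -1, 0, 1, -2, -1, 0⟩, 41, 119),
  (⟨-3, 0, -1, 0, 1, 0, -1, 2⟩, 42, 119),
  (⟨-3, 0, -1, 2, -1, 0, 1, 0⟩, 41, 106),
  (⟨-3, 0, -1, 2, 1, 0, -1, 0⟩, 40, 105),
  (⟨-3, 0, 1, -2, -1, 0, -1, 0⟩, 42, 104),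
  (⟨-3, 0, 1, -2, 1, 0, 1, 0⟩, 39, 103),
  (⟨-3, 0, 1, 0, -1, 0, -1, 2⟩, 40, 110),
  (⟨-3, 0, 1, 0, -1, 2, -1, 0⟩, 39, 108),
  (⟨-3, 0, 1, 0, 1, -2, 1, 0⟩, 42, 109),
  (⟨-3, 0, 1, 0, 1, 0, 1, -2⟩, 41, 107),
  (⟨-3, 1, -1, -1, -1, -1, -1, 1⟩, 39, 110),
  (⟨-3, 1, -1, -1, -1, 1, -1, -1⟩, 41, 112),
  (⟨-3, 1, -1, -1, 1, -1, 1, 1⟩, 40, 111),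
  (⟨-3, 1, -1, -1, 1, 1, 1, -1⟩, 42, 107),
  (⟨-3, 1, -1, 1, -1, -1, -1, -1⟩, 42, 94),
  (⟨-3, 1, -1, 1, 1, 1, 1, 1⟩, 39, 91),
  (⟨-3, 1, 1, -1, -1, -1, 1, 1⟩, 41, 101),
  (⟨-3, 1, 1, -1, 1, 1, -1, -1⟩, 40, 100),
  (⟨-3, 1, 1, 1, -1, -1, 1, -1⟩, 40, 88),
  (⟨-3, 1, 1, 1, -1, 1, 1, 1⟩, 42, 101),
  (⟨-3, 1, 1, 1, 1, -1, -1, -1⟩, 39, 100),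
  (⟨-3, 1, 1, 1, 1, 1, -1, 1⟩, 41, 87),
  (⟨-2, -1, -2, 1, -2, 1, 0, 1⟩, 39, 113),
  (⟨-2, -1, -2, 1, 0, -1, 2, -1⟩, 40, 109),
  (⟨-2, -1, -2, 1, 0, 1, -2, 1⟩, 41, 108),
  (⟨-2, -1, -2, 1, 2, -1, 0, -1⟩, 42, 114),
  (⟨-2, -1, 0, -1, -2, 1, 2, -1⟩, 41, 81),
  (⟨-2, -1, 0, -1, 2, -1, -2, 1⟩, 40, 80),
  (⟨-2, -1, 0, 1, -2, 1, -2, 1⟩, 42, 102),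
  (⟨-2, -1, 0, 1, 2, -1, 2, -1⟩, 39, 99),
  (⟨-2, -1, 2, -1, -2, 1, 0, -1⟩, 40, 102),
  (⟨-2, -1, 2, -1, 0, -1, -2, 1⟩, 39, 76),
  (⟨-2, -1, 2, -1, 0, 1, 2, -1⟩, 42, 75),
  (⟨-2, -1, 2, -1, 2, -1, 0, 1⟩, 41, 99),
  (⟨-2, 0, -2, 0, -2, 0, -2, 0⟩, 30, 118),
  (⟨-2, 0, -2, 0, -2, 0, 2, 0⟩, 30, 117),
  (⟨-2, 0, -2, 0, 2, 0, -2, 0⟩, 30, 116),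
  (⟨-2, 0, -2, 0, 2, 0, 2, 0⟩, 30, 115),
  (⟨-2, 0, -2, 2, 0, -2, 0, 0⟩, 39, 105),
  (⟨-2, 0, -2, 2, 0, 0, 0, -2⟩, 30, 114),
  (⟨-2, 0, -2, 2, 0, 0, 0, 2⟩, 30, 113),
  (⟨-2, 0, -2, 2, 0, 2, 0, 0⟩, 42, 106),
  (⟨-2, 0, 0, -2, -2, 2, 0, 0⟩, 30, 112),
  (⟨-2, 0, 0, -2, 0, 0, -2, 2⟩, 41, 103),
  (⟨-2, 0, 0, -2, 0, 0, 2, -2⟩, 40, 104),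
  (⟨-2, 0, 0, -2, 2, -2, 0, 0⟩, 30, 111),
  (⟨-2, 0, 0, 0, -2, 2, 0, -2⟩, 42, 49),
  (⟨-2, 0, 0, 0, -2, 2, 0, 2⟩, 41, 48),
  (⟨-2, 0, 0, 0, 0, -2, -2, 2⟩, 30, 110),
  (⟨-2, 0, 0, 0, 0, -2, 2, -2⟩, 30, 109),
  (⟨-2, 0, 0, 0, 0, 2, -2, 2⟩, 30, 108),
  (⟨-2, 0, 0, 0, 0, 2, 2, -2⟩, 30, 107),
  (⟨-2, 0, 0, 0, 2, -2, 0, -2⟩, 40, 47),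
  (⟨-2, 0, 0, 0, 2, -2, 0, 2⟩, 39, 46),
  (⟨-2, 0, 0, 2, -2, 2, 0, 0⟩, 30, 106),
  (⟨-2, 0, 0, 2, 0, 0, -2, 2⟩, 39, 55),
  (⟨-2, 0, 0, 2, 0, 0, 2, -2⟩, 42, 56),
  (⟨-2, 0, 0, 2, 2, -2, 0, 0⟩, 30, 105),
  (⟨-2, 0, 2, -2, 0, -2, 0, 0⟩, 40, 53),
  (⟨-2, 0, 2, -2, 0, 0, 0, -2⟩, 30, 104),
  (⟨-2, 0, 2, -2, 0, 0, 0, 2⟩, 30, 103),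
  (⟨-2, 0, 2, -2, 0, 2, 0, 0⟩, 41, 50),
  (⟨-2, 0, 2, 0, -2, 0, -2, 0⟩, 30, 102),
  (⟨-2, 0, 2, 0, -2, 0, 2, 0⟩, 30, 101),
  (⟨-2, 0, 2, 0, 2, 0, -2, 0⟩, 30, 100),
  (⟨-2, 0, 2, 0, 2, 0, 2, 0⟩, 30, 99),
  (⟨-2, 1, -2, -1, -2, 1, 0, 1⟩, 42, 112),
  (⟨-2, 1, -2, -1, 0, -1, 2, -1⟩, 41, 117),
  (⟨-2, 1, -2, -1, 0, 1, -2, 1⟩, 40, 116),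
  (⟨-2, 1, -2, -1, 2, -1, 0, -1⟩, 39, 111),
  (⟨-2, 1, -2, 1, -2, -1, 0, 1⟩, 40, 98),
  (⟨-2, 1, -2, 1, 0, -1, 2, 1⟩, 42, 117),
  (⟨-2, 1, -2, 1, 0, 1, -2, -1⟩, 39, 116),
  (⟨-2, 1, -2, 1, 2, 1, 0, -1⟩, 41, 97),
  (⟨-2, 1, 0, -1, -2, -1, 2, -1⟩, 42, 64),
  (⟨-2, 1, 0, -1, -2, 1, 2, 1⟩, 39, 93),
  (⟨-2, 1, 0, -1, 2, -1, -2, -1⟩, 42, 92),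
  (⟨-2, 1, 0, -1, 2, 1, -2, 1⟩, 39, 63),
  (⟨-2, 1, 0, 1, -2, -1, -2, 1⟩, 41, 102),
  (⟨-2, 1, 0, 1, -2, 1, -2, -1⟩, 40, 90),
  (⟨-2, 1, 0, 1, 2, -1, 2, 1⟩, 41, 89),
  (⟨-2, 1, 0, 1, 2, 1, 2, -1⟩, 40, 99),
  (⟨-2, 1, 2, -1, -2, -1, 0, -1⟩, 39, 102),
  (⟨-2, 1, 2, -1, 0, -1, -2, -1⟩, 41, 104),
  (⟨-2, 1, 2, -1, 0, 1, 2, 1⟩, 40, 103),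
  (⟨-2, 1, 2, -1, 2, 1, 0, 1⟩, 42, 99),
  (⟨-2, 1, 2, 1, -2, 1, 0, -1⟩, 41, 49),
  (⟨-2, 1, 2, 1, 0, -1, -2, 1⟩, 42, 88),
  (⟨-2, 1, 2, 1, 0, 1, 2, -1⟩, 39, 87),
  (⟨-2, 1, 2, 1, 2, -1, 0, 1⟩, 40, 46),
  (⟨-2, 2, -2, 0, 0, -2, 0, 0⟩, 30, 98),
  (⟨-2, 2, -2, 0, 0, 0, 0, -2⟩, 40, 92),
  (⟨-2, 2, -2, 0, 0, 0, 0, 2⟩, 41, 93),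
  (⟨-2, 2, -2, 0, 0, 2, 0, 0⟩, 30, 97),
  (⟨-2, 2, 0, -2, -2, 0, 0, 0⟩, 40, 96),
  (⟨-2, 2, 0, -2, 0, 0, -2, 0⟩, 30, 96),
  (⟨-2, 2, 0, -2, 0, 0, 2, 0⟩, 30, 95),
  (⟨-2, 2, 0, -2, 2, 0, 0, 0⟩, 41, 95),
  (⟨-2, 2, 0, 0, -2, 0, 0, -2⟩, 30, 94),
  (⟨-2, 2, 0, 0, -2, 0, 0, 2⟩, 30, 93),
  (⟨-2, 2, 0, 0, 0, -2, -2, 0⟩, 40, 38),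
  (⟨-2, 2, 0, 0, 0, -2, 2, 0⟩, 39, 88),
  (⟨-2, 2, 0, 0, 0, 2, -2, 0⟩, 42, 87),
  (⟨-2, 2, 0, 0, 0, 2, 2, 0⟩, 41, 39),
  (⟨-2, 2, 0, 0, 2, 0, 0, -2⟩, 30, 92),
  (⟨-2, 2, 0, 0, 2, 0, 0, 2⟩, 30, 91),
  (⟨-2, 2, 0, 2, -2, 0, 0, 0⟩, 39, 90),
  (⟨-2, 2, 0, 2, 0, 0, -2, 0⟩, 30, 90),
  (⟨-2, 2, 0, 2, 0, 0, 2, 0⟩, 30, 89),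
  (⟨-2, 2, 0, 2, 2, 0, 0, 0⟩, 42, 89),
  (⟨-2, 2, 2, 0, 0, -2, 0, 0⟩, 30, 88),
  (⟨-2, 2, 2, 0, 0, 0, 0, -2⟩, 42, 33),
  (⟨-2, 2, 2, 0, 0, 0, 0, 2⟩, 39, 34),
  (⟨-2, 2, 2, 0, 0, 2, 0, 0⟩, 30, 87),
  (⟨-2, 3, 0, -1, 0, -1, 0, 1⟩, 42, 95),
  (⟨-2, 3, 0, -1, 0, 1, 0, -1⟩, 39, 96),
  (⟨-2, 3, 0, 1, 0, -1, 0, -1⟩, 41, 94),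
  (⟨-2, 3, 0, 1, 0, 1, 0, 1⟩, 40, 91),
  (⟨-1, -1, -3, 1, -1, -1, -1, 1⟩, 42, 118),
  (⟨-1, -1, -3, 1, -1, 1, -1, -1⟩, 40, 114),
  (⟨-1, -1, -3, 1, 1, -1, 1, 1⟩, 41, 113),
  (⟨-1, -1, -3, 1, 1, 1, 1, -1⟩, 39, 115),
  (⟨-1, -1, -1, -1, -3, 1, -1, 1⟩, 40, 118),
  (⟨-1, -1, -1, -1, -1, 1, -3, 1⟩, 39, 86),
  (⟨-1, -1, -1, -1, 1, -1, 3, -1⟩, 42, 85),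
  (⟨-1, -1, -1, -1, 3, -1, 1, -1⟩, 41, 115),
  (⟨-1, -1, -1, 1, -3, 1, -1, -1⟩, 41, 82),
  (⟨-1, -1, -1, 1, -1, -1, -3, 1⟩, 40, 69),
  (⟨-1, -1, -1, 1, 1, 1, 3, -1⟩, 41, 66),
  (⟨-1, -1, -1, 1, 3, -1, 1, 1⟩, 40, 79),
  (⟨-1, -1, 1, -1, -3, 1, 1, 1⟩, 42, 78),
  (⟨-1, -1, 1, -1, -1, -1, 3, -1⟩, 39, 101),
  (⟨-1, -1, 1, -1, 1, 1, -3, 1⟩, 42, 100),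
  (⟨-1, -1, 1, -1, 3, -1, -1, -1⟩, 39, 77),
  (⟨-1, -1, 1, 1, -3, 1, 1, -1⟩, 39, 106),
  (⟨-1, -1, 1, 1, -1, 1, 3, -1⟩, 40, 101),
  (⟨-1, -1, 1, 1, 1, -1, -3, 1⟩, 41, 100),
  (⟨-1, -1, 1, 1, 3, -1, -1, 1⟩, 42, 105),
  (⟨-1, -1, 3, -1, -1, -1, 1, -1⟩, 41, 75),
  (⟨-1, -1, 3, -1, -1, 1, 1, 1⟩, 39, 48),
  (⟨-1, -1, 3, -1, 1, -1, -1, -1⟩, 42, 47),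
  (⟨-1, -1, 3, -1, 1, 1, -1, 1⟩, 40, 76),
  (⟨-1, 0, -3, 0, -1, 0, 1, -2⟩, 42, 73),
  (⟨-1, 0, -3, 0, -1, 2, 1, 0⟩, 41, 72),
  (⟨-1, 0, -3, 0, 1, -2, -1, 0⟩, 40, 71),
  (⟨-1, 0, -3, 0, 1, 0, -1, 2⟩, 39, 70),
  (⟨-1, 0, -1, 0, -3, 0, 1, -2⟩, 40, 94),
  (⟨-1, 0, -1, 0, -1, 2, 3, 0⟩, 42, 81),
  (⟨-1, 0, -1, 0, 1, -2, -3, 0⟩, 39, 80),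
  (⟨-1, 0, -1, 0, 3, 0, -1, 2⟩, 41, 91),
  (⟨-1, 0, -1, 2, -3, 0, 1, 0⟩, 42, 61),
  (⟨-1, 0, -1, 2, -1, 0, 3, 0⟩, 39, 89),
  (⟨-1, 0, -1, 2, -1, 2, -1, 2⟩, 40, 113),
  (⟨-1, 0, -1, 2, 1, -2, 1, -2⟩, 41, 114),
  (⟨-1, 0, -1, 2, 1, 0, -3, 0⟩, 42, 90),
  (⟨-1, 0, -1, 2, 3, 0, -1, 0⟩, 39, 58),
  (⟨-1, 0, 1, -2, -3, 0, -1, 0⟩, 41, 78),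
  (⟨-1, 0, 1, -2, -1, 0, -3, 0⟩, 40, 60),
  (⟨-1, 0, 1, -2, -1, 2, 1, -2⟩, 39, 112),
  (⟨-1, 0, 1, -2, 1, -2, -1, 2⟩, 42, 111),
  (⟨-1, 0, 1, -2, 1, 0, 3, 0⟩, 41, 59),
  (⟨-1, 0, 1, -2, 3, 0, 1, 0⟩, 40, 77),
  (⟨-1, 0, 1, 0, -3, 0, -1, 2⟩, 39, 57),
  (⟨-1, 0, 1, 0, -1, 2, -3, 0⟩, 41, 51),
  (⟨-1, 0, 1, 0, 1, -2, 3, 0⟩, 40, 52),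
  (⟨-1, 0, 1, 0, 3, 0, 1, -2⟩, 42, 54),
  (⟨-1, 0, 3, 0, -1, 0, -1, 2⟩, 41, 45),
  (⟨-1, 0, 3, 0, -1, 2, -1, 0⟩, 42, 45),
  (⟨-1, 0, 3, 0, 1, -2, 1, 0⟩, 39, 45),
  (⟨-1, 0, 3, 0, 1, 0, 1, -2⟩, 40, 45),
  (⟨-1, 1, -3, 1, -1, -1, -1, -1⟩, 41, 118),
  (⟨-1, 1, -3, 1, 1, 1, 1, 1⟩, 40, 115),
  (⟨-1, 1, -1, -1, -3, 1, -1, -1⟩, 39, 118),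
  (⟨-1, 1, -1, -1, -1, -1, -3, 1⟩, 42, 96),
  (⟨-1, 1, -1, -1, 1, 1, 3, -1⟩, 39, 95),
  (⟨-1, 1, -1, -1, 3, -1, 1, 1⟩, 42, 115),
  (⟨-1, 1, -1, 1, -1, 1, 1, -3⟩, 41, 73),
  (⟨-1, 1, -1, 1, -1, 3, 1, -1⟩, 39, 97),
  (⟨-1, 1, -1, 1, 1, -3, -1, 1⟩, 42, 98),
  (⟨-1, 1, -1, 1, 1, -1, -1, 3⟩, 40, 70),
  (⟨-1, 1, -1, 3, -1, 1, 1, -1⟩, 40, 89),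
  (⟨-1, 1, -1, 3, 1, -1, -1, 1⟩, 41, 90),
  (⟨-1, 1, 1, -3, -1, 1, -1, 1⟩, 39, 65),
  (⟨-1, 1, 1, -3, 1, -1, 1, -1⟩, 42, 62),
  (⟨-1, 1, 1, -1, -1, 1, -1, 3⟩, 42, 103),
  (⟨-1, 1, 1, -1, -1, 3, -1, 1⟩, 40, 108),
  (⟨-1, 1, 1, -1, 1, -3, 1, -1⟩, 41, 109),
  (⟨-1, 1, 1, -1, 1, -1, 1, -3⟩, 39, 104),
  (⟨-1, 1, 1, 1, -3, 1, 1, 1⟩, 40, 93),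
  (⟨-1, 1, 1, 1, -1, -1, 3, -1⟩, 41, 56),
  (⟨-1, 1, 1, 1, 1, 1, -3, 1⟩, 40, 55),
  (⟨-1, 1, 1, 1, 3, -1, -1, -1⟩, 41, 92),
  (⟨-1, 1, 3, -1, -1, -1, 1, 1⟩, 42, 52),
  (⟨-1, 1, 3, -1, 1, 1, -1, -1⟩, 39, 51),
  (⟨-1, 2, -3, 0, -1, 0, 1, 0⟩, 39, 98),
  (⟨-1, 2, -3, 0, 1, 0, -1, 0⟩, 42, 97),
  (⟨-1, 2, -1, 0, -3, 0, 1, 0⟩, 41, 61),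
  (⟨-1, 2, -1, 0, -1, 0, 3, 0⟩, 40, 95),
  (⟨-1, 2, -1, 0, -1, 2, -1, 2⟩, 39, 44),
  (⟨-1, 2, -1, 0, 1, -2, 1, -2⟩, 42, 43),
  (⟨-1, 2, -1, 0, 1, 0, -3, 0⟩, 41, 96),
  (⟨-1, 2, -1, 0, 3, 0, -1, 0⟩, 40, 58),
  (⟨-1, 2, -1, 2, -1, 0, -1, 2⟩, 42, 93),
  (⟨-1, 2, -1, 2, -1, 2, -1, 0⟩, 41, 40),
  (⟨-1, 2, -1, 2, 1, -2, 1, 0⟩, 40, 37),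
  (⟨-1, 2, -1, 2, 1, 0, 1, -2⟩, 39, 92),
  (⟨-1, 2, 1, -2, -1, 0, 1, -2⟩, 41, 64),
  (⟨-1, 2, 1, -2, -1, 2, 1, 0⟩, 42, 50),
  (⟨-1, 2, 1, -2, 1, -2, -1, 0⟩, 39, 53),
  (⟨-1, 2, 1, -2, 1, 0, -1, 2⟩, 40, 63),
  (⟨-1, 2, 1, 0, -3, 0, -1, 0⟩, 42, 36),
  (⟨-1, 2, 1, 0, -1, 0, -3, 0⟩, 39, 60),
  (⟨-1, 2, 1, 0, -1, 2, 1, -2⟩, 40, 87),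
  (⟨-1, 2, 1, 0, 1, -2, -1, 2⟩, 41, 88),
  (⟨-1, 2, 1, 0, 1, 0, 3, 0⟩, 42, 59),
  (⟨-1, 2, 1, 0, 3, 0, 1, 0⟩, 39, 35),
  (⟨-1, 2, 3, 0, -1, 0, -1, 0⟩, 40, 34),
  (⟨-1, 2, 3, 0, 1, 0, 1, 0⟩, 41, 33),
  (⟨-1, 3, -1, 1, -1, 1, 1, -1⟩, 42, 39),
  (⟨-1, 3, -1, 1, 1, -1, -1, 1⟩, 39, 38),
  (⟨-1, 3, 1, -1, -1, 1, -1, 1⟩, 41, 36),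
  (⟨-1, 3, 1, -1, 1, -1, 1, -1⟩, 40, 35),
  (⟨0, -2, -2, 0, -2, 2, 0, 0⟩, 42, 82),
  (⟨0, -2, -2, 0, 0, 0, -2, 2⟩, 30, 86),
  (⟨0, -2, -2, 0, 0, 0, 2, -2⟩, 30, 85),
  (⟨0, -2, -2, 0, 2, -2, 0, 0⟩, 39, 79),
  (⟨0, -2, -2, 2, -2, 0, 0, 0⟩, 30, 84),
  (⟨0, -2, -2, 2, 0, 0, -2, 0⟩, 39, 83),
  (⟨0, -2, -2, 2, 0, 0, 2, 0⟩, 42, 84),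
  (⟨0, -2, -2, 2, 2, 0, 0, 0⟩, 30, 83),
  (⟨0, -2, 0, 0, -2, 0, -2, 2⟩, 41, 76),
  (⟨0, -2, 0, 0, -2, 0, 2, -2⟩, 42, 28),
  (⟨0, -2, 0, 0, -2, 2, -2, 0⟩, 30, 82),
  (⟨0, -2, 0, 0, -2, 2, 2, 0⟩, 30, 81),
  (⟨0, -2, 0, 0, 2, -2, -2, 0⟩, 30, 80),
  (⟨0, -2, 0, 0, 2, -2, 2, 0⟩, 30, 79),
  (⟨0, -2, 0, 0, 2, 0, -2, 2⟩, 39, 25),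
  (⟨0, -2, 0, 0, 2, 0, 2, -2⟩, 40, 75),
  (⟨0, -2, 2, -2, -2, 0, 0, 0⟩, 30, 78),
  (⟨0, -2, 2, -2, 0, 0, -2, 0⟩, 41, 77),
  (⟨0, -2, 2, -2, 0, 0, 2, 0⟩, 40, 78),
  (⟨0, -2, 2, -2, 2, 0, 0, 0⟩, 30, 77),
  (⟨0, -2, 2, 0, -2, 2, 0, 0⟩, 41, 21),
  (⟨0, -2, 2, 0, 0, 0, -2, 2⟩, 30, 76),
  (⟨0, -2, 2, 0, 0, 0, 2, -2⟩, 30, 75),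
  (⟨0, -2, 2, 0, 2, -2, 0, 0⟩, 40, 22),
  (⟨0, -1, -2, -1, -2, 1, 2, -1⟩, 39, 117),
  (⟨0, -1, -2, -1, 2, -1, -2, 1⟩, 42, 116),
  (⟨0, -1, -2, 1, -2, -1, 2, -1⟩, 41, 84),
  (⟨0, -1, -2, 1, -2, 1, 2, 1⟩, 40, 117),
  (⟨0, -1, -2, 1, 2, -1, -2, -1⟩, 41, 116),
  (⟨0, -1, -2, 1, 2, 1, -2, 1⟩, 40, 83),
  (⟨0, -1, -2, 3, 0, -1, 0, 1⟩, 40, 68),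
  (⟨0, -1, -2, 3, 0, 1, 0, -1⟩, 41, 67),
  (⟨0, -1, 0, -1, -2, 3, 0, 1⟩, 39, 72),
  (⟨0, -1, 0, -1, 0, -1, 2, -3⟩, 41, 85),
  (⟨0, -1, 0, -1, 0, 1, -2, 3⟩, 40, 86),
  (⟨0, -1, 0, -1, 2, -3, 0, -1⟩, 42, 71),
  (⟨0, -1, 0, 1, -2, 3, 0, -1⟩, 40, 106),
  (⟨0, -1, 0, 1, 0, -1, -2, 3⟩, 42, 110),
  (⟨0, -1, 0, 1, 0, 1, 2, -3⟩, 39, 107),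
  (⟨0, -1, 0, 1, 2, -3, 0, 1⟩, 41, 105),
  (⟨0, -1, 2, -3, 0, -1, 0, -1⟩, 39, 78),
  (⟨0, -1, 2, -3, 0, 1, 0, 1⟩, 42, 77),
  (⟨0, -1, 2, -1, -2, -1, -2, 1⟩, 42, 53),
  (⟨0, -1, 2, -1, -2, 1, -2, -1⟩, 39, 82),
  (⟨0, -1, 2, -1, 2, -1, 2, 1⟩, 42, 79),
  (⟨0, -1, 2, -1, 2, 1, 2, -1⟩, 39, 50),
  (⟨0, -1, 2, 1, -2, 1, -2, 1⟩, 40, 57),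
  (⟨0, -1, 2, 1, 2, -1, 2, -1⟩, 41, 54),
  (⟨0, 0, -4, 0, 0, 0, 0, 0⟩, 30, 74),
  (⟨0, 0, -2, 0, -2, 2, 0, -2⟩, 30, 73),
  (⟨0, 0, -2, 0, -2, 2, 0, 2⟩, 30, 72),
  (⟨0, 0, -2, 0, 0, -2, -2, 2⟩, 41, 110),
  (⟨0, 0, -2, 0, 0, -2, 2, -2⟩, 39, 109),
  (⟨0, 0, -2, 0, 0, 2, -2, 2⟩, 42, 108),
  (⟨0, 0, -2, 0, 0, 2, 2, -2⟩, 40, 107),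
  (⟨0, 0, -2, 0, 2, -2, 0, -2⟩, 30, 71),
  (⟨0, 0, -2, 0, 2, -2, 0, 2⟩, 30, 70),
  (⟨0, 0, -2, 2, -2, 0, 0, -2⟩, 39, 114),
  (⟨0, 0, -2, 2, -2, 0, 0, 2⟩, 41, 57),
  (⟨0, 0, -2, 2, 0, -2, -2, 0⟩, 30, 69),
  (⟨0, 0, -2, 2, 0, -2, 2, 0⟩, 30, 68),
  (⟨0, 0, -2, 2, 0, 2, -2, 0⟩, 30, 67),
  (⟨0, 0, -2, 2, 0, 2, 2, 0⟩, 30, 66),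
  (⟨0, 0, -2, 2, 2, 0, 0, -2⟩, 40, 54),
  (⟨0, 0, -2, 2, 2, 0, 0, 2⟩, 42, 113),
  (⟨0, 0, 0, -2, -2, 0, -2, 2⟩, 30, 65),
  (⟨0, 0, 0, -2, -2, 0, 2, -2⟩, 30, 64),
  (⟨0, 0, 0, -2, -2, 2, -2, 0⟩, 42, 51),
  (⟨0, 0, 0, -2, -2, 2, 2, 0⟩, 40, 112),
  (⟨0, 0, 0, -2, 2, -2, -2, 0⟩, 41, 111),
  (⟨0, 0, 0, -2, 2, -2, 2, 0⟩, 39, 52),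
  (⟨0, 0, 0, -2, 2, 0, -2, 2⟩, 30, 63),
  (⟨0, 0, 0, -2, 2, 0, 2, -2⟩, 30, 62),
  (⟨0, 0, 0, 0, -4, 0, 0, 0⟩, 30, 61),
  (⟨0, 0, 0, 0, 0, 0, -4, 0⟩, 30, 60),
  (⟨0, 0, 0, 0, 0, 0, 4, 0⟩, 30, 59),
  (⟨0, 0, 0, 0, 4, 0, 0, 0⟩, 30, 58),
  (⟨0, 0, 0, 2, -2, 0, -2, 2⟩, 30, 57),
  (⟨0, 0, 0, 2, -2, 0, 2, -2⟩, 30, 56),
  (⟨0, 0, 0, 2, -2, 2, -2, 0⟩, 39, 67),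
  (⟨0, 0, 0, 2, -2, 2, 2, 0⟩, 41, 8),
  (⟨0, 0, 0, 2, 2, -2, -2, 0⟩, 40, 7),
  (⟨0, 0, 0, 2, 2, -2, 2, 0⟩, 42, 68),
  (⟨0, 0, 0, 2, 2, 0, -2, 2⟩, 30, 55),
  (⟨0, 0, 0, 2, 2, 0, 2, -2⟩, 30, 54),
  (⟨0, 0, 2, -2, -2, 0, 0, -2⟩, 42, 6),
  (⟨0, 0, 2, -2, -2, 0, 0, 2⟩, 40, 65),
  (⟨0, 0, 2, -2, 0, -2, -2, 0⟩, 30, 53),
  (⟨0, 0, 2, -2, 0, -2, 2, 0⟩, 30, 52),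
  (⟨0, 0, 2, -2, 0, 2, -2, 0⟩, 30, 51),
  (⟨0, 0, 2, -2, 0, 2, 2, 0⟩, 30, 50),
  (⟨0, 0, 2, -2, 2, 0, 0, -2⟩, 41, 62),
  (⟨0, 0, 2, -2, 2, 0, 0, 2⟩, 39, 5),
  (⟨0, 0, 2, 0, -2, 2, 0, -2⟩, 30, 49),
  (⟨0, 0, 2, 0, -2, 2, 0, 2⟩, 30, 48),
  (⟨0, 0, 2, 0, 0, -2, -2, 2⟩, 40, 12),
  (⟨0, 0, 2, 0, 0, -2, 2, -2⟩, 42, 11),
  (⟨0, 0, 2, 0, 0, 2, -2, 2⟩, 39, 10),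
  (⟨0, 0, 2, 0, 0, 2, 2, -2⟩, 41, 9),
  (⟨0, 0, 2, 0, 2, -2, 0, -2⟩, 30, 47),
  (⟨0, 0, 2, 0, 2, -2, 0, 2⟩, 30, 46),
  (⟨0, 0, 4, 0, 0, 0, 0, 0⟩, 30, 45),
  (⟨0, 1, -2, -1, -2, 1, -2, 1⟩, 41, 65),
  (⟨0, 1, -2, -1, 2, -1, 2, -1⟩, 40, 62),
  (⟨0, 1, -2, 1, -2, -1, -2, 1⟩, 39, 69),
  (⟨0, 1, -2, 1, -2, 1, -2, -1⟩, 42, 40),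
  (⟨0, 1, -2, 1, 2, -1, 2, 1⟩, 39, 37),
  (⟨0, 1, -2, 1, 2, 1, 2, -1⟩, 42, 66),
  (⟨0, 1, -2, 3, 0, -1, 0, -1⟩, 42, 42),
  (⟨0, 1, -2, 3, 0, 1, 0, 1⟩, 39, 41),
  (⟨0, 1, 0, -1, -2, 3, 0, -1⟩, 41, 14),
  (⟨0, 1, 0, -1, 0, -1, -2, 3⟩, 39, 12),
  (⟨0, 1, 0, -1, 0, 1, 2, -3⟩, 42, 9),
  (⟨0, 1, 0, -1, 2, -3, 0, 1⟩, 40, 13),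
  (⟨0, 1, 0, 1, -2, 3, 0, 1⟩, 42, 48),
  (⟨0, 1, 0, 1, 0, -1, 2, -3⟩, 40, 33),
  (⟨0, 1, 0, 1, 0, 1, -2, 3⟩, 41, 34),
  (⟨0, 1, 0, 1, 2, -3, 0, -1⟩, 39, 47),
  (⟨0, 1, 2, -3, 0, -1, 0, 1⟩, 41, 52),
  (⟨0, 1, 2, -3, 0, 1, 0, -1⟩, 40, 51),
  (⟨0, 1, 2, -1, -2, -1, 2, -1⟩, 40, 36),
  (⟨0, 1, 2, -1, -2, 1, 2, 1⟩, 41, 3),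
  (⟨0, 1, 2, -1, 2, -1, -2, -1⟩, 40, 2),
  (⟨0, 1, 2, -1, 2, 1, -2, 1⟩, 41, 35),
  (⟨0, 1, 2, 1, -2, 1, 2, -1⟩, 42, 3),
  (⟨0, 1, 2, 1, 2, -1, -2, 1⟩, 39, 2),
  (⟨0, 2, -2, 0, -2, 2, 0, 0⟩, 40, 97),
  (⟨0, 2, -2, 0, 0, 0, -2, 2⟩, 30, 44),
  (⟨0, 2, -2, 0, 0, 0, 2, -2⟩, 30, 43),
  (⟨0, 2, -2, 0, 2, -2, 0, 0⟩, 41, 98),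
  (⟨0, 2, -2, 2, -2, 0, 0, 0⟩, 30, 42),
  (⟨0, 2, -2, 2, 0, 0, -2, 0⟩, 40, 41),
  (⟨0, 2, -2, 2, 0, 0, 2, 0⟩, 41, 42),
  (⟨0, 2, -2, 2, 2, 0, 0, 0⟩, 30, 41),
  (⟨0, 2, 0, 0, -2, 0, -2, 2⟩, 40, 44),
  (⟨0, 2, 0, 0, -2, 0, 2, -2⟩, 39, 94),
  (⟨0, 2, 0, 0, -2, 2, -2, 0⟩, 30, 40),
  (⟨0, 2, 0, 0, -2, 2, 2, 0⟩, 30, 39),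
  (⟨0, 2, 0, 0, 2, -2, -2, 0⟩, 30, 38),
  (⟨0, 2, 0, 0, 2, -2, 2, 0⟩, 30, 37),
  (⟨0, 2, 0, 0, 2, 0, -2, 2⟩, 42, 91),
  (⟨0, 2, 0, 0, 2, 0, 2, -2⟩, 41, 43),
  (⟨0, 2, 2, -2, -2, 0, 0, 0⟩, 30, 36),
  (⟨0, 2, 2, -2, 0, 0, -2, 0⟩, 42, 35),
  (⟨0, 2, 2, -2, 0, 0, 2, 0⟩, 39, 36),
  (⟨0, 2, 2, -2, 2, 0, 0, 0⟩, 30, 35),
  (⟨0, 2, 2, 0, -2, 2, 0, 0⟩, 39, 40),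
  (⟨0, 2, 2, 0, 0, 0, -2, 2⟩, 30, 34),
  (⟨0, 2, 2, 0, 0, 0, 2, -2⟩, 30, 33),
  (⟨0, 2, 2, 0, 2, -2, 0, 0⟩, 42, 37),
  (⟨1, -3, -1, 1, -1, 1, -1, 1⟩, 40, 84),
  (⟨1, -3, -1, 1, 1, -1, 1, -1⟩, 41, 83),
  (⟨1, -3, 1, -1, -1, 1, 1, -1⟩, 39, 81),
  (⟨1, -3, 1, -1, 1, -1, -1, 1⟩, 42, 80),
  (⟨1, -2, -3, 0, -1, 0, -1, 0⟩, 41, 86),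
  (⟨1, -2, -3, 0, 1, 0, 1, 0⟩, 40, 85),
  (⟨1, -2, -1, 0, -3, 0, -1, 0⟩, 39, 84),
  (⟨1, -2, -1, 0, -1, 0, -3, 0⟩, 42, 60),
  (⟨1, -2, -1, 0, -1, 2, 1, -2⟩, 41, 31),
  (⟨1, -2, -1, 0, 1, -2, -1, 2⟩, 40, 32),
  (⟨1, -2, -1, 0, 1, 0, 3, 0⟩, 39, 59),
  (⟨1, -2, -1, 0, 3, 0, 1, 0⟩, 42, 83),
  (⟨1, -2, -1, 2, -1, 0, 1, -2⟩, 40, 56),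
  (⟨1, -2, -1, 2, -1, 2, 1, 0⟩, 39, 66),
  (⟨1, -2, -1, 2, 1, -2, -1, 0⟩, 42, 69),
  (⟨1, -2, -1, 2, 1, 0, -1, 2⟩, 41, 55),
  (⟨1, -2, 1, -2, -1, 0, -1, 2⟩, 39, 27),
  (⟨1, -2, 1, -2, -1, 2, -1, 0⟩, 40, 82),
  (⟨1, -2, 1, -2, 1, -2, 1, 0⟩, 41, 79),
  (⟨1, -2, 1, -2, 1, 0, 1, -2⟩, 42, 26),
  (⟨1, -2, 1, 0, -3, 0, 1, 0⟩, 40, 61),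
  (⟨1, -2, 1, 0, -1, 0, 3, 0⟩, 41, 23),
  (⟨1, -2, 1, 0, -1, 2, -1, 2⟩, 42, 76),
  (⟨1, -2, 1, 0, 1, -2, 1, -2⟩, 39, 75),
  (⟨1, -2, 1, 0, 1, 0, -3, 0⟩, 40, 24),
  (⟨1, -2, 1, 0, 3, 0, -1, 0⟩, 41, 58),
  (⟨1, -2, 3, 0, -1, 0, 1, 0⟩, 42, 22),
  (⟨1, -2, 3, 0, 1, 0, -1, 0⟩, 39, 21),
  (⟨1, -1, -3, 1, -1, -1, 1, 1⟩, 39, 68),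
  (⟨1, -1, -3, 1, 1, 1, -1, -1⟩, 42, 67),
  (⟨1, -1, -1, -1, -3, 1, 1, 1⟩, 41, 27),
  (⟨1, -1, -1, -1, -1, -1, 3, -1⟩, 40, 64),
  (⟨1, -1, -1, -1, 1, 1, -3, 1⟩, 41, 63),
  (⟨1, -1, -1, -1, 3, -1, -1, -1⟩, 40, 26),
  (⟨1, -1, -1, 1, -1, 1, -1, 3⟩, 39, 15),
  (⟨1, -1, -1, 1, -1, 3, -1, 1⟩, 41, 10),
  (⟨1, -1, -1, 1, 1, -3, 1, -1⟩, 40, 11),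
  (⟨1, -1, -1, 1, 1, -1, 1, -3⟩, 42, 16),
  (⟨1, -1, -1, 3, -1, 1, -1, 1⟩, 42, 57),
  (⟨1, -1, -1, 3, 1, -1, 1, -1⟩, 39, 54),
  (⟨1, -1, 1, -3, -1, 1, 1, -1⟩, 41, 29),
  (⟨1, -1, 1, -3, 1, -1, -1, 1⟩, 40, 30),
  (⟨1, -1, 1, -1, -1, 1, 1, -3⟩, 40, 49),
  (⟨1, -1, 1, -1, -1, 3, 1, -1⟩, 42, 21),
  (⟨1, -1, 1, -1, 1, -3, -1, 1⟩, 39, 22),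
  (⟨1, -1, 1, -1, 1, -1, -1, 3⟩, 41, 46),
  (⟨1, -1, 1, 1, -3, 1, -1, -1⟩, 42, 4),
  (⟨1, -1, 1, 1, -1, -1, -3, 1⟩, 39, 24),
  (⟨1, -1, 1, 1, 1, 1, 3, -1⟩, 42, 23),
  (⟨1, -1, 1, 1, 3, -1, 1, 1⟩, 39, 1),
  (⟨1, -1, 3, -1, -1, -1, -1, -1⟩, 40, 4),
  (⟨1, -1, 3, -1, 1, 1, 1, 1⟩, 41, 1),
  (⟨1, 0, -3, 0, -1, 0, -1, 2⟩, 40, 74),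
  (⟨1, 0, -3, 0, -1, 2, -1, 0⟩, 39, 74),
  (⟨1, 0, -3, 0, 1, -2, 1, 0⟩, 42, 74),
  (⟨1, 0, -3, 0, 1, 0, 1, -2⟩, 41, 74),
  (⟨1, 0, -1, 0, -3, 0, -1, 2⟩, 42, 65),
  (⟨1, 0, -1, 0, -1, 2, -3, 0⟩, 40, 67),
  (⟨1, 0, -1, 0, 1, -2, 3, 0⟩, 41, 68),
  (⟨1, 0, -1, 0, 3, 0, 1, -2⟩, 39, 62),
  (⟨1, 0, -1, 2, -3, 0, -1, 0⟩, 40, 42),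
  (⟨1, 0, -1, 2, -1, 0, -3, 0⟩, 41, 60),
  (⟨1, 0, -1, 2, -1, 2, 1, -2⟩, 42, 8),
  (⟨1, 0, -1, 2, 1, -2, -1, 2⟩, 39, 7),
  (⟨1, 0, -1, 2, 1, 0, 3, 0⟩, 40, 59),
  (⟨1, 0, -1, 2, 3, 0, 1, 0⟩, 41, 41),
  (⟨1, 0, 1, -2, -3, 0, 1, 0⟩, 39, 61),
  (⟨1, 0, 1, -2, -1, 0, 3, 0⟩, 42, 29),
  (⟨1, 0, 1, -2, -1, 2, -1, 2⟩, 41, 5),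
  (⟨1, 0, 1, -2, 1, -2, 1, -2⟩, 40, 6),
  (⟨1, 0, 1, -2, 1, 0, -3, 0⟩, 39, 30),
  (⟨1, 0, 1, -2, 3, 0, -1, 0⟩, 42, 58),
  (⟨1, 0, 1, 0, -3, 0, 1, -2⟩, 41, 28),
  (⟨1, 0, 1, 0, -1, 2, 3, 0⟩, 39, 39),
  (⟨1, 0, 1, 0, 1, -2, -3, 0⟩, 42, 38),
  (⟨1, 0, 1, 0, 3, 0, -1, 2⟩, 40, 25),
  (⟨1, 0, 3, 0, -1, 0, 1, -2⟩, 39, 49),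
  (⟨1, 0, 3, 0, -1, 2, 1, 0⟩, 40, 48),
  (⟨1, 0, 3, 0, 1, -2, -1, 0⟩, 41, 47),
  (⟨1, 0, 3, 0, 1, 0, -1, 2⟩, 42, 46),
  (⟨1, 1, -3, 1, -1, -1, 1, -1⟩, 40, 43),
  (⟨1, 1, -3, 1, -1, 1, 1, 1⟩, 42, 72),
  (⟨1, 1, -3, 1, 1, -1, -1, -1⟩, 39, 71),
  (⟨1, 1, -3, 1, 1, 1, -1, 1⟩, 41, 44),
  (⟨1, 1, -1, -1, -3, 1, 1, -1⟩, 42, 14),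
  (⟨1, 1, -1, -1, -1, 1, 3, -1⟩, 41, 19),
  (⟨1, 1, -1, -1, 1, -1, -3, 1⟩, 40, 18),
  (⟨1, 1, -1, -1, 3, -1, -1, 1⟩, 39, 13),
  (⟨1, 1, -1, 1, -3, 1, 1, 1⟩, 39, 42),
  (⟨1, 1, -1, 1, -1, -1, 3, -1⟩, 42, 19),
  (⟨1, 1, -1, 1, 1, 1, -3, 1⟩, 39, 18),
  (⟨1, 1, -1, 1, 3, -1, -1, -1⟩, 42, 41),
  (⟨1, 1, 1, -1, -3, 1, -1, -1⟩, 40, 40),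
  (⟨1, 1, 1, -1, -1, -1, -3, 1⟩, 41, 53),
  (⟨1, 1, 1, -1, 1, 1, 3, -1⟩, 40, 50),
  (⟨1, 1, 1, -1, 3, -1, 1, 1⟩, 41, 37),
  (⟨1, 1, 1, 1, -3, 1, -1, 1⟩, 41, 4),
  (⟨1, 1, 1, 1, -1, 1, -3, 1⟩, 42, 34),
  (⟨1, 1, 1, 1, 1, -1, 3, -1⟩, 39, 33),
  (⟨1, 1, 1, 1, 3, -1, 1, -1⟩, 40, 1),
  (⟨1, 1, 3, -1, -1, -1, -1, 1⟩, 39, 4),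
  (⟨1, 1, 3, -1, -1, 1, -1, -1⟩, 41, 6),
  (⟨1, 1, 3, -1, 1, -1, 1, 1⟩, 40, 5),
  (⟨1, 1, 3, -1, 1, 1, 1, -1⟩, 42, 1),
  (⟨2, -3, 0, -1, 0, -1, 0, -1⟩, 40, 28),
  (⟨2, -3, 0, -1, 0, 1, 0, 1⟩, 41, 25),
  (⟨2, -3, 0, 1, 0, -1, 0, 1⟩, 39, 23),
  (⟨2, -3, 0, 1, 0, 1, 0, -1⟩, 42, 24),
  (⟨2, -2, -2, 0, 0, -2, 0, 0⟩, 30, 32),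
  (⟨2, -2, -2, 0, 0, 0, 0, -2⟩, 39, 85),
  (⟨2, -2, -2, 0, 0, 0, 0, 2⟩, 42, 86),
  (⟨2, -2, -2, 0, 0, 2, 0, 0⟩, 30, 31),
  (⟨2, -2, 0, -2, -2, 0, 0, 0⟩, 42, 30),
  (⟨2, -2, 0, -2, 0, 0, -2, 0⟩, 30, 30),
  (⟨2, -2, 0, -2, 0, 0, 2, 0⟩, 30, 29),
  (⟨2, -2, 0, -2, 2, 0, 0, 0⟩, 39, 29),
  (⟨2, -2, 0, 0, -2, 0, 0, -2⟩, 30, 28),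
  (⟨2, -2, 0, 0, -2, 0, 0, 2⟩, 30, 27),
  (⟨2, -2, 0, 0, 0, -2, -2, 0⟩, 41, 80),
  (⟨2, -2, 0, 0, 0, -2, 2, 0⟩, 42, 32),
  (⟨2, -2, 0, 0, 0, 2, -2, 0⟩, 39, 31),
  (⟨2, -2, 0, 0, 0, 2, 2, 0⟩, 40, 81),
  (⟨2, -2, 0, 0, 2, 0, 0, -2⟩, 30, 26),
  (⟨2, -2, 0, 0, 2, 0, 0, 2⟩, 30, 25),
  (⟨2, -2, 0, 2, -2, 0, 0, 0⟩, 41, 24),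
  (⟨2, -2, 0, 2, 0, 0, -2, 0⟩, 30, 24),
  (⟨2, -2, 0, 2, 0, 0, 2, 0⟩, 30, 23),
  (⟨2, -2, 0, 2, 2, 0, 0, 0⟩, 40, 23),
  (⟨2, -2, 2, 0, 0, -2, 0, 0⟩, 30, 22),
  (⟨2, -2, 2, 0, 0, 0, 0, -2⟩, 41, 26),
  (⟨2, -2, 2, 0, 0, 0, 0, 2⟩, 40, 27),
  (⟨2, -2, 2, 0, 0, 2, 0, 0⟩, 30, 21),
  (⟨2, -1, -2, -1, -2, 1, 0, -1⟩, 40, 73),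
  (⟨2, -1, -2, -1, 0, -1, -2, 1⟩, 39, 32),
  (⟨2, -1, -2, -1, 0, 1, 2, -1⟩, 42, 31),
  (⟨2, -1, -2, -1, 2, -1, 0, 1⟩, 41, 70),
  (⟨2, -1, -2, 1, -2, -1, 0, -1⟩, 42, 20),
  (⟨2, -1, -2, 1, 0, -1, -2, -1⟩, 40, 16),
  (⟨2, -1, -2, 1, 0, 1, 2, 1⟩, 41, 15),
  (⟨2, -1, -2, 1, 2, 1, 0, 1⟩, 39, 17),
  (⟨2, -1, 0, -1, -2, -1, -2, 1⟩, 40, 20),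
  (⟨2, -1, 0, -1, -2, 1, -2, -1⟩, 41, 30),
  (⟨2, -1, 0, -1, 2, -1, 2, 1⟩, 40, 29),
  (⟨2, -1, 0, -1, 2, 1, 2, -1⟩, 41, 17),
  (⟨2, -1, 0, 1, -2, -1, 2, -1⟩, 39, 56),
  (⟨2, -1, 0, 1, -2, 1, 2, 1⟩, 42, 27),
  (⟨2, -1, 0, 1, 2, -1, -2, -1⟩, 39, 26),
  (⟨2, -1, 0, 1, 2, 1, -2, 1⟩, 42, 55),
  (⟨2, -1, 2, -1, -2, -1, 0, 1⟩, 41, 22),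
  (⟨2, -1, 2, -1, 0, -1, 2, 1⟩, 39, 3),
  (⟨2, -1, 2, -1, 0, 1, -2, -1⟩, 42, 2),
  (⟨2, -1, 2, -1, 2, 1, 0, -1⟩, 40, 21),
  (⟨2, -1, 2, 1, -2, 1, 0, 1⟩, 39, 8),
  (⟨2, -1, 2, 1, 0, -1, 2, -1⟩, 40, 3),
  (⟨2, -1, 2, 1, 0, 1, -2, 1⟩, 41, 2),
  (⟨2, -1, 2, 1, 2, -1, 0, -1⟩, 42, 7),
  (⟨2, 0, -2, 0, -2, 0, -2, 0⟩, 30, 20),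
  (⟨2, 0, -2, 0, -2, 0, 2, 0⟩, 30, 19),
  (⟨2, 0, -2, 0, 2, 0, -2, 0⟩, 30, 18),
  (⟨2, 0, -2, 0, 2, 0, 2, 0⟩, 30, 17),
  (⟨2, 0, -2, 2, 0, -2, 0, 0⟩, 41, 69),
  (⟨2, 0, -2, 2, 0, 0, 0, -2⟩, 30, 16),
  (⟨2, 0, -2, 2, 0, 0, 0, 2⟩, 30, 15),
  (⟨2, 0, -2, 2, 0, 2, 0, 0⟩, 40, 66),
  (⟨2, 0, 0, -2, -2, 2, 0, 0⟩, 30, 14),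
  (⟨2, 0, 0, -2, 0, 0, -2, 2⟩, 42, 63),
  (⟨2, 0, 0, -2, 0, 0, 2, -2⟩, 39, 64),
  (⟨2, 0, 0, -2, 2, -2, 0, 0⟩, 30, 13),
  (⟨2, 0, 0, 0, -2, 2, 0, -2⟩, 39, 73),
  (⟨2, 0, 0, 0, -2, 2, 0, 2⟩, 40, 72),
  (⟨2, 0, 0, 0, 0, -2, -2, 2⟩, 30, 12),
  (⟨2, 0, 0, 0, 0, -2, 2, -2⟩, 30, 11),
  (⟨2, 0, 0, 0, 0, 2, -2, 2⟩, 30, 10),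
  (⟨2, 0, 0, 0, 0, 2, 2, -2⟩, 30, 9),
  (⟨2, 0, 0, 0, 2, -2, 0, -2⟩, 41, 71),
  (⟨2, 0, 0, 0, 2, -2, 0, 2⟩, 42, 70),
  (⟨2, 0, 0, 2, -2, 2, 0, 0⟩, 30, 8),
  (⟨2, 0, 0, 2, 0, 0, -2, 2⟩, 40, 15),
  (⟨2, 0, 0, 2, 0, 0, 2, -2⟩, 41, 16),
  (⟨2, 0, 0, 2, 2, -2, 0, 0⟩, 30, 7),
  (⟨2, 0, 2, -2, 0, -2, 0, 0⟩, 42, 13),
  (⟨2, 0, 2, -2, 0, 0, 0, -2⟩, 30, 6),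
  (⟨2, 0, 2, -2, 0, 0, 0, 2⟩, 30, 5),
  (⟨2, 0, 2, -2, 0, 2, 0, 0⟩, 39, 14),
  (⟨2, 0, 2, 0, -2, 0, -2, 0⟩, 30, 4),
  (⟨2, 0, 2, 0, -2, 0, 2, 0⟩, 30, 3),
  (⟨2, 0, 2, 0, 2, 0, -2, 0⟩, 30, 2),
  (⟨2, 0, 2, 0, 2, 0, 2, 0⟩, 30, 1),
  (⟨2, 1, -2, 1, -2, 1, 0, -1⟩, 41, 20),
  (⟨2, 1, -2, 1, 0, -1, -2, 1⟩, 42, 44),
  (⟨2, 1, -2, 1, 0, 1, 2, -1⟩, 39, 43),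
  (⟨2, 1, -2, 1, 2, -1, 0, 1⟩, 40, 17),
  (⟨2, 1, 0, -1, -2, 1, -2, 1⟩, 39, 20),
  (⟨2, 1, 0, -1, 2, -1, 2, -1⟩, 42, 17),
  (⟨2, 1, 0, 1, -2, 1, 2, -1⟩, 40, 39),
  (⟨2, 1, 0, 1, 2, -1, -2, 1⟩, 41, 38),
  (⟨2, 1, 2, -1, -2, 1, 0, 1⟩, 42, 5),
  (⟨2, 1, 2, -1, 0, -1, 2, -1⟩, 41, 11),
  (⟨2, 1, 2, -1, 0, 1, -2, 1⟩, 40, 10),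
  (⟨2, 1, 2, -1, 2, -1, 0, -1⟩, 39, 6),
  (⟨3, -1, -1, -1, -1, -1, 1, -1⟩, 41, 32),
  (⟨3, -1, -1, -1, -1, 1, 1, 1⟩, 39, 19),
  (⟨3, -1, -1, -1, 1, -1, -1, -1⟩, 42, 18),
  (⟨3, -1, -1, -1, 1, 1, -1, 1⟩, 40, 31),
  (⟨3, -1, -1, 1, -1, -1, 1, 1⟩, 40, 19),
  (⟨3, -1, -1, 1, 1, 1, -1, -1⟩, 41, 18),
  (⟨3, -1, 1, -1, -1, -1, -1, -1⟩, 39, 28),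
  (⟨3, -1, 1, -1, 1, 1, 1, 1⟩, 42, 25),
  (⟨3, -1, 1, 1, -1, -1, -1, 1⟩, 42, 12),
  (⟨3, -1, 1, 1, -1, 1, -1, -1⟩, 40, 8),
  (⟨3, -1, 1, 1, 1, -1, 1, 1⟩, 41, 7),
  (⟨3, -1, 1, 1, 1, 1, 1, -1⟩, 39, 9),
  (⟨3, 0, -1, 0, -1, 0, -1, 2⟩, 41, 12),
  (⟨3, 0, -1, 0, -1, 2, -1, 0⟩, 42, 10),
  (⟨3, 0, -1, 0, 1, -2, 1, 0⟩, 39, 11),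
  (⟨3, 0, -1, 0, 1, 0, 1, -2⟩, 40, 9),
  (⟨3, 0, -1, 2, -1, 0, -1, 0⟩, 39, 16),
  (⟨3, 0, -1, 2, 1, 0, 1, 0⟩, 42, 15),
  (⟨3, 0, 1, -2, -1, 0, 1, 0⟩, 40, 14),
  (⟨3, 0, 1, -2, 1, 0, -1, 0⟩, 41, 13),
  (⟨3, 0, 1, 0, -1, 0, 1, -2⟩, 42, 0),
  (⟨3, 0, 1, 0, -1, 2, 1, 0⟩, 41, 0),
  (⟨3, 0, 1, 0, 1, -2, -1, 0⟩, 40, 0),
  (⟨3, 0, 1, 0, 1, 0, -1, 2⟩, 39, 0),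
  (⟨4, 0, 0, 0, 0, 0, 0, 0⟩, 30, 0)]

def bucket108 : List (SQ × ℕ × ℕ) := [
  (⟨-3, 0, -1, -1, 0, 0, -2, 1⟩, 37, 119),
  (⟨-3, 0, -1, 1, -2, 0, 0, -1⟩, 43, 119),
  (⟨-3, 0, -1, 1, 2, 0, 0, -1⟩, 45, 119),
  (⟨-3, 1, -1, 0, 0, -1, 0, -2⟩, 46, 94),
  (⟨-3, 1, -1, 0, 0, -1, 0, 2⟩, 38, 110),
  (⟨-3, 1, 1, 0, 2, 1, 0, 0⟩, 33, 99),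
  (⟨-2, -1, -2, 2, 1, -1, -1, 0⟩, 34, 105),
  (⟨-2, -1, 0, 0, -3, 1, 1, 0⟩, 49, 101),
  (⟨-2, -1, 2, -2, 1, -1, -1, 0⟩, 35, 77),
  (⟨-2, 0, -2, 1, -1, 2, -1, -1⟩, 50, 67),
  (⟨-2, 0, 0, -1, 3, 0, 1, -1⟩, 47, 62),
  (⟨-2, 0, 0, 1, -3, 0, -1, 1⟩, 31, 102),
  (⟨-2, 0, 2, -1, 1, -2, 1, 1⟩, 36, 52),
  (⟨-2, 1, -2, 0, 1, 1, -1, 2⟩, 35, 91),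
  (⟨-2, 1, 0, -2, 1, -1, 1, -2⟩, 34, 104),
  (⟨-2, 1, 0, 0, -1, -1, 3, 0⟩, 35, 101),
  (⟨-2, 1, 0, 0, -1, 3, -1, 0⟩, 34, 108),
  (⟨-2, 1, 0, 2, 1, -1, 1, -2⟩, 49, 54),
  (⟨-2, 1, 2, 0, 1, 1, -1, 2⟩, 49, 91),
  (⟨-2, 2, -2, -1, -1, 0, -1, 1⟩, 36, 96),
  (⟨-2, 2, 0, -1, 1, -2, -1, -1⟩, 50, 96),
  (⟨-2, 2, 0, 1, -1, 2, 1, 1⟩, 47, 87),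
  (⟨-2, 2, 2, 1, 1, 0, 1, -1⟩, 31, 33),
  (⟨-2, 3, 0, 0, 1, 1, 1, 0⟩, 48, 87),
  (⟨-1, -1, -1, 0, -2, 3, 0, 0⟩, 46, 82),
  (⟨-1, -1, -1, 2, 0, -1, -2, 2⟩, 46, 110),
  (⟨-1, -1, -1, 2, 0, -1, 2, -2⟩, 33, 56),
  (⟨-1, -1, 1, -2, -2, 1, -2, 0⟩, 38, 82),
  (⟨-1, -1, 1, -2, -2, 1, 2, 0⟩, 33, 78),
  (⟨-1, -1, 3, 0, 2, -1, 0, 0⟩, 38, 45),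
  (⟨-1, 0, -3, 1, 0, 0, -2, -1⟩, 32, 116),
  (⟨-1, 0, -1, 1, -2, 2, 2, 1⟩, 45, 72),
  (⟨-1, 0, -1, 1, 2, -2, 2, 1⟩, 37, 68),
  (⟨-1, 0, 1, -3, 0, 0, 2, -1⟩, 45, 64),
  (⟨-1, 0, 1, 1, 0, 0, -2, 3⟩, 43, 55),
  (⟨-1, 0, 3, -1, 0, -2, 0, -1⟩, 37, 47),
  (⟨-1, 0, 3, -1, 0, 2, 0, -1⟩, 43, 51),
  (⟨-1, 1, -1, 2, -2, 1, 0, -2⟩, 44, 94),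
  (⟨-1, 1, -1, 2, -2, 1, 0, 2⟩, 33, 93),
  (⟨-1, 1, 1, 0, -2, -1, -2, 2⟩, 44, 110),
  (⟨-1, 1, 1, 0, -2, -1, 2, -2⟩, 38, 94),
  (⟨-1, 1, 3, 0, 0, 1, -2, 0⟩, 46, 45),
  (⟨-1, 1, 3, 0, 0, 1, 2, 0⟩, 44, 45),
  (⟨-1, 2, -1, -1, -2, 0, 2, -1⟩, 37, 64),
  (⟨-1, 2, -1, -1, 2, 0, 2, -1⟩, 32, 95),
  (⟨-1, 2, 1, -1, 0, -2, -2, 1⟩, 32, 53),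
  (⟨-1, 2, 1, -1, 0, 2, -2, 1⟩, 45, 51),
  (⟨-1, 2, 1, 1, -2, 2, 0, -1⟩, 32, 40),
  (⟨-1, 2, 1, 1, 2, -2, 0, -1⟩, 43, 47),
  (⟨-1, 3, -1, 0, 2, -1, 0, 0⟩, 44, 37),
  (⟨0, -2, -2, 1, 1, -2, -1, 1⟩, 50, 80),
  (⟨0, -2, 0, -1, 1, 0, -3, 1⟩, 36, 80),
  (⟨0, -2, 0, 1, -1, 0, 3, -1⟩, 47, 81),
  (⟨0, -2, 2, -1, -1, 2, 1, -1⟩, 31, 21),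
  (⟨0, -1, -2, 0, -1, 1, 3, 0⟩, 34, 117),
  (⟨0, -1, -2, 2, 1, 1, 1, -2⟩, 48, 114),
  (⟨0, -1, 0, -2, 3, -1, 1, 0⟩, 48, 62),
  (⟨0, -1, 0, 2, 3, -1, 1, 0⟩, 35, 54),
  (⟨0, -1, 2, -2, 1, 1, 1, -2⟩, 49, 77),
  (⟨0, -1, 2, 0, -1, 1, 3, 0⟩, 48, 81),
  (⟨0, 0, -2, -1, 1, 0, 3, -1⟩, 50, 115),
  (⟨0, 0, -2, 1, -1, 0, 1, -3⟩, 31, 73),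
  (⟨0, 0, -2, 1, 3, 0, 1, 1⟩, 36, 115),
  (⟨0, 0, -2, 3, 1, 0, -1, -1⟩, 47, 114),
  (⟨0, 0, 2, -3, -1, 0, 1, 1⟩, 47, 5),
  (⟨0, 0, 2, -1, -3, 0, -1, -1⟩, 36, 4),
  (⟨0, 0, 2, -1, 1, 0, -1, 3⟩, 31, 46),
  (⟨0, 0, 2, 1, -1, 0, -3, 1⟩, 50, 4),
  (⟨0, 1, -2, 0, 1, -1, -3, 0⟩, 48, 38),
  (⟨0, 1, -2, 2, -1, -1, -1, 2⟩, 49, 42),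
  (⟨0, 1, 0, -2, -3, 1, -1, 0⟩, 35, 65),
  (⟨0, 1, 0, 2, -3, 1, -1, 0⟩, 48, 57),
  (⟨0, 1, 2, -2, -1, -1, -1, 2⟩, 48, 5),
  (⟨0, 1, 2, 0, 1, -1, -3, 0⟩, 34, 2),
  (⟨0, 2, -2, 1, 1, -2, -1, 1⟩, 31, 98),
  (⟨0, 2, 0, -1, 1, 0, -3, 1⟩, 47, 38),
  (⟨0, 2, 0, 1, -1, 0, 3, -1⟩, 36, 39),
  (⟨0, 2, 2, -1, -1, 2, 1, -1⟩, 50, 39),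
  (⟨1, -3, 1, 0, -2, 1, 0, 0⟩, 44, 82),
  (⟨1, -2, -1, -1, -2, 2, 0, 1⟩, 43, 72),
  (⟨1, -2, -1, -1, 2, -2, 0, 1⟩, 32, 79),
  (⟨1, -2, -1, 1, 0, -2, 2, -1⟩, 45, 68),
  (⟨1, -2, -1, 1, 0, 2, 2, -1⟩, 32, 66),
  (⟨1, -2, 1, 1, -2, 0, -2, 1⟩, 32, 24),
  (⟨1, -2, 1, 1, 2, 0, -2, 1⟩, 37, 55),
  (⟨1, -1, -3, 0, 0, -1, -2, 0⟩, 44, 74),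
  (⟨1, -1, -3, 0, 0, -1, 2, 0⟩, 46, 74),
  (⟨1, -1, -1, 0, 2, 1, -2, 2⟩, 38, 25),
  (⟨1, -1, -1, 0, 2, 1, 2, -2⟩, 44, 9),
  (⟨1, -1, 1, -2, 2, -1, 0, -2⟩, 33, 26),
  (⟨1, -1, 1, -2, 2, -1, 0, 2⟩, 44, 25),
  (⟨1, 0, -3, 1, 0, -2, 0, 1⟩, 43, 68),
  (⟨1, 0, -3, 1, 0, 2, 0, 1⟩, 37, 72),
  (⟨1, 0, -1, -1, 0, 0, 2, -3⟩, 43, 64),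
  (⟨1, 0, -1, 3, 0, 0, -2, 1⟩, 45, 55),
  (⟨1, 0, 1, -1, -2, 2, -2, -1⟩, 37, 51),
  (⟨1, 0, 1, -1, 2, -2, -2, -1⟩, 45, 47),
  (⟨1, 0, 3, -1, 0, 0, 2, 1⟩, 32, 3),
  (⟨1, 1, -3, 0, -2, 1, 0, 0⟩, 38, 74),
  (⟨1, 1, -1, 2, 2, -1, -2, 0⟩, 33, 41),
  (⟨1, 1, -1, 2, 2, -1, 2, 0⟩, 38, 37),
  (⟨1, 1, 1, -2, 0, 1, -2, 2⟩, 33, 63),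
  (⟨1, 1, 1, -2, 0, 1, 2, -2⟩, 46, 9),
  (⟨1, 1, 1, 0, 2, -3, 0, 0⟩, 46, 37),
  (⟨2, -3, 0, 0, -1, -1, -1, 0⟩, 48, 32),
  (⟨2, -2, -2, -1, -1, 0, -1, 1⟩, 31, 86),
  (⟨2, -2, 0, -1, 1, -2, -1, -1⟩, 47, 32),
  (⟨2, -2, 0, 1, -1, 2, 1, 1⟩, 50, 23),
  (⟨2, -2, 2, 1, 1, 0, 1, -1⟩, 36, 23),
  (⟨2, -1, -2, 0, -1, -1, 1, -2⟩, 49, 28),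
  (⟨2, -1, 0, -2, -1, 1, -1, 2⟩, 49, 65),
  (⟨2, -1, 0, 0, 1, -3, 1, 0⟩, 34, 11),
  (⟨2, -1, 0, 0, 1, 1, -3, 0⟩, 35, 18),
  (⟨2, -1, 0, 2, -1, 1, -1, 2⟩, 34, 15),
  (⟨2, -1, 2, 0, -1, -1, 1, -2⟩, 35, 28),
  (⟨2, 0, -2, 1, -1, 2, -1, -1⟩, 36, 67),
  (⟨2, 0, 0, -1, 3, 0, 1, -1⟩, 31, 17),
  (⟨2, 0, 0, 1, -3, 0, -1, 1⟩, 47, 57),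
  (⟨2, 0, 2, -1, 1, -2, 1, 1⟩, 50, 52),
  (⟨2, 1, -2, 2, -1, 1, 1, 0⟩, 35, 42),
  (⟨2, 1, 0, 0, 3, -1, -1, 0⟩, 49, 18),
  (⟨2, 1, 2, -2, -1, 1, 1, 0⟩, 34, 14),
  (⟨3, -1, -1, 0, -2, -1, 0, 0⟩, 33, 20),
  (⟨3, -1, 1, 0, 0, 1, 0, -2⟩, 38, 9),
  (⟨3, -1, 1, 0, 0, 1, 0, 2⟩, 46, 25),
  (⟨3, 0, 1, -1, -2, 0, 0, 1⟩, 45, 0),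
  (⟨3, 0, 1, -1, 2, 0, 0, 1⟩, 43, 0),
  (⟨3, 0, 1, 1, 0, 0, 2, -1⟩, 37, 0)]

def bucket109 : List (SQ × ℕ × ℕ) := [
  (⟨-3, 0, -1, -1, 0, 0, 2, -1⟩, 38, 119),
  (⟨-3, 0, -1, 1, -2, 0, 0, 1⟩, 44, 119),
  (⟨-3, 0, -1, 1, 2, 0, 0, 1⟩, 46, 119),
  (⟨-3, 1, -1, 0, 0, 1, 0, -2⟩, 37, 107),
  (⟨-3, 1, -1, 0, 0, 1, 0, 2⟩, 43, 91),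
  (⟨-3, 1, 1, 0, -2, -1, 0, 0⟩, 32, 102),
  (⟨-2, -1, -2, 2, -1, 1, 1, 0⟩, 31, 106),
  (⟨-2, -1, 0, 0, 3, -1, -1, 0⟩, 50, 100),
  (⟨-2, -1, 2, -2, -1, 1, 1, 0⟩, 36, 78),
  (⟨-2, 0, -2, 1, 1, -2, 1, 1⟩, 49, 68),
  (⟨-2, 0, 0, -1, -3, 0, -1, 1⟩, 48, 65),
  (⟨-2, 0, 0, 1, 3, 0, 1, -1⟩, 34, 99),
  (⟨-2, 0, 2, -1, -1, 2, -1, -1⟩, 35, 51),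
  (⟨-2, 1, -2, 0, -1, -1, 1, -2⟩, 36, 94),
  (⟨-2, 1, 0, -2, -1, 1, -1, 2⟩, 31, 103),
  (⟨-2, 1, 0, 0, 1, -3, 1, 0⟩, 31, 109),
  (⟨-2, 1, 0, 0, 1, 1, -3, 0⟩, 36, 100),
  (⟨-2, 1, 0, 2, -1, 1, -1, 2⟩, 50, 57),
  (⟨-2, 1, 2, 0, -1, -1, 1, -2⟩, 50, 94),
  (⟨-2, 2, -2, -1, 1, 0, 1, -1⟩, 35, 95),
  (⟨-2, 2, 0, -1, -1, 2, 1, 1⟩, 49, 95),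
  (⟨-2, 2, 0, 1, 1, -2, -1, -1⟩, 48, 88),
  (⟨-2, 2, 2, 1, -1, 0, -1, 1⟩, 34, 34),
  (⟨-2, 3, 0, 0, -1, -1, -1, 0⟩, 47, 88),
  (⟨-1, -1, -1, 0, 2, -3, 0, 0⟩, 43, 79),
  (⟨-1, -1, -1, 2, 0, 1, -2, 2⟩, 32, 55),
  (⟨-1, -1, -1, 2, 0, 1, 2, -2⟩, 43, 107),
  (⟨-1, -1, 1, -2, 2, -1, -2, 0⟩, 32, 77),
  (⟨-1, -1, 1, -2, 2, -1, 2, 0⟩, 37, 79),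
  (⟨-1, -1, 3, 0, -2, 1, 0, 0⟩, 37, 45),
  (⟨-1, 0, -3, 1, 0, 0, 2, 1⟩, 33, 117),
  (⟨-1, 0, -1, 1, -2, 2, -2, -1⟩, 38, 67),
  (⟨-1, 0, -1, 1, 2, -2, -2, -1⟩, 44, 71),
  (⟨-1, 0, 1, -3, 0, 0, -2, 1⟩, 44, 63),
  (⟨-1, 0, 1, 1, 0, 0, 2, -3⟩, 46, 56),
  (⟨-1, 0, 3, -1, 0, -2, 0, 1⟩, 46, 52),
  (⟨-1, 0, 3, -1, 0, 2, 0, 1⟩, 38, 48),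
  (⟨-1, 1, -1, 2, 2, -1, 0, -2⟩, 32, 92),
  (⟨-1, 1, -1, 2, 2, -1, 0, 2⟩, 45, 91),
  (⟨-1, 1, 1, 0, 2, 1, -2, 2⟩, 37, 91),
  (⟨-1, 1, 1, 0, 2, 1, 2, -2⟩, 45, 107),
  (⟨-1, 1, 3, 0, 0, -1, -2, 0⟩, 45, 45),
  (⟨-1, 1, 3, 0, 0, -1, 2, 0⟩, 43, 45),
  (⟨-1, 2, -1, -1, -2, 0, -2, 1⟩, 33, 96),
  (⟨-1, 2, -1, -1, 2, 0, -2, 1⟩, 38, 63),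
  (⟨-1, 2, 1, -1, 0, -2, 2, -1⟩, 44, 52),
  (⟨-1, 2, 1, -1, 0, 2, 2, -1⟩, 33, 50),
  (⟨-1, 2, 1, 1, -2, 2, 0, 1⟩, 46, 48),
  (⟨-1, 2, 1, 1, 2, -2, 0, 1⟩, 33, 37),
  (⟨-1, 3, -1, 0, -2, 1, 0, 0⟩, 45, 40),
  (⟨0, -2, -2, 1, -1, 2, 1, -1⟩, 49, 81),
  (⟨0, -2, 0, -1, -1, 0, 3, -1⟩, 35, 81),
  (⟨0, -2, 0, 1, 1, 0, -3, 1⟩, 48, 80),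
  (⟨0, -2, 2, -1, 1, -2, -1, 1⟩, 34, 22),
  (⟨0, -1, -2, 0, 1, -1, -3, 0⟩, 31, 116),
  (⟨0, -1, -2, 2, -1, -1, -1, 2⟩, 47, 113),
  (⟨0, -1, 0, -2, -3, 1, -1, 0⟩, 47, 65),
  (⟨0, -1, 0, 2, -3, 1, -1, 0⟩, 36, 57),
  (⟨0, -1, 2, -2, -1, -1, -1, 2⟩, 50, 78),
  (⟨0, -1, 2, 0, 1, -1, -3, 0⟩, 47, 80),
  (⟨0, 0, -2, -1, -1, 0, -3, 1⟩, 49, 118),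
  (⟨0, 0, -2, 1, -3, 0, -1, -1⟩, 35, 118),
  (⟨0, 0, -2, 1, 1, 0, -1, 3⟩, 34, 70),
  (⟨0, 0, -2, 3, -1, 0, 1, 1⟩, 48, 113),
  (⟨0, 0, 2, -3, 1, 0, -1, -1⟩, 48, 6),
  (⟨0, 0, 2, -1, -1, 0, 1, -3⟩, 34, 49),
  (⟨0, 0, 2, -1, 3, 0, 1, 1⟩, 35, 1),
  (⟨0, 0, 2, 1, 1, 0, 3, -1⟩, 49, 1),
  (⟨0, 1, -2, 0, -1, 1, 3, 0⟩, 47, 39),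
  (⟨0, 1, -2, 2, 1, 1, 1, -2⟩, 50, 41),
  (⟨0, 1, 0, -2, 3, -1, 1, 0⟩, 36, 62),
  (⟨0, 1, 0, 2, 3, -1, 1, 0⟩, 47, 54),
  (⟨0, 1, 2, -2, 1, 1, 1, -2⟩, 47, 6),
  (⟨0, 1, 2, 0, -1, 1, 3, 0⟩, 31, 3),
  (⟨0, 2, -2, 1, -1, 2, 1, -1⟩, 34, 97),
  (⟨0, 2, 0, -1, -1, 0, 3, -1⟩, 48, 39),
  (⟨0, 2, 0, 1, 1, 0, -3, 1⟩, 35, 38),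
  (⟨0, 2, 2, -1, 1, -2, -1, 1⟩, 49, 38),
  (⟨1, -3, 1, 0, 2, -1, 0, 0⟩, 45, 79),
  (⟨1, -2, -1, -1, -2, 2, 0, -1⟩, 33, 82),
  (⟨1, -2, -1, -1, 2, -2, 0, -1⟩, 46, 71),
  (⟨1, -2, -1, 1, 0, -2, -2, 1⟩, 33, 69),
  (⟨1, -2, -1, 1, 0, 2, -2, 1⟩, 44, 67),
  (⟨1, -2, 1, 1, -2, 0, 2, -1⟩, 38, 56),
  (⟨1, -2, 1, 1, 2, 0, 2, -1⟩, 33, 23),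
  (⟨1, -1, -3, 0, 0, 1, -2, 0⟩, 43, 74),
  (⟨1, -1, -3, 0, 0, 1, 2, 0⟩, 45, 74),
  (⟨1, -1, -1, 0, -2, -1, -2, 2⟩, 45, 12),
  (⟨1, -1, -1, 0, -2, -1, 2, -2⟩, 37, 28),
  (⟨1, -1, 1, -2, -2, 1, 0, -2⟩, 45, 28),
  (⟨1, -1, 1, -2, -2, 1, 0, 2⟩, 32, 27),
  (⟨1, 0, -3, 1, 0, -2, 0, -1⟩, 38, 71),
  (⟨1, 0, -3, 1, 0, 2, 0, -1⟩, 46, 67),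
  (⟨1, 0, -1, -1, 0, 0, -2, 3⟩, 46, 63),
  (⟨1, 0, -1, 3, 0, 0, 2, -1⟩, 44, 56),
  (⟨1, 0, 1, -1, -2, 2, 2, 1⟩, 44, 48),
  (⟨1, 0, 1, -1, 2, -2, 2, 1⟩, 38, 52),
  (⟨1, 0, 3, -1, 0, 0, -2, -1⟩, 33, 2),
  (⟨1, 1, -3, 0, 2, -1, 0, 0⟩, 37, 74),
  (⟨1, 1, -1, 2, -2, 1, -2, 0⟩, 37, 40),
  (⟨1, 1, -1, 2, -2, 1, 2, 0⟩, 32, 42),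
  (⟨1, 1, 1, -2, 0, -1, -2, 2⟩, 43, 12),
  (⟨1, 1, 1, -2, 0, -1, 2, -2⟩, 32, 64),
  (⟨1, 1, 1, 0, -2, 3, 0, 0⟩, 43, 40),
  (⟨2, -3, 0, 0, 1, 1, 1, 0⟩, 47, 31),
  (⟨2, -2, -2, -1, 1, 0, 1, -1⟩, 34, 85),
  (⟨2, -2, 0, -1, -1, 2, 1, 1⟩, 48, 31),
  (⟨2, -2, 0, 1, 1, -2, -1, -1⟩, 49, 24),
  (⟨2, -2, 2, 1, -1, 0, -1, 1⟩, 35, 24),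
  (⟨2, -1, -2, 0, 1, 1, -1, 2⟩, 50, 25),
  (⟨2, -1, 0, -2, 1, -1, 1, -2⟩, 50, 62),
  (⟨2, -1, 0, 0, -1, -1, 3, 0⟩, 36, 19),
  (⟨2, -1, 0, 0, -1, 3, -1, 0⟩, 31, 10),
  (⟨2, -1, 0, 2, 1, -1, 1, -2⟩, 31, 16),
  (⟨2, -1, 2, 0, 1, 1, -1, 2⟩, 36, 25),
  (⟨2, 0, -2, 1, 1, -2, 1, 1⟩, 35, 68),
  (⟨2, 0, 0, -1, -3, 0, -1, 1⟩, 34, 20),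
  (⟨2, 0, 0, 1, 3, 0, 1, -1⟩, 48, 54),
  (⟨2, 0, 2, -1, -1, 2, -1, -1⟩, 49, 51),
  (⟨2, 1, -2, 2, 1, -1, -1, 0⟩, 36, 41),
  (⟨2, 1, 0, 0, -3, 1, 1, 0⟩, 50, 19),
  (⟨2, 1, 2, -2, 1, -1, -1, 0⟩, 31, 13),
  (⟨3, -1, -1, 0, 2, 1, 0, 0⟩, 32, 17),
  (⟨3, -1, 1, 0, 0, -1, 0, -2⟩, 43, 28),
  (⟨3, -1, 1, 0, 0, -1, 0, 2⟩, 37, 12),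
  (⟨3, 0, 1, -1, -2, 0, 0, -1⟩, 46, 0),
  (⟨3, 0, 1, -1, 2, 0, 0, -1⟩, 44, 0),
  (⟨3, 0, 1, 1, 0, 0, -2, 1⟩, 38, 0)]

def bucket110 : List (SQ × ℕ × ℕ) := [
  (⟨-2, -1, -2, 1, -2, 1, 0, -1⟩, 48, 118),
  (⟨-2, -1, -2, 1, 0, -1, -2, 1⟩, 45, 110),
  (⟨-2, -1, -2, 1, 0, 1, 2, -1⟩, 44, 107),
  (⟨-2, -1, -2, 1, 2, -1, 0, 1⟩, 47, 115),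
  (⟨-2, -1, 0, -1, -2, 1, -2, 1⟩, 50, 82),
  (⟨-2, -1, 0, -1, 2, -1, 2, -1⟩, 49, 79),
  (⟨-2, -1, 0, 1, -2, 1, 2, -1⟩, 32, 106),
  (⟨-2, -1, 0, 1, 2, -1, -2, 1⟩, 33, 105),
  (⟨-2, -1, 2, -1, -2, 1, 0, 1⟩, 46, 78),
  (⟨-2, -1, 2, -1, 0, -1, 2, -1⟩, 31, 75),
  (⟨-2, -1, 2, -1, 0, 1, -2, 1⟩, 34, 76),
  (⟨-2, -1, 2, -1, 2, -1, 0, -1⟩, 43, 77),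
  (⟨-2, 1, -2, -1, -2, 1, 0, -1⟩, 31, 112),
  (⟨-2, 1, -2, -1, 0, -1, -2, 1⟩, 46, 96),
  (⟨-2, 1, -2, -1, 0, 1, 2, -1⟩, 43, 95),
  (⟨-2, 1, -2, -1, 2, -1, 0, 1⟩, 34, 111),
  (⟨-2, 1, -2, 1, -2, -1, 0, -1⟩, 33, 94),
  (⟨-2, 1, -2, 1, 0, -1, -2, -1⟩, 49, 114),
  (⟨-2, 1, -2, 1, 0, 1, 2, 1⟩, 50, 113),
  (⟨-2, 1, -2, 1, 2, 1, 0, 1⟩, 32, 91),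
  (⟨-2, 1, 0, -1, -2, -1, -2, 1⟩, 43, 110),
  (⟨-2, 1, 0, -1, -2, 1, -2, -1⟩, 44, 96),
  (⟨-2, 1, 0, -1, 2, -1, 2, 1⟩, 45, 95),
  (⟨-2, 1, 0, -1, 2, 1, 2, -1⟩, 46, 107),
  (⟨-2, 1, 0, 1, -2, -1, 2, -1⟩, 47, 101),
  (⟨-2, 1, 0, 1, -2, 1, 2, 1⟩, 34, 93),
  (⟨-2, 1, 0, 1, 2, -1, -2, -1⟩, 31, 92),
  (⟨-2, 1, 0, 1, 2, 1, -2, 1⟩, 48, 100),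
  (⟨-2, 1, 2, -1, -2, -1, 0, 1⟩, 49, 88),
  (⟨-2, 1, 2, -1, 0, -1, 2, 1⟩, 33, 52),
  (⟨-2, 1, 2, -1, 0, 1, -2, -1⟩, 32, 51),
  (⟨-2, 1, 2, -1, 2, 1, 0, -1⟩, 50, 87),
  (⟨-2, 1, 2, 1, -2, 1, 0, 1⟩, 45, 48),
  (⟨-2, 1, 2, 1, 0, -1, 2, -1⟩, 48, 101),
  (⟨-2, 1, 2, 1, 0, 1, -2, 1⟩, 47, 100),
  (⟨-2, 1, 2, 1, 2, -1, 0, -1⟩, 44, 47),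
  (⟨-2, 3, 0, -1, 0, -1, 0, -1⟩, 38, 96),
  (⟨-2, 3, 0, -1, 0, 1, 0, 1⟩, 37, 95),
  (⟨-2, 3, 0, 1, 0, -1, 0, 1⟩, 35, 88),
  (⟨-2, 3, 0, 1, 0, 1, 0, -1⟩, 36, 87),
  (⟨0, -1, -2, -1, -2, 1, -2, 1⟩, 32, 86),
  (⟨0, -1, -2, -1, 2, -1, 2, -1⟩, 33, 85),
  (⟨0, -1, -2, 1, -2, -1, -2, 1⟩, 34, 69),
  (⟨0, -1, -2, 1, -2, 1, -2, -1⟩, 47, 118),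
  (⟨0, -1, -2, 1, 2, -1, 2, 1⟩, 48, 115),
  (⟨0, -1, -2, 1, 2, 1, 2, -1⟩, 31, 66),
  (⟨0, -1, -2, 3, 0, -1, 0, -1⟩, 35, 114),
  (⟨0, -1, -2, 3, 0, 1, 0, 1⟩, 36, 113),
  (⟨0, -1, 0, -1, -2, 3, 0, -1⟩, 36, 82),
  (⟨0, -1, 0, -1, 0, -1, -2, 3⟩, 37, 110),
  (⟨0, -1, 0, -1, 0, 1, 2, -3⟩, 38, 107),
  (⟨0, -1, 0, -1, 2, -3, 0, 1⟩, 35, 79),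
  (⟨0, -1, 0, 1, -2, 3, 0, 1⟩, 37, 48),
  (⟨0, -1, 0, 1, 0, -1, 2, -3⟩, 36, 56),
  (⟨0, -1, 0, 1, 0, 1, -2, 3⟩, 35, 55),
  (⟨0, -1, 0, 1, 2, -3, 0, -1⟩, 38, 47),
  (⟨0, -1, 2, -3, 0, -1, 0, 1⟩, 38, 78),
  (⟨0, -1, 2, -3, 0, 1, 0, -1⟩, 37, 77),
  (⟨0, -1, 2, -1, -2, -1, 2, -1⟩, 44, 78),
  (⟨0, -1, 2, -1, -2, 1, 2, 1⟩, 43, 48),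
  (⟨0, -1, 2, -1, 2, -1, -2, -1⟩, 46, 47),
  (⟨0, -1, 2, -1, 2, 1, -2, 1⟩, 45, 77),
  (⟨0, -1, 2, 1, -2, 1, 2, -1⟩, 50, 56),
  (⟨0, -1, 2, 1, 2, -1, -2, 1⟩, 49, 55),
  (⟨0, 1, -2, -1, -2, 1, 2, -1⟩, 49, 64),
  (⟨0, 1, -2, -1, 2, -1, -2, 1⟩, 50, 63),
  (⟨0, 1, -2, 1, -2, -1, 2, -1⟩, 45, 42),
  (⟨0, 1, -2, 1, -2, 1, 2, 1⟩, 46, 72),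
  (⟨0, 1, -2, 1, 2, -1, -2, -1⟩, 43, 71),
  (⟨0, 1, -2, 1, 2, 1, -2, 1⟩, 44, 41),
  (⟨0, 1, -2, 3, 0, -1, 0, 1⟩, 37, 42),
  (⟨0, 1, -2, 3, 0, 1, 0, -1⟩, 38, 41),
  (⟨0, 1, 0, -1, -2, 3, 0, 1⟩, 38, 72),
  (⟨0, 1, 0, -1, 0, -1, 2, -3⟩, 35, 64),
  (⟨0, 1, 0, -1, 0, 1, -2, 3⟩, 36, 63),
  (⟨0, 1, 0, -1, 2, -3, 0, -1⟩, 37, 71),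
  (⟨0, 1, 0, 1, -2, 3, 0, -1⟩, 35, 40),
  (⟨0, 1, 0, 1, 0, -1, -2, 3⟩, 38, 12),
  (⟨0, 1, 0, 1, 0, 1, 2, -3⟩, 37, 9),
  (⟨0, 1, 0, 1, 2, -3, 0, 1⟩, 36, 37),
  (⟨0, 1, 2, -3, 0, -1, 0, -1⟩, 36, 6),
  (⟨0, 1, 2, -3, 0, 1, 0, 1⟩, 35, 5),
  (⟨0, 1, 2, -1, -2, -1, -2, 1⟩, 31, 53),
  (⟨0, 1, 2, -1, -2, 1, -2, -1⟩, 48, 4),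
  (⟨0, 1, 2, -1, 2, -1, 2, 1⟩, 47, 1),
  (⟨0, 1, 2, -1, 2, 1, 2, -1⟩, 34, 50),
  (⟨0, 1, 2, 1, -2, 1, -2, 1⟩, 33, 34),
  (⟨0, 1, 2, 1, 2, -1, 2, -1⟩, 32, 33),
  (⟨2, -3, 0, -1, 0, -1, 0, 1⟩, 36, 32),
  (⟨2, -3, 0, -1, 0, 1, 0, -1⟩, 35, 31),
  (⟨2, -3, 0, 1, 0, -1, 0, -1⟩, 37, 24),
  (⟨2, -3, 0, 1, 0, 1, 0, 1⟩, 38, 23),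
  (⟨2, -1, -2, -1, -2, 1, 0, 1⟩, 44, 72),
  (⟨2, -1, -2, -1, 0, -1, 2, -1⟩, 47, 19),
  (⟨2, -1, -2, -1, 0, 1, -2, 1⟩, 48, 18),
  (⟨2, -1, -2, -1, 2, -1, 0, -1⟩, 45, 71),
  (⟨2, -1, -2, 1, -2, -1, 0, 1⟩, 50, 32),
  (⟨2, -1, -2, 1, 0, -1, 2, 1⟩, 32, 68),
  (⟨2, -1, -2, 1, 0, 1, -2, -1⟩, 33, 67),
  (⟨2, -1, -2, 1, 2, 1, 0, -1⟩, 49, 31),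
  (⟨2, -1, 0, -1, -2, -1, 2, -1⟩, 48, 19),
  (⟨2, -1, 0, -1, -2, 1, 2, 1⟩, 31, 27),
  (⟨2, -1, 0, -1, 2, -1, -2, -1⟩, 34, 26),
  (⟨2, -1, 0, -1, 2, 1, -2, 1⟩, 47, 18),
  (⟨2, -1, 0, 1, -2, -1, -2, 1⟩, 46, 12),
  (⟨2, -1, 0, 1, -2, 1, -2, -1⟩, 45, 24),
  (⟨2, -1, 0, 1, 2, -1, 2, 1⟩, 44, 23),
  (⟨2, -1, 0, 1, 2, 1, 2, -1⟩, 43, 9),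
  (⟨2, -1, 2, -1, -2, -1, 0, -1⟩, 32, 28),
  (⟨2, -1, 2, -1, 0, -1, -2, -1⟩, 50, 6),
  (⟨2, -1, 2, -1, 0, 1, 2, 1⟩, 49, 5),
  (⟨2, -1, 2, -1, 2, 1, 0, 1⟩, 33, 25),
  (⟨2, -1, 2, 1, -2, 1, 0, -1⟩, 34, 8),
  (⟨2, -1, 2, 1, 0, -1, -2, 1⟩, 43, 24),
  (⟨2, -1, 2, 1, 0, 1, 2, -1⟩, 46, 23),
  (⟨2, -1, 2, 1, 2, -1, 0, 1⟩, 31, 7),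
  (⟨2, 1, -2, 1, -2, 1, 0, 1⟩, 43, 42),
  (⟨2, 1, -2, 1, 0, -1, 2, -1⟩, 34, 43),
  (⟨2, 1, -2, 1, 0, 1, -2, 1⟩, 31, 44),
  (⟨2, 1, -2, 1, 2, -1, 0, -1⟩, 46, 41),
  (⟨2, 1, 0, -1, -2, 1, 2, -1⟩, 33, 14),
  (⟨2, 1, 0, -1, 2, -1, -2, 1⟩, 32, 13),
  (⟨2, 1, 0, 1, -2, 1, -2, 1⟩, 49, 40),
  (⟨2, 1, 0, 1, 2, -1, 2, -1⟩, 50, 37),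
  (⟨2, 1, 2, -1, -2, 1, 0, -1⟩, 47, 4),
  (⟨2, 1, 2, -1, 0, -1, -2, 1⟩, 44, 12),
  (⟨2, 1, 2, -1, 0, 1, 2, -1⟩, 45, 9),
  (⟨2, 1, 2, -1, 2, -1, 0, 1⟩, 48, 1)]

def bucket111 : List (SQ × ℕ × ℕ) := [
  (⟨-3, 0, -2, 0, 0, 1, 1, -1⟩, 34, 119),
  (⟨-3, 0, 0, 0, 2, -1, 1, 1⟩, 35, 99),
  (⟨-3, 0, 2, 0, 0, 1, 1, -1⟩, 49, 99),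
  (⟨-3, 1, 0, -1, 0, -2, 1, 0⟩, 37, 109),
  (⟨-3, 1, 0, -1, 0, 2, 1, 0⟩, 45, 112),
  (⟨-3, 1, 2, 1, 0, 0, -1, 0⟩, 43, 100),
  (⟨-2, -1, -3, 1, -1, 0, 0, 0⟩, 46, 118),
  (⟨-2, -1, 1, -1, 1, 0, -2, 2⟩, 38, 76),
  (⟨-2, -1, 1, -1, 1, 0, 2, -2⟩, 33, 75),
  (⟨-2, 0, -3, 0, 1, -1, 0, -1⟩, 50, 116),
  (⟨-2, 0, -1, 2, 1, 1, 2, -1⟩, 47, 107),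
  (⟨-2, 0, 1, -2, -1, -1, -2, 1⟩, 36, 53),
  (⟨-2, 0, 3, 0, -1, 1, 0, 1⟩, 31, 45),
  (⟨-2, 1, -1, -1, -3, 0, 0, 0⟩, 38, 118),
  (⟨-2, 1, -1, 3, 1, 0, 0, 0⟩, 33, 89),
  (⟨-2, 1, 1, -1, -1, 2, 0, -2⟩, 46, 49),
  (⟨-2, 1, 1, -1, -1, 2, 0, 2⟩, 33, 103),
  (⟨-2, 1, 1, 1, 1, -2, -2, 0⟩, 46, 88),
  (⟨-2, 1, 1, 1, 1, -2, 2, 0⟩, 38, 88),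
  (⟨-2, 2, -1, 0, 1, -1, 2, 1⟩, 36, 95),
  (⟨-2, 2, -1, 2, -1, -1, 0, -1⟩, 31, 94),
  (⟨-2, 2, 1, -2, 1, 1, 0, 1⟩, 47, 35),
  (⟨-2, 2, 1, 0, -1, 1, -2, -1⟩, 50, 40),
  (⟨-2, 3, 1, 1, -1, 0, 0, 0⟩, 44, 88),
  (⟨-1, -1, -2, 1, -2, 0, -1, 2⟩, 43, 113),
  (⟨-1, -1, -2, 1, 2, 0, -1, 2⟩, 37, 113),
  (⟨-1, -1, -2, 3, 0, 0, 1, 0⟩, 45, 113),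
  (⟨-1, -1, 0, -1, -2, 2, 1, -2⟩, 43, 112),
  (⟨-1, -1, 0, -1, 2, -2, 1, -2⟩, 45, 109),
  (⟨-1, -1, 2, -1, 0, 0, -3, 0⟩, 37, 100),
  (⟨-1, 0, -2, 2, -2, -1, 1, -1⟩, 49, 56),
  (⟨-1, 0, 0, -2, 0, 1, -3, 1⟩, 35, 63),
  (⟨-1, 0, 0, 0, -2, 1, -1, 3⟩, 49, 93),
  (⟨-1, 0, 0, 0, 2, -3, -1, -1⟩, 34, 47),
  (⟨-1, 0, 0, 0, 2, 1, 3, -1⟩, 48, 107),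
  (⟨-1, 0, 0, 2, 0, 1, -3, 1⟩, 34, 55),
  (⟨-1, 0, 2, -2, -2, -1, 1, -1⟩, 35, 78),
  (⟨-1, 1, -2, -1, -2, 2, -1, 0⟩, 37, 112),
  (⟨-1, 1, -2, -1, 2, -2, -1, 0⟩, 32, 111),
  (⟨-1, 1, -2, 1, 0, -2, 1, -2⟩, 43, 109),
  (⟨-1, 1, -2, 1, 0, 2, 1, -2⟩, 32, 97),
  (⟨-1, 1, 0, 1, -2, 0, -3, 0⟩, 32, 60),
  (⟨-1, 1, 0, 1, 2, 0, -3, 0⟩, 45, 100),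
  (⟨-1, 2, -2, 0, -2, 1, 1, 1⟩, 35, 93),
  (⟨-1, 2, -2, 2, 0, 1, -1, -1⟩, 48, 90),
  (⟨-1, 2, 0, -2, 2, -1, -1, 1⟩, 48, 35),
  (⟨-1, 2, 0, 2, 2, -1, -1, 1⟩, 49, 41),
  (⟨-1, 2, 2, -2, 0, 1, -1, -1⟩, 34, 51),
  (⟨-1, 2, 2, 0, -2, 1, 1, 1⟩, 48, 48),
  (⟨-1, 3, 2, -1, 0, 0, 1, 0⟩, 32, 36),
  (⟨0, -2, -1, 0, -3, 1, 0, -1⟩, 31, 82),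
  (⟨0, -2, -1, 2, -1, 1, -2, 1⟩, 50, 24),
  (⟨0, -2, 1, -2, 1, -1, 2, -1⟩, 47, 29),
  (⟨0, -2, 1, 0, 3, -1, 0, 1⟩, 36, 79),
  (⟨0, -1, -1, 1, -3, 0, -2, 0⟩, 44, 118),
  (⟨0, -1, -1, 1, -3, 0, 2, 0⟩, 33, 61),
  (⟨0, -1, 1, 1, -1, 2, -2, 2⟩, 46, 76),
  (⟨0, -1, 1, 1, -1, 2, 2, -2⟩, 44, 49),
  (⟨0, -1, 3, -1, -1, 0, 0, -2⟩, 38, 49),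
  (⟨0, -1, 3, -1, -1, 0, 0, 2⟩, 44, 76),
  (⟨0, 0, -3, 0, 1, 1, -2, 1⟩, 36, 116),
  (⟨0, 0, -1, 0, -1, -1, -2, 3⟩, 31, 110),
  (⟨0, 0, -1, 0, -1, 3, 2, -1⟩, 50, 66),
  (⟨0, 0, -1, 0, 3, -1, -2, -1⟩, 47, 71),
  (⟨0, 0, 1, 0, -3, 1, 2, 1⟩, 47, 48),
  (⟨0, 0, 1, 0, 1, -3, -2, 1⟩, 50, 53),
  (⟨0, 0, 1, 0, 1, 1, 2, -3⟩, 31, 9),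
  (⟨0, 0, 3, 0, -1, -1, 2, -1⟩, 36, 3),
  (⟨0, 1, -3, 1, 1, 0, 0, -2⟩, 44, 43),
  (⟨0, 1, -3, 1, 1, 0, 0, 2⟩, 38, 70),
  (⟨0, 1, -1, -1, 1, -2, -2, 2⟩, 44, 70),
  (⟨0, 1, -1, -1, 1, -2, 2, -2⟩, 46, 43),
  (⟨0, 1, 1, -1, 3, 0, -2, 0⟩, 33, 58),
  (⟨0, 1, 1, -1, 3, 0, 2, 0⟩, 44, 1),
  (⟨0, 2, -1, 0, -3, 1, 0, -1⟩, 36, 40),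
  (⟨0, 2, -1, 2, -1, 1, -2, 1⟩, 47, 90),
  (⟨0, 2, 1, -2, 1, -1, 2, -1⟩, 50, 95),
  (⟨0, 2, 1, 0, 3, -1, 0, 1⟩, 31, 37),
  (⟨1, -3, -2, 1, 0, 0, -1, 0⟩, 32, 83),
  (⟨1, -2, -2, 0, 2, -1, -1, -1⟩, 48, 71),
  (⟨1, -2, -2, 2, 0, -1, 1, 1⟩, 34, 68),
  (⟨1, -2, 0, -2, -2, 1, 1, -1⟩, 49, 78),
  (⟨1, -2, 0, 2, -2, 1, 1, -1⟩, 48, 84),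
  (⟨1, -2, 2, -2, 0, -1, 1, 1⟩, 48, 29),
  (⟨1, -2, 2, 0, 2, -1, -1, -1⟩, 35, 26),
  (⟨1, -1, 0, -1, -2, 0, 3, 0⟩, 45, 19),
  (⟨1, -1, 0, -1, 2, 0, 3, 0⟩, 32, 59),
  (⟨1, -1, 2, -1, 0, -2, -1, 2⟩, 32, 22),
  (⟨1, -1, 2, -1, 0, 2, -1, 2⟩, 43, 10),
  (⟨1, -1, 2, 1, -2, 2, 1, 0⟩, 32, 8),
  (⟨1, -1, 2, 1, 2, -2, 1, 0⟩, 37, 7),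
  (⟨1, 0, -2, 2, 2, 1, -1, 1⟩, 35, 41),
  (⟨1, 0, 0, -2, 0, -1, 3, -1⟩, 34, 64),
  (⟨1, 0, 0, 0, -2, -1, -3, 1⟩, 48, 12),
  (⟨1, 0, 0, 0, -2, 3, 1, 1⟩, 34, 72),
  (⟨1, 0, 0, 0, 2, -1, 1, -3⟩, 49, 26),
  (⟨1, 0, 0, 2, 0, -1, 3, -1⟩, 35, 56),
  (⟨1, 0, 2, -2, 2, 1, -1, 1⟩, 49, 63),
  (⟨1, 1, -2, 1, 0, 0, 3, 0⟩, 37, 19),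
  (⟨1, 1, 0, 1, -2, 2, -1, 2⟩, 45, 10),
  (⟨1, 1, 0, 1, 2, -2, -1, 2⟩, 43, 7),
  (⟨1, 1, 2, -3, 0, 0, -1, 0⟩, 45, 6),
  (⟨1, 1, 2, -1, -2, 0, 1, -2⟩, 37, 6),
  (⟨1, 1, 2, -1, 2, 0, 1, -2⟩, 43, 6),
  (⟨2, -3, -1, -1, 1, 0, 0, 0⟩, 44, 31),
  (⟨2, -2, -1, 0, 1, -1, 2, 1⟩, 50, 79),
  (⟨2, -2, -1, 2, -1, -1, 0, -1⟩, 47, 84),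
  (⟨2, -2, 1, -2, 1, 1, 0, 1⟩, 31, 25),
  (⟨2, -2, 1, 0, -1, 1, -2, -1⟩, 36, 24),
  (⟨2, -1, -1, -1, -1, 2, -2, 0⟩, 38, 31),
  (⟨2, -1, -1, -1, -1, 2, 2, 0⟩, 46, 31),
  (⟨2, -1, -1, 1, 1, -2, 0, -2⟩, 33, 16),
  (⟨2, -1, -1, 1, 1, -2, 0, 2⟩, 46, 70),
  (⟨2, -1, 1, -3, -1, 0, 0, 0⟩, 33, 30),
  (⟨2, -1, 1, 1, 3, 0, 0, 0⟩, 38, 1),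
  (⟨2, 0, -3, 0, 1, -1, 0, -1⟩, 31, 74),
  (⟨2, 0, -1, 2, 1, 1, 2, -1⟩, 36, 66),
  (⟨2, 0, 1, -2, -1, -1, -2, 1⟩, 47, 12),
  (⟨2, 0, 3, 0, -1, 1, 0, 1⟩, 50, 3),
  (⟨2, 1, -1, 1, -1, 0, -2, 2⟩, 33, 44),
  (⟨2, 1, -1, 1, -1, 0, 2, -2⟩, 38, 43),
  (⟨2, 1, 3, -1, 1, 0, 0, 0⟩, 46, 1),
  (⟨3, -1, -2, -1, 0, 0, 1, 0⟩, 43, 19),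
  (⟨3, -1, 0, 1, 0, -2, -1, 0⟩, 45, 7),
  (⟨3, -1, 0, 1, 0, 2, -1, 0⟩, 37, 10),
  (⟨3, 0, -2, 0, 0, -1, -1, 1⟩, 49, 20),
  (⟨3, 0, 0, 0, -2, 1, -1, -1⟩, 35, 20),
  (⟨3, 0, 2, 0, 0, -1, -1, 1⟩, 34, 0)]

def bucket112 : List (SQ × ℕ × ℕ) := [
  (⟨-3, 0, 0, 1, -1, 1, -2, 0⟩, 46, 102),
  (⟨-3, 0, 0, 1, -1, 1, 2, 0⟩, 33, 101),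
  (⟨-3, 0, 2, -1, -1, -1, 0, 0⟩, 38, 102),
  (⟨-3, 1, 0, -2, -1, 0, 0, 1⟩, 35, 103),
  (⟨-3, 1, 0, 0, 1, 0, -2, -1⟩, 34, 100),
  (⟨-3, 1, 0, 2, -1, 0, 0, 1⟩, 49, 89),
  (⟨-2, -1, -1, 0, 0, 0, 3, -1⟩, 45, 117),
  (⟨-2, -1, 1, 0, -2, 2, -1, 1⟩, 43, 108),
  (⟨-2, -1, 1, 0, 2, -2, -1, 1⟩, 37, 105),
  (⟨-2, 0, -1, -1, 2, -1, -1, 2⟩, 36, 111),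
  (⟨-2, 0, -1, 1, 0, -1, -3, 0⟩, 50, 60),
  (⟨-2, 0, 1, -1, 0, 1, 3, 0⟩, 47, 50),
  (⟨-2, 0, 1, 1, -2, 1, 1, -2⟩, 31, 49),
  (⟨-2, 1, -3, 0, 0, 0, 1, 1⟩, 37, 117),
  (⟨-2, 1, -1, 2, 0, -2, -1, 1⟩, 43, 105),
  (⟨-2, 1, -1, 2, 0, 2, -1, 1⟩, 45, 108),
  (⟨-2, 1, 1, -2, -2, 0, -1, -1⟩, 37, 104),
  (⟨-2, 1, 1, -2, 2, 0, -1, -1⟩, 45, 104),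
  (⟨-2, 1, 1, 0, 0, 0, 1, -3⟩, 43, 104),
  (⟨-2, 2, -1, -1, 0, 1, 1, -2⟩, 50, 97),
  (⟨-2, 2, -1, 1, 2, 1, -1, 0⟩, 47, 92),
  (⟨-2, 2, 1, -1, -2, -1, 1, 0⟩, 36, 36),
  (⟨-2, 2, 1, 1, 0, -1, -1, 2⟩, 31, 88),
  (⟨-2, 3, -1, 0, 0, 0, -1, -1⟩, 32, 96),
  (⟨-1, -1, -2, 0, 1, -2, 2, -1⟩, 34, 109),
  (⟨-1, -1, -2, 2, -1, 2, 0, 1⟩, 34, 113),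
  (⟨-1, -1, 0, 0, -1, 0, 2, -3⟩, 49, 75),
  (⟨-1, -1, 0, 0, 3, 0, -2, 1⟩, 35, 58),
  (⟨-1, -1, 2, -2, -1, 2, 0, 1⟩, 49, 103),
  (⟨-1, -1, 2, 0, 1, -2, 2, -1⟩, 35, 75),
  (⟨-1, 0, -2, -1, -1, 1, -2, 2⟩, 38, 86),
  (⟨-1, 0, -2, -1, -1, 1, 2, -2⟩, 46, 73),
  (⟨-1, 0, -2, 1, 1, -3, 0, 0⟩, 46, 98),
  (⟨-1, 0, 0, 1, 3, -1, 0, -2⟩, 33, 54),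
  (⟨-1, 0, 0, 1, 3, -1, 0, 2⟩, 38, 46),
  (⟨-1, 0, 2, -3, 1, 1, 0, 0⟩, 33, 77),
  (⟨-1, 0, 2, 1, -3, 1, 0, 0⟩, 44, 102),
  (⟨-1, 1, -2, 0, 3, 0, 0, -1⟩, 48, 92),
  (⟨-1, 1, -2, 2, 1, 0, 2, 1⟩, 35, 89),
  (⟨-1, 1, 0, -2, -1, 2, 2, -1⟩, 34, 112),
  (⟨-1, 1, 0, 2, -1, 2, 2, -1⟩, 48, 106),
  (⟨-1, 1, 2, -2, 1, 0, 2, 1⟩, 48, 50),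
  (⟨-1, 1, 2, 0, 3, 0, 0, -1⟩, 49, 58),
  (⟨-1, 2, -2, 1, -1, -1, -2, 0⟩, 44, 98),
  (⟨-1, 2, -2, 1, -1, -1, 2, 0⟩, 38, 98),
  (⟨-1, 2, 0, 1, 1, 1, -2, 2⟩, 33, 91),
  (⟨-1, 2, 0, 1, 1, 1, 2, -2⟩, 44, 33),
  (⟨-1, 2, 2, -1, 1, -1, 0, -2⟩, 46, 33),
  (⟨-1, 2, 2, -1, 1, -1, 0, 2⟩, 44, 46),
  (⟨-1, 3, 0, 0, -1, 0, -2, 1⟩, 48, 34),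
  (⟨0, -2, -3, 1, 0, 1, 1, 0⟩, 50, 83),
  (⟨0, -2, -1, 1, 2, -1, 1, -2⟩, 47, 85),
  (⟨0, -2, 1, -1, -2, 1, -1, 2⟩, 31, 76),
  (⟨0, -2, 3, -1, 0, -1, -1, 0⟩, 36, 22),
  (⟨0, -1, -3, 0, -2, 0, 1, -1⟩, 43, 117),
  (⟨0, -1, -3, 0, 2, 0, 1, -1⟩, 32, 115),
  (⟨0, -1, -1, 0, 0, -2, -3, 1⟩, 32, 80),
  (⟨0, -1, -1, 0, 0, 2, -3, 1⟩, 37, 108),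
  (⟨0, -1, -1, 2, -2, 2, -1, -1⟩, 32, 67),
  (⟨0, -1, -1, 2, 2, -2, -1, -1⟩, 45, 105),
  (⟨0, 0, -3, 1, -2, -1, -1, 0⟩, 31, 118),
  (⟨0, 0, -1, -1, -2, 1, -3, 0⟩, 36, 60),
  (⟨0, 0, -1, -1, 2, -3, 1, 0⟩, 50, 111),
  (⟨0, 0, -1, 3, -2, 1, 1, 0⟩, 47, 106),
  (⟨0, 0, 1, -3, 2, -1, -1, 0⟩, 47, 13),
  (⟨0, 0, 1, 1, -2, 3, -1, 0⟩, 50, 8),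
  (⟨0, 0, 1, 1, 2, -1, 3, 0⟩, 36, 59),
  (⟨0, 0, 3, -1, 2, 1, 1, 0⟩, 31, 1),
  (⟨0, 1, 1, -2, -2, 2, 1, 1⟩, 45, 14),
  (⟨0, 1, 1, -2, 2, -2, 1, 1⟩, 32, 52),
  (⟨0, 1, 1, 0, 0, -2, 3, -1⟩, 37, 11),
  (⟨0, 1, 1, 0, 0, 2, 3, -1⟩, 32, 39),
  (⟨0, 1, 3, 0, -2, 0, -1, 1⟩, 32, 4),
  (⟨0, 1, 3, 0, 2, 0, -1, 1⟩, 43, 2),
  (⟨0, 2, -3, 1, 0, 1, 1, 0⟩, 36, 97),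
  (⟨0, 2, -1, 1, 2, -1, 1, -2⟩, 31, 43),
  (⟨0, 2, 1, -1, -2, 1, -1, 2⟩, 47, 34),
  (⟨0, 2, 3, -1, 0, -1, -1, 0⟩, 50, 36),
  (⟨1, -3, 0, 0, 1, 0, 2, -1⟩, 48, 85),
  (⟨1, -2, -2, 1, -1, 1, 0, -2⟩, 44, 73),
  (⟨1, -2, -2, 1, -1, 1, 0, 2⟩, 46, 86),
  (⟨1, -2, 0, -1, -1, -1, -2, 2⟩, 44, 86),
  (⟨1, -2, 0, -1, -1, -1, 2, -2⟩, 33, 28),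
  (⟨1, -2, 2, -1, 1, 1, -2, 0⟩, 38, 21),
  (⟨1, -2, 2, -1, 1, 1, 2, 0⟩, 44, 21),
  (⟨1, -1, -2, 0, -3, 0, 0, 1⟩, 49, 61),
  (⟨1, -1, -2, 2, -1, 0, -2, -1⟩, 48, 69),
  (⟨1, -1, 0, -2, 1, -2, -2, 1⟩, 48, 13),
  (⟨1, -1, 0, 2, 1, -2, -2, 1⟩, 34, 7),
  (⟨1, -1, 2, -2, -1, 0, -2, -1⟩, 35, 30),
  (⟨1, -1, 2, 0, -3, 0, 0, 1⟩, 48, 27),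
  (⟨1, 0, -2, -1, 3, -1, 0, 0⟩, 44, 17),
  (⟨1, 0, -2, 3, -1, -1, 0, 0⟩, 33, 42),
  (⟨1, 0, 0, -1, -3, 1, 0, -2⟩, 38, 73),
  (⟨1, 0, 0, -1, -3, 1, 0, 2⟩, 33, 65),
  (⟨1, 0, 2, -1, -1, 3, 0, 0⟩, 46, 21),
  (⟨1, 0, 2, 1, 1, -1, -2, 2⟩, 46, 46),
  (⟨1, 0, 2, 1, 1, -1, 2, -2⟩, 38, 33),
  (⟨1, 1, -2, 0, -1, 2, -2, 1⟩, 35, 44),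
  (⟨1, 1, -2, 2, 1, -2, 0, -1⟩, 49, 16),
  (⟨1, 1, 0, 0, -3, 0, 2, -1⟩, 35, 61),
  (⟨1, 1, 0, 0, 1, 0, -2, 3⟩, 49, 44),
  (⟨1, 1, 2, -2, 1, -2, 0, -1⟩, 34, 6),
  (⟨1, 1, 2, 0, -1, 2, -2, 1⟩, 34, 10),
  (⟨2, -3, 1, 0, 0, 0, 1, 1⟩, 32, 23),
  (⟨2, -2, -1, -1, 0, 1, 1, -2⟩, 31, 31),
  (⟨2, -2, -1, 1, 2, 1, -1, 0⟩, 36, 83),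
  (⟨2, -2, 1, -1, -2, -1, 1, 0⟩, 47, 27),
  (⟨2, -2, 1, 1, 0, -1, -1, 2⟩, 50, 22),
  (⟨2, -1, -1, 0, 0, 0, -1, 3⟩, 43, 15),
  (⟨2, -1, -1, 2, -2, 0, 1, 1⟩, 45, 15),
  (⟨2, -1, -1, 2, 2, 0, 1, 1⟩, 37, 15),
  (⟨2, -1, 1, -2, 0, -2, 1, -1⟩, 45, 11),
  (⟨2, -1, 1, -2, 0, 2, 1, -1⟩, 43, 14),
  (⟨2, -1, 3, 0, 0, 0, -1, -1⟩, 37, 2),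
  (⟨2, 0, -1, -1, 2, -1, -1, 2⟩, 31, 70),
  (⟨2, 0, -1, 1, 0, -1, -3, 0⟩, 47, 69),
  (⟨2, 0, 1, -1, 0, 1, 3, 0⟩, 50, 59),
  (⟨2, 0, 1, 1, -2, 1, 1, -2⟩, 36, 8),
  (⟨2, 1, -1, 0, -2, 2, 1, -1⟩, 37, 14),
  (⟨2, 1, -1, 0, 2, -2, 1, -1⟩, 43, 11),
  (⟨2, 1, 1, 0, 0, 0, -3, 1⟩, 45, 2),
  (⟨3, -1, 0, -2, 1, 0, 0, -1⟩, 49, 30),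
  (⟨3, -1, 0, 0, -1, 0, 2, 1⟩, 34, 19),
  (⟨3, -1, 0, 2, 1, 0, 0, -1⟩, 35, 16),
  (⟨3, 0, -2, 1, 1, 1, 0, 0⟩, 38, 17),
  (⟨3, 0, 0, -1, 1, -1, -2, 0⟩, 33, 18),
  (⟨3, 0, 0, -1, 1, -1, 2, 0⟩, 46, 17)]

def bucket113 : List (SQ × ℕ × ℕ) := [
  (⟨-3, 0, -2, 1, -1, -1, 0, 0⟩, 35, 119),
  (⟨-3, 0, 0, -1, -1, 1, -2, 0⟩, 49, 119),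
  (⟨-3, 0, 0, -1, -1, 1, 2, 0⟩, 48, 112),
  (⟨-3, 1, 0, -2, -1, 0, 0, -1⟩, 33, 104),
  (⟨-3, 1, 0, 0, 1, 0, 2, 1⟩, 44, 99),
  (⟨-3, 1, 0, 2, -1, 0, 0, -1⟩, 38, 90),
  (⟨-2, -1, -1, 0, -2, 2, 1, -1⟩, 47, 112),
  (⟨-2, -1, -1, 0, 2, -2, 1, -1⟩, 36, 109),
  (⟨-2, -1, 1, 0, 0, 0, -3, 1⟩, 31, 100),
  (⟨-2, 0, -1, -1, -2, 1, -1, 2⟩, 45, 65),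
  (⟨-2, 0, -1, 1, 0, 1, -3, 0⟩, 43, 116),
  (⟨-2, 0, 1, -1, 0, -1, 3, 0⟩, 32, 101),
  (⟨-2, 0, 1, 1, 2, -1, 1, -2⟩, 37, 54),
  (⟨-2, 1, -1, 0, 0, 0, -1, 3⟩, 47, 91),
  (⟨-2, 1, -1, 2, -2, 0, 1, 1⟩, 36, 93),
  (⟨-2, 1, -1, 2, 2, 0, 1, 1⟩, 31, 89),
  (⟨-2, 1, 1, -2, 0, -2, 1, -1⟩, 47, 52),
  (⟨-2, 1, 1, -2, 0, 2, 1, -1⟩, 31, 50),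
  (⟨-2, 1, 3, 0, 0, 0, -1, -1⟩, 36, 45),
  (⟨-2, 2, -1, -1, 0, -1, 1, -2⟩, 45, 94),
  (⟨-2, 2, -1, 1, -2, -1, -1, 0⟩, 37, 94),
  (⟨-2, 2, 1, -1, 2, 1, 1, 0⟩, 43, 35),
  (⟨-2, 2, 1, 1, 0, 1, -1, 2⟩, 32, 34),
  (⟨-2, 3, 1, 0, 0, 0, 1, 1⟩, 50, 93),
  (⟨-1, -1, -2, 0, 1, -2, -2, 1⟩, 38, 80),
  (⟨-1, -1, -2, 2, -1, 2, 0, -1⟩, 33, 106),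
  (⟨-1, -1, 0, 0, -1, 0, -2, 3⟩, 33, 110),
  (⟨-1, -1, 0, 0, 3, 0, 2, -1⟩, 38, 99),
  (⟨-1, -1, 2, -2, -1, 2, 0, -1⟩, 44, 51),
  (⟨-1, -1, 2, 0, 1, -2, -2, 1⟩, 44, 80),
  (⟨-1, 0, -2, -1, -3, 1, 0, 0⟩, 34, 118),
  (⟨-1, 0, -2, 3, 1, 1, 0, 0⟩, 49, 66),
  (⟨-1, 0, 0, -1, 3, -1, 0, -2⟩, 35, 62),
  (⟨-1, 0, 0, -1, 3, -1, 0, 2⟩, 49, 70),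
  (⟨-1, 0, 2, -1, 1, -3, 0, 0⟩, 48, 52),
  (⟨-1, 0, 2, 1, -1, 1, -2, 2⟩, 48, 76),
  (⟨-1, 0, 2, 1, -1, 1, 2, -2⟩, 35, 49),
  (⟨-1, 1, -2, 0, 3, 0, 0, 1⟩, 33, 115),
  (⟨-1, 1, -2, 2, 1, 0, -2, -1⟩, 46, 90),
  (⟨-1, 1, 0, -2, -1, 2, -2, 1⟩, 46, 51),
  (⟨-1, 1, 0, 2, -1, 2, -2, 1⟩, 44, 90),
  (⟨-1, 1, 2, -2, 1, 0, -2, -1⟩, 38, 51),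
  (⟨-1, 1, 2, 0, 3, 0, 0, 1⟩, 46, 99),
  (⟨-1, 2, -2, 1, 1, -1, 0, -2⟩, 34, 92),
  (⟨-1, 2, -2, 1, 1, -1, 0, 2⟩, 48, 91),
  (⟨-1, 2, 0, -1, 1, 1, -2, 2⟩, 34, 63),
  (⟨-1, 2, 0, -1, 1, 1, 2, -2⟩, 49, 62),
  (⟨-1, 2, 2, -1, -1, -1, -2, 0⟩, 35, 53),
  (⟨-1, 2, 2, -1, -1, -1, 2, 0⟩, 34, 36),
  (⟨-1, 3, 0, 0, -1, 0, 2, -1⟩, 46, 39),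
  (⟨0, -2, -3, 1, 0, -1, 1, 0⟩, 37, 84),
  (⟨0, -2, -1, 1, -2, 1, 1, -2⟩, 45, 84),
  (⟨0, -2, 1, -1, 2, -1, -1, 2⟩, 43, 25),
  (⟨0, -2, 3, -1, 0, 1, -1, 0⟩, 32, 21),
  (⟨0, -1, 1, -2, -2, 2, 1, 1⟩, 50, 81),
  (⟨0, -1, 1, -2, 2, -2, 1, 1⟩, 31, 79),
  (⟨0, -1, 1, 0, 0, -2, 3, -1⟩, 50, 109),
  (⟨0, -1, 1, 0, 0, 2, 3, -1⟩, 36, 81),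
  (⟨0, -1, 3, 0, -2, 0, -1, 1⟩, 47, 76),
  (⟨0, -1, 3, 0, 2, 0, -1, 1⟩, 50, 45),
  (⟨0, 0, -3, 1, 2, 1, -1, 0⟩, 45, 116),
  (⟨0, 0, -1, -1, -2, 3, 1, 0⟩, 32, 72),
  (⟨0, 0, -1, -1, 2, -1, -3, 0⟩, 37, 116),
  (⟨0, 0, -1, 3, 2, -1, 1, 0⟩, 43, 54),
  (⟨0, 0, 1, -3, -2, 1, -1, 0⟩, 43, 65),
  (⟨0, 0, 1, 1, -2, 1, 3, 0⟩, 37, 3),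
  (⟨0, 0, 1, 1, 2, -3, -1, 0⟩, 32, 47),
  (⟨0, 0, 3, -1, -2, -1, 1, 0⟩, 45, 3),
  (⟨0, 1, -3, 0, -2, 0, 1, -1⟩, 50, 74),
  (⟨0, 1, -3, 0, 2, 0, 1, -1⟩, 47, 43),
  (⟨0, 1, -1, 0, 0, -2, -3, 1⟩, 36, 38),
  (⟨0, 1, -1, 0, 0, 2, -3, 1⟩, 50, 10),
  (⟨0, 1, -1, 2, -2, 2, -1, -1⟩, 31, 40),
  (⟨0, 1, -1, 2, 2, -2, -1, -1⟩, 50, 38),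
  (⟨0, 2, -3, 1, 0, -1, 1, 0⟩, 32, 98),
  (⟨0, 2, -1, 1, -2, 1, 1, -2⟩, 43, 94),
  (⟨0, 2, 1, -1, 2, -1, -1, 2⟩, 45, 35),
  (⟨0, 2, 3, -1, 0, 1, -1, 0⟩, 37, 35),
  (⟨1, -3, 0, 0, 1, 0, -2, 1⟩, 46, 80),
  (⟨1, -2, -2, 1, 1, 1, -2, 0⟩, 34, 83),
  (⟨1, -2, -2, 1, 1, 1, 2, 0⟩, 35, 66),
  (⟨1, -2, 0, 1, -1, -1, -2, 2⟩, 49, 57),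
  (⟨1, -2, 0, 1, -1, -1, 2, -2⟩, 34, 56),
  (⟨1, -2, 2, -1, -1, 1, 0, -2⟩, 48, 28),
  (⟨1, -2, 2, -1, -1, 1, 0, 2⟩, 34, 27),
  (⟨1, -1, -2, 0, -3, 0, 0, -1⟩, 46, 20),
  (⟨1, -1, -2, 2, -1, 0, 2, 1⟩, 38, 68),
  (⟨1, -1, 0, -2, 1, -2, 2, -1⟩, 44, 29),
  (⟨1, -1, 0, 2, 1, -2, 2, -1⟩, 46, 68),
  (⟨1, -1, 2, -2, -1, 0, 2, 1⟩, 46, 29),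
  (⟨1, -1, 2, 0, -3, 0, 0, -1⟩, 33, 4),
  (⟨1, 0, -2, -1, 1, -1, -2, 2⟩, 35, 70),
  (⟨1, 0, -2, -1, 1, -1, 2, -2⟩, 48, 43),
  (⟨1, 0, -2, 1, -1, 3, 0, 0⟩, 48, 67),
  (⟨1, 0, 0, 1, -3, 1, 0, -2⟩, 49, 49),
  (⟨1, 0, 0, 1, -3, 1, 0, 2⟩, 35, 57),
  (⟨1, 0, 2, -3, -1, -1, 0, 0⟩, 49, 53),
  (⟨1, 0, 2, 1, 3, -1, 0, 0⟩, 34, 1),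
  (⟨1, 1, -2, 0, -1, 2, 2, -1⟩, 44, 39),
  (⟨1, 1, -2, 2, 1, -2, 0, 1⟩, 44, 68),
  (⟨1, 1, 0, 0, -3, 0, -2, 1⟩, 38, 20),
  (⟨1, 1, 0, 0, 1, 0, 2, -3⟩, 33, 9),
  (⟨1, 1, 2, -2, 1, -2, 0, 1⟩, 33, 13),
  (⟨1, 1, 2, 0, -1, 2, 2, -1⟩, 38, 39),
  (⟨2, -3, -1, 0, 0, 0, -1, -1⟩, 50, 26),
  (⟨2, -2, -1, -1, 0, -1, 1, -2⟩, 32, 85),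
  (⟨2, -2, -1, 1, -2, -1, -1, 0⟩, 43, 84),
  (⟨2, -2, 1, -1, 2, 1, 1, 0⟩, 37, 25),
  (⟨2, -2, 1, 1, 0, 1, -1, 2⟩, 45, 25),
  (⟨2, -1, -3, 0, 0, 0, 1, 1⟩, 36, 74),
  (⟨2, -1, -1, 2, 0, -2, -1, 1⟩, 31, 69),
  (⟨2, -1, -1, 2, 0, 2, -1, 1⟩, 47, 67),
  (⟨2, -1, 1, -2, -2, 0, -1, -1⟩, 31, 30),
  (⟨2, -1, 1, -2, 2, 0, -1, -1⟩, 36, 26),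
  (⟨2, -1, 1, 0, 0, 0, 1, -3⟩, 47, 28),
  (⟨2, 0, -1, -1, -2, 1, -1, 2⟩, 37, 65),
  (⟨2, 0, -1, 1, 0, 1, -3, 0⟩, 32, 18),
  (⟨2, 0, 1, -1, 0, -1, 3, 0⟩, 43, 3),
  (⟨2, 0, 1, 1, 2, -1, 1, -2⟩, 45, 54),
  (⟨2, 1, -1, 0, 0, 0, 3, -1⟩, 31, 19),
  (⟨2, 1, 1, 0, -2, 2, -1, 1⟩, 36, 10),
  (⟨2, 1, 1, 0, 2, -2, -1, 1⟩, 47, 7),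
  (⟨3, -1, 0, -2, 1, 0, 0, 1⟩, 38, 29),
  (⟨3, -1, 0, 0, -1, 0, -2, -1⟩, 44, 20),
  (⟨3, -1, 0, 2, 1, 0, 0, 1⟩, 33, 15),
  (⟨3, 0, 0, 1, 1, -1, -2, 0⟩, 48, 7),
  (⟨3, 0, 0, 1, 1, -1, 2, 0⟩, 49, 0),
  (⟨3, 0, 2, -1, 1, 1, 0, 0⟩, 35, 0)]

def bucket114 : List (SQ × ℕ × ℕ) := [
  (⟨-3, 0, -2, 0, 0, -1, 1, -1⟩, 32, 119),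
  (⟨-3, 0, 0, 0, -2, 1, 1, 1⟩, 37, 101),
  (⟨-3, 0, 2, 0, 0, -1, 1, -1⟩, 45, 101),
  (⟨-3, 1, -2, -1, 0, 0, -1, 0⟩, 48, 96),
  (⟨-3, 1, 0, 1, 0, -2, 1, 0⟩, 34, 88),
  (⟨-3, 1, 0, 1, 0, 2, 1, 0⟩, 35, 87),
  (⟨-2, -1, -1, 1, -1, 0, -2, 2⟩, 36, 110),
  (⟨-2, -1, -1, 1, -1, 0, 2, -2⟩, 50, 114),
  (⟨-2, -1, 3, -1, 1, 0, 0, 0⟩, 47, 77),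
  (⟨-2, 0, -3, 0, 1, -1, 0, 1⟩, 44, 115),
  (⟨-2, 0, -1, 2, 1, 1, -2, 1⟩, 38, 55),
  (⟨-2, 0, 1, -2, -1, -1, 2, -1⟩, 46, 64),
  (⟨-2, 0, 3, 0, -1, 1, 0, -1⟩, 33, 45),
  (⟨-2, 1, -1, -1, -1, 2, -2, 0⟩, 47, 96),
  (⟨-2, 1, -1, -1, -1, 2, 2, 0⟩, 36, 112),
  (⟨-2, 1, -1, 1, 1, -2, 0, -2⟩, 47, 109),
  (⟨-2, 1, -1, 1, 1, -2, 0, 2⟩, 50, 110),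
  (⟨-2, 1, 1, -3, -1, 0, 0, 0⟩, 50, 112),
  (⟨-2, 1, 1, 1, 3, 0, 0, 0⟩, 36, 99),
  (⟨-2, 2, -1, 0, 1, -1, -2, -1⟩, 33, 92),
  (⟨-2, 2, -1, 2, -1, -1, 0, 1⟩, 46, 93),
  (⟨-2, 2, 1, -2, 1, 1, 0, -1⟩, 44, 35),
  (⟨-2, 2, 1, 0, -1, 1, 2, 1⟩, 38, 93),
  (⟨-2, 3, -1, -1, 1, 0, 0, 0⟩, 31, 95),
  (⟨-1, -1, -2, 1, 0, 0, -3, 0⟩, 35, 116),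
  (⟨-1, -1, 0, 1, -2, 2, 1, -2⟩, 34, 106),
  (⟨-1, -1, 0, 1, 2, -2, 1, -2⟩, 48, 109),
  (⟨-1, -1, 2, -3, 0, 0, 1, 0⟩, 34, 78),
  (⟨-1, -1, 2, -1, -2, 0, -1, 2⟩, 35, 76),
  (⟨-1, -1, 2, -1, 2, 0, -1, 2⟩, 48, 77),
  (⟨-1, 0, -2, 2, 2, 1, 1, -1⟩, 37, 66),
  (⟨-1, 0, 0, -2, 0, -1, -3, 1⟩, 45, 53),
  (⟨-1, 0, 0, 0, -2, -1, 3, -1⟩, 43, 101),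
  (⟨-1, 0, 0, 0, -2, 3, -1, -1⟩, 45, 82),
  (⟨-1, 0, 0, 0, 2, -1, -1, 3⟩, 32, 46),
  (⟨-1, 0, 0, 2, 0, -1, -3, 1⟩, 37, 90),
  (⟨-1, 0, 2, -2, 2, 1, 1, -1⟩, 32, 50),
  (⟨-1, 1, 0, -1, -2, 0, -3, 0⟩, 34, 60),
  (⟨-1, 1, 0, -1, 2, 0, -3, 0⟩, 49, 116),
  (⟨-1, 1, 2, -1, 0, -2, 1, -2⟩, 49, 47),
  (⟨-1, 1, 2, -1, 0, 2, 1, -2⟩, 48, 49),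
  (⟨-1, 1, 2, 1, -2, 2, -1, 0⟩, 49, 87),
  (⟨-1, 1, 2, 1, 2, -2, -1, 0⟩, 35, 47),
  (⟨-1, 2, -2, 0, 2, -1, 1, 1⟩, 43, 37),
  (⟨-1, 2, -2, 2, 0, -1, -1, -1⟩, 45, 90),
  (⟨-1, 2, 0, -2, -2, 1, -1, 1⟩, 32, 65),
  (⟨-1, 2, 0, 2, -2, 1, -1, 1⟩, 43, 90),
  (⟨-1, 2, 2, -2, 0, -1, -1, -1⟩, 43, 53),
  (⟨-1, 2, 2, 0, 2, -1, 1, 1⟩, 37, 37),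
  (⟨-1, 3, -2, 1, 0, 0, 1, 0⟩, 49, 43),
  (⟨0, -2, -1, 0, -3, 1, 0, 1⟩, 38, 84),
  (⟨0, -2, -1, 2, -1, 1, 2, -1⟩, 46, 84),
  (⟨0, -2, 1, -2, 1, -1, -2, 1⟩, 33, 80),
  (⟨0, -2, 1, 0, 3, -1, 0, -1⟩, 44, 26),
  (⟨0, -1, -3, 1, 1, 0, 0, -2⟩, 36, 114),
  (⟨0, -1, -3, 1, 1, 0, 0, 2⟩, 31, 113),
  (⟨0, -1, -1, -1, 1, -2, -2, 2⟩, 47, 70),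
  (⟨0, -1, -1, -1, 1, -2, 2, -2⟩, 31, 85),
  (⟨0, -1, 1, -1, 3, 0, -2, 0⟩, 31, 58),
  (⟨0, -1, 1, -1, 3, 0, 2, 0⟩, 50, 99),
  (⟨0, 0, -3, 0, 1, 1, 2, -1⟩, 38, 115),
  (⟨0, 0, -1, 0, -1, -1, 2, -3⟩, 44, 64),
  (⟨0, 0, -1, 0, -1, 3, -2, 1⟩, 33, 108),
  (⟨0, 0, -1, 0, 3, -1, 2, 1⟩, 46, 115),
  (⟨0, 0, 1, 0, -3, 1, -2, -1⟩, 46, 4),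
  (⟨0, 0, 1, 0, 1, -3, 2, -1⟩, 33, 11),
  (⟨0, 0, 1, 0, 1, 1, -2, 3⟩, 44, 55),
  (⟨0, 0, 3, 0, -1, -1, -2, 1⟩, 38, 4),
  (⟨0, 1, -1, 1, -3, 0, -2, 0⟩, 50, 20),
  (⟨0, 1, -1, 1, -3, 0, 2, 0⟩, 31, 61),
  (⟨0, 1, 1, 1, -1, 2, -2, 2⟩, 31, 34),
  (⟨0, 1, 1, 1, -1, 2, 2, -2⟩, 47, 49),
  (⟨0, 1, 3, -1, -1, 0, 0, -2⟩, 31, 6),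
  (⟨0, 1, 3, -1, -1, 0, 0, 2⟩, 36, 5),
  (⟨0, 2, -1, 0, -3, 1, 0, 1⟩, 44, 93),
  (⟨0, 2, -1, 2, -1, 1, 2, -1⟩, 33, 39),
  (⟨0, 2, 1, -2, 1, -1, -2, 1⟩, 46, 35),
  (⟨0, 2, 1, 0, 3, -1, 0, -1⟩, 38, 35),
  (⟨1, -3, 2, -1, 0, 0, -1, 0⟩, 49, 76),
  (⟨1, -2, -2, 0, -2, 1, -1, -1⟩, 37, 82),
  (⟨1, -2, -2, 2, 0, 1, 1, 1⟩, 43, 66),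
  (⟨1, -2, 0, -2, 2, -1, 1, -1⟩, 43, 29),
  (⟨1, -2, 0, 2, 2, -1, 1, -1⟩, 32, 54),
  (⟨1, -2, 2, -2, 0, 1, 1, 1⟩, 45, 29),
  (⟨1, -2, 2, 0, -2, 1, -1, -1⟩, 43, 82),
  (⟨1, -1, -2, -1, -2, 2, 1, 0⟩, 35, 72),
  (⟨1, -1, -2, -1, 2, -2, 1, 0⟩, 49, 32),
  (⟨1, -1, -2, 1, 0, -2, -1, 2⟩, 48, 70),
  (⟨1, -1, -2, 1, 0, 2, -1, 2⟩, 49, 72),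
  (⟨1, -1, 0, 1, -2, 0, 3, 0⟩, 49, 3),
  (⟨1, -1, 0, 1, 2, 0, 3, 0⟩, 34, 59),
  (⟨1, 0, -2, 2, -2, -1, -1, 1⟩, 32, 69),
  (⟨1, 0, 0, -2, 0, 1, 3, -1⟩, 37, 29),
  (⟨1, 0, 0, 0, -2, 1, 1, -3⟩, 32, 73),
  (⟨1, 0, 0, 0, 2, -3, 1, 1⟩, 45, 37),
  (⟨1, 0, 0, 0, 2, 1, -3, 1⟩, 43, 18),
  (⟨1, 0, 0, 2, 0, 1, 3, -1⟩, 45, 66),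
  (⟨1, 0, 2, -2, -2, -1, -1, 1⟩, 37, 53),
  (⟨1, 1, -2, 1, -2, 0, 1, -2⟩, 48, 42),
  (⟨1, 1, -2, 1, 2, 0, 1, -2⟩, 35, 43),
  (⟨1, 1, -2, 3, 0, 0, -1, 0⟩, 34, 41),
  (⟨1, 1, 0, -1, -2, 2, -1, 2⟩, 48, 10),
  (⟨1, 1, 0, -1, 2, -2, -1, 2⟩, 34, 13),
  (⟨1, 1, 2, -1, 0, 0, 3, 0⟩, 35, 3),
  (⟨2, -3, 1, 1, -1, 0, 0, 0⟩, 31, 24),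
  (⟨2, -2, -1, 0, 1, -1, -2, -1⟩, 38, 26),
  (⟨2, -2, -1, 2, -1, -1, 0, 1⟩, 44, 84),
  (⟨2, -2, 1, -2, 1, 1, 0, -1⟩, 46, 26),
  (⟨2, -2, 1, 0, -1, 1, 2, 1⟩, 33, 27),
  (⟨2, -1, -1, -1, -3, 0, 0, 0⟩, 36, 20),
  (⟨2, -1, -1, 3, 1, 0, 0, 0⟩, 50, 7),
  (⟨2, -1, 1, -1, -1, 2, 0, -2⟩, 50, 9),
  (⟨2, -1, 1, -1, -1, 2, 0, 2⟩, 47, 10),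
  (⟨2, -1, 1, 1, 1, -2, -2, 0⟩, 36, 7),
  (⟨2, -1, 1, 1, 1, -2, 2, 0⟩, 47, 23),
  (⟨2, 0, -3, 0, 1, -1, 0, 1⟩, 33, 74),
  (⟨2, 0, -1, 2, 1, 1, -2, 1⟩, 46, 55),
  (⟨2, 0, 1, -2, -1, -1, 2, -1⟩, 38, 64),
  (⟨2, 0, 3, 0, -1, 1, 0, -1⟩, 44, 4),
  (⟨2, 1, -3, 1, -1, 0, 0, 0⟩, 47, 42),
  (⟨2, 1, 1, -1, 1, 0, -2, 2⟩, 50, 5),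
  (⟨2, 1, 1, -1, 1, 0, 2, -2⟩, 36, 9),
  (⟨3, -1, 0, -1, 0, -2, -1, 0⟩, 35, 32),
  (⟨3, -1, 0, -1, 0, 2, -1, 0⟩, 34, 31),
  (⟨3, -1, 2, 1, 0, 0, 1, 0⟩, 48, 23),
  (⟨3, 0, -2, 0, 0, 1, -1, 1⟩, 45, 18),
  (⟨3, 0, 0, 0, 2, -1, -1, -1⟩, 37, 18),
  (⟨3, 0, 2, 0, 0, 1, -1, 1⟩, 32, 0)]

def bucket115 : List (SQ × ℕ × ℕ) := [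
  (⟨-3, 0, -1, 0, -1, 0, -1, 2⟩, 34, 110),
  (⟨-3, 0, -1, 0, -1, 2, -1, 0⟩, 32, 108),
  (⟨-3, 0, -1, 0, 1, -2, 1, 0⟩, 33, 109),
  (⟨-3, 0, -1, 0, 1, 0, 1, -2⟩, 31, 107),
  (⟨-3, 0, -1, 2, -1, 0, -1, 0⟩, 47, 119),
  (⟨-3, 0, -1, 2, 1, 0, 1, 0⟩, 48, 119),
  (⟨-3, 0, 1, -2, -1, 0, 1, 0⟩, 43, 103),
  (⟨-3, 0, 1, -2, 1, 0, -1, 0⟩, 46, 104),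
  (⟨-3, 0, 1, 0, -1, 0, 1, -2⟩, 44, 104),
  (⟨-3, 0, 1, 0, -1, 2, 1, 0⟩, 50, 106),
  (⟨-3, 0, 1, 0, 1, -2, -1, 0⟩, 49, 105),
  (⟨-3, 0, 1, 0, 1, 0, -1, 2⟩, 45, 103),
  (⟨-1, 0, -3, 0, -1, 0, -1, 2⟩, 50, 86),
  (⟨-1, 0, -3, 0, -1, 2, -1, 0⟩, 44, 97),
  (⟨-1, 0, -3, 0, 1, -2, 1, 0⟩, 45, 98),
  (⟨-1, 0, -3, 0, 1, 0, 1, -2⟩, 49, 85),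
  (⟨-1, 0, -1, 0, -3, 0, -1, 2⟩, 46, 65),
  (⟨-1, 0, -1, 0, -1, 2, -3, 0⟩, 48, 60),
  (⟨-1, 0, -1, 0, 1, -2, 3, 0⟩, 47, 59),
  (⟨-1, 0, -1, 0, 3, 0, 1, -2⟩, 43, 62),
  (⟨-1, 0, -1, 2, -3, 0, -1, 0⟩, 45, 57),
  (⟨-1, 0, -1, 2, -1, 0, -3, 0⟩, 33, 90),
  (⟨-1, 0, -1, 2, -1, 2, 1, -2⟩, 36, 106),
  (⟨-1, 0, -1, 2, 1, -2, -1, 2⟩, 35, 105),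
  (⟨-1, 0, -1, 2, 1, 0, 3, 0⟩, 32, 89),
  (⟨-1, 0, -1, 2, 3, 0, 1, 0⟩, 44, 54),
  (⟨-1, 0, 1, -2, -3, 0, 1, 0⟩, 31, 78),
  (⟨-1, 0, 1, -2, -1, 0, 3, 0⟩, 49, 52),
  (⟨-1, 0, 1, -2, -1, 2, -1, 2⟩, 37, 103),
  (⟨-1, 0, 1, -2, 1, -2, 1, -2⟩, 38, 104),
  (⟨-1, 0, 1, -2, 1, 0, -3, 0⟩, 50, 51),
  (⟨-1, 0, 1, -2, 3, 0, -1, 0⟩, 34, 77),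
  (⟨-1, 0, 1, 0, -3, 0, 1, -2⟩, 48, 61),
  (⟨-1, 0, 1, 0, -1, 2, 3, 0⟩, 46, 81),
  (⟨-1, 0, 1, 0, 1, -2, -3, 0⟩, 43, 80),
  (⟨-1, 0, 1, 0, 3, 0, -1, 2⟩, 47, 58),
  (⟨-1, 0, 3, 0, -1, 0, 1, -2⟩, 32, 49),
  (⟨-1, 0, 3, 0, -1, 2, 1, 0⟩, 34, 48),
  (⟨-1, 0, 3, 0, 1, -2, -1, 0⟩, 31, 47),
  (⟨-1, 0, 3, 0, 1, 0, -1, 2⟩, 33, 46),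
  (⟨-1, 2, -3, 0, -1, 0, -1, 0⟩, 43, 98),
  (⟨-1, 2, -3, 0, 1, 0, 1, 0⟩, 46, 97),
  (⟨-1, 2, -1, 0, -3, 0, -1, 0⟩, 49, 94),
  (⟨-1, 2, -1, 0, -1, 0, -3, 0⟩, 31, 96),
  (⟨-1, 2, -1, 0, -1, 2, 1, -2⟩, 38, 97),
  (⟨-1, 2, -1, 0, 1, -2, -1, 2⟩, 37, 98),
  (⟨-1, 2, -1, 0, 1, 0, 3, 0⟩, 34, 95),
  (⟨-1, 2, -1, 0, 3, 0, 1, 0⟩, 50, 91),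
  (⟨-1, 2, -1, 2, -1, 0, 1, -2⟩, 35, 94),
  (⟨-1, 2, -1, 2, -1, 2, 1, 0⟩, 37, 39),
  (⟨-1, 2, -1, 2, 1, -2, -1, 0⟩, 38, 38),
  (⟨-1, 2, -1, 2, 1, 0, -1, 2⟩, 36, 91),
  (⟨-1, 2, 1, -2, -1, 0, -1, 2⟩, 38, 65),
  (⟨-1, 2, 1, -2, -1, 2, -1, 0⟩, 36, 51),
  (⟨-1, 2, 1, -2, 1, -2, 1, 0⟩, 35, 52),
  (⟨-1, 2, 1, -2, 1, 0, 1, -2⟩, 37, 62),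
  (⟨-1, 2, 1, 0, -3, 0, 1, 0⟩, 33, 36),
  (⟨-1, 2, 1, 0, -1, 0, 3, 0⟩, 45, 39),
  (⟨-1, 2, 1, 0, -1, 2, -1, 2⟩, 35, 34),
  (⟨-1, 2, 1, 0, 1, -2, 1, -2⟩, 36, 33),
  (⟨-1, 2, 1, 0, 1, 0, -3, 0⟩, 44, 38),
  (⟨-1, 2, 1, 0, 3, 0, -1, 0⟩, 32, 35),
  (⟨-1, 2, 3, 0, -1, 0, 1, 0⟩, 47, 45),
  (⟨-1, 2, 3, 0, 1, 0, -1, 0⟩, 48, 45),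
  (⟨1, -2, -3, 0, -1, 0, 1, 0⟩, 48, 74),
  (⟨1, -2, -3, 0, 1, 0, -1, 0⟩, 47, 74),
  (⟨1, -2, -1, 0, -3, 0, 1, 0⟩, 32, 84),
  (⟨1, -2, -1, 0, -1, 0, 3, 0⟩, 44, 81),
  (⟨1, -2, -1, 0, -1, 2, -1, 2⟩, 36, 86),
  (⟨1, -2, -1, 0, 1, -2, 1, -2⟩, 35, 85),
  (⟨1, -2, -1, 0, 1, 0, -3, 0⟩, 45, 80),
  (⟨1, -2, -1, 0, 3, 0, -1, 0⟩, 33, 83),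
  (⟨1, -2, -1, 2, -1, 0, -1, 2⟩, 37, 57),
  (⟨1, -2, -1, 2, -1, 2, -1, 0⟩, 35, 67),
  (⟨1, -2, -1, 2, 1, -2, 1, 0⟩, 36, 68),
  (⟨1, -2, -1, 2, 1, 0, 1, -2⟩, 38, 54),
  (⟨1, -2, 1, -2, -1, 0, 1, -2⟩, 36, 28),
  (⟨1, -2, 1, -2, -1, 2, 1, 0⟩, 38, 81),
  (⟨1, -2, 1, -2, 1, -2, -1, 0⟩, 37, 80),
  (⟨1, -2, 1, -2, 1, 0, -1, 2⟩, 35, 25),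
  (⟨1, -2, 1, 0, -3, 0, -1, 0⟩, 50, 28),
  (⟨1, -2, 1, 0, -1, 0, -3, 0⟩, 34, 24),
  (⟨1, -2, 1, 0, -1, 2, 1, -2⟩, 37, 21),
  (⟨1, -2, 1, 0, 1, -2, -1, 2⟩, 38, 22),
  (⟨1, -2, 1, 0, 1, 0, 3, 0⟩, 31, 23),
  (⟨1, -2, 1, 0, 3, 0, 1, 0⟩, 49, 25),
  (⟨1, -2, 3, 0, -1, 0, -1, 0⟩, 46, 22),
  (⟨1, -2, 3, 0, 1, 0, 1, 0⟩, 43, 21),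
  (⟨1, 0, -3, 0, -1, 0, 1, -2⟩, 33, 73),
  (⟨1, 0, -3, 0, -1, 2, 1, 0⟩, 31, 72),
  (⟨1, 0, -3, 0, 1, -2, -1, 0⟩, 34, 71),
  (⟨1, 0, -3, 0, 1, 0, -1, 2⟩, 32, 70),
  (⟨1, 0, -1, 0, -3, 0, 1, -2⟩, 47, 61),
  (⟨1, 0, -1, 0, -1, 2, 3, 0⟩, 43, 39),
  (⟨1, 0, -1, 0, 1, -2, -3, 0⟩, 46, 38),
  (⟨1, 0, -1, 0, 3, 0, -1, 2⟩, 48, 58),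
  (⟨1, 0, -1, 2, -3, 0, 1, 0⟩, 34, 42),
  (⟨1, 0, -1, 2, -1, 0, 3, 0⟩, 50, 68),
  (⟨1, 0, -1, 2, -1, 2, -1, 2⟩, 38, 15),
  (⟨1, 0, -1, 2, 1, -2, 1, -2⟩, 37, 16),
  (⟨1, 0, -1, 2, 1, 0, -3, 0⟩, 49, 67),
  (⟨1, 0, -1, 2, 3, 0, -1, 0⟩, 31, 41),
  (⟨1, 0, 1, -2, -3, 0, -1, 0⟩, 44, 65),
  (⟨1, 0, 1, -2, -1, 0, -3, 0⟩, 32, 30),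
  (⟨1, 0, 1, -2, -1, 2, 1, -2⟩, 35, 14),
  (⟨1, 0, 1, -2, 1, -2, -1, 2⟩, 36, 13),
  (⟨1, 0, 1, -2, 1, 0, 3, 0⟩, 33, 29),
  (⟨1, 0, 1, -2, 3, 0, 1, 0⟩, 45, 62),
  (⟨1, 0, 1, 0, -3, 0, -1, 2⟩, 43, 57),
  (⟨1, 0, 1, 0, -1, 2, -3, 0⟩, 47, 60),
  (⟨1, 0, 1, 0, 1, -2, 3, 0⟩, 48, 59),
  (⟨1, 0, 1, 0, 3, 0, 1, -2⟩, 46, 54),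
  (⟨1, 0, 3, 0, -1, 0, -1, 2⟩, 49, 34),
  (⟨1, 0, 3, 0, -1, 2, -1, 0⟩, 45, 21),
  (⟨1, 0, 3, 0, 1, -2, 1, 0⟩, 44, 22),
  (⟨1, 0, 3, 0, 1, 0, 1, -2⟩, 50, 33),
  (⟨3, 0, -1, 0, -1, 0, 1, -2⟩, 45, 16),
  (⟨3, 0, -1, 0, -1, 2, 1, 0⟩, 49, 14),
  (⟨3, 0, -1, 0, 1, -2, -1, 0⟩, 50, 13),
  (⟨3, 0, -1, 0, 1, 0, -1, 2⟩, 44, 15),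
  (⟨3, 0, -1, 2, -1, 0, 1, 0⟩, 46, 15),
  (⟨3, 0, -1, 2, 1, 0, -1, 0⟩, 43, 16),
  (⟨3, 0, 1, -2, -1, 0, -1, 0⟩, 48, 0),
  (⟨3, 0, 1, -2, 1, 0, 1, 0⟩, 47, 0),
  (⟨3, 0, 1, 0, -1, 0, -1, 2⟩, 31, 12),
  (⟨3, 0, 1, 0, -1, 2, -1, 0⟩, 33, 10),
  (⟨3, 0, 1, 0, 1, -2, 1, 0⟩, 32, 11),
  (⟨3, 0, 1, 0, 1, 0, 1, -2⟩, 34, 9)]

def bucket116 : List (SQ × ℕ × ℕ) := [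
  (⟨-3, 0, 1, -1, -2, 0, 0, 1⟩, 47, 103),
  (⟨-3, 0, 1, -1, 2, 0, 0, 1⟩, 31, 99),
  (⟨-3, 0, 1, 1, 0, 0, 2, -1⟩, 36, 101),
  (⟨-3, 1, -1, 0, 2, 1, 0, 0⟩, 49, 115),
  (⟨-3, 1, 1, 0, 0, -1, 0, -2⟩, 35, 104),
  (⟨-3, 1, 1, 0, 0, -1, 0, 2⟩, 48, 103),
  (⟨-2, -1, -2, 2, 1, -1, 1, 0⟩, 38, 105),
  (⟨-2, -1, 0, 0, -3, 1, -1, 0⟩, 33, 102),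
  (⟨-2, -1, 2, -2, 1, -1, 1, 0⟩, 44, 77),
  (⟨-2, 0, -2, 1, 1, -2, -1, -1⟩, 37, 114),
  (⟨-2, 0, 0, -1, -3, 0, 1, -1⟩, 45, 61),
  (⟨-2, 0, 0, 1, 3, 0, -1, 1⟩, 43, 58),
  (⟨-2, 0, 2, -1, -1, 2, 1, 1⟩, 32, 48),
  (⟨-2, 1, -2, 0, 1, 1, 1, -2⟩, 33, 107),
  (⟨-2, 1, 0, -2, 1, -1, -1, 2⟩, 33, 111),
  (⟨-2, 1, 0, 0, -1, -1, -3, 0⟩, 38, 60),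
  (⟨-2, 1, 0, 0, -1, 3, 1, 0⟩, 44, 87),
  (⟨-2, 1, 0, 2, 1, -1, -1, 2⟩, 44, 105),
  (⟨-2, 1, 2, 0, 1, 1, 1, -2⟩, 38, 87),
  (⟨-2, 2, -2, -1, 1, 0, -1, 1⟩, 45, 96),
  (⟨-2, 2, 0, -1, -1, 2, -1, -1⟩, 43, 96),
  (⟨-2, 2, 0, 1, 1, -2, 1, 1⟩, 32, 88),
  (⟨-2, 2, 2, 1, -1, 0, 1, -1⟩, 37, 33),
  (⟨-2, 3, 0, 0, 1, 1, -1, 0⟩, 46, 87),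
  (⟨-1, -1, -3, 0, 2, -1, 0, 0⟩, 35, 115),
  (⟨-1, -1, -1, 2, -2, 1, -2, 0⟩, 49, 106),
  (⟨-1, -1, -1, 2, -2, 1, 2, 0⟩, 35, 106),
  (⟨-1, -1, 1, -2, 0, -1, -2, 2⟩, 49, 110),
  (⟨-1, -1, 1, -2, 0, -1, 2, -2⟩, 48, 64),
  (⟨-1, -1, 1, 0, -2, 3, 0, 0⟩, 48, 82),
  (⟨-1, 0, -3, 1, 0, -2, 0, 1⟩, 36, 98),
  (⟨-1, 0, -3, 1, 0, 2, 0, 1⟩, 47, 97),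
  (⟨-1, 0, -1, -1, 0, 0, 2, -3⟩, 47, 64),
  (⟨-1, 0, -1, 3, 0, 0, -2, 1⟩, 31, 90),
  (⟨-1, 0, 1, -1, -2, 2, -2, -1⟩, 31, 51),
  (⟨-1, 0, 1, -1, 2, -2, -2, -1⟩, 36, 47),
  (⟨-1, 0, 3, -1, 0, 0, 2, 1⟩, 50, 101),
  (⟨-1, 1, -3, 0, 0, 1, -2, 0⟩, 34, 116),
  (⟨-1, 1, -3, 0, 0, 1, 2, 0⟩, 48, 97),
  (⟨-1, 1, -1, 0, -2, -1, -2, 2⟩, 35, 110),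
  (⟨-1, 1, -1, 0, -2, -1, 2, -2⟩, 34, 94),
  (⟨-1, 1, 1, -2, -2, 1, 0, -2⟩, 49, 104),
  (⟨-1, 1, 1, -2, -2, 1, 0, 2⟩, 34, 65),
  (⟨-1, 2, -1, -1, -2, 2, 0, 1⟩, 50, 72),
  (⟨-1, 2, -1, -1, 2, -2, 0, 1⟩, 47, 37),
  (⟨-1, 2, -1, 1, 0, -2, 2, -1⟩, 50, 98),
  (⟨-1, 2, -1, 1, 0, 2, 2, -1⟩, 31, 39),
  (⟨-1, 2, 1, 1, -2, 0, -2, 1⟩, 36, 34),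
  (⟨-1, 2, 1, 1, 2, 0, -2, 1⟩, 50, 34),
  (⟨-1, 3, 1, 0, 2, -1, 0, 0⟩, 34, 35),
  (⟨0, -2, -2, 1, -1, 2, -1, 1⟩, 45, 86),
  (⟨0, -2, 0, -1, -1, 0, -3, 1⟩, 43, 86),
  (⟨0, -2, 0, 1, 1, 0, 3, -1⟩, 37, 23),
  (⟨0, -2, 2, -1, 1, -2, 1, -1⟩, 32, 75),
  (⟨0, -1, -2, 0, -1, 1, -3, 0⟩, 46, 60),
  (⟨0, -1, -2, 2, 1, 1, -1, 2⟩, 33, 113),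
  (⟨0, -1, 0, -2, 3, -1, -1, 0⟩, 38, 77),
  (⟨0, -1, 0, 2, 3, -1, -1, 0⟩, 46, 105),
  (⟨0, -1, 2, -2, 1, 1, -1, 2⟩, 46, 77),
  (⟨0, -1, 2, 0, -1, 1, -3, 0⟩, 44, 60),
  (⟨0, 0, -2, -1, -1, 0, 3, -1⟩, 32, 117),
  (⟨0, 0, -2, 1, -3, 0, 1, 1⟩, 37, 61),
  (⟨0, 0, -2, 1, 1, 0, 1, -3⟩, 45, 114),
  (⟨0, 0, -2, 3, -1, 0, -1, -1⟩, 43, 114),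
  (⟨0, 0, 2, -3, 1, 0, 1, 1⟩, 43, 5),
  (⟨0, 0, 2, -1, -1, 0, -1, 3⟩, 45, 5),
  (⟨0, 0, 2, -1, 3, 0, -1, -1⟩, 37, 58),
  (⟨0, 0, 2, 1, 1, 0, -3, 1⟩, 32, 2),
  (⟨0, 1, -2, 0, 1, -1, 3, 0⟩, 44, 59),
  (⟨0, 1, -2, 2, -1, -1, 1, -2⟩, 46, 42),
  (⟨0, 1, 0, -2, -3, 1, 1, 0⟩, 46, 14),
  (⟨0, 1, 0, 2, -3, 1, 1, 0⟩, 38, 42),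
  (⟨0, 1, 2, -2, -1, -1, 1, -2⟩, 33, 6),
  (⟨0, 1, 2, 0, 1, -1, 3, 0⟩, 46, 59),
  (⟨0, 2, -2, 1, -1, 2, -1, 1⟩, 32, 44),
  (⟨0, 2, 0, -1, -1, 0, -3, 1⟩, 37, 96),
  (⟨0, 2, 0, 1, 1, 0, 3, -1⟩, 43, 33),
  (⟨0, 2, 2, -1, 1, -2, 1, -1⟩, 45, 33),
  (⟨1, -3, -1, 0, -2, 1, 0, 0⟩, 34, 84),
  (⟨1, -2, -1, -1, -2, 0, 2, -1⟩, 50, 85),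
  (⟨1, -2, -1, -1, 2, 0, 2, -1⟩, 36, 85),
  (⟨1, -2, 1, -1, 0, -2, -2, 1⟩, 31, 80),
  (⟨1, -2, 1, -1, 0, 2, -2, 1⟩, 50, 21),
  (⟨1, -2, 1, 1, -2, 2, 0, -1⟩, 47, 82),
  (⟨1, -2, 1, 1, 2, -2, 0, -1⟩, 50, 47),
  (⟨1, -1, -1, 2, 2, -1, 0, -2⟩, 34, 54),
  (⟨1, -1, -1, 2, 2, -1, 0, 2⟩, 49, 15),
  (⟨1, -1, 1, 0, 2, 1, -2, 2⟩, 34, 25),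
  (⟨1, -1, 1, 0, 2, 1, 2, -2⟩, 35, 9),
  (⟨1, -1, 3, 0, 0, -1, -2, 0⟩, 48, 22),
  (⟨1, -1, 3, 0, 0, -1, 2, 0⟩, 34, 3),
  (⟨1, 0, -3, 1, 0, 0, -2, -1⟩, 50, 18),
  (⟨1, 0, -1, 1, -2, 2, 2, 1⟩, 36, 72),
  (⟨1, 0, -1, 1, 2, -2, 2, 1⟩, 31, 68),
  (⟨1, 0, 1, -3, 0, 0, 2, -1⟩, 31, 29),
  (⟨1, 0, 1, 1, 0, 0, -2, 3⟩, 47, 55),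
  (⟨1, 0, 3, -1, 0, -2, 0, -1⟩, 47, 22),
  (⟨1, 0, 3, -1, 0, 2, 0, -1⟩, 36, 21),
  (⟨1, 1, -1, 0, 2, -3, 0, 0⟩, 48, 37),
  (⟨1, 1, -1, 2, 0, 1, -2, 2⟩, 48, 55),
  (⟨1, 1, -1, 2, 0, 1, 2, -2⟩, 49, 9),
  (⟨1, 1, 1, -2, 2, -1, -2, 0⟩, 35, 13),
  (⟨1, 1, 1, -2, 2, -1, 2, 0⟩, 49, 13),
  (⟨1, 1, 3, 0, -2, 1, 0, 0⟩, 35, 4),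
  (⟨2, -3, 0, 0, -1, -1, 1, 0⟩, 46, 32),
  (⟨2, -2, -2, -1, 1, 0, -1, 1⟩, 37, 86),
  (⟨2, -2, 0, -1, -1, 2, -1, -1⟩, 32, 31),
  (⟨2, -2, 0, 1, 1, -2, 1, 1⟩, 43, 23),
  (⟨2, -2, 2, 1, -1, 0, 1, -1⟩, 45, 23),
  (⟨2, -1, -2, 0, -1, -1, -1, 2⟩, 38, 32),
  (⟨2, -1, 0, -2, -1, 1, 1, -2⟩, 44, 14),
  (⟨2, -1, 0, 0, 1, -3, -1, 0⟩, 44, 32),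
  (⟨2, -1, 0, 0, 1, 1, 3, 0⟩, 38, 59),
  (⟨2, -1, 0, 2, -1, 1, 1, -2⟩, 33, 8),
  (⟨2, -1, 2, 0, -1, -1, -1, 2⟩, 33, 12),
  (⟨2, 0, -2, 1, 1, -2, -1, -1⟩, 32, 71),
  (⟨2, 0, 0, -1, -3, 0, 1, -1⟩, 43, 61),
  (⟨2, 0, 0, 1, 3, 0, -1, 1⟩, 45, 58),
  (⟨2, 0, 2, -1, -1, 2, 1, 1⟩, 37, 5),
  (⟨2, 1, -2, 2, -1, 1, -1, 0⟩, 44, 42),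
  (⟨2, 1, 0, 0, 3, -1, 1, 0⟩, 33, 17),
  (⟨2, 1, 2, -2, -1, 1, -1, 0⟩, 38, 14),
  (⟨3, -1, -1, 0, 0, 1, 0, -2⟩, 48, 16),
  (⟨3, -1, -1, 0, 0, 1, 0, 2⟩, 35, 15),
  (⟨3, -1, 1, 0, -2, -1, 0, 0⟩, 49, 4),
  (⟨3, 0, -1, -1, 0, 0, -2, 1⟩, 36, 18),
  (⟨3, 0, -1, 1, -2, 0, 0, -1⟩, 31, 20),
  (⟨3, 0, -1, 1, 2, 0, 0, -1⟩, 47, 16)]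

def bucket117 : List (SQ × ℕ × ℕ) := [
  (⟨-3, 0, 1, -1, -2, 0, 0, -1⟩, 34, 102),
  (⟨-3, 0, 1, -1, 2, 0, 0, -1⟩, 48, 104),
  (⟨-3, 0, 1, 1, 0, 0, -2, 1⟩, 35, 100),
  (⟨-3, 1, -1, 0, -2, -1, 0, 0⟩, 50, 118),
  (⟨-3, 1, 1, 0, 0, 1, 0, -2⟩, 47, 104),
  (⟨-3, 1, 1, 0, 0, 1, 0, 2⟩, 36, 103),
  (⟨-2, -1, -2, 2, -1, 1, -1, 0⟩, 37, 106),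
  (⟨-2, -1, 0, 0, 3, -1, 1, 0⟩, 32, 99),
  (⟨-2, -1, 2, -2, -1, 1, -1, 0⟩, 45, 78),
  (⟨-2, 0, -2, 1, -1, 2, 1, 1⟩, 38, 113),
  (⟨-2, 0, 0, -1, 3, 0, -1, 1⟩, 44, 58),
  (⟨-2, 0, 0, 1, -3, 0, 1, -1⟩, 46, 61),
  (⟨-2, 0, 2, -1, 1, -2, -1, -1⟩, 33, 47),
  (⟨-2, 1, -2, 0, -1, -1, -1, 2⟩, 32, 110),
  (⟨-2, 1, 0, -2, -1, 1, 1, -2⟩, 32, 112),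
  (⟨-2, 1, 0, 0, 1, -3, -1, 0⟩, 45, 88),
  (⟨-2, 1, 0, 0, 1, 1, 3, 0⟩, 37, 59),
  (⟨-2, 1, 0, 2, -1, 1, 1, -2⟩, 45, 106),
  (⟨-2, 1, 2, 0, -1, -1, -1, 2⟩, 37, 88),
  (⟨-2, 2, -2, -1, -1, 0, 1, -1⟩, 44, 95),
  (⟨-2, 2, 0, -1, 1, -2, 1, 1⟩, 46, 95),
  (⟨-2, 2, 0, 1, -1, 2, -1, -1⟩, 33, 87),
  (⟨-2, 2, 2, 1, 1, 0, -1, 1⟩, 38, 34),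
  (⟨-2, 3, 0, 0, -1, -1, 1, 0⟩, 43, 88),
  (⟨-1, -1, -3, 0, -2, 1, 0, 0⟩, 36, 118),
  (⟨-1, -1, -1, 2, 2, -1, -2, 0⟩, 36, 105),
  (⟨-1, -1, -1, 2, 2, -1, 2, 0⟩, 50, 105),
  (⟨-1, -1, 1, -2, 0, 1, -2, 2⟩, 47, 63),
  (⟨-1, -1, 1, -2, 0, 1, 2, -2⟩, 50, 107),
  (⟨-1, -1, 1, 0, 2, -3, 0, 0⟩, 47, 79),
  (⟨-1, 0, -3, 1, 0, -2, 0, -1⟩, 48, 98),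
  (⟨-1, 0, -3, 1, 0, 2, 0, -1⟩, 35, 97),
  (⟨-1, 0, -1, -1, 0, 0, -2, 3⟩, 48, 63),
  (⟨-1, 0, -1, 3, 0, 0, 2, -1⟩, 34, 89),
  (⟨-1, 0, 1, -1, -2, 2, 2, 1⟩, 35, 48),
  (⟨-1, 0, 1, -1, 2, -2, 2, 1⟩, 34, 52),
  (⟨-1, 0, 3, -1, 0, 0, -2, -1⟩, 49, 100),
  (⟨-1, 1, -3, 0, 0, -1, -2, 0⟩, 47, 98),
  (⟨-1, 1, -3, 0, 0, -1, 2, 0⟩, 31, 117),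
  (⟨-1, 1, -1, 0, 2, 1, -2, 2⟩, 31, 91),
  (⟨-1, 1, -1, 0, 2, 1, 2, -2⟩, 36, 107),
  (⟨-1, 1, 1, -2, 2, -1, 0, -2⟩, 31, 62),
  (⟨-1, 1, 1, -2, 2, -1, 0, 2⟩, 50, 103),
  (⟨-1, 2, -1, -1, -2, 2, 0, -1⟩, 48, 40),
  (⟨-1, 2, -1, -1, 2, -2, 0, -1⟩, 49, 71),
  (⟨-1, 2, -1, 1, 0, -2, -2, 1⟩, 34, 38),
  (⟨-1, 2, -1, 1, 0, 2, -2, 1⟩, 49, 97),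
  (⟨-1, 2, 1, 1, -2, 0, 2, -1⟩, 49, 33),
  (⟨-1, 2, 1, 1, 2, 0, 2, -1⟩, 35, 33),
  (⟨-1, 3, 1, 0, -2, 1, 0, 0⟩, 31, 36),
  (⟨0, -2, -2, 1, 1, -2, 1, -1⟩, 44, 85),
  (⟨0, -2, 0, -1, 1, 0, 3, -1⟩, 46, 85),
  (⟨0, -2, 0, 1, -1, 0, -3, 1⟩, 38, 24),
  (⟨0, -2, 2, -1, -1, 2, -1, 1⟩, 33, 76),
  (⟨0, -1, -2, 0, 1, -1, 3, 0⟩, 43, 59),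
  (⟨0, -1, -2, 2, -1, -1, 1, -2⟩, 32, 114),
  (⟨0, -1, 0, -2, -3, 1, 1, 0⟩, 37, 78),
  (⟨0, -1, 0, 2, -3, 1, 1, 0⟩, 43, 106),
  (⟨0, -1, 2, -2, -1, -1, 1, -2⟩, 43, 78),
  (⟨0, -1, 2, 0, 1, -1, 3, 0⟩, 45, 59),
  (⟨0, 0, -2, -1, 1, 0, -3, 1⟩, 33, 116),
  (⟨0, 0, -2, 1, -1, 0, -1, 3⟩, 44, 113),
  (⟨0, 0, -2, 1, 3, 0, -1, -1⟩, 38, 58),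
  (⟨0, 0, -2, 3, 1, 0, 1, 1⟩, 46, 113),
  (⟨0, 0, 2, -3, -1, 0, -1, -1⟩, 46, 6),
  (⟨0, 0, 2, -1, -3, 0, 1, 1⟩, 38, 61),
  (⟨0, 0, 2, -1, 1, 0, 1, -3⟩, 44, 6),
  (⟨0, 0, 2, 1, -1, 0, 3, -1⟩, 33, 3),
  (⟨0, 1, -2, 0, -1, 1, -3, 0⟩, 45, 60),
  (⟨0, 1, -2, 2, 1, 1, -1, 2⟩, 43, 41),
  (⟨0, 1, 0, -2, 3, -1, -1, 0⟩, 43, 13),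
  (⟨0, 1, 0, 2, 3, -1, -1, 0⟩, 37, 41),
  (⟨0, 1, 2, -2, 1, 1, -1, 2⟩, 32, 5),
  (⟨0, 1, 2, 0, -1, 1, -3, 0⟩, 43, 60),
  (⟨0, 2, -2, 1, 1, -2, 1, -1⟩, 33, 43),
  (⟨0, 2, 0, -1, 1, 0, 3, -1⟩, 38, 95),
  (⟨0, 2, 0, 1, -1, 0, -3, 1⟩, 46, 34),
  (⟨0, 2, 2, -1, -1, 2, -1, 1⟩, 44, 34),
  (⟨1, -3, -1, 0, 2, -1, 0, 0⟩, 31, 83),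
  (⟨1, -2, -1, -1, -2, 0, -2, 1⟩, 35, 86),
  (⟨1, -2, -1, -1, 2, 0, -2, 1⟩, 49, 86),
  (⟨1, -2, 1, -1, 0, -2, 2, -1⟩, 49, 22),
  (⟨1, -2, 1, -1, 0, 2, 2, -1⟩, 34, 81),
  (⟨1, -2, 1, 1, -2, 2, 0, 1⟩, 49, 48),
  (⟨1, -2, 1, 1, 2, -2, 0, 1⟩, 48, 79),
  (⟨1, -1, -1, 2, -2, 1, 0, -2⟩, 50, 16),
  (⟨1, -1, -1, 2, -2, 1, 0, 2⟩, 31, 57),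
  (⟨1, -1, 1, 0, -2, -1, -2, 2⟩, 36, 12),
  (⟨1, -1, 1, 0, -2, -1, 2, -2⟩, 31, 28),
  (⟨1, -1, 3, 0, 0, 1, -2, 0⟩, 31, 2),
  (⟨1, -1, 3, 0, 0, 1, 2, 0⟩, 47, 21),
  (⟨1, 0, -3, 1, 0, 0, 2, 1⟩, 49, 19),
  (⟨1, 0, -1, 1, -2, 2, -2, -1⟩, 34, 67),
  (⟨1, 0, -1, 1, 2, -2, -2, -1⟩, 35, 71),
  (⟨1, 0, 1, -3, 0, 0, -2, 1⟩, 34, 30),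
  (⟨1, 0, 1, 1, 0, 0, 2, -3⟩, 48, 56),
  (⟨1, 0, 3, -1, 0, -2, 0, 1⟩, 35, 22),
  (⟨1, 0, 3, -1, 0, 2, 0, 1⟩, 48, 21),
  (⟨1, 1, -1, 0, -2, 3, 0, 0⟩, 47, 40),
  (⟨1, 1, -1, 2, 0, -1, -2, 2⟩, 50, 12),
  (⟨1, 1, -1, 2, 0, -1, 2, -2⟩, 47, 56),
  (⟨1, 1, 1, -2, -2, 1, -2, 0⟩, 50, 14),
  (⟨1, 1, 1, -2, -2, 1, 2, 0⟩, 36, 14),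
  (⟨1, 1, 3, 0, 2, -1, 0, 0⟩, 36, 1),
  (⟨2, -3, 0, 0, 1, 1, -1, 0⟩, 43, 31),
  (⟨2, -2, -2, -1, -1, 0, 1, -1⟩, 38, 85),
  (⟨2, -2, 0, -1, 1, -2, 1, 1⟩, 33, 32),
  (⟨2, -2, 0, 1, -1, 2, -1, -1⟩, 46, 24),
  (⟨2, -2, 2, 1, 1, 0, -1, 1⟩, 44, 24),
  (⟨2, -1, -2, 0, 1, 1, 1, -2⟩, 37, 31),
  (⟨2, -1, 0, -2, 1, -1, -1, 2⟩, 45, 13),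
  (⟨2, -1, 0, 0, -1, -1, -3, 0⟩, 37, 60),
  (⟨2, -1, 0, 0, -1, 3, 1, 0⟩, 45, 31),
  (⟨2, -1, 0, 2, 1, -1, -1, 2⟩, 32, 7),
  (⟨2, -1, 2, 0, 1, 1, 1, -2⟩, 32, 9),
  (⟨2, 0, -2, 1, -1, 2, 1, 1⟩, 33, 72),
  (⟨2, 0, 0, -1, 3, 0, -1, 1⟩, 46, 58),
  (⟨2, 0, 0, 1, -3, 0, 1, -1⟩, 44, 61),
  (⟨2, 0, 2, -1, 1, -2, -1, -1⟩, 38, 6),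
  (⟨2, 1, -2, 2, 1, -1, 1, 0⟩, 45, 41),
  (⟨2, 1, 0, 0, -3, 1, -1, 0⟩, 32, 20),
  (⟨2, 1, 2, -2, 1, -1, 1, 0⟩, 37, 13),
  (⟨3, -1, -1, 0, 0, -1, 0, -2⟩, 36, 16),
  (⟨3, -1, -1, 0, 0, -1, 0, 2⟩, 47, 15),
  (⟨3, -1, 1, 0, 2, 1, 0, 0⟩, 50, 1),
  (⟨3, 0, -1, -1, 0, 0, 2, -1⟩, 35, 19),
  (⟨3, 0, -1, 1, -2, 0, 0, 1⟩, 48, 15),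
  (⟨3, 0, -1, 1, 2, 0, 0, 1⟩, 34, 17)]

def bucket118 : List (SQ × ℕ × ℕ) := [
  (⟨-3, 1, -1, -1, -1, -1, 1, -1⟩, 49, 109),
  (⟨-3, 1, -1, -1, -1, 1, 1, 1⟩, 46, 112),
  (⟨-3, 1, -1, -1, 1, -1, -1, -1⟩, 43, 111),
  (⟨-3, 1, -1, -1, 1, 1, -1, 1⟩, 50, 108),
  (⟨-3, 1, -1, 1, -1, -1, 1, 1⟩, 45, 93),
  (⟨-3, 1, -1, 1, 1, 1, -1, -1⟩, 44, 92),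
  (⟨-3, 1, 1, -1, -1, -1, -1, -1⟩, 31, 104),
  (⟨-3, 1, 1, -1, 1, 1, 1, 1⟩, 34, 103),
  (⟨-3, 1, 1, 1, -1, -1, -1, 1⟩, 33, 88),
  (⟨-3, 1, 1, 1, -1, 1, -1, -1⟩, 48, 102),
  (⟨-3, 1, 1, 1, 1, -1, 1, 1⟩, 47, 99),
  (⟨-3, 1, 1, 1, 1, 1, 1, -1⟩, 32, 87),
  (⟨-1, -1, -3, 1, -1, -1, 1, -1⟩, 47, 117),
  (⟨-1, -1, -3, 1, -1, 1, 1, 1⟩, 32, 113),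
  (⟨-1, -1, -3, 1, 1, -1, -1, -1⟩, 33, 114),
  (⟨-1, -1, -3, 1, 1, 1, -1, 1⟩, 48, 116),
  (⟨-1, -1, -1, -1, -3, 1, 1, -1⟩, 44, 112),
  (⟨-1, -1, -1, -1, -1, 1, 3, -1⟩, 31, 81),
  (⟨-1, -1, -1, -1, 1, -1, -3, 1⟩, 34, 80),
  (⟨-1, -1, -1, -1, 3, -1, -1, 1⟩, 45, 111),
  (⟨-1, -1, -1, 1, -3, 1, 1, 1⟩, 50, 84),
  (⟨-1, -1, -1, 1, -1, -1, 3, -1⟩, 48, 117),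
  (⟨-1, -1, -1, 1, 1, 1, -3, 1⟩, 47, 116),
  (⟨-1, -1, -1, 1, 3, -1, -1, -1⟩, 49, 83),
  (⟨-1, -1, 1, -1, -3, 1, -1, -1⟩, 32, 82),
  (⟨-1, -1, 1, -1, -1, -1, -3, 1⟩, 46, 53),
  (⟨-1, -1, 1, -1, 1, 1, 3, -1⟩, 43, 50),
  (⟨-1, -1, 1, -1, 3, -1, 1, 1⟩, 33, 79),
  (⟨-1, -1, 1, 1, -3, 1, -1, 1⟩, 34, 57),
  (⟨-1, -1, 1, 1, -1, 1, -3, 1⟩, 45, 76),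
  (⟨-1, -1, 1, 1, 1, -1, 3, -1⟩, 44, 75),
  (⟨-1, -1, 1, 1, 3, -1, 1, -1⟩, 31, 54),
  (⟨-1, -1, 3, -1, -1, -1, -1, 1⟩, 43, 76),
  (⟨-1, -1, 3, -1, -1, 1, -1, -1⟩, 50, 49),
  (⟨-1, -1, 3, -1, 1, -1, 1, 1⟩, 49, 46),
  (⟨-1, -1, 3, -1, 1, 1, 1, -1⟩, 46, 75),
  (⟨-1, 1, -3, 1, -1, -1, 1, 1⟩, 34, 98),
  (⟨-1, 1, -3, 1, 1, 1, -1, -1⟩, 31, 97),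
  (⟨-1, 1, -1, -1, -3, 1, 1, 1⟩, 43, 93),
  (⟨-1, 1, -1, -1, -1, -1, 3, -1⟩, 33, 64),
  (⟨-1, 1, -1, -1, 1, 1, -3, 1⟩, 32, 63),
  (⟨-1, 1, -1, -1, 3, -1, -1, -1⟩, 46, 92),
  (⟨-1, 1, -1, 1, -1, 1, -1, 3⟩, 37, 93),
  (⟨-1, 1, -1, 1, -1, 3, -1, 1⟩, 36, 108),
  (⟨-1, 1, -1, 1, 1, -3, 1, -1⟩, 35, 109),
  (⟨-1, 1, -1, 1, 1, -1, 1, -3⟩, 38, 92),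
  (⟨-1, 1, -1, 3, -1, 1, -1, 1⟩, 35, 90),
  (⟨-1, 1, -1, 3, 1, -1, 1, -1⟩, 36, 89),
  (⟨-1, 1, 1, -3, -1, 1, 1, -1⟩, 38, 112),
  (⟨-1, 1, 1, -3, 1, -1, -1, 1⟩, 37, 111),
  (⟨-1, 1, 1, -1, -1, 1, 1, -3⟩, 36, 49),
  (⟨-1, 1, 1, -1, -1, 3, 1, -1⟩, 37, 50),
  (⟨-1, 1, 1, -1, 1, -3, -1, 1⟩, 38, 53),
  (⟨-1, 1, 1, -1, 1, -1, -1, 3⟩, 35, 46),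
  (⟨-1, 1, 1, 1, -3, 1, -1, -1⟩, 47, 102),
  (⟨-1, 1, 1, 1, -1, -1, -3, 1⟩, 49, 90),
  (⟨-1, 1, 1, 1, 1, 1, 3, -1⟩, 50, 89),
  (⟨-1, 1, 1, 1, 3, -1, 1, 1⟩, 48, 99),
  (⟨-1, 1, 3, -1, -1, -1, -1, -1⟩, 44, 53),
  (⟨-1, 1, 3, -1, 1, 1, 1, 1⟩, 45, 50),
  (⟨-1, 3, -1, 1, -1, 1, -1, 1⟩, 38, 44),
  (⟨-1, 3, -1, 1, 1, -1, 1, -1⟩, 37, 43),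
  (⟨-1, 3, 1, -1, -1, 1, 1, -1⟩, 35, 36),
  (⟨-1, 3, 1, -1, 1, -1, -1, 1⟩, 36, 35),
  (⟨1, -3, -1, 1, -1, 1, 1, -1⟩, 36, 84),
  (⟨1, -3, -1, 1, 1, -1, -1, 1⟩, 35, 83),
  (⟨1, -3, 1, -1, -1, 1, -1, 1⟩, 37, 76),
  (⟨1, -3, 1, -1, 1, -1, 1, -1⟩, 38, 75),
  (⟨1, -1, -3, 1, -1, -1, -1, -1⟩, 45, 69),
  (⟨1, -1, -3, 1, 1, 1, 1, 1⟩, 44, 66),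
  (⟨1, -1, -1, -1, -3, 1, -1, -1⟩, 48, 20),
  (⟨1, -1, -1, -1, -1, -1, -3, 1⟩, 50, 30),
  (⟨1, -1, -1, -1, 1, 1, 3, -1⟩, 49, 29),
  (⟨1, -1, -1, -1, 3, -1, 1, 1⟩, 47, 17),
  (⟨1, -1, -1, 1, -1, 1, 1, -3⟩, 35, 73),
  (⟨1, -1, -1, 1, -1, 3, 1, -1⟩, 38, 66),
  (⟨1, -1, -1, 1, 1, -3, -1, 1⟩, 37, 69),
  (⟨1, -1, -1, 1, 1, -1, -1, 3⟩, 36, 70),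
  (⟨1, -1, -1, 3, -1, 1, 1, -1⟩, 37, 8),
  (⟨1, -1, -1, 3, 1, -1, -1, 1⟩, 38, 7),
  (⟨1, -1, 1, -3, -1, 1, -1, 1⟩, 36, 30),
  (⟨1, -1, 1, -3, 1, -1, 1, -1⟩, 35, 29),
  (⟨1, -1, 1, -1, -1, 1, -1, 3⟩, 38, 27),
  (⟨1, -1, 1, -1, -1, 3, -1, 1⟩, 35, 10),
  (⟨1, -1, 1, -1, 1, -3, 1, -1⟩, 36, 11),
  (⟨1, -1, 1, -1, 1, -1, 1, -3⟩, 37, 26),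
  (⟨1, -1, 1, 1, -3, 1, 1, 1⟩, 46, 27),
  (⟨1, -1, 1, 1, -1, -1, 3, -1⟩, 32, 56),
  (⟨1, -1, 1, 1, 1, 1, -3, 1⟩, 33, 55),
  (⟨1, -1, 1, 1, 3, -1, -1, -1⟩, 43, 26),
  (⟨1, -1, 3, -1, -1, -1, 1, 1⟩, 31, 22),
  (⟨1, -1, 3, -1, 1, 1, -1, -1⟩, 34, 21),
  (⟨1, 1, -3, 1, -1, -1, -1, 1⟩, 46, 44),
  (⟨1, 1, -3, 1, -1, 1, -1, -1⟩, 49, 73),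
  (⟨1, 1, -3, 1, 1, -1, 1, 1⟩, 50, 70),
  (⟨1, 1, -3, 1, 1, 1, 1, -1⟩, 43, 43),
  (⟨1, 1, -1, -1, -3, 1, -1, 1⟩, 31, 65),
  (⟨1, 1, -1, -1, -1, 1, -3, 1⟩, 44, 44),
  (⟨1, 1, -1, -1, 1, -1, 3, -1⟩, 45, 43),
  (⟨1, 1, -1, -1, 3, -1, 1, -1⟩, 34, 62),
  (⟨1, 1, -1, 1, -3, 1, -1, -1⟩, 33, 40),
  (⟨1, 1, -1, 1, -1, -1, -3, 1⟩, 43, 69),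
  (⟨1, 1, -1, 1, 1, 1, 3, -1⟩, 46, 66),
  (⟨1, 1, -1, 1, 3, -1, 1, 1⟩, 32, 37),
  (⟨1, 1, 1, -1, -3, 1, 1, 1⟩, 49, 36),
  (⟨1, 1, 1, -1, -1, -1, 3, -1⟩, 47, 3),
  (⟨1, 1, 1, -1, 1, 1, -3, 1⟩, 48, 2),
  (⟨1, 1, 1, -1, 3, -1, -1, -1⟩, 50, 35),
  (⟨1, 1, 1, 1, -3, 1, 1, -1⟩, 45, 8),
  (⟨1, 1, 1, 1, -1, 1, 3, -1⟩, 34, 39),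
  (⟨1, 1, 1, 1, 1, -1, -3, 1⟩, 31, 38),
  (⟨1, 1, 1, 1, 3, -1, -1, 1⟩, 44, 7),
  (⟨1, 1, 3, -1, -1, -1, 1, -1⟩, 48, 3),
  (⟨1, 1, 3, -1, -1, 1, 1, 1⟩, 33, 5),
  (⟨1, 1, 3, -1, 1, -1, -1, -1⟩, 32, 6),
  (⟨1, 1, 3, -1, 1, 1, -1, 1⟩, 47, 2),
  (⟨3, -1, -1, -1, -1, -1, -1, 1⟩, 32, 32),
  (⟨3, -1, -1, -1, -1, 1, -1, -1⟩, 47, 20),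
  (⟨3, -1, -1, -1, 1, -1, 1, 1⟩, 48, 17),
  (⟨3, -1, -1, -1, 1, 1, 1, -1⟩, 33, 31),
  (⟨3, -1, -1, 1, -1, -1, -1, -1⟩, 34, 16),
  (⟨3, -1, -1, 1, 1, 1, 1, 1⟩, 31, 15),
  (⟨3, -1, 1, -1, -1, -1, 1, 1⟩, 44, 27),
  (⟨3, -1, 1, -1, 1, 1, -1, -1⟩, 45, 26),
  (⟨3, -1, 1, 1, -1, -1, 1, -1⟩, 50, 11),
  (⟨3, -1, 1, 1, -1, 1, 1, 1⟩, 43, 8),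
  (⟨3, -1, 1, 1, 1, -1, -1, -1⟩, 46, 7),
  (⟨3, -1, 1, 1, 1, 1, -1, 1⟩, 49, 10)]

def bucket119 : List (SQ × ℕ × ℕ) := [
  (⟨-3, 0, -2, 0, 0, -1, -1, 1⟩, 31, 119),
  (⟨-3, 0, 0, 0, -2, 1, -1, -1⟩, 36, 102),
  (⟨-3, 0, 2, 0, 0, -1, -1, 1⟩, 50, 102),
  (⟨-3, 1, 0, -1, 0, -2, -1, 0⟩, 44, 111),
  (⟨-3, 1, 0, -1, 0, 2, -1, 0⟩, 38, 108),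
  (⟨-3, 1, 2, 1, 0, 0, 1, 0⟩, 46, 101),
  (⟨-2, -1, -3, 1, 1, 0, 0, 0⟩, 43, 115),
  (⟨-2, -1, 1, -1, -1, 0, -2, 2⟩, 32, 76),
  (⟨-2, -1, 1, -1, -1, 0, 2, -2⟩, 37, 75),
  (⟨-2, 0, -3, 0, -1, 1, 0, 1⟩, 49, 117),
  (⟨-2, 0, -1, 2, -1, -1, -2, 1⟩, 48, 110),
  (⟨-2, 0, 1, -2, 1, 1, 2, -1⟩, 35, 50),
  (⟨-2, 0, 3, 0, 1, -1, 0, -1⟩, 34, 45),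
  (⟨-2, 1, -1, -1, 3, 0, 0, 0⟩, 37, 115),
  (⟨-2, 1, -1, 3, -1, 0, 0, 0⟩, 32, 90),
  (⟨-2, 1, 1, -1, 1, -2, 0, -2⟩, 32, 104),
  (⟨-2, 1, 1, -1, 1, -2, 0, 2⟩, 43, 46),
  (⟨-2, 1, 1, 1, -1, 2, -2, 0⟩, 37, 87),
  (⟨-2, 1, 1, 1, -1, 2, 2, 0⟩, 43, 87),
  (⟨-2, 2, -1, 0, -1, 1, -2, -1⟩, 35, 96),
  (⟨-2, 2, -1, 2, 1, 1, 0, 1⟩, 34, 91),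
  (⟨-2, 2, 1, -2, -1, -1, 0, -1⟩, 48, 36),
  (⟨-2, 2, 1, 0, 1, -1, 2, 1⟩, 49, 37),
  (⟨-2, 3, 1, 1, 1, 0, 0, 0⟩, 45, 87),
  (⟨-1, -1, -2, 1, -2, 0, 1, -2⟩, 38, 114),
  (⟨-1, -1, -2, 1, 2, 0, 1, -2⟩, 46, 114),
  (⟨-1, -1, -2, 3, 0, 0, -1, 0⟩, 44, 114),
  (⟨-1, -1, 0, -1, -2, 2, -1, 2⟩, 44, 108),
  (⟨-1, -1, 0, -1, 2, -2, -1, 2⟩, 46, 111),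
  (⟨-1, -1, 2, -1, 0, 0, 3, 0⟩, 38, 101),
  (⟨-1, 0, -2, 2, 2, 1, -1, 1⟩, 50, 55),
  (⟨-1, 0, 0, -2, 0, -1, 3, -1⟩, 36, 64),
  (⟨-1, 0, 0, 0, -2, -1, -3, 1⟩, 47, 110),
  (⟨-1, 0, 0, 0, -2, 3, 1, 1⟩, 31, 48),
  (⟨-1, 0, 0, 0, 2, -1, 1, -3⟩, 50, 92),
  (⟨-1, 0, 0, 2, 0, -1, 3, -1⟩, 31, 56),
  (⟨-1, 0, 2, -2, 2, 1, -1, 1⟩, 36, 77),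
  (⟨-1, 1, -2, -1, -2, 2, 1, 0⟩, 33, 112),
  (⟨-1, 1, -2, -1, 2, -2, 1, 0⟩, 38, 111),
  (⟨-1, 1, -2, 1, 0, -2, -1, 2⟩, 33, 98),
  (⟨-1, 1, -2, 1, 0, 2, -1, 2⟩, 46, 108),
  (⟨-1, 1, 0, 1, -2, 0, 3, 0⟩, 44, 101),
  (⟨-1, 1, 0, 1, 2, 0, 3, 0⟩, 33, 59),
  (⟨-1, 2, -2, 0, 2, -1, -1, -1⟩, 36, 92),
  (⟨-1, 2, -2, 2, 0, -1, 1, 1⟩, 47, 89),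
  (⟨-1, 2, 0, -2, -2, 1, 1, -1⟩, 47, 36),
  (⟨-1, 2, 0, 2, -2, 1, 1, -1⟩, 50, 42),
  (⟨-1, 2, 2, -2, 0, -1, 1, 1⟩, 31, 52),
  (⟨-1, 2, 2, 0, 2, -1, -1, -1⟩, 47, 47),
  (⟨-1, 3, 2, -1, 0, 0, -1, 0⟩, 33, 35),
  (⟨0, -2, -1, 0, 3, -1, 0, 1⟩, 34, 79),
  (⟨0, -2, -1, 2, 1, -1, 2, -1⟩, 49, 23),
  (⟨0, -2, 1, -2, -1, 1, -2, 1⟩, 48, 30),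
  (⟨0, -2, 1, 0, -3, 1, 0, -1⟩, 35, 82),
  (⟨0, -1, -1, 1, 3, 0, -2, 0⟩, 32, 58),
  (⟨0, -1, -1, 1, 3, 0, 2, 0⟩, 45, 115),
  (⟨0, -1, 1, 1, 1, -2, -2, 2⟩, 45, 46),
  (⟨0, -1, 1, 1, 1, -2, 2, -2⟩, 43, 75),
  (⟨0, -1, 3, -1, 1, 0, 0, -2⟩, 45, 75),
  (⟨0, -1, 3, -1, 1, 0, 0, 2⟩, 37, 46),
  (⟨0, 0, -3, 0, -1, -1, 2, -1⟩, 35, 117),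
  (⟨0, 0, -1, 0, -3, 1, 2, 1⟩, 48, 72),
  (⟨0, 0, -1, 0, 1, -3, -2, 1⟩, 49, 69),
  (⟨0, 0, -1, 0, 1, 1, 2, -3⟩, 34, 107),
  (⟨0, 0, 1, 0, -1, -1, -2, 3⟩, 34, 12),
  (⟨0, 0, 1, 0, -1, 3, 2, -1⟩, 49, 50),
  (⟨0, 0, 1, 0, 3, -1, -2, -1⟩, 48, 47),
  (⟨0, 0, 3, 0, 1, 1, -2, 1⟩, 35, 2),
  (⟨0, 1, -3, 1, -1, 0, 0, -2⟩, 37, 73),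
  (⟨0, 1, -3, 1, -1, 0, 0, 2⟩, 45, 44),
  (⟨0, 1, -1, -1, -1, 2, -2, 2⟩, 43, 44),
  (⟨0, 1, -1, -1, -1, 2, 2, -2⟩, 45, 73),
  (⟨0, 1, 1, -1, -3, 0, -2, 0⟩, 45, 4),
  (⟨0, 1, 1, -1, -3, 0, 2, 0⟩, 32, 61),
  (⟨0, 2, -1, 0, 3, -1, 0, 1⟩, 35, 37),
  (⟨0, 2, -1, 2, 1, -1, 2, -1⟩, 48, 89),
  (⟨0, 2, 1, -2, -1, 1, -2, 1⟩, 49, 96),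
  (⟨0, 2, 1, 0, -3, 1, 0, -1⟩, 34, 40),
  (⟨1, -3, -2, 1, 0, 0, 1, 0⟩, 33, 84),
  (⟨1, -2, -2, 0, -2, 1, 1, 1⟩, 47, 72),
  (⟨1, -2, -2, 2, 0, 1, -1, -1⟩, 31, 67),
  (⟨1, -2, 0, -2, 2, -1, -1, 1⟩, 50, 77),
  (⟨1, -2, 0, 2, 2, -1, -1, 1⟩, 47, 83),
  (⟨1, -2, 2, -2, 0, 1, -1, -1⟩, 47, 30),
  (⟨1, -2, 2, 0, -2, 1, 1, 1⟩, 36, 27),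
  (⟨1, -1, 0, -1, -2, 0, -3, 0⟩, 33, 60),
  (⟨1, -1, 0, -1, 2, 0, -3, 0⟩, 44, 18),
  (⟨1, -1, 2, -1, 0, -2, 1, -2⟩, 46, 11),
  (⟨1, -1, 2, -1, 0, 2, 1, -2⟩, 33, 21),
  (⟨1, -1, 2, 1, -2, 2, -1, 0⟩, 38, 8),
  (⟨1, -1, 2, 1, 2, -2, -1, 0⟩, 33, 7),
  (⟨1, 0, -2, 2, -2, -1, 1, -1⟩, 36, 42),
  (⟨1, 0, 0, -2, 0, 1, -3, 1⟩, 31, 63),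
  (⟨1, 0, 0, 0, -2, 1, -1, 3⟩, 50, 27),
  (⟨1, 0, 0, 0, 2, -3, -1, -1⟩, 31, 71),
  (⟨1, 0, 0, 0, 2, 1, 3, -1⟩, 47, 9),
  (⟨1, 0, 0, 2, 0, 1, -3, 1⟩, 36, 55),
  (⟨1, 0, 2, -2, -2, -1, 1, -1⟩, 50, 64),
  (⟨1, 1, -2, 1, 0, 0, -3, 0⟩, 38, 18),
  (⟨1, 1, 0, 1, -2, 2, 1, -2⟩, 46, 8),
  (⟨1, 1, 0, 1, 2, -2, 1, -2⟩, 44, 11),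
  (⟨1, 1, 2, -3, 0, 0, 1, 0⟩, 44, 5),
  (⟨1, 1, 2, -1, -2, 0, -1, 2⟩, 46, 5),
  (⟨1, 1, 2, -1, 2, 0, -1, 2⟩, 38, 5),
  (⟨2, -3, -1, -1, -1, 0, 0, 0⟩, 45, 32),
  (⟨2, -2, -1, 0, -1, 1, -2, -1⟩, 49, 82),
  (⟨2, -2, -1, 2, 1, 1, 0, 1⟩, 48, 83),
  (⟨2, -2, 1, -2, -1, -1, 0, -1⟩, 34, 28),
  (⟨2, -2, 1, 0, 1, -1, 2, 1⟩, 35, 23),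
  (⟨2, -1, -1, -1, 1, -2, -2, 0⟩, 43, 32),
  (⟨2, -1, -1, -1, 1, -2, 2, 0⟩, 37, 32),
  (⟨2, -1, -1, 1, -1, 2, 0, -2⟩, 43, 73),
  (⟨2, -1, -1, 1, -1, 2, 0, 2⟩, 32, 15),
  (⟨2, -1, 1, -3, 1, 0, 0, 0⟩, 32, 29),
  (⟨2, -1, 1, 1, -3, 0, 0, 0⟩, 37, 4),
  (⟨2, 0, -3, 0, -1, 1, 0, 1⟩, 34, 74),
  (⟨2, 0, -1, 2, -1, -1, -2, 1⟩, 35, 69),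
  (⟨2, 0, 1, -2, 1, 1, 2, -1⟩, 48, 9),
  (⟨2, 0, 3, 0, 1, -1, 0, -1⟩, 49, 2),
  (⟨2, 1, -1, 1, 1, 0, -2, 2⟩, 37, 44),
  (⟨2, 1, -1, 1, 1, 0, 2, -2⟩, 32, 43),
  (⟨2, 1, 3, -1, -1, 0, 0, 0⟩, 43, 4),
  (⟨3, -1, -2, -1, 0, 0, -1, 0⟩, 46, 18),
  (⟨3, -1, 0, 1, 0, -2, 1, 0⟩, 38, 11),
  (⟨3, -1, 0, 1, 0, 2, 1, 0⟩, 44, 8),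
  (⟨3, 0, -2, 0, 0, 1, 1, -1⟩, 50, 17),
  (⟨3, 0, 0, 0, 2, -1, 1, 1⟩, 36, 17),
  (⟨3, 0, 2, 0, 0, 1, 1, -1⟩, 31, 0)]

def bucket120 : List (SQ × ℕ × ℕ) := [
  (⟨-3, 0, -2, 1, 1, 1, 0, 0⟩, 36, 119),
  (⟨-3, 0, 0, -1, 1, -1, -2, 0⟩, 47, 111),
  (⟨-3, 0, 0, -1, 1, -1, 2, 0⟩, 50, 119),
  (⟨-3, 1, 0, -2, 1, 0, 0, 1⟩, 32, 103),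
  (⟨-3, 1, 0, 0, -1, 0, -2, -1⟩, 45, 102),
  (⟨-3, 1, 0, 2, 1, 0, 0, 1⟩, 37, 89),
  (⟨-2, -1, -1, 0, -2, 2, -1, 1⟩, 35, 108),
  (⟨-2, -1, -1, 0, 2, -2, -1, 1⟩, 48, 111),
  (⟨-2, -1, 1, 0, 0, 0, 3, -1⟩, 34, 101),
  (⟨-2, 0, -1, -1, 2, -1, 1, -2⟩, 44, 62),
  (⟨-2, 0, -1, 1, 0, -1, 3, 0⟩, 46, 117),
  (⟨-2, 0, 1, -1, 0, 1, -3, 0⟩, 33, 100),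
  (⟨-2, 0, 1, 1, -2, 1, -1, 2⟩, 38, 57),
  (⟨-2, 1, -1, 0, 0, 0, 1, -3⟩, 48, 94),
  (⟨-2, 1, -1, 2, -2, 0, -1, -1⟩, 34, 90),
  (⟨-2, 1, -1, 2, 2, 0, -1, -1⟩, 35, 92),
  (⟨-2, 1, 1, -2, 0, -2, -1, 1⟩, 34, 53),
  (⟨-2, 1, 1, -2, 0, 2, -1, 1⟩, 48, 51),
  (⟨-2, 1, 3, 0, 0, 0, 1, 1⟩, 35, 45),
  (⟨-2, 2, -1, -1, 0, 1, -1, 2⟩, 44, 91),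
  (⟨-2, 2, -1, 1, 2, 1, 1, 0⟩, 38, 91),
  (⟨-2, 2, 1, -1, -2, -1, -1, 0⟩, 46, 36),
  (⟨-2, 2, 1, 1, 0, -1, 1, -2⟩, 33, 33),
  (⟨-2, 3, 1, 0, 0, 0, -1, -1⟩, 49, 92),
  (⟨-1, -1, -2, 0, -1, 2, 2, -1⟩, 37, 81),
  (⟨-1, -1, -2, 2, 1, -2, 0, 1⟩, 32, 105),
  (⟨-1, -1, 0, 0, -3, 0, -2, 1⟩, 37, 102),
  (⟨-1, -1, 0, 0, 1, 0, 2, -3⟩, 32, 107),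
  (⟨-1, -1, 2, -2, 1, -2, 0, 1⟩, 45, 52),
  (⟨-1, -1, 2, 0, -1, 2, 2, -1⟩, 45, 81),
  (⟨-1, 0, -2, -1, 3, -1, 0, 0⟩, 31, 115),
  (⟨-1, 0, -2, 3, -1, -1, 0, 0⟩, 50, 69),
  (⟨-1, 0, 0, -1, -3, 1, 0, -2⟩, 50, 73),
  (⟨-1, 0, 0, -1, -3, 1, 0, 2⟩, 36, 65),
  (⟨-1, 0, 2, -1, -1, 3, 0, 0⟩, 47, 51),
  (⟨-1, 0, 2, 1, 1, -1, -2, 2⟩, 36, 46),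
  (⟨-1, 0, 2, 1, 1, -1, 2, -2⟩, 47, 75),
  (⟨-1, 1, -2, 0, -3, 0, 0, -1⟩, 32, 118),
  (⟨-1, 1, -2, 2, -1, 0, 2, 1⟩, 43, 89),
  (⟨-1, 1, 0, -2, 1, -2, 2, -1⟩, 43, 52),
  (⟨-1, 1, 0, 2, 1, -2, 2, -1⟩, 45, 89),
  (⟨-1, 1, 2, -2, -1, 0, 2, 1⟩, 37, 52),
  (⟨-1, 1, 2, 0, -3, 0, 0, -1⟩, 43, 102),
  (⟨-1, 2, -2, 1, -1, 1, 0, -2⟩, 47, 94),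
  (⟨-1, 2, -2, 1, -1, 1, 0, 2⟩, 31, 93),
  (⟨-1, 2, 0, -1, -1, -1, -2, 2⟩, 50, 65),
  (⟨-1, 2, 0, -1, -1, -1, 2, -2⟩, 31, 64),
  (⟨-1, 2, 2, -1, 1, 1, -2, 0⟩, 31, 35),
  (⟨-1, 2, 2, -1, 1, 1, 2, 0⟩, 36, 50),
  (⟨-1, 3, 0, 0, 1, 0, -2, 1⟩, 43, 38),
  (⟨0, -2, -3, 1, 0, 1, -1, 0⟩, 38, 83),
  (⟨0, -2, -1, 1, 2, -1, -1, 2⟩, 44, 83),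
  (⟨0, -2, 1, -1, -2, 1, 1, -2⟩, 46, 28),
  (⟨0, -2, 3, -1, 0, -1, 1, 0⟩, 33, 22),
  (⟨0, -1, 1, -2, -2, 2, -1, -1⟩, 34, 82),
  (⟨0, -1, 1, -2, 2, -2, -1, -1⟩, 49, 80),
  (⟨0, -1, 1, 0, 0, -2, -3, 1⟩, 35, 80),
  (⟨0, -1, 1, 0, 0, 2, -3, 1⟩, 49, 108),
  (⟨0, -1, 3, 0, -2, 0, 1, -1⟩, 49, 45),
  (⟨0, -1, 3, 0, 2, 0, 1, -1⟩, 48, 75),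
  (⟨0, 0, -3, 1, -2, -1, 1, 0⟩, 44, 117),
  (⟨0, 0, -1, -1, -2, 1, 3, 0⟩, 38, 117),
  (⟨0, 0, -1, -1, 2, -3, -1, 0⟩, 33, 71),
  (⟨0, 0, -1, 3, -2, 1, -1, 0⟩, 46, 57),
  (⟨0, 0, 1, -3, 2, -1, 1, 0⟩, 46, 62),
  (⟨0, 0, 1, 1, -2, 3, 1, 0⟩, 33, 48),
  (⟨0, 0, 1, 1, 2, -1, -3, 0⟩, 38, 2),
  (⟨0, 0, 3, -1, 2, 1, -1, 0⟩, 44, 2),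
  (⟨0, 1, -3, 0, -2, 0, -1, 1⟩, 48, 44),
  (⟨0, 1, -3, 0, 2, 0, -1, 1⟩, 49, 74),
  (⟨0, 1, -1, 0, 0, -2, 3, -1⟩, 49, 11),
  (⟨0, 1, -1, 0, 0, 2, 3, -1⟩, 35, 39),
  (⟨0, 1, -1, 2, -2, 2, 1, 1⟩, 49, 39),
  (⟨0, 1, -1, 2, 2, -2, 1, 1⟩, 34, 37),
  (⟨0, 2, -3, 1, 0, 1, -1, 0⟩, 33, 97),
  (⟨0, 2, -1, 1, 2, -1, -1, 2⟩, 46, 91),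
  (⟨0, 2, 1, -1, -2, 1, 1, -2⟩, 44, 36),
  (⟨0, 2, 3, -1, 0, -1, 1, 0⟩, 38, 36),
  (⟨1, -3, 0, 0, -1, 0, 2, -1⟩, 43, 81),
  (⟨1, -2, -2, 1, -1, -1, -2, 0⟩, 36, 69),
  (⟨1, -2, -2, 1, -1, -1, 2, 0⟩, 31, 84),
  (⟨1, -2, 0, 1, 1, 1, -2, 2⟩, 31, 55),
  (⟨1, -2, 0, 1, 1, 1, 2, -2⟩, 50, 54),
  (⟨1, -2, 2, -1, 1, -1, 0, -2⟩, 31, 26),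
  (⟨1, -2, 2, -1, 1, -1, 0, 2⟩, 47, 25),
  (⟨1, -1, -2, 0, 3, 0, 0, 1⟩, 43, 17),
  (⟨1, -1, -2, 2, 1, 0, -2, -1⟩, 37, 67),
  (⟨1, -1, 0, -2, -1, 2, -2, 1⟩, 45, 30),
  (⟨1, -1, 0, 2, -1, 2, -2, 1⟩, 43, 67),
  (⟨1, -1, 2, -2, 1, 0, -2, -1⟩, 43, 30),
  (⟨1, -1, 2, 0, 3, 0, 0, 1⟩, 32, 1),
  (⟨1, 0, -2, -1, -1, 1, -2, 2⟩, 47, 44),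
  (⟨1, 0, -2, -1, -1, 1, 2, -2⟩, 36, 73),
  (⟨1, 0, -2, 1, 1, -3, 0, 0⟩, 47, 68),
  (⟨1, 0, 0, 1, 3, -1, 0, -2⟩, 36, 54),
  (⟨1, 0, 0, 1, 3, -1, 0, 2⟩, 50, 46),
  (⟨1, 0, 2, -3, 1, 1, 0, 0⟩, 50, 50),
  (⟨1, 0, 2, 1, -3, 1, 0, 0⟩, 31, 4),
  (⟨1, 1, -2, 0, 1, -2, -2, 1⟩, 45, 38),
  (⟨1, 1, -2, 2, -1, 2, 0, -1⟩, 45, 67),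
  (⟨1, 1, 0, 0, -1, 0, -2, 3⟩, 32, 12),
  (⟨1, 1, 0, 0, 3, 0, 2, -1⟩, 37, 17),
  (⟨1, 1, 2, -2, -1, 2, 0, -1⟩, 32, 14),
  (⟨1, 1, 2, 0, 1, -2, -2, 1⟩, 37, 38),
  (⟨2, -3, -1, 0, 0, 0, 1, 1⟩, 49, 27),
  (⟨2, -2, -1, -1, 0, 1, -1, 2⟩, 33, 86),
  (⟨2, -2, -1, 1, 2, 1, 1, 0⟩, 46, 83),
  (⟨2, -2, 1, -1, -2, -1, -1, 0⟩, 38, 28),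
  (⟨2, -2, 1, 1, 0, -1, 1, -2⟩, 44, 28),
  (⟨2, -1, -3, 0, 0, 0, -1, -1⟩, 35, 74),
  (⟨2, -1, -1, 2, 0, -2, 1, -1⟩, 48, 68),
  (⟨2, -1, -1, 2, 0, 2, 1, -1⟩, 34, 66),
  (⟨2, -1, 1, -2, -2, 0, 1, 1⟩, 35, 27),
  (⟨2, -1, 1, -2, 2, 0, 1, 1⟩, 34, 29),
  (⟨2, -1, 1, 0, 0, 0, -1, 3⟩, 48, 25),
  (⟨2, 0, -1, -1, 2, -1, 1, -2⟩, 38, 62),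
  (⟨2, 0, -1, 1, 0, -1, 3, 0⟩, 33, 19),
  (⟨2, 0, 1, -1, 0, 1, -3, 0⟩, 46, 2),
  (⟨2, 0, 1, 1, -2, 1, -1, 2⟩, 44, 57),
  (⟨2, 1, -1, 0, 0, 0, -3, 1⟩, 34, 18),
  (⟨2, 1, 1, 0, -2, 2, 1, -1⟩, 48, 8),
  (⟨2, 1, 1, 0, 2, -2, 1, -1⟩, 35, 11),
  (⟨3, -1, 0, -2, -1, 0, 0, -1⟩, 37, 30),
  (⟨3, -1, 0, 0, 1, 0, 2, 1⟩, 45, 17),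
  (⟨3, -1, 0, 2, -1, 0, 0, -1⟩, 32, 16),
  (⟨3, 0, 0, 1, -1, 1, -2, 0⟩, 50, 0),
  (⟨3, 0, 0, 1, -1, 1, 2, 0⟩, 47, 8),
  (⟨3, 0, 2, -1, -1, -1, 0, 0⟩, 36, 0)]

def bucket121 : List (SQ × ℕ × ℕ) := [
  (⟨-3, 0, 0, 1, 1, -1, -2, 0⟩, 32, 100),
  (⟨-3, 0, 0, 1, 1, -1, 2, 0⟩, 43, 99),
  (⟨-3, 0, 2, -1, 1, 1, 0, 0⟩, 37, 99),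
  (⟨-3, 1, 0, -2, 1, 0, 0, -1⟩, 36, 104),
  (⟨-3, 1, 0, 0, -1, 0, 2, 1⟩, 31, 101),
  (⟨-3, 1, 0, 2, 1, 0, 0, -1⟩, 50, 90),
  (⟨-2, -1, -1, 0, 0, 0, -3, 1⟩, 44, 116),
  (⟨-2, -1, 1, 0, -2, 2, 1, -1⟩, 38, 106),
  (⟨-2, -1, 1, 0, 2, -2, 1, -1⟩, 46, 109),
  (⟨-2, 0, -1, -1, -2, 1, 1, -2⟩, 35, 112),
  (⟨-2, 0, -1, 1, 0, 1, 3, 0⟩, 49, 59),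
  (⟨-2, 0, 1, -1, 0, -1, -3, 0⟩, 48, 53),
  (⟨-2, 0, 1, 1, 2, -1, -1, 2⟩, 34, 46),
  (⟨-2, 1, -3, 0, 0, 0, -1, -1⟩, 38, 116),
  (⟨-2, 1, -1, 2, 0, -2, 1, -1⟩, 44, 109),
  (⟨-2, 1, -1, 2, 0, 2, 1, -1⟩, 46, 106),
  (⟨-2, 1, 1, -2, -2, 0, 1, 1⟩, 44, 103),
  (⟨-2, 1, 1, -2, 2, 0, 1, 1⟩, 38, 103),
  (⟨-2, 1, 1, 0, 0, 0, -1, 3⟩, 46, 103),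
  (⟨-2, 2, -1, -1, 0, -1, -1, 2⟩, 49, 98),
  (⟨-2, 2, -1, 1, -2, -1, 1, 0⟩, 48, 93),
  (⟨-2, 2, 1, -1, 2, 1, -1, 0⟩, 35, 35),
  (⟨-2, 2, 1, 1, 0, 1, 1, -2⟩, 34, 87),
  (⟨-2, 3, -1, 0, 0, 0, 1, 1⟩, 33, 95),
  (⟨-1, -1, -2, 0, -1, 2, -2, 1⟩, 31, 108),
  (⟨-1, -1, -2, 2, 1, -2, 0, -1⟩, 31, 114),
  (⟨-1, -1, 0, 0, -3, 0, 2, -1⟩, 36, 61),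
  (⟨-1, -1, 0, 0, 1, 0, -2, 3⟩, 50, 76),
  (⟨-1, -1, 2, -2, 1, -2, 0, -1⟩, 50, 104),
  (⟨-1, -1, 2, 0, -1, 2, -2, 1⟩, 36, 76),
  (⟨-1, 0, -2, -1, 1, -1, -2, 2⟩, 43, 70),
  (⟨-1, 0, -2, -1, 1, -1, 2, -2⟩, 37, 85),
  (⟨-1, 0, -2, 1, -1, 3, 0, 0⟩, 43, 97),
  (⟨-1, 0, 0, 1, -3, 1, 0, -2⟩, 37, 49),
  (⟨-1, 0, 0, 1, -3, 1, 0, 2⟩, 32, 57),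
  (⟨-1, 0, 2, -3, -1, -1, 0, 0⟩, 32, 78),
  (⟨-1, 0, 2, 1, 3, -1, 0, 0⟩, 45, 99),
  (⟨-1, 1, -2, 0, -3, 0, 0, 1⟩, 47, 93),
  (⟨-1, 1, -2, 2, -1, 0, -2, -1⟩, 36, 90),
  (⟨-1, 1, 0, -2, 1, -2, -2, 1⟩, 31, 111),
  (⟨-1, 1, 0, 2, 1, -2, -2, 1⟩, 47, 105),
  (⟨-1, 1, 2, -2, -1, 0, -2, -1⟩, 47, 53),
  (⟨-1, 1, 2, 0, -3, 0, 0, 1⟩, 50, 61),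
  (⟨-1, 2, -2, 1, 1, 1, -2, 0⟩, 37, 97),
  (⟨-1, 2, -2, 1, 1, 1, 2, 0⟩, 45, 97),
  (⟨-1, 2, 0, 1, -1, -1, -2, 2⟩, 45, 34),
  (⟨-1, 2, 0, 1, -1, -1, 2, -2⟩, 32, 94),
  (⟨-1, 2, 2, -1, -1, 1, 0, -2⟩, 45, 49),
  (⟨-1, 2, 2, -1, -1, 1, 0, 2⟩, 43, 34),
  (⟨-1, 3, 0, 0, 1, 0, 2, -1⟩, 47, 33),
  (⟨0, -2, -3, 1, 0, -1, -1, 0⟩, 49, 84),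
  (⟨0, -2, -1, 1, -2, 1, -1, 2⟩, 48, 86),
  (⟨0, -2, 1, -1, 2, -1, 1, -2⟩, 34, 75),
  (⟨0, -2, 3, -1, 0, 1, 1, 0⟩, 35, 21),
  (⟨0, -1, -3, 0, -2, 0, -1, 1⟩, 33, 118),
  (⟨0, -1, -3, 0, 2, 0, -1, 1⟩, 46, 116),
  (⟨0, -1, -1, 0, 0, -2, 3, -1⟩, 38, 109),
  (⟨0, -1, -1, 0, 0, 2, 3, -1⟩, 33, 81),
  (⟨0, -1, -1, 2, -2, 2, 1, 1⟩, 44, 106),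
  (⟨0, -1, -1, 2, 2, -2, 1, 1⟩, 33, 68),
  (⟨0, 0, -3, 1, 2, 1, 1, 0⟩, 34, 115),
  (⟨0, 0, -1, -1, -2, 3, -1, 0⟩, 49, 112),
  (⟨0, 0, -1, -1, 2, -1, 3, 0⟩, 35, 59),
  (⟨0, 0, -1, 3, 2, -1, -1, 0⟩, 48, 105),
  (⟨0, 0, 1, -3, -2, 1, 1, 0⟩, 48, 14),
  (⟨0, 0, 1, 1, -2, 1, -3, 0⟩, 35, 60),
  (⟨0, 0, 1, 1, 2, -3, 1, 0⟩, 49, 7),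
  (⟨0, 0, 3, -1, -2, -1, -1, 0⟩, 34, 4),
  (⟨0, 1, 1, -2, -2, 2, -1, -1⟩, 33, 51),
  (⟨0, 1, 1, -2, 2, -2, -1, -1⟩, 44, 13),
  (⟨0, 1, 1, 0, 0, -2, -3, 1⟩, 33, 38),
  (⟨0, 1, 1, 0, 0, 2, -3, 1⟩, 38, 10),
  (⟨0, 1, 3, 0, -2, 0, 1, -1⟩, 46, 3),
  (⟨0, 1, 3, 0, 2, 0, 1, -1⟩, 33, 1),
  (⟨0, 2, -3, 1, 0, -1, -1, 0⟩, 35, 98),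
  (⟨0, 2, -1, 1, -2, 1, -1, 2⟩, 34, 44),
  (⟨0, 2, 1, -1, 2, -1, 1, -2⟩, 48, 33),
  (⟨0, 2, 3, -1, 0, 1, 1, 0⟩, 49, 35),
  (⟨1, -3, 0, 0, -1, 0, -2, 1⟩, 47, 86),
  (⟨1, -2, -2, 1, 1, -1, 0, -2⟩, 43, 85),
  (⟨1, -2, -2, 1, 1, -1, 0, 2⟩, 45, 70),
  (⟨1, -2, 0, -1, 1, 1, -2, 2⟩, 32, 25),
  (⟨1, -2, 0, -1, 1, 1, 2, -2⟩, 45, 85),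
  (⟨1, -2, 2, -1, -1, -1, -2, 0⟩, 45, 22),
  (⟨1, -2, 2, -1, -1, -1, 2, 0⟩, 37, 22),
  (⟨1, -1, -2, 0, 3, 0, 0, -1⟩, 50, 58),
  (⟨1, -1, -2, 2, 1, 0, 2, 1⟩, 47, 66),
  (⟨1, -1, 0, -2, -1, 2, 2, -1⟩, 47, 14),
  (⟨1, -1, 0, 2, -1, 2, 2, -1⟩, 31, 8),
  (⟨1, -1, 2, -2, 1, 0, 2, 1⟩, 36, 29),
  (⟨1, -1, 2, 0, 3, 0, 0, -1⟩, 47, 26),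
  (⟨1, 0, -2, -1, -3, 1, 0, 0⟩, 45, 20),
  (⟨1, 0, -2, 3, 1, 1, 0, 0⟩, 32, 41),
  (⟨1, 0, 0, -1, 3, -1, 0, -2⟩, 32, 62),
  (⟨1, 0, 0, -1, 3, -1, 0, 2⟩, 37, 70),
  (⟨1, 0, 2, -1, 1, -3, 0, 0⟩, 43, 22),
  (⟨1, 0, 2, 1, -1, 1, -2, 2⟩, 37, 34),
  (⟨1, 0, 2, 1, -1, 1, 2, -2⟩, 43, 49),
  (⟨1, 1, -2, 0, 1, -2, 2, -1⟩, 36, 43),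
  (⟨1, 1, -2, 2, -1, 2, 0, 1⟩, 50, 15),
  (⟨1, 1, 0, 0, -1, 0, 2, -3⟩, 50, 43),
  (⟨1, 1, 0, 0, 3, 0, -2, 1⟩, 36, 58),
  (⟨1, 1, 2, -2, -1, 2, 0, 1⟩, 31, 5),
  (⟨1, 1, 2, 0, 1, -2, 2, -1⟩, 31, 11),
  (⟨2, -3, 1, 0, 0, 0, -1, -1⟩, 33, 24),
  (⟨2, -2, -1, -1, 0, -1, -1, 2⟩, 34, 32),
  (⟨2, -2, -1, 1, -2, -1, 1, 0⟩, 35, 84),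
  (⟨2, -2, 1, -1, 2, 1, -1, 0⟩, 48, 26),
  (⟨2, -2, 1, 1, 0, 1, 1, -2⟩, 49, 21),
  (⟨2, -1, -1, 0, 0, 0, 1, -3⟩, 46, 16),
  (⟨2, -1, -1, 2, -2, 0, -1, -1⟩, 38, 16),
  (⟨2, -1, -1, 2, 2, 0, -1, -1⟩, 44, 16),
  (⟨2, -1, 1, -2, 0, -2, -1, 1⟩, 46, 13),
  (⟨2, -1, 1, -2, 0, 2, -1, 1⟩, 44, 10),
  (⟨2, -1, 3, 0, 0, 0, 1, 1⟩, 38, 3),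
  (⟨2, 0, -1, -1, -2, 1, 1, -2⟩, 34, 73),
  (⟨2, 0, -1, 1, 0, 1, 3, 0⟩, 48, 66),
  (⟨2, 0, 1, -1, 0, -1, -3, 0⟩, 49, 60),
  (⟨2, 0, 1, 1, 2, -1, -1, 2⟩, 35, 7),
  (⟨2, 1, -1, 0, -2, 2, -1, 1⟩, 46, 10),
  (⟨2, 1, -1, 0, 2, -2, -1, 1⟩, 38, 13),
  (⟨2, 1, 1, 0, 0, 0, 3, -1⟩, 44, 3),
  (⟨3, -1, 0, -2, -1, 0, 0, 1⟩, 50, 29),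
  (⟨3, -1, 0, 0, 1, 0, -2, -1⟩, 31, 18),
  (⟨3, -1, 0, 2, -1, 0, 0, 1⟩, 36, 15),
  (⟨3, 0, -2, 1, -1, -1, 0, 0⟩, 37, 20),
  (⟨3, 0, 0, -1, -1, 1, -2, 0⟩, 43, 20),
  (⟨3, 0, 0, -1, -1, 1, 2, 0⟩, 32, 19)]

def bucket122 : List (SQ × ℕ × ℕ) := [
  (⟨-3, 0, -2, 0, 0, 1, -1, 1⟩, 33, 119),
  (⟨-3, 0, 0, 0, 2, -1, -1, -1⟩, 38, 100),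
  (⟨-3, 0, 2, 0, 0, 1, -1, 1⟩, 44, 100),
  (⟨-3, 1, -2, -1, 0, 0, 1, 0⟩, 47, 95),
  (⟨-3, 1, 0, 1, 0, -2, -1, 0⟩, 36, 88),
  (⟨-3, 1, 0, 1, 0, 2, -1, 0⟩, 31, 87),
  (⟨-2, -1, -1, 1, 1, 0, -2, 2⟩, 49, 113),
  (⟨-2, -1, -1, 1, 1, 0, 2, -2⟩, 35, 107),
  (⟨-2, -1, 3, -1, -1, 0, 0, 0⟩, 48, 78),
  (⟨-2, 0, -3, 0, -1, 1, 0, -1⟩, 45, 118),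
  (⟨-2, 0, -1, 2, -1, -1, 2, -1⟩, 37, 56),
  (⟨-2, 0, 1, -2, 1, 1, -2, 1⟩, 43, 63),
  (⟨-2, 0, 3, 0, 1, -1, 0, 1⟩, 32, 45),
  (⟨-2, 1, -1, -1, 1, -2, -2, 0⟩, 35, 111),
  (⟨-2, 1, -1, -1, 1, -2, 2, 0⟩, 48, 95),
  (⟨-2, 1, -1, 1, -1, 2, 0, -2⟩, 49, 107),
  (⟨-2, 1, -1, 1, -1, 2, 0, 2⟩, 48, 108),
  (⟨-2, 1, 1, -3, 1, 0, 0, 0⟩, 49, 111),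
  (⟨-2, 1, 1, 1, -3, 0, 0, 0⟩, 35, 102),
  (⟨-2, 2, -1, 0, -1, 1, 2, 1⟩, 32, 93),
  (⟨-2, 2, -1, 2, 1, 1, 0, -1⟩, 43, 92),
  (⟨-2, 2, 1, -2, -1, -1, 0, 1⟩, 45, 36),
  (⟨-2, 2, 1, 0, 1, -1, -2, -1⟩, 37, 92),
  (⟨-2, 3, -1, -1, -1, 0, 0, 0⟩, 34, 96),
  (⟨-1, -1, -2, 1, 0, 0, 3, 0⟩, 36, 117),
  (⟨-1, -1, 0, 1, -2, 2, -1, 2⟩, 47, 108),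
  (⟨-1, -1, 0, 1, 2, -2, -1, 2⟩, 31, 105),
  (⟨-1, -1, 2, -3, 0, 0, -1, 0⟩, 31, 77),
  (⟨-1, -1, 2, -1, -2, 0, 1, -2⟩, 47, 78),
  (⟨-1, -1, 2, -1, 2, 0, 1, -2⟩, 36, 75),
  (⟨-1, 0, -2, 2, -2, -1, -1, 1⟩, 38, 69),
  (⟨-1, 0, 0, -2, 0, 1, 3, -1⟩, 44, 50),
  (⟨-1, 0, 0, 0, -2, 1, 1, -3⟩, 33, 49),
  (⟨-1, 0, 0, 0, 2, -3, 1, 1⟩, 44, 79),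
  (⟨-1, 0, 0, 0, 2, 1, -3, 1⟩, 46, 100),
  (⟨-1, 0, 0, 2, 0, 1, 3, -1⟩, 38, 89),
  (⟨-1, 0, 2, -2, -2, -1, -1, 1⟩, 33, 53),
  (⟨-1, 1, 0, -1, -2, 0, 3, 0⟩, 50, 117),
  (⟨-1, 1, 0, -1, 2, 0, 3, 0⟩, 31, 59),
  (⟨-1, 1, 2, -1, 0, -2, -1, 2⟩, 47, 46),
  (⟨-1, 1, 2, -1, 0, 2, -1, 2⟩, 50, 48),
  (⟨-1, 1, 2, 1, -2, 2, 1, 0⟩, 36, 48),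
  (⟨-1, 1, 2, 1, 2, -2, 1, 0⟩, 50, 88),
  (⟨-1, 2, -2, 0, -2, 1, -1, -1⟩, 46, 40),
  (⟨-1, 2, -2, 2, 0, 1, 1, 1⟩, 44, 89),
  (⟨-1, 2, 0, -2, 2, -1, 1, -1⟩, 33, 62),
  (⟨-1, 2, 0, 2, 2, -1, 1, -1⟩, 46, 89),
  (⟨-1, 2, 2, -2, 0, 1, 1, 1⟩, 46, 50),
  (⟨-1, 2, 2, 0, -2, 1, -1, -1⟩, 38, 40),
  (⟨-1, 3, -2, 1, 0, 0, -1, 0⟩, 50, 44),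
  (⟨0, -2, -1, 0, 3, -1, 0, -1⟩, 37, 83),
  (⟨0, -2, -1, 2, 1, -1, -2, 1⟩, 43, 83),
  (⟨0, -2, 1, -2, -1, 1, 2, -1⟩, 32, 81),
  (⟨0, -2, 1, 0, -3, 1, 0, 1⟩, 45, 27),
  (⟨0, -1, -3, 1, -1, 0, 0, -2⟩, 34, 114),
  (⟨0, -1, -3, 1, -1, 0, 0, 2⟩, 35, 113),
  (⟨0, -1, -1, -1, -1, 2, -2, 2⟩, 34, 86),
  (⟨0, -1, -1, -1, -1, 2, 2, -2⟩, 48, 73),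
  (⟨0, -1, 1, -1, -3, 0, -2, 0⟩, 49, 102),
  (⟨0, -1, 1, -1, -3, 0, 2, 0⟩, 34, 61),
  (⟨0, 0, -3, 0, -1, -1, -2, 1⟩, 37, 118),
  (⟨0, 0, -1, 0, -3, 1, -2, -1⟩, 43, 118),
  (⟨0, 0, -1, 0, 1, -3, 2, -1⟩, 32, 109),
  (⟨0, 0, -1, 0, 1, 1, -2, 3⟩, 45, 63),
  (⟨0, 0, 1, 0, -1, -1, 2, -3⟩, 45, 56),
  (⟨0, 0, 1, 0, -1, 3, -2, 1⟩, 32, 10),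
  (⟨0, 0, 1, 0, 3, -1, 2, 1⟩, 43, 1),
  (⟨0, 0, 3, 0, 1, 1, 2, -1⟩, 37, 1),
  (⟨0, 1, -1, 1, 3, 0, -2, 0⟩, 34, 58),
  (⟨0, 1, -1, 1, 3, 0, 2, 0⟩, 49, 17),
  (⟨0, 1, 1, 1, 1, -2, -2, 2⟩, 48, 46),
  (⟨0, 1, 1, 1, 1, -2, 2, -2⟩, 34, 33),
  (⟨0, 1, 3, -1, 1, 0, 0, -2⟩, 35, 6),
  (⟨0, 1, 3, -1, 1, 0, 0, 2⟩, 34, 5),
  (⟨0, 2, -1, 0, 3, -1, 0, -1⟩, 45, 92),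
  (⟨0, 2, -1, 2, 1, -1, -2, 1⟩, 32, 38),
  (⟨0, 2, 1, -2, -1, 1, 2, -1⟩, 43, 36),
  (⟨0, 2, 1, 0, -3, 1, 0, 1⟩, 37, 36),
  (⟨1, -3, 2, -1, 0, 0, 1, 0⟩, 50, 75),
  (⟨1, -2, -2, 0, 2, -1, 1, 1⟩, 38, 79),
  (⟨1, -2, -2, 2, 0, -1, -1, -1⟩, 46, 69),
  (⟨1, -2, 0, -2, -2, 1, -1, 1⟩, 46, 30),
  (⟨1, -2, 0, 2, -2, 1, -1, 1⟩, 33, 57),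
  (⟨1, -2, 2, -2, 0, -1, -1, -1⟩, 44, 30),
  (⟨1, -2, 2, 0, 2, -1, 1, 1⟩, 46, 79),
  (⟨1, -1, -2, -1, -2, 2, -1, 0⟩, 50, 31),
  (⟨1, -1, -2, -1, 2, -2, -1, 0⟩, 36, 71),
  (⟨1, -1, -2, 1, 0, -2, 1, -2⟩, 50, 71),
  (⟨1, -1, -2, 1, 0, 2, 1, -2⟩, 47, 73),
  (⟨1, -1, 0, 1, -2, 0, -3, 0⟩, 31, 60),
  (⟨1, -1, 0, 1, 2, 0, -3, 0⟩, 50, 2),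
  (⟨1, 0, -2, 2, 2, 1, 1, -1⟩, 33, 66),
  (⟨1, 0, 0, -2, 0, -1, -3, 1⟩, 38, 30),
  (⟨1, 0, 0, 0, -2, -1, 3, -1⟩, 46, 19),
  (⟨1, 0, 0, 0, -2, 3, -1, -1⟩, 44, 40),
  (⟨1, 0, 0, 0, 2, -1, -1, 3⟩, 33, 70),
  (⟨1, 0, 0, 2, 0, -1, -3, 1⟩, 44, 69),
  (⟨1, 0, 2, -2, 2, 1, 1, -1⟩, 38, 50),
  (⟨1, 1, -2, 1, -2, 0, -1, 2⟩, 36, 44),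
  (⟨1, 1, -2, 1, 2, 0, -1, 2⟩, 47, 41),
  (⟨1, 1, -2, 3, 0, 0, 1, 0⟩, 31, 42),
  (⟨1, 1, 0, -1, -2, 2, 1, -2⟩, 31, 14),
  (⟨1, 1, 0, -1, 2, -2, 1, -2⟩, 47, 11),
  (⟨1, 1, 2, -1, 0, 0, -3, 0⟩, 36, 2),
  (⟨2, -3, 1, 1, 1, 0, 0, 0⟩, 34, 23),
  (⟨2, -2, -1, 0, -1, 1, 2, 1⟩, 37, 27),
  (⟨2, -2, -1, 2, 1, 1, 0, -1⟩, 45, 83),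
  (⟨2, -2, 1, -2, -1, -1, 0, 1⟩, 43, 27),
  (⟨2, -2, 1, 0, 1, -1, -2, -1⟩, 32, 26),
  (⟨2, -1, -1, -1, 3, 0, 0, 0⟩, 35, 17),
  (⟨2, -1, -1, 3, -1, 0, 0, 0⟩, 49, 8),
  (⟨2, -1, 1, -1, 1, -2, 0, -2⟩, 48, 11),
  (⟨2, -1, 1, -1, 1, -2, 0, 2⟩, 49, 12),
  (⟨2, -1, 1, 1, -1, 2, -2, 0⟩, 48, 24),
  (⟨2, -1, 1, 1, -1, 2, 2, 0⟩, 35, 8),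
  (⟨2, 0, -3, 0, -1, 1, 0, -1⟩, 32, 74),
  (⟨2, 0, -1, 2, -1, -1, 2, -1⟩, 43, 56),
  (⟨2, 0, 1, -2, 1, 1, -2, 1⟩, 37, 63),
  (⟨2, 0, 3, 0, 1, -1, 0, 1⟩, 45, 1),
  (⟨2, 1, -3, 1, 1, 0, 0, 0⟩, 48, 41),
  (⟨2, 1, 1, -1, -1, 0, -2, 2⟩, 35, 12),
  (⟨2, 1, 1, -1, -1, 0, 2, -2⟩, 49, 6),
  (⟨3, -1, 0, -1, 0, -2, 1, 0⟩, 31, 32),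
  (⟨3, -1, 0, -1, 0, 2, 1, 0⟩, 36, 31),
  (⟨3, -1, 2, 1, 0, 0, -1, 0⟩, 47, 24),
  (⟨3, 0, -2, 0, 0, -1, 1, -1⟩, 44, 19),
  (⟨3, 0, 0, 0, -2, 1, 1, 1⟩, 38, 19),
  (⟨3, 0, 2, 0, 0, -1, 1, -1⟩, 33, 0)]

def bucketTable : List ((ℤ × ℤ × ℤ) × List (SQ × ℕ × ℕ)) := [
  ((0, 0, 0), bucket0),
  ((4, 0, 1), bucket1),
  ((4, 0, 2), bucket2),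
  ((4, 0, 3), bucket3),
  ((4, 0, 4), bucket4),
  ((4, 0, 5), bucket5),
  ((4, 0, 6), bucket6),
  ((4, 0, 7), bucket7),
  ((4, 0, 8), bucket8),
  ((4, 0, 9), bucket9),
  ((4, 0, 10), bucket10),
  ((4, 0, 11), bucket11),
  ((4, 0, 12), bucket12),
  ((4, 0, 13), bucket13),
  ((4, 0, 14), bucket14),
  ((4, 0, 15), bucket15),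
  ((4, 4, 1), bucket16),
  ((4, 4, 2), bucket17),
  ((4, 4, 3), bucket18),
  ((4, 4, 4), bucket19),
  ((4, 4, 5), bucket20),
  ((4, 4, 6), bucket21),
  ((4, 4, 7), bucket22),
  ((4, 4, 8), bucket23),
  ((4, 4, 9), bucket24),
  ((4, 4, 10), bucket25),
  ((4, 4, 11), bucket26),
  ((4, 4, 12), bucket27),
  ((4, 4, 13), bucket28),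
  ((4, 4, 14), bucket29),
  ((4, 4, 15), bucket30),
  ((8, -4, 1), bucket31),
  ((8, -4, 2), bucket32),
  ((8, -4, 3), bucket33),
  ((8, -4, 4), bucket34),
  ((8, -4, 5), bucket35),
  ((8, -4, 6), bucket36),
  ((8, -4, 7), bucket37),
  ((8, -4, 8), bucket38),
  ((8, -4, 9), bucket39),
  ((8, -4, 10), bucket40),
  ((8, -4, 11), bucket41),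
  ((8, -4, 12), bucket42),
  ((8, -4, 13), bucket43),
  ((8, -4, 14), bucket44),
  ((8, -4, 15), bucket45),
  ((8, 0, 0), bucket46),
  ((8, 0, 1), bucket47),
  ((8, 0, 2), bucket48),
  ((8, 0, 3), bucket49),
  ((8, 0, 4), bucket50),
  ((8, 0, 5), bucket51),
  ((8, 0, 6), bucket52),
  ((8, 0, 7), bucket53),
  ((8, 0, 8), bucket54),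
  ((8, 0, 9), bucket55),
  ((8, 0, 10), bucket56),
  ((8, 0, 11), bucket57),
  ((8, 0, 12), bucket58),
  ((8, 0, 13), bucket59),
  ((8, 0, 14), bucket60),
  ((8, 0, 15), bucket61),
  ((8, 4, 1), bucket62),
  ((8, 4, 2), bucket63),
  ((8, 4, 3), bucket64),
  ((8, 4, 4), bucket65),
  ((8, 4, 5), bucket66),
  ((8, 4, 6), bucket67),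
  ((8, 4, 7), bucket68),
  ((8, 4, 8), bucket69),
  ((8, 4, 9), bucket70),
  ((8, 4, 10), bucket71),
  ((8, 4, 11), bucket72),
  ((8, 4, 12), bucket73),
  ((8, 4, 13), bucket74),
  ((8, 4, 14), bucket75),
  ((8, 4, 15), bucket76),
  ((12, -4, 1), bucket77),
  ((12, -4, 2), bucket78),
  ((12, -4, 3), bucket79),
  ((12, -4, 4), bucket80),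
  ((12, -4, 5), bucket81),
  ((12, -4, 6), bucket82),
  ((12, -4, 7), bucket83),
  ((12, -4, 8), bucket84),
  ((12, -4, 9), bucket85),
  ((12, -4, 10), bucket86),
  ((12, -4, 11), bucket87),
  ((12, -4, 12), bucket88),
  ((12, -4, 13), bucket89),
  ((12, -4, 14), bucket90),
  ((12, -4, 15), bucket91),
  ((12, 0, 1), bucket92),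
  ((12, 0, 2), bucket93),
  ((12, 0, 3), bucket94),
  ((12, 0, 4), bucket95),
  ((12, 0, 5), bucket96),
  ((12, 0, 6), bucket97),
  ((12, 0, 7), bucket98),
  ((12, 0, 8), bucket99),
  ((12, 0, 9), bucket100),
  ((12, 0, 10), bucket101),
  ((12, 0, 11), bucket102),
  ((12, 0, 12), bucket103),
  ((12, 0, 13), bucket104),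
  ((12, 0, 14), bucket105),
  ((12, 0, 15), bucket106),
  ((16, 0, 0), bucket107),
  ((16, 0, 1), bucket108),
  ((16, 0, 2), bucket109),
  ((16, 0, 3), bucket110),
  ((16, 0, 4), bucket111),
  ((16, 0, 5), bucket112),
  ((16, 0, 6), bucket113),
  ((16, 0, 7), bucket114),
  ((16, 0, 8), bucket115),
  ((16, 0, 9), bucket116),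
  ((16, 0, 10), bucket117),
  ((16, 0, 11), bucket118),
  ((16, 0, 12), bucket119),
  ((16, 0, 13), bucket120),
  ((16, 0, 14), bucket121),
  ((16, 0, 15), bucket122)]

def lineList : List (SQ × SQ × SQ) := [
  (⟨-4, 0, 0, 0, 0, 0, 0, 0⟩, ⟨0, 0, 0, 0, 0, 0, 0, 0⟩, ⟨0, 0, 0, 0, 0, 0, 0, 0⟩),
  (⟨-2, 0, -2, 0, 0, 0, 0, 0⟩, ⟨-2, 0, -2, 0, 0, 0, 0, 0⟩, ⟨0, 0, 0, 0, 0, 0, 0, 0⟩),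
  (⟨-2, 0, -2, 0, 0, 0, 0, 0⟩, ⟨-2, 0, 2, 0, 0, 0, 0, 0⟩, ⟨0, 0, 0, 0, 0, 0, 0, 0⟩),
  (⟨-2, 0, -2, 0, 0, 0, 0, 0⟩, ⟨2, 0, -2, 0, 0, 0, 0, 0⟩, ⟨0, 0, 0, 0, 0, 0, 0, 0⟩),
  (⟨-2, 0, -2, 0, 0, 0, 0, 0⟩, ⟨2, 0, 2, 0, 0, 0, 0, 0⟩, ⟨0, 0, 0, 0, 0, 0, 0, 0⟩),
  (⟨-2, 0, -2, 0, 0, 0, 0, 0⟩, ⟨0, 0, 0, 0, -2, 0, -2, 0⟩, ⟨0, 0, 0, 0, 0, 0, 0, 0⟩),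
  (⟨-2, 0, -2, 0, 0, 0, 0, 0⟩, ⟨0, 0, 0, 0, -2, 0, 2, 0⟩, ⟨0, 0, 0, 0, 0, 0, 0, 0⟩),
  (⟨-2, 0, -2, 0, 0, 0, 0, 0⟩, ⟨0, 0, 0, 0, 2, 0, -2, 0⟩, ⟨0, 0, 0, 0, 0, 0, 0, 0⟩),
  (⟨-2, 0, -2, 0, 0, 0, 0, 0⟩, ⟨0, 0, 0, 0, 2, 0, 2, 0⟩, ⟨0, 0, 0, 0, 0, 0, 0, 0⟩),
  (⟨-2, 0, -1, 0, -1, 1, 0, -1⟩, ⟨-1, 0, 0, 0, 0, -1, 1, -1⟩, ⟨-1, 0, 0, 0, 0, -1, 1, -1⟩),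
  (⟨-2, 0, -1, 0, -1, 1, 0, -1⟩, ⟨-1, 0, 0, 0, 0, -1, 1, -1⟩, ⟨1, 0, 0, 0, 0, 1, -1, 1⟩),
  (⟨-2, 0, -1, 0, -1, 1, 0, -1⟩, ⟨0, 0, -1, 0, 1, -1, 0, 1⟩, ⟨0, 0, -1, 0, 1, -1, 0, 1⟩),
  (⟨-2, 0, -1, 0, -1, 1, 0, -1⟩, ⟨0, 0, -1, 0, 1, -1, 0, 1⟩, ⟨0, 0, 1, 0, -1, 1, 0, -1⟩),
  (⟨-2, 0, -1, 0, -1, 1, 0, -1⟩, ⟨0, 0, 1, 0, -1, 1, 0, -1⟩, ⟨0, 0, -1, 0, 1, -1, 0, 1⟩),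
  (⟨-2, 0, -1, 0, -1, 1, 0, -1⟩, ⟨0, 0, 1, 0, -1, 1, 0, -1⟩, ⟨0, 0, 1, 0, -1, 1, 0, -1⟩),
  (⟨-2, 0, -1, 0, -1, 1, 0, -1⟩, ⟨1, 0, 0, 0, 0, 1, -1, 1⟩, ⟨-1, 0, 0, 0, 0, -1, 1, -1⟩),
  (⟨-2, 0, -1, 0, -1, 1, 0, -1⟩, ⟨1, 0, 0, 0, 0, 1, -1, 1⟩, ⟨1, 0, 0, 0, 0, 1, -1, 1⟩),
  (⟨-2, 0, -1, 0, -1, 1, 0, -1⟩, ⟨-1, 1, 0, -1, 0, 0, -1, 0⟩, ⟨-1, 1, 0, -1, 0, 0, -1, 0⟩),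
  (⟨-2, 0, -1, 0, -1, 1, 0, -1⟩, ⟨-1, 1, 0, -1, 0, 0, -1, 0⟩, ⟨1, -1, 0, 1, 0, 0, 1, 0⟩),
  (⟨-2, 0, -1, 0, -1, 1, 0, -1⟩, ⟨0, -1, 1, -1, 1, 0, 0, 0⟩, ⟨0, -1, 1, -1, 1, 0, 0, 0⟩),
  (⟨-2, 0, -1, 0, -1, 1, 0, -1⟩, ⟨0, -1, 1, -1, 1, 0, 0, 0⟩, ⟨0, 1, -1, 1, -1, 0, 0, 0⟩),
  (⟨-2, 0, -1, 0, -1, 1, 0, -1⟩, ⟨0, 1, -1, 1, -1, 0, 0, 0⟩, ⟨0, -1, 1, -1, 1, 0, 0, 0⟩),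
  (⟨-2, 0, -1, 0, -1, 1, 0, -1⟩, ⟨0, 1, -1, 1, -1, 0, 0, 0⟩, ⟨0, 1, -1, 1, -1, 0, 0, 0⟩),
  (⟨-2, 0, -1, 0, -1, 1, 0, -1⟩, ⟨1, -1, 0, 1, 0, 0, 1, 0⟩, ⟨-1, 1, 0, -1, 0, 0, -1, 0⟩),
  (⟨-2, 0, -1, 0, -1, 1, 0, -1⟩, ⟨1, -1, 0, 1, 0, 0, 1, 0⟩, ⟨1, -1, 0, 1, 0, 0, 1, 0⟩),
  (⟨-2, 0, -1, 0, -1, 1, 0, 1⟩, ⟨-1, 0, 0, 0, 0, 1, 1, -1⟩, ⟨-1, 1, 0, 1, 0, 0, -1, 0⟩),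
  (⟨-2, 0, -1, 0, -1, 1, 0, 1⟩, ⟨-1, 0, 0, 0, 0, 1, 1, -1⟩, ⟨1, -1, 0, -1, 0, 0, 1, 0⟩),
  (⟨-2, 0, -1, 0, -1, 1, 0, 1⟩, ⟨0, 0, -1, 0, 1, -1, 0, -1⟩, ⟨0, -1, -1, 1, -1, 0, 0, 0⟩),
  (⟨-2, 0, -1, 0, -1, 1, 0, 1⟩, ⟨0, 0, -1, 0, 1, -1, 0, -1⟩, ⟨0, 1, 1, -1, 1, 0, 0, 0⟩),
  (⟨-2, 0, -1, 0, -1, 1, 0, 1⟩, ⟨0, 0, 1, 0, -1, 1, 0, 1⟩, ⟨0, -1, -1, 1, -1, 0, 0, 0⟩),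
  (⟨-2, 0, -1, 0, -1, 1, 0, 1⟩, ⟨0, 0, 1, 0, -1, 1, 0, 1⟩, ⟨0, 1, 1, -1, 1, 0, 0, 0⟩),
  (⟨-2, 0, -1, 0, -1, 1, 0, 1⟩, ⟨1, 0, 0, 0, 0, -1, -1, 1⟩, ⟨-1, 1, 0, 1, 0, 0, -1, 0⟩),
  (⟨-2, 0, -1, 0, -1, 1, 0, 1⟩, ⟨1, 0, 0, 0, 0, -1, -1, 1⟩, ⟨1, -1, 0, -1, 0, 0, 1, 0⟩),
  (⟨-2, 0, -1, 0, -1, 1, 0, 1⟩, ⟨-1, 1, 0, 1, 0, 0, -1, 0⟩, ⟨-1, 0, 0, 0, 0, 1, 1, -1⟩),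
  (⟨-2, 0, -1, 0, -1, 1, 0, 1⟩, ⟨-1, 1, 0, 1, 0, 0, -1, 0⟩, ⟨1, 0, 0, 0, 0, -1, -1, 1⟩),
  (⟨-2, 0, -1, 0, -1, 1, 0, 1⟩, ⟨0, -1, -1, 1, -1, 0, 0, 0⟩, ⟨0, 0, -1, 0, 1, -1, 0, -1⟩),
  (⟨-2, 0, -1, 0, -1, 1, 0, 1⟩, ⟨0, -1, -1, 1, -1, 0, 0, 0⟩, ⟨0, 0, 1, 0, -1, 1, 0, 1⟩),
  (⟨-2, 0, -1, 0, -1, 1, 0, 1⟩, ⟨0, 1, 1, -1, 1, 0, 0, 0⟩, ⟨0, 0, -1, 0, 1, -1, 0, -1⟩),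
  (⟨-2, 0, -1, 0, -1, 1, 0, 1⟩, ⟨0, 1, 1, -1, 1, 0, 0, 0⟩, ⟨0, 0, 1, 0, -1, 1, 0, 1⟩),
  (⟨-2, 0, -1, 0, -1, 1, 0, 1⟩, ⟨1, -1, 0, -1, 0, 0, 1, 0⟩, ⟨-1, 0, 0, 0, 0, 1, 1, -1⟩),
  (⟨-2, 0, -1, 0, -1, 1, 0, 1⟩, ⟨1, -1, 0, -1, 0, 0, 1, 0⟩, ⟨1, 0, 0, 0, 0, -1, -1, 1⟩),
  (⟨-2, 0, -1, 0, 1, -1, 0, -1⟩, ⟨-1, 0, 0, 0, 0, -1, -1, 1⟩, ⟨0, -1, -1, 1, 1, 0, 0, 0⟩),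
  (⟨-2, 0, -1, 0, 1, -1, 0, -1⟩, ⟨-1, 0, 0, 0, 0, -1, -1, 1⟩, ⟨0, 1, 1, -1, -1, 0, 0, 0⟩),
  (⟨-2, 0, -1, 0, 1, -1, 0, -1⟩, ⟨0, 0, -1, 0, -1, 1, 0, 1⟩, ⟨-1, 1, 0, 1, 0, 0, 1, 0⟩),
  (⟨-2, 0, -1, 0, 1, -1, 0, -1⟩, ⟨0, 0, -1, 0, -1, 1, 0, 1⟩, ⟨1, -1, 0, -1, 0, 0, -1, 0⟩),
  (⟨-2, 0, -1, 0, 1, -1, 0, -1⟩, ⟨0, 0, 1, 0, 1, -1, 0, -1⟩, ⟨-1, 1, 0, 1, 0, 0, 1, 0⟩),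
  (⟨-2, 0, -1, 0, 1, -1, 0, -1⟩, ⟨0, 0, 1, 0, 1, -1, 0, -1⟩, ⟨1, -1, 0, -1, 0, 0, -1, 0⟩),
  (⟨-2, 0, -1, 0, 1, -1, 0, -1⟩, ⟨1, 0, 0, 0, 0, 1, 1, -1⟩, ⟨0, -1, -1, 1, 1, 0, 0, 0⟩),
  (⟨-2, 0, -1, 0, 1, -1, 0, -1⟩, ⟨1, 0, 0, 0, 0, 1, 1, -1⟩, ⟨0, 1, 1, -1, -1, 0, 0, 0⟩),
  (⟨-2, 0, -1, 0, 1, -1, 0, -1⟩, ⟨-1, 1, 0, 1, 0, 0, 1, 0⟩, ⟨0, 0, -1, 0, -1, 1, 0, 1⟩),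
  (⟨-2, 0, -1, 0, 1, -1, 0, -1⟩, ⟨-1, 1, 0, 1, 0, 0, 1, 0⟩, ⟨0, 0, 1, 0, 1, -1, 0, -1⟩),
  (⟨-2, 0, -1, 0, 1, -1, 0, -1⟩, ⟨0, -1, -1, 1, 1, 0, 0, 0⟩, ⟨-1, 0, 0, 0, 0, -1, -1, 1⟩),
  (⟨-2, 0, -1, 0, 1, -1, 0, -1⟩, ⟨0, -1, -1, 1, 1, 0, 0, 0⟩, ⟨1, 0, 0, 0, 0, 1, 1, -1⟩),
  (⟨-2, 0, -1, 0, 1, -1, 0, -1⟩, ⟨0, 1, 1, -1, -1, 0, 0, 0⟩, ⟨-1, 0, 0, 0, 0, -1, -1, 1⟩),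
  (⟨-2, 0, -1, 0, 1, -1, 0, -1⟩, ⟨0, 1, 1, -1, -1, 0, 0, 0⟩, ⟨1, 0, 0, 0, 0, 1, 1, -1⟩),
  (⟨-2, 0, -1, 0, 1, -1, 0, -1⟩, ⟨1, -1, 0, -1, 0, 0, -1, 0⟩, ⟨0, 0, -1, 0, -1, 1, 0, 1⟩),
  (⟨-2, 0, -1, 0, 1, -1, 0, -1⟩, ⟨1, -1, 0, -1, 0, 0, -1, 0⟩, ⟨0, 0, 1, 0, 1, -1, 0, -1⟩),
  (⟨-2, 0, -1, 0, 1, -1, 0, 1⟩, ⟨-1, 0, 0, 0, 0, 1, -1, 1⟩, ⟨0, 0, -1, 0, -1, 1, 0, -1⟩),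
  (⟨-2, 0, -1, 0, 1, -1, 0, 1⟩, ⟨-1, 0, 0, 0, 0, 1, -1, 1⟩, ⟨0, 0, 1, 0, 1, -1, 0, 1⟩),
  (⟨-2, 0, -1, 0, 1, -1, 0, 1⟩, ⟨0, 0, -1, 0, -1, 1, 0, -1⟩, ⟨-1, 0, 0, 0, 0, 1, -1, 1⟩),
  (⟨-2, 0, -1, 0, 1, -1, 0, 1⟩, ⟨0, 0, -1, 0, -1, 1, 0, -1⟩, ⟨1, 0, 0, 0, 0, -1, 1, -1⟩),
  (⟨-2, 0, -1, 0, 1, -1, 0, 1⟩, ⟨0, 0, 1, 0, 1, -1, 0, 1⟩, ⟨-1, 0, 0, 0, 0, 1, -1, 1⟩),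
  (⟨-2, 0, -1, 0, 1, -1, 0, 1⟩, ⟨0, 0, 1, 0, 1, -1, 0, 1⟩, ⟨1, 0, 0, 0, 0, -1, 1, -1⟩),
  (⟨-2, 0, -1, 0, 1, -1, 0, 1⟩, ⟨1, 0, 0, 0, 0, -1, 1, -1⟩, ⟨0, 0, -1, 0, -1, 1, 0, -1⟩),
  (⟨-2, 0, -1, 0, 1, -1, 0, 1⟩, ⟨1, 0, 0, 0, 0, -1, 1, -1⟩, ⟨0, 0, 1, 0, 1, -1, 0, 1⟩),
  (⟨-2, 0, -1, 0, 1, -1, 0, 1⟩, ⟨-1, 1, 0, -1, 0, 0, 1, 0⟩, ⟨0, -1, 1, -1, -1, 0, 0, 0⟩),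
  (⟨-2, 0, -1, 0, 1, -1, 0, 1⟩, ⟨-1, 1, 0, -1, 0, 0, 1, 0⟩, ⟨0, 1, -1, 1, 1, 0, 0, 0⟩),
  (⟨-2, 0, -1, 0, 1, -1, 0, 1⟩, ⟨0, -1, 1, -1, -1, 0, 0, 0⟩, ⟨-1, 1, 0, -1, 0, 0, 1, 0⟩),
  (⟨-2, 0, -1, 0, 1, -1, 0, 1⟩, ⟨0, -1, 1, -1, -1, 0, 0, 0⟩, ⟨1, -1, 0, 1, 0, 0, -1, 0⟩),
  (⟨-2, 0, -1, 0, 1, -1, 0, 1⟩, ⟨0, 1, -1, 1, 1, 0, 0, 0⟩, ⟨-1, 1, 0, -1, 0, 0, 1, 0⟩),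
  (⟨-2, 0, -1, 0, 1, -1, 0, 1⟩, ⟨0, 1, -1, 1, 1, 0, 0, 0⟩, ⟨1, -1, 0, 1, 0, 0, -1, 0⟩),
  (⟨-2, 0, -1, 0, 1, -1, 0, 1⟩, ⟨1, -1, 0, 1, 0, 0, -1, 0⟩, ⟨0, -1, 1, -1, -1, 0, 0, 0⟩),
  (⟨-2, 0, -1, 0, 1, -1, 0, 1⟩, ⟨1, -1, 0, 1, 0, 0, -1, 0⟩, ⟨0, 1, -1, 1, 1, 0, 0, 0⟩),
  (⟨-2, 0, -2, 0, 0, 0, 0, 0⟩, ⟨0, 0, 0, 0, 0, 0, 0, 0⟩, ⟨-2, 0, -2, 0, 0, 0, 0, 0⟩),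
  (⟨-2, 0, -2, 0, 0, 0, 0, 0⟩, ⟨0, 0, 0, 0, 0, 0, 0, 0⟩, ⟨-2, 0, 2, 0, 0, 0, 0, 0⟩),
  (⟨-2, 0, -2, 0, 0, 0, 0, 0⟩, ⟨0, 0, 0, 0, 0, 0, 0, 0⟩, ⟨2, 0, -2, 0, 0, 0, 0, 0⟩),
  (⟨-2, 0, -2, 0, 0, 0, 0, 0⟩, ⟨0, 0, 0, 0, 0, 0, 0, 0⟩, ⟨2, 0, 2, 0, 0, 0, 0, 0⟩),
  (⟨-2, 0, -2, 0, 0, 0, 0, 0⟩, ⟨0, 0, 0, 0, 0, 0, 0, 0⟩, ⟨0, 0, 0, 0, -2, 0, -2, 0⟩),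
  (⟨-2, 0, -2, 0, 0, 0, 0, 0⟩, ⟨0, 0, 0, 0, 0, 0, 0, 0⟩, ⟨0, 0, 0, 0, -2, 0, 2, 0⟩),
  (⟨-2, 0, -2, 0, 0, 0, 0, 0⟩, ⟨0, 0, 0, 0, 0, 0, 0, 0⟩, ⟨0, 0, 0, 0, 2, 0, -2, 0⟩),
  (⟨-2, 0, -2, 0, 0, 0, 0, 0⟩, ⟨0, 0, 0, 0, 0, 0, 0, 0⟩, ⟨0, 0, 0, 0, 2, 0, 2, 0⟩),
  (⟨-2, 0, 0, 0, 0, 0, 0, 0⟩, ⟨-1, 0, -1, 0, -1, 0, 1, -2⟩, ⟨0, 0, -2, 0, 0, 0, 0, 0⟩),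
  (⟨-2, 0, 0, 0, 0, 0, 0, 0⟩, ⟨-1, 0, -1, 0, -1, 0, 1, -2⟩, ⟨0, 0, 2, 0, 0, 0, 0, 0⟩),
  (⟨-2, 0, 0, 0, 0, 0, 0, 0⟩, ⟨-1, 0, -1, 0, -1, 2, 1, 0⟩, ⟨0, 0, 0, 0, -2, 0, 0, 0⟩),
  (⟨-2, 0, 0, 0, 0, 0, 0, 0⟩, ⟨-1, 0, -1, 0, -1, 2, 1, 0⟩, ⟨0, 0, 0, 0, 2, 0, 0, 0⟩),
  (⟨-2, 0, 0, 0, 0, 0, 0, 0⟩, ⟨-1, 0, -1, 0, 1, -2, -1, 0⟩, ⟨0, 0, 0, 0, 0, 0, -2, 0⟩),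
  (⟨-2, 0, 0, 0, 0, 0, 0, 0⟩, ⟨-1, 0, -1, 0, 1, -2, -1, 0⟩, ⟨0, 0, 0, 0, 0, 0, 2, 0⟩),
  (⟨-2, 0, 0, 0, 0, 0, 0, 0⟩, ⟨-1, 0, -1, 0, 1, 0, -1, 2⟩, ⟨-2, 0, 0, 0, 0, 0, 0, 0⟩),
  (⟨-2, 0, 0, 0, 0, 0, 0, 0⟩, ⟨-1, 0, -1, 0, 1, 0, -1, 2⟩, ⟨2, 0, 0, 0, 0, 0, 0, 0⟩),
  (⟨-2, 0, 0, 0, 0, 0, 0, 0⟩, ⟨-1, 0, 1, 0, -1, 0, -1, 2⟩, ⟨0, 0, 0, 0, 0, 0, -2, 0⟩),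
  (⟨-2, 0, 0, 0, 0, 0, 0, 0⟩, ⟨-1, 0, 1, 0, -1, 0, -1, 2⟩, ⟨0, 0, 0, 0, 0, 0, 2, 0⟩),
  (⟨-2, 0, 0, 0, 0, 0, 0, 0⟩, ⟨-1, 0, 1, 0, -1, 2, -1, 0⟩, ⟨-2, 0, 0, 0, 0, 0, 0, 0⟩),
  (⟨-2, 0, 0, 0, 0, 0, 0, 0⟩, ⟨-1, 0, 1, 0, -1, 2, -1, 0⟩, ⟨2, 0, 0, 0, 0, 0, 0, 0⟩),
  (⟨-2, 0, 0, 0, 0, 0, 0, 0⟩, ⟨-1, 0, 1, 0, 1, -2, 1, 0⟩, ⟨0, 0, -2, 0, 0, 0, 0, 0⟩),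
  (⟨-2, 0, 0, 0, 0, 0, 0, 0⟩, ⟨-1, 0, 1, 0, 1, -2, 1, 0⟩, ⟨0, 0, 2, 0, 0, 0, 0, 0⟩),
  (⟨-2, 0, 0, 0, 0, 0, 0, 0⟩, ⟨-1, 0, 1, 0, 1, 0, 1, -2⟩, ⟨0, 0, 0, 0, -2, 0, 0, 0⟩),
  (⟨-2, 0, 0, 0, 0, 0, 0, 0⟩, ⟨-1, 0, 1, 0, 1, 0, 1, -2⟩, ⟨0, 0, 0, 0, 2, 0, 0, 0⟩),
  (⟨-2, 0, 0, 0, 0, 0, 0, 0⟩, ⟨1, 0, -1, 0, -1, 0, -1, 2⟩, ⟨0, 0, 0, 0, -2, 0, 0, 0⟩),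
  (⟨-2, 0, 0, 0, 0, 0, 0, 0⟩, ⟨1, 0, -1, 0, -1, 0, -1, 2⟩, ⟨0, 0, 0, 0, 2, 0, 0, 0⟩),
  (⟨-2, 0, 0, 0, 0, 0, 0, 0⟩, ⟨1, 0, -1, 0, -1, 2, -1, 0⟩, ⟨0, 0, -2, 0, 0, 0, 0, 0⟩),
  (⟨-2, 0, 0, 0, 0, 0, 0, 0⟩, ⟨1, 0, -1, 0, -1, 2, -1, 0⟩, ⟨0, 0, 2, 0, 0, 0, 0, 0⟩),
  (⟨-2, 0, 0, 0, 0, 0, 0, 0⟩, ⟨1, 0, -1, 0, 1, -2, 1, 0⟩, ⟨-2, 0, 0, 0, 0, 0, 0, 0⟩),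
  (⟨-2, 0, 0, 0, 0, 0, 0, 0⟩, ⟨1, 0, -1, 0, 1, -2, 1, 0⟩, ⟨2, 0, 0, 0, 0, 0, 0, 0⟩),
  (⟨-2, 0, 0, 0, 0, 0, 0, 0⟩, ⟨1, 0, -1, 0, 1, 0, 1, -2⟩, ⟨0, 0, 0, 0, 0, 0, -2, 0⟩),
  (⟨-2, 0, 0, 0, 0, 0, 0, 0⟩, ⟨1, 0, -1, 0, 1, 0, 1, -2⟩, ⟨0, 0, 0, 0, 0, 0, 2, 0⟩),
  (⟨-2, 0, 0, 0, 0, 0, 0, 0⟩, ⟨1, 0, 1, 0, -1, 0, 1, -2⟩, ⟨-2, 0, 0, 0, 0, 0, 0, 0⟩),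
  (⟨-2, 0, 0, 0, 0, 0, 0, 0⟩, ⟨1, 0, 1, 0, -1, 0, 1, -2⟩, ⟨2, 0, 0, 0, 0, 0, 0, 0⟩),
  (⟨-2, 0, 0, 0, 0, 0, 0, 0⟩, ⟨1, 0, 1, 0, -1, 2, 1, 0⟩, ⟨0, 0, 0, 0, 0, 0, -2, 0⟩),
  (⟨-2, 0, 0, 0, 0, 0, 0, 0⟩, ⟨1, 0, 1, 0, -1, 2, 1, 0⟩, ⟨0, 0, 0, 0, 0, 0, 2, 0⟩),
  (⟨-2, 0, 0, 0, 0, 0, 0, 0⟩, ⟨1, 0, 1, 0, 1, -2, -1, 0⟩, ⟨0, 0, 0, 0, -2, 0, 0, 0⟩),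
  (⟨-2, 0, 0, 0, 0, 0, 0, 0⟩, ⟨1, 0, 1, 0, 1, -2, -1, 0⟩, ⟨0, 0, 0, 0, 2, 0, 0, 0⟩),
  (⟨-2, 0, 0, 0, 0, 0, 0, 0⟩, ⟨1, 0, 1, 0, 1, 0, -1, 2⟩, ⟨0, 0, -2, 0, 0, 0, 0, 0⟩),
  (⟨-2, 0, 0, 0, 0, 0, 0, 0⟩, ⟨1, 0, 1, 0, 1, 0, -1, 2⟩, ⟨0, 0, 2, 0, 0, 0, 0, 0⟩),
  (⟨-2, 0, 0, 0, 0, 0, 0, 0⟩, ⟨-1, 0, -1, 2, -1, 0, 1, 0⟩, ⟨-2, 0, 0, 0, 0, 0, 0, 0⟩),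
  (⟨-2, 0, 0, 0, 0, 0, 0, 0⟩, ⟨-1, 0, -1, 2, -1, 0, 1, 0⟩, ⟨2, 0, 0, 0, 0, 0, 0, 0⟩),
  (⟨-2, 0, 0, 0, 0, 0, 0, 0⟩, ⟨-1, 0, -1, 2, 1, 0, -1, 0⟩, ⟨0, 0, -2, 0, 0, 0, 0, 0⟩),
  (⟨-2, 0, 0, 0, 0, 0, 0, 0⟩, ⟨-1, 0, -1, 2, 1, 0, -1, 0⟩, ⟨0, 0, 2, 0, 0, 0, 0, 0⟩),
  (⟨-2, 0, 0, 0, 0, 0, 0, 0⟩, ⟨-1, 0, 1, -2, -1, 0, -1, 0⟩, ⟨0, 0, 0, 0, -2, 0, 0, 0⟩),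
  (⟨-2, 0, 0, 0, 0, 0, 0, 0⟩, ⟨-1, 0, 1, -2, -1, 0, -1, 0⟩, ⟨0, 0, 0, 0, 2, 0, 0, 0⟩),
  (⟨-2, 0, 0, 0, 0, 0, 0, 0⟩, ⟨-1, 0, 1, -2, 1, 0, 1, 0⟩, ⟨0, 0, 0, 0, 0, 0, -2, 0⟩),
  (⟨-2, 0, 0, 0, 0, 0, 0, 0⟩, ⟨-1, 0, 1, -2, 1, 0, 1, 0⟩, ⟨0, 0, 0, 0, 0, 0, 2, 0⟩),
  (⟨-2, 0, 0, 0, 0, 0, 0, 0⟩, ⟨-1, 2, -1, 0, -1, 0, 1, 0⟩, ⟨0, 0, 0, 0, 0, 0, -2, 0⟩),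
  (⟨-2, 0, 0, 0, 0, 0, 0, 0⟩, ⟨-1, 2, -1, 0, -1, 0, 1, 0⟩, ⟨0, 0, 0, 0, 0, 0, 2, 0⟩),
  (⟨-2, 0, 0, 0, 0, 0, 0, 0⟩, ⟨-1, 2, -1, 0, 1, 0, -1, 0⟩, ⟨0, 0, 0, 0, -2, 0, 0, 0⟩),
  (⟨-2, 0, 0, 0, 0, 0, 0, 0⟩, ⟨-1, 2, -1, 0, 1, 0, -1, 0⟩, ⟨0, 0, 0, 0, 2, 0, 0, 0⟩),
  (⟨-2, 0, 0, 0, 0, 0, 0, 0⟩, ⟨-1, 2, 1, 0, -1, 0, -1, 0⟩, ⟨0, 0, -2, 0, 0, 0, 0, 0⟩),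
  (⟨-2, 0, 0, 0, 0, 0, 0, 0⟩, ⟨-1, 2, 1, 0, -1, 0, -1, 0⟩, ⟨0, 0, 2, 0, 0, 0, 0, 0⟩),
  (⟨-2, 0, 0, 0, 0, 0, 0, 0⟩, ⟨-1, 2, 1, 0, 1, 0, 1, 0⟩, ⟨-2, 0, 0, 0, 0, 0, 0, 0⟩),
  (⟨-2, 0, 0, 0, 0, 0, 0, 0⟩, ⟨-1, 2, 1, 0, 1, 0, 1, 0⟩, ⟨2, 0, 0, 0, 0, 0, 0, 0⟩),
  (⟨-2, 0, 0, 0, 0, 0, 0, 0⟩, ⟨1, -2, -1, 0, -1, 0, -1, 0⟩, ⟨-2, 0, 0, 0, 0, 0, 0, 0⟩),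
  (⟨-2, 0, 0, 0, 0, 0, 0, 0⟩, ⟨1, -2, -1, 0, -1, 0, -1, 0⟩, ⟨2, 0, 0, 0, 0, 0, 0, 0⟩),
  (⟨-2, 0, 0, 0, 0, 0, 0, 0⟩, ⟨1, -2, -1, 0, 1, 0, 1, 0⟩, ⟨0, 0, -2, 0, 0, 0, 0, 0⟩),
  (⟨-2, 0, 0, 0, 0, 0, 0, 0⟩, ⟨1, -2, -1, 0, 1, 0, 1, 0⟩, ⟨0, 0, 2, 0, 0, 0, 0, 0⟩),
  (⟨-2, 0, 0, 0, 0, 0, 0, 0⟩, ⟨1, -2, 1, 0, -1, 0, 1, 0⟩, ⟨0, 0, 0, 0, -2, 0, 0, 0⟩),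
  (⟨-2, 0, 0, 0, 0, 0, 0, 0⟩, ⟨1, -2, 1, 0, -1, 0, 1, 0⟩, ⟨0, 0, 0, 0, 2, 0, 0, 0⟩),
  (⟨-2, 0, 0, 0, 0, 0, 0, 0⟩, ⟨1, -2, 1, 0, 1, 0, -1, 0⟩, ⟨0, 0, 0, 0, 0, 0, -2, 0⟩),
  (⟨-2, 0, 0, 0, 0, 0, 0, 0⟩, ⟨1, -2, 1, 0, 1, 0, -1, 0⟩, ⟨0, 0, 0, 0, 0, 0, 2, 0⟩),
  (⟨-2, 0, 0, 0, 0, 0, 0, 0⟩, ⟨1, 0, -1, 2, -1, 0, -1, 0⟩, ⟨0, 0, 0, 0, 0, 0, -2, 0⟩),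
  (⟨-2, 0, 0, 0, 0, 0, 0, 0⟩, ⟨1, 0, -1, 2, -1, 0, -1, 0⟩, ⟨0, 0, 0, 0, 0, 0, 2, 0⟩),
  (⟨-2, 0, 0, 0, 0, 0, 0, 0⟩, ⟨1, 0, -1, 2, 1, 0, 1, 0⟩, ⟨0, 0, 0, 0, -2, 0, 0, 0⟩),
  (⟨-2, 0, 0, 0, 0, 0, 0, 0⟩, ⟨1, 0, -1, 2, 1, 0, 1, 0⟩, ⟨0, 0, 0, 0, 2, 0, 0, 0⟩),
  (⟨-2, 0, 0, 0, 0, 0, 0, 0⟩, ⟨1, 0, 1, -2, -1, 0, 1, 0⟩, ⟨0, 0, -2, 0, 0, 0, 0, 0⟩),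
  (⟨-2, 0, 0, 0, 0, 0, 0, 0⟩, ⟨1, 0, 1, -2, -1, 0, 1, 0⟩, ⟨0, 0, 2, 0, 0, 0, 0, 0⟩),
  (⟨-2, 0, 0, 0, 0, 0, 0, 0⟩, ⟨1, 0, 1, -2, 1, 0, -1, 0⟩, ⟨-2, 0, 0, 0, 0, 0, 0, 0⟩),
  (⟨-2, 0, 0, 0, 0, 0, 0, 0⟩, ⟨1, 0, 1, -2, 1, 0, -1, 0⟩, ⟨2, 0, 0, 0, 0, 0, 0, 0⟩),
  (⟨-2, 0, 0, 0, 0, 0, 0, 0⟩, ⟨-2, 0, 0, 0, 0, 0, 0, 0⟩, ⟨-1, 0, -1, 0, 1, 0, -1, 2⟩),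
  (⟨-2, 0, 0, 0, 0, 0, 0, 0⟩, ⟨-2, 0, 0, 0, 0, 0, 0, 0⟩, ⟨-1, 0, 1, 0, -1, 2, -1, 0⟩),
  (⟨-2, 0, 0, 0, 0, 0, 0, 0⟩, ⟨-2, 0, 0, 0, 0, 0, 0, 0⟩, ⟨1, 0, -1, 0, 1, -2, 1, 0⟩),
  (⟨-2, 0, 0, 0, 0, 0, 0, 0⟩, ⟨-2, 0, 0, 0, 0, 0, 0, 0⟩, ⟨1, 0, 1, 0, -1, 0, 1, -2⟩),
  (⟨-2, 0, 0, 0, 0, 0, 0, 0⟩, ⟨-2, 0, 0, 0, 0, 0, 0, 0⟩, ⟨-1, 0, -1, 2, -1, 0, 1, 0⟩),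
  (⟨-2, 0, 0, 0, 0, 0, 0, 0⟩, ⟨-2, 0, 0, 0, 0, 0, 0, 0⟩, ⟨-1, 2, 1, 0, 1, 0, 1, 0⟩),
  (⟨-2, 0, 0, 0, 0, 0, 0, 0⟩, ⟨-2, 0, 0, 0, 0, 0, 0, 0⟩, ⟨1, -2, -1, 0, -1, 0, -1, 0⟩),
  (⟨-2, 0, 0, 0, 0, 0, 0, 0⟩, ⟨-2, 0, 0, 0, 0, 0, 0, 0⟩, ⟨1, 0, 1, -2, 1, 0, -1, 0⟩),
  (⟨-2, 0, 0, 0, 0, 0, 0, 0⟩, ⟨0, 0, -2, 0, 0, 0, 0, 0⟩, ⟨-1, 0, -1, 0, -1, 0, 1, -2⟩),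
  (⟨-2, 0, 0, 0, 0, 0, 0, 0⟩, ⟨0, 0, -2, 0, 0, 0, 0, 0⟩, ⟨-1, 0, 1, 0, 1, -2, 1, 0⟩),
  (⟨-2, 0, 0, 0, 0, 0, 0, 0⟩, ⟨0, 0, -2, 0, 0, 0, 0, 0⟩, ⟨1, 0, -1, 0, -1, 2, -1, 0⟩),
  (⟨-2, 0, 0, 0, 0, 0, 0, 0⟩, ⟨0, 0, -2, 0, 0, 0, 0, 0⟩, ⟨1, 0, 1, 0, 1, 0, -1, 2⟩),
  (⟨-2, 0, 0, 0, 0, 0, 0, 0⟩, ⟨0, 0, -2, 0, 0, 0, 0, 0⟩, ⟨-1, 0, -1, 2, 1, 0, -1, 0⟩),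
  (⟨-2, 0, 0, 0, 0, 0, 0, 0⟩, ⟨0, 0, -2, 0, 0, 0, 0, 0⟩, ⟨-1, 2, 1, 0, -1, 0, -1, 0⟩),
  (⟨-2, 0, 0, 0, 0, 0, 0, 0⟩, ⟨0, 0, -2, 0, 0, 0, 0, 0⟩, ⟨1, -2, -1, 0, 1, 0, 1, 0⟩),
  (⟨-2, 0, 0, 0, 0, 0, 0, 0⟩, ⟨0, 0, -2, 0, 0, 0, 0, 0⟩, ⟨1, 0, 1, -2, -1, 0, 1, 0⟩),
  (⟨-2, 0, 0, 0, 0, 0, 0, 0⟩, ⟨0, 0, 2, 0, 0, 0, 0, 0⟩, ⟨-1, 0, -1, 0, -1, 0, 1, -2⟩),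
  (⟨-2, 0, 0, 0, 0, 0, 0, 0⟩, ⟨0, 0, 2, 0, 0, 0, 0, 0⟩, ⟨-1, 0, 1, 0, 1, -2, 1, 0⟩),
  (⟨-2, 0, 0, 0, 0, 0, 0, 0⟩, ⟨0, 0, 2, 0, 0, 0, 0, 0⟩, ⟨1, 0, -1, 0, -1, 2, -1, 0⟩),
  (⟨-2, 0, 0, 0, 0, 0, 0, 0⟩, ⟨0, 0, 2, 0, 0, 0, 0, 0⟩, ⟨1, 0, 1, 0, 1, 0, -1, 2⟩),
  (⟨-2, 0, 0, 0, 0, 0, 0, 0⟩, ⟨0, 0, 2, 0, 0, 0, 0, 0⟩, ⟨-1, 0, -1, 2, 1, 0, -1, 0⟩),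
  (⟨-2, 0, 0, 0, 0, 0, 0, 0⟩, ⟨0, 0, 2, 0, 0, 0, 0, 0⟩, ⟨-1, 2, 1, 0, -1, 0, -1, 0⟩),
  (⟨-2, 0, 0, 0, 0, 0, 0, 0⟩, ⟨0, 0, 2, 0, 0, 0, 0, 0⟩, ⟨1, -2, -1, 0, 1, 0, 1, 0⟩),
  (⟨-2, 0, 0, 0, 0, 0, 0, 0⟩, ⟨0, 0, 2, 0, 0, 0, 0, 0⟩, ⟨1, 0, 1, -2, -1, 0, 1, 0⟩),
  (⟨-2, 0, 0, 0, 0, 0, 0, 0⟩, ⟨2, 0, 0, 0, 0, 0, 0, 0⟩, ⟨-1, 0, -1, 0, 1, 0, -1, 2⟩),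
  (⟨-2, 0, 0, 0, 0, 0, 0, 0⟩, ⟨2, 0, 0, 0, 0, 0, 0, 0⟩, ⟨-1, 0, 1, 0, -1, 2, -1, 0⟩),
  (⟨-2, 0, 0, 0, 0, 0, 0, 0⟩, ⟨2, 0, 0, 0, 0, 0, 0, 0⟩, ⟨1, 0, -1, 0, 1, -2, 1, 0⟩),
  (⟨-2, 0, 0, 0, 0, 0, 0, 0⟩, ⟨2, 0, 0, 0, 0, 0, 0, 0⟩, ⟨1, 0, 1, 0, -1, 0, 1, -2⟩),
  (⟨-2, 0, 0, 0, 0, 0, 0, 0⟩, ⟨2, 0, 0, 0, 0, 0, 0, 0⟩, ⟨-1, 0, -1, 2, -1, 0, 1, 0⟩),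
  (⟨-2, 0, 0, 0, 0, 0, 0, 0⟩, ⟨2, 0, 0, 0, 0, 0, 0, 0⟩, ⟨-1, 2, 1, 0, 1, 0, 1, 0⟩),
  (⟨-2, 0, 0, 0, 0, 0, 0, 0⟩, ⟨2, 0, 0, 0, 0, 0, 0, 0⟩, ⟨1, -2, -1, 0, -1, 0, -1, 0⟩),
  (⟨-2, 0, 0, 0, 0, 0, 0, 0⟩, ⟨2, 0, 0, 0, 0, 0, 0, 0⟩, ⟨1, 0, 1, -2, 1, 0, -1, 0⟩),
  (⟨-2, 0, 0, 0, 0, 0, 0, 0⟩, ⟨0, 0, 0, 0, -2, 0, 0, 0⟩, ⟨-1, 0, -1, 0, -1, 2, 1, 0⟩),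
  (⟨-2, 0, 0, 0, 0, 0, 0, 0⟩, ⟨0, 0, 0, 0, -2, 0, 0, 0⟩, ⟨-1, 0, 1, 0, 1, 0, 1, -2⟩),
  (⟨-2, 0, 0, 0, 0, 0, 0, 0⟩, ⟨0, 0, 0, 0, -2, 0, 0, 0⟩, ⟨1, 0, -1, 0, -1, 0, -1, 2⟩),
  (⟨-2, 0, 0, 0, 0, 0, 0, 0⟩, ⟨0, 0, 0, 0, -2, 0, 0, 0⟩, ⟨1, 0, 1, 0, 1, -2, -1, 0⟩),
  (⟨-2, 0, 0, 0, 0, 0, 0, 0⟩, ⟨0, 0, 0, 0, -2, 0, 0, 0⟩, ⟨-1, 0, 1, -2, -1, 0, -1, 0⟩),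
  (⟨-2, 0, 0, 0, 0, 0, 0, 0⟩, ⟨0, 0, 0, 0, -2, 0, 0, 0⟩, ⟨-1, 2, -1, 0, 1, 0, -1, 0⟩),
  (⟨-2, 0, 0, 0, 0, 0, 0, 0⟩, ⟨0, 0, 0, 0, -2, 0, 0, 0⟩, ⟨1, -2, 1, 0, -1, 0, 1, 0⟩),
  (⟨-2, 0, 0, 0, 0, 0, 0, 0⟩, ⟨0, 0, 0, 0, -2, 0, 0, 0⟩, ⟨1, 0, -1, 2, 1, 0, 1, 0⟩),
  (⟨-2, 0, 0, 0, 0, 0, 0, 0⟩, ⟨0, 0, 0, 0, 0, 0, -2, 0⟩, ⟨-1, 0, -1, 0, 1, -2, -1, 0⟩),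
  (⟨-2, 0, 0, 0, 0, 0, 0, 0⟩, ⟨0, 0, 0, 0, 0, 0, -2, 0⟩, ⟨-1, 0, 1, 0, -1, 0, -1, 2⟩),
  (⟨-2, 0, 0, 0, 0, 0, 0, 0⟩, ⟨0, 0, 0, 0, 0, 0, -2, 0⟩, ⟨1, 0, -1, 0, 1, 0, 1, -2⟩),
  (⟨-2, 0, 0, 0, 0, 0, 0, 0⟩, ⟨0, 0, 0, 0, 0, 0, -2, 0⟩, ⟨1, 0, 1, 0, -1, 2, 1, 0⟩),
  (⟨-2, 0, 0, 0, 0, 0, 0, 0⟩, ⟨0, 0, 0, 0, 0, 0, -2, 0⟩, ⟨-1, 0, 1, -2, 1, 0, 1, 0⟩),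
  (⟨-2, 0, 0, 0, 0, 0, 0, 0⟩, ⟨0, 0, 0, 0, 0, 0, -2, 0⟩, ⟨-1, 2, -1, 0, -1, 0, 1, 0⟩),
  (⟨-2, 0, 0, 0, 0, 0, 0, 0⟩, ⟨0, 0, 0, 0, 0, 0, -2, 0⟩, ⟨1, -2, 1, 0, 1, 0, -1, 0⟩),
  (⟨-2, 0, 0, 0, 0, 0, 0, 0⟩, ⟨0, 0, 0, 0, 0, 0, -2, 0⟩, ⟨1, 0, -1, 2, -1, 0, -1, 0⟩),
  (⟨-2, 0, 0, 0, 0, 0, 0, 0⟩, ⟨0, 0, 0, 0, 0, 0, 2, 0⟩, ⟨-1, 0, -1, 0, 1, -2, -1, 0⟩),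
  (⟨-2, 0, 0, 0, 0, 0, 0, 0⟩, ⟨0, 0, 0, 0, 0, 0, 2, 0⟩, ⟨-1, 0, 1, 0, -1, 0, -1, 2⟩),
  (⟨-2, 0, 0, 0, 0, 0, 0, 0⟩, ⟨0, 0, 0, 0, 0, 0, 2, 0⟩, ⟨1, 0, -1, 0, 1, 0, 1, -2⟩),
  (⟨-2, 0, 0, 0, 0, 0, 0, 0⟩, ⟨0, 0, 0, 0, 0, 0, 2, 0⟩, ⟨1, 0, 1, 0, -1, 2, 1, 0⟩),
  (⟨-2, 0, 0, 0, 0, 0, 0, 0⟩, ⟨0, 0, 0, 0, 0, 0, 2, 0⟩, ⟨-1, 0, 1, -2, 1, 0, 1, 0⟩),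
  (⟨-2, 0, 0, 0, 0, 0, 0, 0⟩, ⟨0, 0, 0, 0, 0, 0, 2, 0⟩, ⟨-1, 2, -1, 0, -1, 0, 1, 0⟩),
  (⟨-2, 0, 0, 0, 0, 0, 0, 0⟩, ⟨0, 0, 0, 0, 0, 0, 2, 0⟩, ⟨1, -2, 1, 0, 1, 0, -1, 0⟩),
  (⟨-2, 0, 0, 0, 0, 0, 0, 0⟩, ⟨0, 0, 0, 0, 0, 0, 2, 0⟩, ⟨1, 0, -1, 2, -1, 0, -1, 0⟩),
  (⟨-2, 0, 0, 0, 0, 0, 0, 0⟩, ⟨0, 0, 0, 0, 2, 0, 0, 0⟩, ⟨-1, 0, -1, 0, -1, 2, 1, 0⟩),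
  (⟨-2, 0, 0, 0, 0, 0, 0, 0⟩, ⟨0, 0, 0, 0, 2, 0, 0, 0⟩, ⟨-1, 0, 1, 0, 1, 0, 1, -2⟩),
  (⟨-2, 0, 0, 0, 0, 0, 0, 0⟩, ⟨0, 0, 0, 0, 2, 0, 0, 0⟩, ⟨1, 0, -1, 0, -1, 0, -1, 2⟩),
  (⟨-2, 0, 0, 0, 0, 0, 0, 0⟩, ⟨0, 0, 0, 0, 2, 0, 0, 0⟩, ⟨1, 0, 1, 0, 1, -2, -1, 0⟩),
  (⟨-2, 0, 0, 0, 0, 0, 0, 0⟩, ⟨0, 0, 0, 0, 2, 0, 0, 0⟩, ⟨-1, 0, 1, -2, -1, 0, -1, 0⟩),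
  (⟨-2, 0, 0, 0, 0, 0, 0, 0⟩, ⟨0, 0, 0, 0, 2, 0, 0, 0⟩, ⟨-1, 2, -1, 0, 1, 0, -1, 0⟩),
  (⟨-2, 0, 0, 0, 0, 0, 0, 0⟩, ⟨0, 0, 0, 0, 2, 0, 0, 0⟩, ⟨1, -2, 1, 0, -1, 0, 1, 0⟩),
  (⟨-2, 0, 0, 0, 0, 0, 0, 0⟩, ⟨0, 0, 0, 0, 2, 0, 0, 0⟩, ⟨1, 0, -1, 2, 1, 0, 1, 0⟩),
  (⟨-2, 0, 0, 0, 0, 0, 0, 0⟩, ⟨-1, 1, -1, 1, -1, 1, -1, 1⟩, ⟨0, -1, 0, 1, 0, 1, 0, 1⟩),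
  (⟨-2, 0, 0, 0, 0, 0, 0, 0⟩, ⟨-1, 1, -1, 1, -1, 1, -1, 1⟩, ⟨0, 1, 0, -1, 0, -1, 0, -1⟩),
  (⟨-2, 0, 0, 0, 0, 0, 0, 0⟩, ⟨-1, 1, -1, 1, 1, -1, 1, -1⟩, ⟨0, -1, 0, -1, 0, -1, 0, 1⟩),
  (⟨-2, 0, 0, 0, 0, 0, 0, 0⟩, ⟨-1, 1, -1, 1, 1, -1, 1, -1⟩, ⟨0, 1, 0, 1, 0, 1, 0, -1⟩),
  (⟨-2, 0, 0, 0, 0, 0, 0, 0⟩, ⟨-1, 1, 1, -1, -1, 1, 1, -1⟩, ⟨0, -1, 0, 1, 0, -1, 0, -1⟩),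
  (⟨-2, 0, 0, 0, 0, 0, 0, 0⟩, ⟨-1, 1, 1, -1, -1, 1, 1, -1⟩, ⟨0, 1, 0, -1, 0, 1, 0, 1⟩),
  (⟨-2, 0, 0, 0, 0, 0, 0, 0⟩, ⟨-1, 1, 1, -1, 1, -1, -1, 1⟩, ⟨0, -1, 0, -1, 0, 1, 0, -1⟩),
  (⟨-2, 0, 0, 0, 0, 0, 0, 0⟩, ⟨-1, 1, 1, -1, 1, -1, -1, 1⟩, ⟨0, 1, 0, 1, 0, -1, 0, 1⟩),
  (⟨-2, 0, 0, 0, 0, 0, 0, 0⟩, ⟨1, -1, -1, 1, -1, 1, 1, -1⟩, ⟨0, -1, 0, -1, 0, 1, 0, -1⟩),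
  (⟨-2, 0, 0, 0, 0, 0, 0, 0⟩, ⟨1, -1, -1, 1, -1, 1, 1, -1⟩, ⟨0, 1, 0, 1, 0, -1, 0, 1⟩),
  (⟨-2, 0, 0, 0, 0, 0, 0, 0⟩, ⟨1, -1, -1, 1, 1, -1, -1, 1⟩, ⟨0, -1, 0, 1, 0, -1, 0, -1⟩),
  (⟨-2, 0, 0, 0, 0, 0, 0, 0⟩, ⟨1, -1, -1, 1, 1, -1, -1, 1⟩, ⟨0, 1, 0, -1, 0, 1, 0, 1⟩),
  (⟨-2, 0, 0, 0, 0, 0, 0, 0⟩, ⟨1, -1, 1, -1, -1, 1, -1, 1⟩, ⟨0, -1, 0, -1, 0, -1, 0, 1⟩),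
  (⟨-2, 0, 0, 0, 0, 0, 0, 0⟩, ⟨1, -1, 1, -1, -1, 1, -1, 1⟩, ⟨0, 1, 0, 1, 0, 1, 0, -1⟩),
  (⟨-2, 0, 0, 0, 0, 0, 0, 0⟩, ⟨1, -1, 1, -1, 1, -1, 1, -1⟩, ⟨0, -1, 0, 1, 0, 1, 0, 1⟩),
  (⟨-2, 0, 0, 0, 0, 0, 0, 0⟩, ⟨1, -1, 1, -1, 1, -1, 1, -1⟩, ⟨0, 1, 0, -1, 0, -1, 0, -1⟩),
  (⟨-2, 0, 0, 0, 0, 0, 0, 0⟩, ⟨0, -1, 0, -1, 0, -1, 0, 1⟩, ⟨-1, 1, -1, 1, 1, -1, 1, -1⟩),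
  (⟨-2, 0, 0, 0, 0, 0, 0, 0⟩, ⟨0, -1, 0, -1, 0, -1, 0, 1⟩, ⟨1, -1, 1, -1, -1, 1, -1, 1⟩),
  (⟨-2, 0, 0, 0, 0, 0, 0, 0⟩, ⟨0, -1, 0, -1, 0, 1, 0, -1⟩, ⟨-1, 1, 1, -1, 1, -1, -1, 1⟩),
  (⟨-2, 0, 0, 0, 0, 0, 0, 0⟩, ⟨0, -1, 0, -1, 0, 1, 0, -1⟩, ⟨1, -1, -1, 1, -1, 1, 1, -1⟩),
  (⟨-2, 0, 0, 0, 0, 0, 0, 0⟩, ⟨0, -1, 0, 1, 0, -1, 0, -1⟩, ⟨-1, 1, 1, -1, -1, 1, 1, -1⟩),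
  (⟨-2, 0, 0, 0, 0, 0, 0, 0⟩, ⟨0, -1, 0, 1, 0, -1, 0, -1⟩, ⟨1, -1, -1, 1, 1, -1, -1, 1⟩),
  (⟨-2, 0, 0, 0, 0, 0, 0, 0⟩, ⟨0, -1, 0, 1, 0, 1, 0, 1⟩, ⟨-1, 1, -1, 1, -1, 1, -1, 1⟩),
  (⟨-2, 0, 0, 0, 0, 0, 0, 0⟩, ⟨0, -1, 0, 1, 0, 1, 0, 1⟩, ⟨1, -1, 1, -1, 1, -1, 1, -1⟩),
  (⟨-2, 0, 0, 0, 0, 0, 0, 0⟩, ⟨0, 1, 0, -1, 0, -1, 0, -1⟩, ⟨-1, 1, -1, 1, -1, 1, -1, 1⟩),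
  (⟨-2, 0, 0, 0, 0, 0, 0, 0⟩, ⟨0, 1, 0, -1, 0, -1, 0, -1⟩, ⟨1, -1, 1, -1, 1, -1, 1, -1⟩),
  (⟨-2, 0, 0, 0, 0, 0, 0, 0⟩, ⟨0, 1, 0, -1, 0, 1, 0, 1⟩, ⟨-1, 1, 1, -1, -1, 1, 1, -1⟩),
  (⟨-2, 0, 0, 0, 0, 0, 0, 0⟩, ⟨0, 1, 0, -1, 0, 1, 0, 1⟩, ⟨1, -1, -1, 1, 1, -1, -1, 1⟩),
  (⟨-2, 0, 0, 0, 0, 0, 0, 0⟩, ⟨0, 1, 0, 1, 0, -1, 0, 1⟩, ⟨-1, 1, 1, -1, 1, -1, -1, 1⟩),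
  (⟨-2, 0, 0, 0, 0, 0, 0, 0⟩, ⟨0, 1, 0, 1, 0, -1, 0, 1⟩, ⟨1, -1, -1, 1, -1, 1, 1, -1⟩),
  (⟨-2, 0, 0, 0, 0, 0, 0, 0⟩, ⟨0, 1, 0, 1, 0, 1, 0, -1⟩, ⟨-1, 1, -1, 1, 1, -1, 1, -1⟩),
  (⟨-2, 0, 0, 0, 0, 0, 0, 0⟩, ⟨0, 1, 0, 1, 0, 1, 0, -1⟩, ⟨1, -1, 1, -1, -1, 1, -1, 1⟩),
  (⟨-2, 1, -1, 0, 0, 0, -1, 1⟩, ⟨-1, 0, 0, 1, -1, 1, 0, 0⟩, ⟨0, -1, 1, 0, 0, 0, -1, -1⟩),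
  (⟨-2, 1, -1, 0, 0, 0, -1, 1⟩, ⟨-1, 0, 0, 1, -1, 1, 0, 0⟩, ⟨0, 1, -1, 0, 0, 0, 1, 1⟩),
  (⟨-2, 1, -1, 0, 0, 0, -1, 1⟩, ⟨0, -1, -1, 0, 0, 0, 1, -1⟩, ⟨-1, 0, 0, -1, -1, -1, 0, 0⟩),
  (⟨-2, 1, -1, 0, 0, 0, -1, 1⟩, ⟨0, -1, -1, 0, 0, 0, 1, -1⟩, ⟨1, 0, 0, 1, 1, 1, 0, 0⟩),
  (⟨-2, 1, -1, 0, 0, 0, -1, 1⟩, ⟨0, 1, 1, 0, 0, 0, -1, 1⟩, ⟨-1, 0, 0, -1, -1, -1, 0, 0⟩),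
  (⟨-2, 1, -1, 0, 0, 0, -1, 1⟩, ⟨0, 1, 1, 0, 0, 0, -1, 1⟩, ⟨1, 0, 0, 1, 1, 1, 0, 0⟩),
  (⟨-2, 1, -1, 0, 0, 0, -1, 1⟩, ⟨1, 0, 0, -1, 1, -1, 0, 0⟩, ⟨0, -1, 1, 0, 0, 0, -1, -1⟩),
  (⟨-2, 1, -1, 0, 0, 0, -1, 1⟩, ⟨1, 0, 0, -1, 1, -1, 0, 0⟩, ⟨0, 1, -1, 0, 0, 0, 1, 1⟩),
  (⟨-2, 1, -1, 0, 0, 0, -1, 1⟩, ⟨-1, 1, 0, 0, 1, 0, 0, -1⟩, ⟨0, 0, -1, -1, 0, 1, -1, 0⟩),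
  (⟨-2, 1, -1, 0, 0, 0, -1, 1⟩, ⟨-1, 1, 0, 0, 1, 0, 0, -1⟩, ⟨0, 0, 1, 1, 0, -1, 1, 0⟩),
  (⟨-2, 1, -1, 0, 0, 0, -1, 1⟩, ⟨0, 0, -1, 1, 0, -1, -1, 0⟩, ⟨-1, -1, 0, 0, 1, 0, 0, 1⟩),
  (⟨-2, 1, -1, 0, 0, 0, -1, 1⟩, ⟨0, 0, -1, 1, 0, -1, -1, 0⟩, ⟨1, 1, 0, 0, -1, 0, 0, -1⟩),
  (⟨-2, 1, -1, 0, 0, 0, -1, 1⟩, ⟨0, 0, 1, -1, 0, 1, 1, 0⟩, ⟨-1, -1, 0, 0, 1, 0, 0, 1⟩),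
  (⟨-2, 1, -1, 0, 0, 0, -1, 1⟩, ⟨0, 0, 1, -1, 0, 1, 1, 0⟩, ⟨1, 1, 0, 0, -1, 0, 0, -1⟩),
  (⟨-2, 1, -1, 0, 0, 0, -1, 1⟩, ⟨1, -1, 0, 0, -1, 0, 0, 1⟩, ⟨0, 0, -1, -1, 0, 1, -1, 0⟩),
  (⟨-2, 1, -1, 0, 0, 0, -1, 1⟩, ⟨1, -1, 0, 0, -1, 0, 0, 1⟩, ⟨0, 0, 1, 1, 0, -1, 1, 0⟩),
  (⟨-2, 1, -1, 0, 0, 0, -1, 1⟩, ⟨-1, -1, 0, 0, 1, 0, 0, 1⟩, ⟨0, 0, -1, 1, 0, -1, -1, 0⟩),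
  (⟨-2, 1, -1, 0, 0, 0, -1, 1⟩, ⟨-1, -1, 0, 0, 1, 0, 0, 1⟩, ⟨0, 0, 1, -1, 0, 1, 1, 0⟩),
  (⟨-2, 1, -1, 0, 0, 0, -1, 1⟩, ⟨0, 0, -1, -1, 0, 1, -1, 0⟩, ⟨-1, 1, 0, 0, 1, 0, 0, -1⟩),
  (⟨-2, 1, -1, 0, 0, 0, -1, 1⟩, ⟨0, 0, -1, -1, 0, 1, -1, 0⟩, ⟨1, -1, 0, 0, -1, 0, 0, 1⟩),
  (⟨-2, 1, -1, 0, 0, 0, -1, 1⟩, ⟨0, 0, 1, 1, 0, -1, 1, 0⟩, ⟨-1, 1, 0, 0, 1, 0, 0, -1⟩),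
  (⟨-2, 1, -1, 0, 0, 0, -1, 1⟩, ⟨0, 0, 1, 1, 0, -1, 1, 0⟩, ⟨1, -1, 0, 0, -1, 0, 0, 1⟩),
  (⟨-2, 1, -1, 0, 0, 0, -1, 1⟩, ⟨1, 1, 0, 0, -1, 0, 0, -1⟩, ⟨0, 0, -1, 1, 0, -1, -1, 0⟩),
  (⟨-2, 1, -1, 0, 0, 0, -1, 1⟩, ⟨1, 1, 0, 0, -1, 0, 0, -1⟩, ⟨0, 0, 1, -1, 0, 1, 1, 0⟩),
  (⟨-2, 1, -1, 0, 0, 0, -1, 1⟩, ⟨-1, 0, 0, -1, -1, -1, 0, 0⟩, ⟨0, -1, -1, 0, 0, 0, 1, -1⟩),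
  (⟨-2, 1, -1, 0, 0, 0, -1, 1⟩, ⟨-1, 0, 0, -1, -1, -1, 0, 0⟩, ⟨0, 1, 1, 0, 0, 0, -1, 1⟩),
  (⟨-2, 1, -1, 0, 0, 0, -1, 1⟩, ⟨0, -1, 1, 0, 0, 0, -1, -1⟩, ⟨-1, 0, 0, 1, -1, 1, 0, 0⟩),
  (⟨-2, 1, -1, 0, 0, 0, -1, 1⟩, ⟨0, -1, 1, 0, 0, 0, -1, -1⟩, ⟨1, 0, 0, -1, 1, -1, 0, 0⟩),
  (⟨-2, 1, -1, 0, 0, 0, -1, 1⟩, ⟨0, 1, -1, 0, 0, 0, 1, 1⟩, ⟨-1, 0, 0, 1, -1, 1, 0, 0⟩),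
  (⟨-2, 1, -1, 0, 0, 0, -1, 1⟩, ⟨0, 1, -1, 0, 0, 0, 1, 1⟩, ⟨1, 0, 0, -1, 1, -1, 0, 0⟩),
  (⟨-2, 1, -1, 0, 0, 0, -1, 1⟩, ⟨1, 0, 0, 1, 1, 1, 0, 0⟩, ⟨0, -1, -1, 0, 0, 0, 1, -1⟩),
  (⟨-2, 1, -1, 0, 0, 0, -1, 1⟩, ⟨1, 0, 0, 1, 1, 1, 0, 0⟩, ⟨0, 1, 1, 0, 0, 0, -1, 1⟩),
  (⟨-1, -1, -1, 0, 0, -1, 0, 0⟩, ⟨-1, 0, 1, -1, 0, 0, 0, 1⟩, ⟨0, 0, -2, 1, -1, 0, -1, 1⟩),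
  (⟨-1, -1, -1, 0, 0, -1, 0, 0⟩, ⟨-1, 0, 1, -1, 0, 0, 0, 1⟩, ⟨0, 0, 2, -1, 1, 0, 1, -1⟩),
  (⟨-1, -1, -1, 0, 0, -1, 0, 0⟩, ⟨-1, 1, -1, 0, 0, 1, 0, 0⟩, ⟨-2, 1, 0, 0, 1, -1, -1, 0⟩),
  (⟨-1, -1, -1, 0, 0, -1, 0, 0⟩, ⟨-1, 1, -1, 0, 0, 1, 0, 0⟩, ⟨2, -1, 0, 0, -1, 1, 1, 0⟩),
  (⟨-1, -1, -1, 0, 0, -1, 0, 0⟩, ⟨1, -1, 1, 0, 0, -1, 0, 0⟩, ⟨-2, 1, 0, 0, 1, -1, -1, 0⟩),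
  (⟨-1, -1, -1, 0, 0, -1, 0, 0⟩, ⟨1, -1, 1, 0, 0, -1, 0, 0⟩, ⟨2, -1, 0, 0, -1, 1, 1, 0⟩),
  (⟨-1, -1, -1, 0, 0, -1, 0, 0⟩, ⟨1, 0, -1, 1, 0, 0, 0, -1⟩, ⟨0, 0, -2, 1, -1, 0, -1, 1⟩),
  (⟨-1, -1, -1, 0, 0, -1, 0, 0⟩, ⟨1, 0, -1, 1, 0, 0, 0, -1⟩, ⟨0, 0, 2, -1, 1, 0, 1, -1⟩),
  (⟨-1, -1, -1, 0, 0, -1, 0, 0⟩, ⟨0, -1, 0, 0, -1, 1, -1, 0⟩, ⟨-1, 1, 1, 0, -2, 1, 0, 0⟩),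
  (⟨-1, -1, -1, 0, 0, -1, 0, 0⟩, ⟨0, -1, 0, 0, -1, 1, -1, 0⟩, ⟨1, -1, -1, 0, 2, -1, 0, 0⟩),
  (⟨-1, -1, -1, 0, 0, -1, 0, 0⟩, ⟨0, 0, 0, -1, -1, 0, 1, -1⟩, ⟨-1, 0, -1, 1, 0, 0, 2, -1⟩),
  (⟨-1, -1, -1, 0, 0, -1, 0, 0⟩, ⟨0, 0, 0, -1, -1, 0, 1, -1⟩, ⟨1, 0, 1, -1, 0, 0, -2, 1⟩),
  (⟨-1, -1, -1, 0, 0, -1, 0, 0⟩, ⟨0, 0, 0, 1, 1, 0, -1, 1⟩, ⟨-1, 0, -1, 1, 0, 0, 2, -1⟩),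
  (⟨-1, -1, -1, 0, 0, -1, 0, 0⟩, ⟨0, 0, 0, 1, 1, 0, -1, 1⟩, ⟨1, 0, 1, -1, 0, 0, -2, 1⟩),
  (⟨-1, -1, -1, 0, 0, -1, 0, 0⟩, ⟨0, 1, 0, 0, 1, -1, 1, 0⟩, ⟨-1, 1, 1, 0, -2, 1, 0, 0⟩),
  (⟨-1, -1, -1, 0, 0, -1, 0, 0⟩, ⟨0, 1, 0, 0, 1, -1, 1, 0⟩, ⟨1, -1, -1, 0, 2, -1, 0, 0⟩),
  (⟨-1, -1, -1, 0, 0, -1, 0, 0⟩, ⟨-2, 1, 0, 0, 1, -1, -1, 0⟩, ⟨-1, 1, -1, 0, 0, 1, 0, 0⟩),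
  (⟨-1, -1, -1, 0, 0, -1, 0, 0⟩, ⟨-2, 1, 0, 0, 1, -1, -1, 0⟩, ⟨1, -1, 1, 0, 0, -1, 0, 0⟩),
  (⟨-1, -1, -1, 0, 0, -1, 0, 0⟩, ⟨0, 0, -2, 1, -1, 0, -1, 1⟩, ⟨-1, 0, 1, -1, 0, 0, 0, 1⟩),
  (⟨-1, -1, -1, 0, 0, -1, 0, 0⟩, ⟨0, 0, -2, 1, -1, 0, -1, 1⟩, ⟨1, 0, -1, 1, 0, 0, 0, -1⟩),
  (⟨-1, -1, -1, 0, 0, -1, 0, 0⟩, ⟨0, 0, 2, -1, 1, 0, 1, -1⟩, ⟨-1, 0, 1, -1, 0, 0, 0, 1⟩),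
  (⟨-1, -1, -1, 0, 0, -1, 0, 0⟩, ⟨0, 0, 2, -1, 1, 0, 1, -1⟩, ⟨1, 0, -1, 1, 0, 0, 0, -1⟩),
  (⟨-1, -1, -1, 0, 0, -1, 0, 0⟩, ⟨2, -1, 0, 0, -1, 1, 1, 0⟩, ⟨-1, 1, -1, 0, 0, 1, 0, 0⟩),
  (⟨-1, -1, -1, 0, 0, -1, 0, 0⟩, ⟨2, -1, 0, 0, -1, 1, 1, 0⟩, ⟨1, -1, 1, 0, 0, -1, 0, 0⟩),
  (⟨-1, -1, -1, 0, 0, -1, 0, 0⟩, ⟨-1, 0, -1, 1, 0, 0, 2, -1⟩, ⟨0, 0, 0, -1, -1, 0, 1, -1⟩),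
  (⟨-1, -1, -1, 0, 0, -1, 0, 0⟩, ⟨-1, 0, -1, 1, 0, 0, 2, -1⟩, ⟨0, 0, 0, 1, 1, 0, -1, 1⟩),
  (⟨-1, -1, -1, 0, 0, -1, 0, 0⟩, ⟨-1, 1, 1, 0, -2, 1, 0, 0⟩, ⟨0, -1, 0, 0, -1, 1, -1, 0⟩),
  (⟨-1, -1, -1, 0, 0, -1, 0, 0⟩, ⟨-1, 1, 1, 0, -2, 1, 0, 0⟩, ⟨0, 1, 0, 0, 1, -1, 1, 0⟩),
  (⟨-1, -1, -1, 0, 0, -1, 0, 0⟩, ⟨1, -1, -1, 0, 2, -1, 0, 0⟩, ⟨0, -1, 0, 0, -1, 1, -1, 0⟩),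
  (⟨-1, -1, -1, 0, 0, -1, 0, 0⟩, ⟨1, -1, -1, 0, 2, -1, 0, 0⟩, ⟨0, 1, 0, 0, 1, -1, 1, 0⟩),
  (⟨-1, -1, -1, 0, 0, -1, 0, 0⟩, ⟨1, 0, 1, -1, 0, 0, -2, 1⟩, ⟨0, 0, 0, -1, -1, 0, 1, -1⟩),
  (⟨-1, -1, -1, 0, 0, -1, 0, 0⟩, ⟨1, 0, 1, -1, 0, 0, -2, 1⟩, ⟨0, 0, 0, 1, 1, 0, -1, 1⟩),
  (⟨0, 0, 0, 0, 0, 0, 0, 0⟩, ⟨-4, 0, 0, 0, 0, 0, 0, 0⟩, ⟨0, 0, 0, 0, 0, 0, 0, 0⟩),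
  (⟨0, 0, 0, 0, 0, 0, 0, 0⟩, ⟨-2, 0, -2, 0, 0, 0, 0, 0⟩, ⟨-2, 0, -2, 0, 0, 0, 0, 0⟩),
  (⟨0, 0, 0, 0, 0, 0, 0, 0⟩, ⟨-2, 0, -2, 0, 0, 0, 0, 0⟩, ⟨-2, 0, 2, 0, 0, 0, 0, 0⟩),
  (⟨0, 0, 0, 0, 0, 0, 0, 0⟩, ⟨-2, 0, -2, 0, 0, 0, 0, 0⟩, ⟨2, 0, -2, 0, 0, 0, 0, 0⟩),
  (⟨0, 0, 0, 0, 0, 0, 0, 0⟩, ⟨-2, 0, -2, 0, 0, 0, 0, 0⟩, ⟨2, 0, 2, 0, 0, 0, 0, 0⟩),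
  (⟨0, 0, 0, 0, 0, 0, 0, 0⟩, ⟨-2, 0, -2, 0, 0, 0, 0, 0⟩, ⟨0, 0, 0, 0, -2, 0, -2, 0⟩),
  (⟨0, 0, 0, 0, 0, 0, 0, 0⟩, ⟨-2, 0, -2, 0, 0, 0, 0, 0⟩, ⟨0, 0, 0, 0, -2, 0, 2, 0⟩),
  (⟨0, 0, 0, 0, 0, 0, 0, 0⟩, ⟨-2, 0, -2, 0, 0, 0, 0, 0⟩, ⟨0, 0, 0, 0, 2, 0, -2, 0⟩),
  (⟨0, 0, 0, 0, 0, 0, 0, 0⟩, ⟨-2, 0, -2, 0, 0, 0, 0, 0⟩, ⟨0, 0, 0, 0, 2, 0, 2, 0⟩),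
  (⟨0, 0, 0, 0, 0, 0, 0, 0⟩, ⟨0, 0, 0, 0, 0, 0, 0, 0⟩, ⟨-4, 0, 0, 0, 0, 0, 0, 0⟩)]

def normKeys : List (ℤ × ℤ) := [(0, 0), (4, 0), (4, 4), (8, -4), (8, 0), (8, 4), (8, 8), (8, 12), (12, -4), (12, 0), (12, 4), (12, 8), (12, 12), (12, 16), (16, -8), (16, -4), (16, 0), (16, 4), (16, 8), (16, 12), (16, 16), (16, 20), (16, 24)]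

def wantedKeys : List (ℤ × ℤ) := [(0, 0), (4, 0), (4, 4), (8, -4), (8, 0), (8, 4), (12, -4), (12, 0), (16, 0)]

end Cfsg.Agent.Lie.Ico
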