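import Cfsg.Agent.Lib.Lie.JankoPack

/-!
Positions of the lines in the order of the conjugation tree (generated).
-/

set_option autoImplicit false
set_option maxRecDepth 100000
set_option maxHeartbeats 0

namespace Cfsg.Agent.Lie.J2Cert

def reflLine0 : Janko.Tree (ℕ) :=
  (.node (.node (.node (.node (.node (.leaf 300) (.leaf 73)) (.leaf 187)) (.node (.leaf 91) (.leaf 183))) (.node (.node (.node (.leaf 258) (.leaf 59)) (.leaf 12)) (.node (.leaf 6) (.leaf 257)))) (.node (.node (.node (.node (.leaf 15) (.leaf 154)) (.leaf 286)) (.node (.leaf 287) (.leaf 31))) (.node (.node (.node (.leaf 124) (.leaf 97)) (.leaf 201)) (.node (.leaf 312) (.leaf 112)))))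

def reflLine1 : Janko.Tree (ℕ) :=
  (.node (.node (.node (.node (.node (.leaf 260) (.leaf 44)) (.leaf 220)) (.node (.leaf 157) (.leaf 225))) (.node (.node (.node (.leaf 55) (.leaf 117)) (.leaf 272)) (.node (.leaf 234) (.leaf 142)))) (.node (.node (.node (.node (.leaf 277) (.leaf 135)) (.leaf 5)) (.node (.leaf 30) (.leaf 233))) (.node (.node (.node (.leaf 20) (.leaf 22)) (.leaf 276)) (.node (.leaf 122) (.leaf 53)))))

def reflLine2 : Janko.Tree (ℕ) :=
  (.node (.node (.node (.node (.node (.leaf 57) (.leaf 178)) (.leaf 301)) (.node (.leaf 252) (.leaf 103))) (.node (.node (.node (.leaf 141) (.leaf 129)) (.leaf 75)) (.node (.leaf 246) (.leaf 143)))) (.node (.node (.node (.node (.leaf 104) (.leaf 145)) (.leaf 11)) (.node (.leaf 275) (.leaf 113))) (.node (.node (.node (.leaf 169) (.leaf 148)) (.leaf 249)) (.node (.leaf 48) (.leaf 80)))))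

def reflLine3 : Janko.Tree (ℕ) :=
  (.node (.node (.node (.node (.node (.leaf 237) (.leaf 4)) (.leaf 58)) (.node (.leaf 77) (.leaf 170))) (.node (.node (.node (.leaf 196) (.leaf 123)) (.leaf 144)) (.node (.leaf 188) (.leaf 159)))) (.node (.node (.node (.node (.leaf 297) (.leaf 47)) (.leaf 125)) (.node (.leaf 299) (.leaf 120))) (.node (.node (.node (.leaf 194) (.leaf 243)) (.leaf 221)) (.node (.leaf 278) (.leaf 24)))))

def reflLine4 : Janko.Tree (ℕ) :=
  (.node (.node (.node (.node (.node (.leaf 84) (.leaf 290)) (.leaf 269)) (.node (.leaf 261) (.leaf 152))) (.node (.node (.node (.leaf 263) (.leaf 136)) (.leaf 90)) (.node (.leaf 94) (.leaf 210)))) (.node (.node (.node (.node (.leaf 229) (.leaf 219)) (.leaf 306)) (.node (.leaf 65) (.leaf 76))) (.node (.node (.node (.leaf 177) (.leaf 198)) (.leaf 200)) (.node (.leaf 1) (.leaf 46)))))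

def reflLine5 : Janko.Tree (ℕ) :=
  (.node (.node (.node (.node (.node (.leaf 189) (.leaf 0)) (.leaf 307)) (.node (.leaf 284) (.leaf 235))) (.node (.node (.node (.leaf 295) (.leaf 108)) (.leaf 115)) (.node (.leaf 309) (.leaf 281)))) (.node (.node (.node (.node (.leaf 131) (.leaf 216)) (.leaf 238)) (.node (.leaf 172) (.leaf 134))) (.node (.node (.node (.leaf 83) (.leaf 66)) (.leaf 60)) (.node (.leaf 37) (.leaf 205)))))

def reflLine6 : Janko.Tree (ℕ) :=
  (.node (.node (.node (.node (.node (.leaf 110) (.leaf 114)) (.leaf 310)) (.node (.leaf 138) (.leaf 223))) (.node (.node (.node (.leaf 192) (.leaf 181)) (.leaf 85)) (.node (.leaf 227) (.leaf 308)))) (.node (.node (.node (.node (.leaf 10) (.leaf 202)) (.leaf 3)) (.node (.leaf 33) (.leaf 313))) (.node (.node (.node (.leaf 173) (.leaf 106)) (.leaf 151)) (.node (.leaf 280) (.leaf 68)))))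

def reflLine7 : Janko.Tree (ℕ) :=
  (.node (.node (.node (.node (.node (.leaf 119) (.leaf 211)) (.leaf 253)) (.node (.leaf 87) (.leaf 204))) (.node (.node (.node (.leaf 296) (.leaf 18)) (.leaf 9)) (.node (.leaf 282) (.leaf 228)))) (.node (.node (.node (.node (.leaf 271) (.leaf 109)) (.leaf 64)) (.node (.leaf 162) (.leaf 302))) (.node (.node (.node (.leaf 304) (.leaf 273)) (.leaf 285)) (.node (.leaf 283) (.leaf 140)))))

def reflLine8 : Janko.Tree (ℕ) :=
  (.node (.node (.node (.node (.node (.leaf 209) (.leaf 62)) (.leaf 244)) (.node (.leaf 215) (.leaf 42))) (.node (.node (.node (.leaf 50) (.leaf 158)) (.leaf 128)) (.node (.leaf 93) (.leaf 267)))) (.node (.node (.node (.node (.leaf 165) (.leaf 206)) (.leaf 236)) (.node (.leaf 43) (.leaf 38))) (.node (.node (.node (.leaf 127) (.leaf 137)) (.leaf 101)) (.node (.leaf 107) (.leaf 251)))))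

def reflLine9 : Janko.Tree (ℕ) :=
  (.node (.node (.node (.node (.node (.leaf 245) (.leaf 92)) (.leaf 147)) (.node (.leaf 247) (.leaf 250))) (.node (.node (.node (.leaf 180) (.leaf 23)) (.leaf 16)) (.node (.leaf 226) (.leaf 240)))) (.node (.node (.node (.node (.leaf 156) (.leaf 13)) (.leaf 266)) (.node (.leaf 279) (.leaf 184))) (.node (.node (.node (.leaf 146) (.leaf 232)) (.leaf 133)) (.node (.leaf 256) (.leaf 2)))))

def reflLine10 : Janko.Tree (ℕ) :=
  (.node (.node (.node (.node (.node (.leaf 171) (.leaf 197)) (.leaf 28)) (.node (.leaf 231) (.leaf 207))) (.node (.node (.node (.leaf 174) (.leaf 71)) (.leaf 218)) (.node (.leaf 121) (.leaf 298)))) (.node (.node (.node (.node (.leaf 36) (.leaf 212)) (.leaf 39)) (.node (.leaf 224) (.leaf 100))) (.node (.node (.node (.leaf 254) (.leaf 118)) (.leaf 195)) (.node (.leaf 190) (.leaf 288)))))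

def reflLine11 : Janko.Tree (ℕ) :=
  (.node (.node (.node (.node (.node (.leaf 63) (.leaf 182)) (.leaf 111)) (.node (.leaf 81) (.leaf 98))) (.node (.node (.node (.leaf 96) (.leaf 41)) (.leaf 303)) (.node (.leaf 54) (.leaf 268)))) (.node (.node (.node (.node (.leaf 56) (.leaf 294)) (.leaf 311)) (.node (.leaf 164) (.leaf 270))) (.node (.node (.leaf 191) (.leaf 82)) (.node (.leaf 17) (.leaf 126)))))

def reflLine12 : Janko.Tree (ℕ) :=
  (.node (.node (.node (.node (.node (.leaf 102) (.leaf 241)) (.leaf 222)) (.node (.leaf 175) (.leaf 27))) (.node (.node (.node (.leaf 214) (.leaf 153)) (.leaf 203)) (.node (.leaf 167) (.leaf 305)))) (.node (.node (.node (.node (.leaf 99) (.leaf 105)) (.leaf 51)) (.node (.leaf 72) (.leaf 86))) (.node (.node (.leaf 26) (.leaf 255)) (.node (.leaf 163) (.leaf 78)))))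

def reflLine13 : Janko.Tree (ℕ) :=
  (.node (.node (.node (.node (.node (.leaf 61) (.leaf 49)) (.leaf 193)) (.node (.leaf 292) (.leaf 70))) (.node (.node (.node (.leaf 168) (.leaf 95)) (.leaf 166)) (.node (.leaf 132) (.leaf 155)))) (.node (.node (.node (.node (.leaf 289) (.leaf 274)) (.leaf 239)) (.node (.leaf 116) (.leaf 8))) (.node (.node (.leaf 52) (.leaf 149)) (.node (.leaf 14) (.leaf 185)))))

def reflLine14 : Janko.Tree (ℕ) :=
  (.node (.node (.node (.node (.node (.leaf 213) (.leaf 264)) (.leaf 45)) (.node (.leaf 186) (.leaf 293))) (.node (.node (.node (.leaf 265) (.leaf 19)) (.leaf 179)) (.node (.leaf 161) (.leaf 242)))) (.node (.node (.node (.node (.leaf 230) (.leaf 217)) (.leaf 291)) (.node (.leaf 248) (.leaf 314))) (.node (.node (.leaf 7) (.leaf 139)) (.node (.leaf 67) (.leaf 34)))))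

def reflLine15 : Janko.Tree (ℕ) :=
  (.node (.node (.node (.node (.node (.leaf 74) (.leaf 199)) (.leaf 262)) (.node (.leaf 29) (.leaf 89))) (.node (.node (.node (.leaf 160) (.leaf 208)) (.leaf 259)) (.node (.leaf 40) (.leaf 79)))) (.node (.node (.node (.node (.leaf 69) (.leaf 150)) (.leaf 21)) (.node (.leaf 176) (.leaf 35))) (.node (.node (.leaf 130) (.leaf 88)) (.node (.leaf 25) (.leaf 32)))))

def reflLine : Janko.Tree (ℕ) :=
  (.node (.node (.node (.node reflLine0 reflLine8) (.node reflLine4 reflLine12)) (.node (.node reflLine2 reflLine10) (.node reflLine6 reflLine14))) (.node (.node (.node reflLine1 reflLine9) (.node reflLine5 reflLine13)) (.node (.node reflLine3 reflLine11) (.node reflLine7 reflLine15))))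

end Cfsg.Agent.Lie.J2Cert
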