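import Cfsg.Agent.Lib.Lie.Ico.Reduce
import Cfsg.Agent.Lib.Lie.Ico.EnumData
import Cfsg.Agent.Lib.Lie.Ico.GroupData
import Cfsg.Agent.Lib.Lie.Ico.ClassData
import Cfsg.Agent.Lib.Lie.Ico.ReflData

/-!
The packed matrices are those of the reflections in the listed vectors.
-/

set_option autoImplicit false
set_option maxRecDepth 100000
set_option maxHeartbeats 0

namespace Cfsg.Agent.Lie.Ico

/-- The scaled vector of the `j`-th reflection. -/
def lineSQ (j : ℕ) : Fin 3 → SQ :=
  let l := lineList.getD (J2Cert.reflLine.get j) (⟨0, 0, 0, 0, 0, 0, 0, 0⟩, ⟨0, 0, 0, 0, 0, 0, 0, 0⟩, ⟨0, 0, 0, 0, 0, 0, 0, 0⟩)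
  fun t => if t = 0 then l.1 else if t = 1 then l.2.1 else l.2.2

/-- One packed row equals the model row. -/
def rowCheck (N : ℕ) (s : Fin 3 → SQ) (r : Fin 7) : Bool :=
  decide (∀ c : Fin 7, ((N / 4096 ^ c.val % 4096 : ℕ) : ZMod 11) = reflModel s r c)

/-- The `j`-th packed matrix is the model. -/
def modelCheck (j : ℕ) : Bool :=
  let A := J2Cert.reflMat.get j
  let s := lineSQ j
  rowCheck A.r0 s 0 && (rowCheck A.r1 s 1 && (rowCheck A.r2 s 2 && (rowCheck A.r3 s 3 && (rowCheck A.r4 s 4 &&
    (rowCheck A.r5 s 5 && rowCheck A.r6 s 6)))))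

theorem model_ok0 : ((List.range 105).all fun j => modelCheck j) = true := by decide +kernel

theorem model_ok1 : ((List.range 105).all fun j => modelCheck (105 + j)) = true := by decide +kernel

theorem model_ok2 : ((List.range 105).all fun j => modelCheck (210 + j)) = true := by decide +kernel

theorem refl_distinct : ((List.range 315).all fun i =>
    let A := J2Cert.reflMat.get i
    let B := J2Cert.negMat.mul A
    (List.range i).all fun j => !(A.beq (J2Cert.reflMat.get j)) && !(B.beq (J2Cert.reflMat.get j))) = true := by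
  decide +kernel

/-- Twice a signed coordinate vector, scaled. -/
def axisSQ (a : Fin 3) (e : ℤ) (t : Fin 3) : SQ :=
  if t = a then ⟨4 * e, 0, 0, 0, 0, 0, 0, 0⟩ else ⟨0, 0, 0, 0, 0, 0, 0, 0⟩

/-- Only the axis vector itself has its reduction. -/
def axisCheck (a : Fin 3) (j : ℕ) : Bool :=
  let s := lineSQ j
  decide (∃ t, t ≠ a ∧ phi (s t) ≠ 0) ||
    unitList.all fun u => [1, -1].all fun e =>
      decide (∃ t, (6 : ZMod 11) • (phi u * phi (s t)) ≠ phi (axisSQ a e t)) ||
        decide (∀ t, u.mul (s t) = (axisSQ a e t).smul 2)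

theorem axis_ok : ((List.range 315).all fun j => axisCheck 0 j && (axisCheck 1 j && axisCheck 2 j)) = true := by
  decide +kernel

theorem lineSQ_cover : ((List.range 315).all fun k =>
    (List.range 315).any fun j => Nat.beq (J2Cert.reflLine.get j) k) = true ∧
    ((List.range 315).all fun j => Nat.blt (J2Cert.reflLine.get j) 315) = true := by
  decide +kernel

end Cfsg.Agent.Lie.Ico
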