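import Mathlib
import Cfsg.Agent.Lib.Lie.Ico.Minimal
import Cfsg.Agent.Lib.Lie.Ico.ReflChecks

/-!
The reflections of the icosian lattice and their scaled description.
-/

set_option autoImplicit false
set_option maxRecDepth 20000
set_option maxHeartbeats 1000000

noncomputable section

namespace Cfsg.Agent.Lie.Ico

open Quaternion Cfsg.Spor SQ

theorem star_mem {x : ℍ[ℝ]} (hx : x ∈ icosians) : star x ∈ icosians := by
  obtain ⟨p, hp, rfl⟩ := exists_of_mem hx
  rw [← val_conj]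
  exact val_mem_icosians (inI_conj hp)

theorem hh_mul_star : icoH * star icoH = 2 ∧ star icoH * icoH = 2 := by
  have h : icoH * star icoH = 2 := by
    rw [← val_hh, val_mul_star_val, show nA hh = 8 by decide, show nB hh = 0 by decide]
    apply Quaternion.ext <;> simp <;> norm_num <;> rfl
  exact ⟨h, by rw [Quaternion.star_mul_self, ← Quaternion.self_mul_star, h]⟩

theorem half_two (z : ℍ[ℝ]) : (1 / 2 : ℝ) • (2 * z) = z := by
  rw [two_mul, smul_add, ← add_smul]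
  norm_num

theorem four_eq : (4 : ℍ[ℝ]) = ((4 : ℝ) : ℍ[ℝ]) := by norm_num; rfl

/-- Half of the inner product of two lattice vectors is an icosian. -/
theorem half_qip_mem {x r : Fin 3 → ℍ[ℝ]} (hx : x ∈ icoLeech) (hr : r ∈ icoLeech) :
    (1 / 2 : ℝ) • qip x r ∈ icosians := by
  obtain ⟨a, ha, ea⟩ := hx.2.1
  obtain ⟨b, hb, eb⟩ := hx.2.2.1
  obtain ⟨c, hc, ec⟩ := hx.2.2.2
  obtain ⟨a', ha', ea'⟩ := hr.2.1
  obtain ⟨b', hb', eb'⟩ := hr.2.2.1
  obtain ⟨c', hc', ec'⟩ := hr.2.2.2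
  obtain ⟨h1, h2⟩ := hh_mul_star
  have key : 3 * qip x r = (x 0 + x 1 + x 2) * star (r 0 + r 1 + r 2) + (x 0 - x 1) * star (r 0 - r 1) +
      (x 1 - x 2) * star (r 1 - r 2) + ((x 0 - x 1) + (x 1 - x 2)) * star ((r 0 - r 1) + (r 1 - r 2)) := by
    rw [qip_three]
    simp only [star_add, star_sub]
    noncomm_ring
  have t1 : (x 0 + x 1 + x 2) * star (r 0 + r 1 + r 2) = 2 * (c * star c') := by
    rw [ec, ec', star_mul, star_star, mul_assoc, ← mul_assoc (star icoH), h2]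
    simp only [← mul_assoc]
    rw [show c * 2 = 2 * c by rw [mul_two, two_mul]]
  have t : ∀ {u v : ℍ[ℝ]}, (u * icoH) * star (v * icoH) = 2 * (u * star v) := by
    intro u v
    rw [star_mul, mul_assoc, ← mul_assoc icoH, h1, ← mul_assoc, show u * 2 = 2 * u by rw [mul_two, two_mul], mul_assoc]
  rw [t1, ea, ea', eb, eb', ← add_mul, ← add_mul, t, t, t] at key
  set m : ℍ[ℝ] := c * star c' + a * star a' + b * star b' + (a + b) * star (a' + b') with hm
  have key' : 3 * qip x r = 2 * m := by rw [key, hm]; noncomm_ring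
  have e : (1 / 2 : ℝ) • qip x r = m - qip x r := by
    have h3 : qip x r = 3 * qip x r - 2 * qip x r := by noncomm_ring
    conv_lhs => rw [h3, key', ← mul_sub]
    exact half_two _
  rw [e, hm]
  refine sub_mem ?_ ?_
  · exact add_mem (add_mem (add_mem (mul_mem hc (star_mem hc')) (mul_mem ha (star_mem ha')))
      (mul_mem hb (star_mem hb'))) (mul_mem (add_mem ha hb) (star_mem (add_mem ha' hb')))
  · rw [qip_three]
    exact add_mem (add_mem (mul_mem (hx.1 0) (star_mem (hr.1 0))) (mul_mem (hx.1 1) (star_mem (hr.1 1))))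
      (mul_mem (hx.1 2) (star_mem (hr.1 2)))

theorem sub_mem_ico {x y : Fin 3 → ℍ[ℝ]} (hx : x ∈ icoLeech) (hy : y ∈ icoLeech) :
    (fun t => x t - y t) ∈ icoLeech := by
  have h : ∀ {q a b : ℍ[ℝ]}, a ∈ leftIdeal q → b ∈ leftIdeal q → a - b ∈ leftIdeal q := by
    rintro q a b ⟨u, hu, rfl⟩ ⟨v, hv, rfl⟩
    exact ⟨u - v, sub_mem hu hv, (sub_mul u v q).symm⟩
  refine ⟨fun t => sub_mem (hx.1 t) (hy.1 t), ?_, ?_, ?_⟩
  · rw [show x 0 - y 0 - (x 1 - y 1) = (x 0 - x 1) - (y 0 - y 1) by abel]; exact h hx.2.1 hy.2.1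
  · rw [show x 1 - y 1 - (x 2 - y 2) = (x 1 - x 2) - (y 1 - y 2) by abel]; exact h hx.2.2.1 hy.2.2.1
  · rw [show x 0 - y 0 + (x 1 - y 1) + (x 2 - y 2) = (x 0 + x 1 + x 2) - (y 0 + y 1 + y 2) by abel]
    exact h hx.2.2.2 hy.2.2.2

theorem qrefl_mem {r x : Fin 3 → ℍ[ℝ]} (hr : r ∈ icoLeech) (hx : x ∈ icoLeech) : qrefl r x ∈ icoLeech :=
  sub_mem_ico hx (scale_mem (half_qip_mem hx hr) hr)

theorem star_qip (x y : Fin 3 → ℍ[ℝ]) : star (qip x y) = qip y x := by
  simp [qip]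

theorem qip_sub_sub (r x y : Fin 3 → ℍ[ℝ]) (c d : ℍ[ℝ]) :
    qip (fun t => x t - c * r t) (fun t => y t - d * r t) =
      qip x y - qip x r * star d - c * qip r y + c * (qip r r * star d) := by
  simp only [qip, star_sub, star_mul, Fin.sum_univ_three]
  noncomm_ring

theorem qip_sub_right (r x : Fin 3 → ℍ[ℝ]) (c : ℍ[ℝ]) :
    qip (fun t => x t - c * r t) r = qip x r - c * qip r r := by
  simp only [qip, Fin.sum_univ_three]
  noncomm_ring

theorem qip_qrefl {r : Fin 3 → ℍ[ℝ]} (hr : qip r r = 4) (x y : Fin 3 → ℍ[ℝ]) :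
    qip (qrefl r x) (qrefl r y) = qip x y := by
  set c := (1 / 2 : ℝ) • qip x r with hc
  set d := (1 / 2 : ℝ) • qip y r with hd
  have e : qip (qrefl r x) (qrefl r y) =
      qip x y - qip x r * star d - c * qip r y + c * (qip r r * star d) := qip_sub_sub r x y c d
  rw [e, hr, hc, hd, Quaternion.star_smul, star_qip, four_eq]
  apply Quaternion.ext <;> simp <;> ring

theorem qrefl_qrefl {r : Fin 3 → ℍ[ℝ]} (hr : qip r r = 4) (x : Fin 3 → ℍ[ℝ]) : qrefl r (qrefl r x) = x := by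
  have e : qip (qrefl r x) r = qip x r - ((1 / 2 : ℝ) • qip x r) * qip r r := qip_sub_right r x _
  have e' : ((1 / 2 : ℝ) • qip (qrefl r x) r) = -((1 / 2 : ℝ) • qip x r) := by
    rw [e, hr, four_eq]
    apply Quaternion.ext <;> simp <;> ring
  funext t
  show qrefl r x t - ((1 / 2 : ℝ) • qip (qrefl r x) r) * r t = x t
  rw [e', neg_mul, sub_neg_eq_add]
  exact sub_add_cancel _ _

/-- The reflection in a minimal vector. -/
def reflPerm (r : icoLeech) (hr : qip (r : Fin 3 → ℍ[ℝ]) r = 4) : Equiv.Perm icoLeech where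
  toFun x := ⟨qrefl r x, qrefl_mem r.2 x.2⟩
  invFun x := ⟨qrefl r x, qrefl_mem r.2 x.2⟩
  left_inv x := Subtype.ext (qrefl_qrefl hr x)
  right_inv x := Subtype.ext (qrefl_qrefl hr x)

theorem isIco_reflPerm (r : icoLeech) (hr : qip (r : Fin 3 → ℍ[ℝ]) r = 4) : IsIcoReflection (reflPerm r hr) :=
  ⟨r, hr, fun _ => rfl⟩

theorem qrefl_unit {u : ℍ[ℝ]} (hu : star u * u = 1) (r x : Fin 3 → ℍ[ℝ]) :
    qrefl (fun t => u * r t) x = qrefl r x := by
  have e : qip x (fun t => u * r t) = qip x r * star u := by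
    simp only [qip, star_mul, Finset.sum_mul, mul_assoc]
  funext t
  simp only [qrefl, e, smul_mul_assoc, mul_assoc, ← mul_assoc (star u), hu, one_mul]

theorem lineSQ_mem {j : ℕ} (hj : j < 315) :
    (lineSQ j 0, lineSQ j 1, lineSQ j 2) ∈ lineList := by
  have hlt : J2Cert.reflLine.get j < 315 :=
    Nat.blt_eq.mp (List.all_eq_true.1 lineSQ_cover.2 j (List.mem_range.2 hj))
  have : (lineSQ j 0, lineSQ j 1, lineSQ j 2) = lineList[J2Cert.reflLine.get j]'(by rw [lines_ok.2]; exact hlt) := by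
    simp only [lineSQ, List.getD_eq_getElem _ _ (show J2Cert.reflLine.get j < lineList.length by rw [lines_ok.2]; exact hlt)]
    rfl
  rw [this]
  exact List.getElem_mem _

/-- A scaled vector as a vector. -/
def valV (s : Fin 3 → SQ) : Fin 3 → ℍ[ℝ] := fun t => (s t).val

theorem valV_vec (s : Fin 3 → SQ) : valV s = ![(s 0).val, (s 1).val, (s 2).val] := by
  funext t; fin_cases t <;> rfl

theorem min_of_mem {l : SQ × SQ × SQ} (hl : l ∈ lineList) : IsMinTriple l.1 l.2.1 l.2.2 := by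
  have h := List.all_eq_true.1 lines_ok.1 l hl
  simp only [lineCheckIco, inIk, Bool.and_eq_true, zeq_iff, clsHk_eq, clsCk_eq] at h
  obtain ⟨⟨h1, h2, h3⟩, a, b, c, d, e⟩ := h
  exact ⟨h1, h2, h3, a, b, c, d, e⟩

theorem lineSQ_min {j : ℕ} (hj : j < 315) :
    valV (lineSQ j) ∈ icoLeech ∧ qip (valV (lineSQ j)) (valV (lineSQ j)) = 4 ∧ ∀ t, (lineSQ j t).inI := by
  have h := min_of_mem (lineSQ_mem hj)
  obtain ⟨h1, h2, h3, -⟩ := id h
  rw [valV_vec]
  obtain ⟨ha, hb⟩ := (isMinTriple_iff h1 h2 h3).1 h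
  exact ⟨ha, hb, fun t => by fin_cases t <;> assumption⟩

/-- The `j`-th reflection. -/
def lineRefl (j : Fin 315) : Equiv.Perm icoLeech :=
  reflPerm ⟨valV (lineSQ j), (lineSQ_min j.2).1⟩ (lineSQ_min j.2).2.1

theorem cover {l : SQ × SQ × SQ} (hl : l ∈ lineList) : ∃ j : Fin 315, valV (lineSQ j) = lineVec l := by
  obtain ⟨k, hk, rfl⟩ := List.getElem_of_mem hl
  have hk' : k < 315 := lines_ok.2 ▸ hk
  have h := List.all_eq_true.1 lineSQ_cover.1 k (List.mem_range.2 hk')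
  simp only [List.any_eq_true, List.mem_range, Nat.beq_eq] at h
  obtain ⟨j, hj, rfl⟩ := h
  refine ⟨⟨j, hj⟩, ?_⟩
  rw [valV_vec]
  simp only [lineSQ, List.getD_eq_getElem _ _ hk, lineVec]
  rfl

/-- There are only the 315 listed reflections. -/
theorem eq_lineRefl {f : Equiv.Perm icoLeech} (hf : IsIcoReflection f) : ∃ j, f = lineRefl j := by
  obtain ⟨r, hr, hx⟩ := hf
  obtain ⟨l, hl, u, hu, er⟩ := minimal r.2 hr
  obtain ⟨j, ej⟩ := cover hl
  obtain ⟨-, -, hu', -, -⟩ := unit_facts hu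
  refine ⟨j, Equiv.ext fun x => Subtype.ext ?_⟩
  rw [hx x, er, qrefl_unit hu']
  show qrefl (lineVec l) x = qrefl (valV (lineSQ j)) x
  rw [ej]

theorem twoJ2_eq : twoJ2 = Subgroup.closure (Set.range lineRefl) := by
  refine le_antisymm ((Subgroup.closure_le _).2 fun f hf => ?_) ((Subgroup.closure_le _).2 ?_)
  · obtain ⟨j, rfl⟩ := eq_lineRefl hf
    exact Subgroup.subset_closure ⟨j, rfl⟩
  · rintro f ⟨j, rfl⟩
    exact Subgroup.subset_closure (isIco_reflPerm _ _)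

theorem lineRefl_mem (j : Fin 315) : lineRefl j ∈ twoJ2 := Subgroup.subset_closure (isIco_reflPerm _ _)

end Cfsg.Agent.Lie.Ico
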