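import Mathlib
import Cfsg.Agent.Lib.Lie.Ico.Reflections
import Cfsg.Agent.Lib.Lie.Ico.Reduce
import Cfsg.Agent.Lib.Lie.JankoPack

/-!
The double cover of the Hall–Janko group as a group of matrices modulo 11.
-/

set_option autoImplicit false
set_option maxRecDepth 20000
set_option maxHeartbeats 1000000

noncomputable section

namespace Cfsg.Agent.Lie.Ico

open Quaternion Cfsg.Spor SQ

/-- A padded 7 × 7 matrix: the seventh coordinate is fixed. -/
def IsPadded (A : Matrix (Fin 7) (Fin 7) (ZMod 11)) : Prop :=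
  A * Matrix.single 6 6 1 = Matrix.single 6 6 1 ∧ Matrix.single 6 6 1 * A = Matrix.single 6 6 1

theorem isPadded_one : IsPadded 1 := ⟨one_mul _, mul_one _⟩

theorem IsPadded.mul {A B : Matrix (Fin 7) (Fin 7) (ZMod 11)} (hA : IsPadded A) (hB : IsPadded B) : IsPadded (A * B) :=
  ⟨by rw [mul_assoc, hB.1, hA.1], by rw [← mul_assoc, hA.2, hB.2]⟩

theorem IsPadded.inv {A : GL (Fin 7) (ZMod 11)} (hA : IsPadded (A : Matrix (Fin 7) (Fin 7) (ZMod 11))) :
    IsPadded ((A⁻¹ : GL (Fin 7) (ZMod 11)) : Matrix (Fin 7) (Fin 7) (ZMod 11)) :=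
  ⟨by nth_rw 1 [← hA.1]; rw [← mul_assoc, Units.inv_mul, one_mul],
    by nth_rw 1 [← hA.2]; rw [mul_assoc, Units.mul_inv, mul_one]⟩

theorem isPadded_reflModel (s : Fin 3 → SQ) : IsPadded (reflModel s) := by
  constructor <;>
    · ext i j
      simp only [Matrix.mul_apply, Fin.sum_univ_seven]
      fin_cases i <;> fin_cases j <;> simp [Matrix.single, reflModel]

/-- The permutation acts on reductions through the matrix. -/
def Acts (f : Equiv.Perm icoLeech) (A : Matrix (Fin 7) (Fin 7) (ZMod 11)) : Prop :=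
  ∀ (x : icoLeech) (p q : Fin 3 → SQ), valV p = x → valV q = f x → phiV q = A * phiV p

theorem exists_scaled (x : icoLeech) : ∃ p : Fin 3 → SQ, valV p = x := by
  choose p _ hp using fun t => exists_of_mem (x.2.1 t)
  exact ⟨p, funext hp⟩

theorem valV_injective {p q : Fin 3 → SQ} (h : valV p = valV q) : p = q :=
  funext fun t => val_injective (congrFun h t)

theorem acts_one : Acts 1 1 := fun x p q hp hq => by
  rw [Matrix.one_mul, valV_injective (hq.trans hp.symm)]

theorem Acts.mul {f g : Equiv.Perm icoLeech} {A B : Matrix (Fin 7) (Fin 7) (ZMod 11)} (hf : Acts f A)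
    (hg : Acts g B) : Acts (f * g) (A * B) := fun x p q hp hq => by
  obtain ⟨r, hr⟩ := exists_scaled (g x)
  rw [Matrix.mul_assoc, ← hg x p r hp hr]
  exact hf (g x) r q hr hq

theorem Acts.inv {f : Equiv.Perm icoLeech} {A : GL (Fin 7) (ZMod 11)}
    (hf : Acts f (A : Matrix (Fin 7) (Fin 7) (ZMod 11))) :
    Acts f⁻¹ ((A⁻¹ : GL (Fin 7) (ZMod 11)) : Matrix (Fin 7) (Fin 7) (ZMod 11)) := fun x p q hp hq => by
  have h := hf (f⁻¹ x) q p hq (hp.trans (congrArg Subtype.val (f.apply_symm_apply x).symm))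
  rw [h, ← Matrix.mul_assoc, Units.inv_mul, Matrix.one_mul]

/-- A signed doubled coordinate vector. -/
def axisV (a : Fin 3) (e : ℤ) : Fin 3 → ℍ[ℝ] := valV (axisSQ a e)

theorem axis_min : ∀ (a : Fin 3) (e : ℤ), e = 1 ∨ e = -1 →
    valV (axisSQ a e) ∈ icoLeech ∧ qip (valV (axisSQ a e)) (valV (axisSQ a e)) = 4 := by
  intro a e he
  have hI : ∀ t, (axisSQ a e t).inI := fun t => by
    rcases he with rfl | rfl <;> fin_cases a <;> fin_cases t <;> decide
  rw [valV_vec]
  refine (isMinTriple_iff (hI 0) (hI 1) (hI 2)).1 ⟨hI 0, hI 1, hI 2, ?_⟩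
  rcases he with rfl | rfl <;> fin_cases a <;> decide

/-- The axis vector in the lattice. -/
def axisPt (a : Fin 3) : icoLeech := ⟨valV (axisSQ a 1), (axis_min a 1 (Or.inl rfl)).1⟩

theorem acts_unique {f : Equiv.Perm icoLeech} {A B : Matrix (Fin 7) (Fin 7) (ZMod 11)} (hA : Acts f A) (hB : Acts f B)
    (pA : IsPadded A) (pB : IsPadded B) : A = B := by
  have key : ∀ a : Fin 3, A * phiV (axisSQ a 1) = B * phiV (axisSQ a 1) := fun a => by
    obtain ⟨q, hq⟩ := exists_scaled (f (axisPt a))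
    rw [← hA (axisPt a) (axisSQ a 1) q rfl hq, hB (axisPt a) (axisSQ a 1) q rfl hq]
  have h4 : (4 : ZMod 11) ≠ 0 := by decide
  have hcol : ∀ (a : Fin 3) (r : Fin 7) (i : Fin 2), A r ⟨2 * a + i, by omega⟩ = B r ⟨2 * a + i, by omega⟩ := by
    intro a r i
    haveI : Fact (Nat.Prime 11) := ⟨by norm_num⟩
    have e := congrFun (congrFun (key a) r) i
    simp only [Matrix.mul_apply, Fin.sum_univ_seven] at e
    refine mul_right_cancel₀ h4 ?_
    fin_cases a <;> fin_cases i <;>
      simp [phiV, axisSQ, phi, quatMat, sc, blockIdx, innerIdx] at e <;> simpa using e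
  have h6 : ∀ (C : Matrix (Fin 7) (Fin 7) (ZMod 11)), IsPadded C → ∀ r, C r 6 = if r = 6 then 1 else 0 := by
    intro C hC r
    have e := congrFun (congrFun hC.1 r) 6
    simp only [Matrix.mul_apply, Fin.sum_univ_seven] at e
    fin_cases r <;> simp [Matrix.single] at e ⊢ <;> exact e
  ext r c
  fin_cases c
  exacts [hcol 0 r 0, hcol 0 r 1, hcol 1 r 0, hcol 1 r 1, hcol 2 r 0, hcol 2 r 1, (h6 A pA r).trans (h6 B pB r).symm]

theorem acts_reflPerm (s : Fin 3 → SQ) (hs : valV s ∈ icoLeech) (hq : qip (valV s) (valV s) = 4) :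
    Acts (reflPerm ⟨valV s, hs⟩ hq) (reflModel s) := fun x p q hp hq' => by
  refine phiV_refl fun t => toH_injective ?_
  have e : (q t).val = qrefl (valV s) (valV p) t := by
    rw [hp]
    exact congrFun hq' t
  simp only [qrefl, qip_three, valV, SQ.val, Quaternion.star_smul] at e
  rw [toH_sub, toH_smul, toH_smul, toH_mul, toH_add, toH_add, toH_mul, toH_mul, toH_mul, toH_conj, toH_conj, toH_conj]
  have e8 := congrArg (fun z : ℍ[ℝ] => (16 : ℝ) • z) e
  simp only [smul_smul, smul_sub, smul_add, smul_mul_assoc, mul_smul_comm, add_mul] at e8 ⊢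
  norm_num at e8 ⊢
  rw [e8]

theorem lineRefl_sq (j : Fin 315) : lineRefl j * lineRefl j = 1 :=
  Equiv.ext fun x => Subtype.ext (qrefl_qrefl (lineSQ_min j.2).2.1 x)

theorem reflModel_sq (j : Fin 315) : reflModel (lineSQ j) * reflModel (lineSQ j) = 1 := by
  have h := acts_reflPerm (lineSQ j) (lineSQ_min j.2).1 (lineSQ_min j.2).2.1
  refine acts_unique ?_ acts_one ((isPadded_reflModel _).mul (isPadded_reflModel _)) isPadded_one
  rw [← lineRefl_sq j]
  exact h.mul h

/-- The matrix of a reflection. -/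
def reflUnit (j : Fin 315) : GL (Fin 7) (ZMod 11) :=
  ⟨reflModel (lineSQ j), reflModel (lineSQ j), reflModel_sq j, reflModel_sq j⟩

theorem exists_matrix (f : Equiv.Perm icoLeech) (hf : f ∈ twoJ2) :
    ∃ A : GL (Fin 7) (ZMod 11), IsPadded (A : Matrix (Fin 7) (Fin 7) (ZMod 11)) ∧
      Acts f (A : Matrix (Fin 7) (Fin 7) (ZMod 11)) ∧ A ∈ Subgroup.closure (Set.range reflUnit) ∧
      ∀ x y : icoLeech, qip (f x : Fin 3 → ℍ[ℝ]) (f y) = qip (x : Fin 3 → ℍ[ℝ]) y := by
  rw [twoJ2_eq] at hf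
  induction hf using Subgroup.closure_induction with
  | mem g hg =>
    obtain ⟨j, rfl⟩ := hg
    exact ⟨reflUnit j, isPadded_reflModel _, acts_reflPerm _ _ _, Subgroup.subset_closure ⟨j, rfl⟩,
      fun x y => qip_qrefl (lineSQ_min j.2).2.1 _ _⟩
  | one => exact ⟨1, isPadded_one, acts_one, one_mem _, fun _ _ => rfl⟩
  | mul g h _ _ ig ih =>
    obtain ⟨A, pA, aA, cA, iA⟩ := ig
    obtain ⟨B, pB, aB, cB, iB⟩ := ih
    refine ⟨A * B, ?_, ?_, mul_mem cA cB, fun x y => (iA (h x) (h y)).trans (iB x y)⟩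
    · rw [Units.val_mul]; exact pA.mul pB
    · rw [Units.val_mul]; exact aA.mul aB
  | inv g _ ig =>
    obtain ⟨A, pA, aA, cA, iA⟩ := ig
    refine ⟨A⁻¹, pA.inv, aA.inv, inv_mem cA, fun x y => ?_⟩
    have := iA (g⁻¹ x) (g⁻¹ y)
    rw [show g (g⁻¹ x) = x from g.apply_symm_apply x, show g (g⁻¹ y) = y from g.apply_symm_apply y] at this
    exact this.symm

/-- The reduction homomorphism. -/
def beta : twoJ2 →* GL (Fin 7) (ZMod 11) :=
  MonoidHom.mk' (fun f => (exists_matrix f f.2).choose) fun f g => by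
    obtain ⟨pA, aA, -⟩ := (exists_matrix f f.2).choose_spec
    obtain ⟨pB, aB, -⟩ := (exists_matrix g g.2).choose_spec
    obtain ⟨pC, aC, -⟩ := (exists_matrix (f * g : twoJ2) (f * g).2).choose_spec
    refine Units.ext (acts_unique aC ?_ pC ?_)
    · rw [Units.val_mul]; exact aA.mul aB
    · rw [Units.val_mul]; exact pA.mul pB

theorem beta_acts (f : twoJ2) : Acts (f : Equiv.Perm icoLeech) (beta f : Matrix (Fin 7) (Fin 7) (ZMod 11)) :=
  (exists_matrix f f.2).choose_spec.2.1

theorem beta_padded (f : twoJ2) : IsPadded (beta f : Matrix (Fin 7) (Fin 7) (ZMod 11)) :=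
  (exists_matrix f f.2).choose_spec.1

theorem qip_apply (f : twoJ2) (x y : icoLeech) :
    qip ((f : Equiv.Perm icoLeech) x : Fin 3 → ℍ[ℝ]) ((f : Equiv.Perm icoLeech) y) = qip (x : Fin 3 → ℍ[ℝ]) y :=
  (exists_matrix f f.2).choose_spec.2.2.2 x y

theorem beta_refl (j : Fin 315) : beta ⟨lineRefl j, lineRefl_mem j⟩ = reflUnit j :=
  Units.ext (acts_unique (beta_acts _) (acts_reflPerm (lineSQ j) (lineSQ_min j.2).1 (lineSQ_min j.2).2.1)
    (beta_padded _) (isPadded_reflModel _))

theorem beta_range : beta.range = Subgroup.closure (Set.range reflUnit) := by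
  refine le_antisymm ?_ ((Subgroup.closure_le _).2 ?_)
  · rintro _ ⟨f, rfl⟩
    exact (exists_matrix f f.2).choose_spec.2.2.1
  · rintro _ ⟨j, rfl⟩
    exact ⟨_, beta_refl j⟩

theorem dig_toMat_refl {j : ℕ} (hj : j < 315) : Janko.toMat (J2Cert.reflMat.get j) = reflModel (lineSQ j) := by
  have h : modelCheck j = true := by
    rcases Nat.lt_or_ge j 105 with h1 | h1
    · exact List.all_eq_true.1 model_ok0 j (List.mem_range.2 h1)
    rcases Nat.lt_or_ge j 210 with h2 | h2
    · rw [show j = 105 + (j - 105) by omega]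
      exact List.all_eq_true.1 model_ok1 (j - 105) (List.mem_range.2 (by omega))
    · rw [show j = 210 + (j - 210) by omega]
      exact List.all_eq_true.1 model_ok2 (j - 210) (List.mem_range.2 (by omega))
  simp only [modelCheck, rowCheck, Bool.and_eq_true, decide_eq_true_eq] at h
  obtain ⟨h0, h1, h2, h3, h4, h5, h6⟩ := h
  ext r c
  fin_cases r
  exacts [h0 c, h1 c, h2 c, h3 c, h4 c, h5 c, h6 c]

/-- Only the axis vector itself reduces to the reduction of a signed axis vector. -/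
theorem axis_eq {v : icoLeech} (hv : qip (v : Fin 3 → ℍ[ℝ]) v = 4) {a : Fin 3} {e : ℤ} (he : e = 1 ∨ e = -1)
    {p : Fin 3 → SQ} (hp : valV p = v) (h : phiV p = phiV (axisSQ a e)) : p = axisSQ a e := by
  obtain ⟨l, hl, u, hu, ev⟩ := minimal v.2 hv
  obtain ⟨j, ej⟩ := cover hl
  have hm : ∀ t, u.mul (lineSQ j t) = (p t).smul 2 := fun t => mul_eq_of_val (by
    rw [show (p t).val = v.1 t from congrFun hp t, ev, ← ej]
    rfl)
  have hphi : ∀ t, phi (p t) = phi (axisSQ a e t) := fun t => by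
    ext i k
    have h' := congrFun (congrFun h ⟨2 * t + k, by omega⟩) i
    fin_cases t <;> fin_cases k <;> simp [phiV, blockIdx, innerIdx] at h' <;> exact h'
  have hmul : ∀ t, phi u * phi (lineSQ j t) = (2 : ZMod 11) • phi (p t) := fun t => by
    rw [← phi_mul, hm, phi_smul]
    rfl
  have hc := List.all_eq_true.1 axis_ok j (List.mem_range.2 j.2)
  have hc' : axisCheck a j = true := by
    simp only [Bool.and_eq_true] at hc
    obtain ⟨c0, c1, c2⟩ := hc
    fin_cases a <;> assumption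
  simp only [axisCheck, Bool.or_eq_true, decide_eq_true_eq, List.all_eq_true] at hc'
  rcases hc' with ⟨t, ht, hne⟩ | hc'
  · exfalso
    apply hne
    have h40 : (4 : ZMod 11) ≠ 0 := by decide
    have hinv : phi u.conj * phi u = (4 : ZMod 11) • 1 := by
      obtain ⟨-, -, uu, -, -⟩ := unit_facts hu
      have hcm : u.conj.mul u = (⟨2, 0, 0, 0, 0, 0, 0, 0⟩ : SQ).smul 2 :=
        mul_eq_of_val (by rw [val_conj, uu, val_one])
      rw [← phi_mul, hcm]
      simp only [SQ.smul]
      decide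
    have h0 : phi (p t) = 0 := by rw [hphi, axisSQ, if_neg ht]; decide
    have hthis := congrArg (phi u.conj * ·) (hmul t)
    simp only [← Matrix.mul_assoc, hinv, h0, smul_zero, Matrix.mul_zero, Matrix.smul_mul, Matrix.one_mul] at hthis
    haveI : Fact (Nat.Prime 11) := ⟨by norm_num⟩
    exact (smul_eq_zero.1 hthis).resolve_left h40
  · have he' : e ∈ ([1, -1] : List ℤ) := by rcases he with rfl | rfl <;> simp
    rcases hc' u hu e he' with ⟨t, hne⟩ | hex
    · refine absurd ?_ hne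
      rw [hmul, hphi, smul_smul, show (6 : ZMod 11) * 2 = 1 by decide, one_smul]
    · refine funext fun t => val_injective ?_
      refine smul_right_injective ℍ[ℝ] (two_ne_zero (α := ℝ)) ?_
      have e2 := congrArg toH ((hm t).symm.trans (hex t))
      rw [toH_smul, toH_smul] at e2
      simp only [val]
      rw [smul_smul, smul_smul]
      norm_num
      exact smul_right_injective ℍ[ℝ] (two_ne_zero (α := ℝ)) (by simpa using e2)

theorem qip_axis (x : Fin 3 → ℍ[ℝ]) (a : Fin 3) : qip x (valV (axisSQ a 1)) = (2 : ℝ) • x a := by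
  have h4 : (⟨4, 0, 0, 0, 0, 0, 0, 0⟩ : SQ).val = ((2 : ℝ) : ℍ[ℝ]) := by
    apply Quaternion.ext <;> simp <;> norm_num
  rw [qip_three]
  fin_cases a <;>
    simp [valV, axisSQ, val_zeroSQ, h4] <;> exact Quaternion.mul_coe_eq_smul _ _

/-- Reduction is faithful. -/
theorem beta_injective : Function.Injective beta := by
  refine (injective_iff_map_eq_one beta).2 fun f hf => Subtype.ext (Equiv.ext fun x => Subtype.ext ?_)
  have hfix : ∀ a, (f : Equiv.Perm icoLeech) (axisPt a) = axisPt a := by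
    intro a
    obtain ⟨q, hq⟩ := exists_scaled ((f : Equiv.Perm icoLeech) (axisPt a))
    have h := beta_acts f (axisPt a) (axisSQ a 1) q rfl hq
    rw [hf, Units.val_one, Matrix.one_mul] at h
    have hq4 := (qip_apply f (axisPt a) (axisPt a)).trans (axis_min a 1 (Or.inl rfl)).2
    have := axis_eq hq4 (Or.inl rfl) hq h
    rw [this] at hq
    exact Subtype.ext hq.symm
  funext a
  have h := qip_apply f x (axisPt a)
  rw [hfix a] at h
  simp only [axisPt, qip_axis] at h
  exact smul_right_injective ℍ[ℝ] (two_ne_zero (α := ℝ)) h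

/-- An element reducing to the negated identity negates every lattice vector. -/
theorem apply_of_neg {f : twoJ2} (h : ∀ a : Fin 3,
    (beta f : Matrix (Fin 7) (Fin 7) (ZMod 11)) * phiV (axisSQ a 1) = phiV (axisSQ a (-1))) (x : icoLeech) :
    (((f : Equiv.Perm icoLeech) x : icoLeech) : Fin 3 → ℍ[ℝ]) = -(x : Fin 3 → ℍ[ℝ]) := by
  have hfix : ∀ a, (((f : Equiv.Perm icoLeech) (axisPt a) : icoLeech) : Fin 3 → ℍ[ℝ]) = valV (axisSQ a (-1)) := by
    intro a
    obtain ⟨q, hq⟩ := exists_scaled ((f : Equiv.Perm icoLeech) (axisPt a))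
    have h' := beta_acts f (axisPt a) (axisSQ a 1) q rfl hq
    rw [h a] at h'
    have hq4 := (qip_apply f (axisPt a) (axisPt a)).trans (axis_min a 1 (Or.inl rfl)).2
    have := axis_eq hq4 (Or.inr rfl) hq h'
    rw [this] at hq
    exact hq.symm
  have hneg : ∀ a, valV (axisSQ a (-1)) = -valV (axisSQ a 1) := fun a => funext fun t => by
    show (axisSQ a (-1) t).val = -(axisSQ a 1 t).val
    rw [← val_neg]
    unfold axisSQ
    split <;> rfl
  funext a
  have h' := qip_apply f x (axisPt a)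
  rw [hfix a, hneg] at h'
  simp only [axisPt] at h'
  rw [show ∀ y : Fin 3 → ℍ[ℝ], qip y (-valV (axisSQ a 1)) = -qip y (valV (axisSQ a 1)) from
    fun y => by simp [qip], qip_axis, qip_axis, neg_eq_iff_eq_neg, ← smul_neg] at h'
  exact smul_right_injective ℍ[ℝ] (two_ne_zero (α := ℝ)) h'

end Cfsg.Agent.Lie.Ico
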