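import Mathlib
import Cfsg.Agent.Lib.Lie.JankoPack

/-!
Packed rows as vectors modulo 11.
-/

set_option autoImplicit false
set_option maxRecDepth 20000
set_option maxHeartbeats 1000000

noncomputable section

namespace Cfsg.Agent.Lie.J2Cert

open Cfsg.Agent.Lie Janko

/-- A packed row as a vector. -/
def toVec (N : ℕ) : Fin 7 → ZMod 11 := fun j => ((dig N j : ℕ) : ZMod 11)

theorem toVec_rowMul {r : ℕ} (hr : IsRed r) {B : M7} (hB : B.Good) :
    toVec (rowMul r B) = Matrix.vecMul (toVec r) (toMat B) := by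
  let A : M7 := ⟨r, r, r, r, r, r, r⟩
  have hA : A.Good := fun i => by fin_cases i <;> exact hr
  have h := congrFun (toMat_mul hA hB) 0
  funext j
  have h' := congrFun h j
  simp only [toMat, Matrix.mul_apply, Matrix.of_apply, row_mul] at h'
  simp only [toVec, Matrix.vecMul, dotProduct, toMat, Matrix.of_apply]
  exact h'

theorem toVec_red_mul {r : ℕ} (hr : IsRed r) {c : ℕ} (hc : c < 11) :
    toVec (red (c * r)) = (c : ZMod 11) • toVec r := by
  obtain ⟨d, hd, rfl⟩ := hr
  funext j
  simp only [toVec, Pi.smul_apply, smul_eq_mul]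
  rw [dig_red, ZMod.natCast_mod, show c * pack d = pack (fun k => c * d k) by simp only [pack]; ring,
    dig_pack _ (fun k => by have := Nat.mul_le_mul hc.le (hd k).le; omega),
    dig_pack _ (fun k => lt_of_lt_of_le (hd k) (by norm_num)), Nat.cast_mul]

theorem toVec_inj {r s : ℕ} (hr : IsRed r) (hs : IsRed s) (h : toVec r = toVec s) : r = s := by
  obtain ⟨c, hc, rfl⟩ := hr
  obtain ⟨d, hd, rfl⟩ := hs
  suffices c = d by rw [this]
  funext j
  have e := congrFun h j
  simp only [toVec] at e
  rw [dig_pack _ (fun k => lt_of_lt_of_le (hc k) (by norm_num)),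
    dig_pack _ (fun k => lt_of_lt_of_le (hd k) (by norm_num)), ZMod.natCast_eq_natCast_iff'] at e
  rwa [Nat.mod_eq_of_lt (hc j), Nat.mod_eq_of_lt (hd j)] at e


theorem toMat_inj {A B : M7} (hA : A.Good) (hB : B.Good) (h : toMat A = toMat B) : A = B := by
  have hi : ∀ i, A.row i = B.row i := fun i => toVec_inj (hA i) (hB i) (congrFun h i)
  cases A; cases B
  congr 1
  exacts [hi 0, hi 1, hi 2, hi 3, hi 4, hi 5, hi 6]


end Cfsg.Agent.Lie.J2Cert
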