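import Mathlib
import Cfsg.Agent.Lib.Lie.Ico.Vec
import Cfsg.Agent.Lib.Lie.Ico.Modular
import Cfsg.Agent.Lib.Lie.Ico.GroupChecks
import Cfsg.Agent.Lib.Lie.Ico.LineChecks

/-!
The reduced group: coset enumeration, order and centre.
-/

set_option autoImplicit false
set_option maxRecDepth 20000
set_option maxHeartbeats 1000000

noncomputable section

namespace Cfsg.Agent.Lie.J2Cert

open Cfsg.Agent.Lie Janko

/-- A matrix unit realises a packed matrix. -/
def Rep (g : GL (Fin 7) (ZMod 11)) (A : M7) : Prop :=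
  A.Good ∧ (g : Matrix (Fin 7) (Fin 7) (ZMod 11)) = toMat A

theorem Rep.mul {g h : GL (Fin 7) (ZMod 11)} {A B : M7} (hg : Rep g A) (hh : Rep h B) : Rep (g * h) (A.mul B) :=
  ⟨good_mul A B, by rw [toMat_mul hg.1 hh.1, Units.val_mul, hg.2, hh.2]⟩

theorem Rep.one : Rep 1 M7.one := ⟨good_one, by rw [toMat_one]; rfl⟩

theorem Rep.pow {g : GL (Fin 7) (ZMod 11)} {A : M7} (hg : Rep g A) : ∀ n, Rep (g ^ n) (A.pow n)
  | 0 => by rw [pow_zero]; exact Rep.one
  | n + 1 => by rw [pow_succ]; exact (hg.pow n).mul hg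

theorem Rep.unique {g h : GL (Fin 7) (ZMod 11)} {A : M7} (hg : Rep g A) (hh : Rep h A) : g = h :=
  Units.ext (hg.2.trans hh.2.symm)

theorem Rep.eq {g h : GL (Fin 7) (ZMod 11)} {A B : M7} (hg : Rep g A) (hh : Rep h B) (e : A.beq B = true) : g = h :=
  Units.ext (by rw [hg.2, hh.2, M7.eq_of_beq e])

theorem beq_self (A : M7) : A.beq A = true := by simp [M7.beq]

theorem Rep.beq_iff {g h : GL (Fin 7) (ZMod 11)} {A B : M7} (hg : Rep g A) (hh : Rep h B) :
    A.beq B = true ↔ g = h := by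
  refine ⟨hg.eq hh, fun e => ?_⟩
  rw [toMat_inj hg.1 hh.1 (by rw [← hg.2, ← hh.2, e])]
  exact beq_self B

theorem misc : (reps.get 0).beq M7.one = true ∧ (borel.get 0).beq M7.one = true ∧ xMat.Good ∧ yMat.Good ∧ negMat.Good ∧
    (negMat.mul negMat).beq M7.one = true ∧ (negMat.mul xMat).beq (xMat.mul negMat) = true ∧
    (negMat.mul yMat).beq (yMat.mul negMat) = true ∧ ((evalWord minusWord).pow minusPow).beq negMat = true ∧
    (reflMat.get 0).beq (sgn rootCoset.2.2 ((borel.get rootCoset.1).mul (reps.get rootCoset.2.1))) = true ∧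
    (rootCoset.1 < 160 ∧ rootCoset.2.1 < 3780) ∧
    ((reflMat.get (genIdx.getD 0 0)).mul (reflMat.get (genIdx.getD 1 0))).beq xMat = true ∧
    ((reflMat.get (genIdx.getD 2 0)).mul (reflMat.get (genIdx.getD 3 0))).beq yMat = true ∧
    centerCand.length = 2 ∧ (bGen false < 160 ∧ bGen true < 160) ∧ red baseVec = baseVec := by
  have h := misc_ok
  simp only [Bool.and_eq_true, decide_eq_true_eq, Nat.blt_eq, Nat.beq_eq] at h
  obtain ⟨⟨⟨⟨⟨⟨⟨⟨⟨⟨⟨⟨⟨a1, a2⟩, ⟨b1, b2⟩, b3⟩, a4⟩, a5⟩, a6⟩, a7⟩, a8⟩, a9⟩, a10⟩, a11⟩, a12⟩, a13⟩, a14⟩ := h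
  exact ⟨a1, a2, good_of_goodB b1, good_of_goodB b2, good_of_goodB b3, a4, a5, a6, a7, a8, a9, a10, a11, a12, a13, a14⟩

/-- Reflections as units. -/
theorem refl_rep {j : ℕ} (hj : j < 315) : Rep (Ico.reflUnit ⟨j, hj⟩) (reflMat.get j) :=
  ⟨good_of_goodB (List.all_eq_true.1 refl_good_ok j (List.mem_range.2 hj)), (Ico.dig_toMat_refl hj).symm⟩

theorem genIdx_lt (n : ℕ) : genIdx.getD n 0 < 315 := by
  have h : ∀ m ∈ genIdx, m < 315 := by decide
  rcases Nat.lt_or_ge n genIdx.length with h' | h'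
  · rw [List.getD_eq_getElem _ _ h']
    exact h _ (List.getElem_mem _)
  · rw [List.getD_eq_default _ _ h']
    norm_num

/-- The first generator. -/
def xU : GL (Fin 7) (ZMod 11) := Ico.reflUnit ⟨_, genIdx_lt 0⟩ * Ico.reflUnit ⟨_, genIdx_lt 1⟩

/-- The second generator. -/
def yU : GL (Fin 7) (ZMod 11) := Ico.reflUnit ⟨_, genIdx_lt 2⟩ * Ico.reflUnit ⟨_, genIdx_lt 3⟩

theorem x_rep : Rep xU xMat := by
  have h := (refl_rep (genIdx_lt 0)).mul (refl_rep (genIdx_lt 1))
  rw [M7.eq_of_beq misc.2.2.2.2.2.2.2.2.2.2.2.1] at h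
  exact h

theorem y_rep : Rep yU yMat := by
  have h := (refl_rep (genIdx_lt 2)).mul (refl_rep (genIdx_lt 3))
  rw [M7.eq_of_beq misc.2.2.2.2.2.2.2.2.2.2.2.2.1] at h
  exact h

/-- The group generated by the two elements. -/
def K : Subgroup (GL (Fin 7) (ZMod 11)) := Subgroup.closure {xU, yU}

theorem x_mem : xU ∈ K := Subgroup.subset_closure (Or.inl rfl)

theorem y_mem : yU ∈ K := Subgroup.subset_closure (Or.inr rfl)

theorem eval_mem (w : List Bool) : ∃ g ∈ K, Rep g (evalWord w) := by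
  suffices ∀ (w : List Bool) (g : GL (Fin 7) (ZMod 11)) (A : M7), g ∈ K → Rep g A →
      ∃ g' ∈ K, Rep g' (w.foldl (fun g b => g.mul (if b then yMat else xMat)) A) from
    this w 1 _ (one_mem _) Rep.one
  intro w
  induction w with
  | nil => exact fun g A hg hA => ⟨g, hg, hA⟩
  | cons b w ih =>
    intro g A hg hA
    cases b
    · exact ih _ _ (mul_mem hg x_mem) (hA.mul x_rep)
    · exact ih _ _ (mul_mem hg y_mem) (hA.mul y_rep)

theorem exists_neg : ∃ g ∈ K, Rep g negMat := by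
  obtain ⟨g, hg, hr⟩ := eval_mem minusWord
  exact ⟨g ^ minusPow, pow_mem hg _, M7.eq_of_beq misc.2.2.2.2.2.2.2.2.1 ▸ hr.pow _⟩

/-- The negation. -/
def nU : GL (Fin 7) (ZMod 11) := exists_neg.choose

theorem n_mem : nU ∈ K := exists_neg.choose_spec.1

theorem n_rep : Rep nU negMat := exists_neg.choose_spec.2

theorem n_sq : nU * nU = 1 := (n_rep.mul n_rep).eq Rep.one misc.2.2.2.2.2.1

theorem n_central {g : GL (Fin 7) (ZMod 11)} (hg : g ∈ K) : nU * g = g * nU := by
  induction hg using Subgroup.closure_induction with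
  | mem s hs =>
    rcases hs with hs | hs
    · rw [hs]; exact (n_rep.mul x_rep).eq (x_rep.mul n_rep) misc.2.2.2.2.2.2.1
    · rw [Set.mem_singleton_iff.1 hs]; exact (n_rep.mul y_rep).eq (y_rep.mul n_rep) misc.2.2.2.2.2.2.2.1
  | one => rw [one_mul, mul_one]
  | mul a b _ _ ia ib => exact Commute.mul_right (show Commute nU a from ia) ib
  | inv a _ ia => exact Commute.inv_right (show Commute nU a from ia)

/-- A sign. -/
def sgU (f : Bool) : GL (Fin 7) (ZMod 11) := if f then nU else 1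

theorem sgU_mem (f : Bool) : sgU f ∈ K := by cases f; exacts [one_mem _, n_mem]

theorem sgU_mul (f f' : Bool) : sgU f * sgU f' = sgU (xor f f') := by
  cases f <;> cases f' <;> simp [sgU, n_sq]

theorem sgU_central (f : Bool) {g : GL (Fin 7) (ZMod 11)} (hg : g ∈ K) : sgU f * g = g * sgU f := by
  cases f
  · simp [sgU]
  · exact n_central hg

theorem sgn_rep {g : GL (Fin 7) (ZMod 11)} {A : M7} (hg : Rep g A) (f : Bool) : Rep (sgU f * g) (sgn f A) := by
  cases f
  · simpa [sgU, sgn] using hg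
  · exact n_rep.mul hg

theorem all_chunks3 {f : ℕ → Bool} {n : ℕ} (h0 : ((List.range n).all fun i => f i) = true)
    (h1 : ((List.range n).all fun i => f (n + i)) = true) (h2 : ((List.range n).all fun i => f (2 * n + i)) = true)
    {i : ℕ} (hi : i < 3 * n) : f i = true := by
  rcases Nat.lt_or_ge i n with h | h
  · exact List.all_eq_true.1 h0 i (List.mem_range.2 h)
  rcases Nat.lt_or_ge i (2 * n) with h' | h'
  · rw [show i = n + (i - n) by omega]
    exact List.all_eq_true.1 h1 _ (List.mem_range.2 (by omega))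
  · rw [show i = 2 * n + (i - 2 * n) by omega]
    exact List.all_eq_true.1 h2 _ (List.mem_range.2 (by omega))

theorem tree_fact {i : ℕ} (h0 : 0 < i) (hi : i < 3780) : treeCheck i = true := by
  rcases Nat.lt_or_ge i 1890 with h | h
  · rw [show i = (i - 1) + 1 by omega]
    exact List.all_eq_true.1 tree_ok0 (i - 1) (List.mem_range.2 (by omega))
  · rw [show i = 1890 + (i - 1890) by omega]
    exact List.all_eq_true.1 tree_ok1 (i - 1890) (List.mem_range.2 (by omega))

theorem rep_exists : ∀ i < 3780, ∃ g ∈ K, Rep g (reps.get i) := by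
  intro i
  induction i using Nat.strong_induction_on with
  | _ i ih =>
    intro hi
    rcases Nat.eq_zero_or_pos i with rfl | h0
    · exact ⟨1, one_mem _, M7.eq_of_beq misc.1 ▸ Rep.one⟩
    have h := tree_fact h0 hi
    simp only [treeCheck, Bool.and_eq_true, Nat.blt_eq] at h
    obtain ⟨g, hg, hr⟩ := ih _ h.1 (h.1.trans hi)
    rw [M7.eq_of_beq h.2]
    split
    · exact ⟨g * yU, mul_mem hg y_mem, hr.mul y_rep⟩
    · exact ⟨g * xU, mul_mem hg x_mem, hr.mul x_rep⟩

/-- The transversal. -/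
def rU (i : ℕ) : GL (Fin 7) (ZMod 11) := if h : i < 3780 then (rep_exists i h).choose else 1

theorem r_mem (i : ℕ) : rU i ∈ K := by
  unfold rU; split
  · next h => exact (rep_exists i h).choose_spec.1
  · exact one_mem _

theorem r_rep {i : ℕ} (hi : i < 3780) : Rep (rU i) (reps.get i) := by
  rw [rU, dif_pos hi]
  exact (rep_exists i hi).choose_spec.2

theorem r_zero : rU 0 = 1 := (r_rep (by norm_num)).eq Rep.one misc.1

theorem schX_fact {i : ℕ} (hi : i < 3780) : schXCheck i = true :=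
  all_chunks3 schX_ok0 schX_ok1 schX_ok2 hi

theorem schY_fact {i : ℕ} (hi : i < 3780) : schYCheck i = true :=
  all_chunks3 schY_ok0 schY_ok1 schY_ok2 hi

theorem borel_exists {k : ℕ} (hk : k < 160) : ∃ g ∈ K, Rep g (borel.get k) := by
  have h := List.all_eq_true.1 borel_line_ok k (List.mem_range.2 hk)
  simp only [borelLineCheck, Bool.and_eq_true, Nat.beq_eq, Nat.blt_eq] at h
  obtain ⟨-, -, -, hsk, hi⟩ := h
  have hg := good_of_goodB (List.all_eq_true.1 borel_good_ok k (List.mem_range.2 hk))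
  have key : ∀ (S : M7) (s : GL (Fin 7) (ZMod 11)) (f : Bool) (j : ℕ), s ∈ K → Rep s S → j < 3780 →
      ((reps.get (borelSch.get k).1).mul S).beq (sgn f ((borel.get k).mul (reps.get j))) = true →
      ∃ g ∈ K, Rep g (borel.get k) := by
    intro S s f j hs hS hj e
    refine ⟨sgU f * rU (borelSch.get k).1 * s * (rU j)⁻¹,
      mul_mem (mul_mem (mul_mem (sgU_mem f) (r_mem _)) hs) (inv_mem (r_mem j)), hg, ?_⟩
    have e1 := congrArg toMat (M7.eq_of_beq e)
    rw [← ((r_rep hi).mul hS).2] at e1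
    have e2 : toMat (sgn f ((borel.get k).mul (reps.get j))) =
        (sgU f : Matrix (Fin 7) (Fin 7) (ZMod 11)) * (toMat (borel.get k) * toMat (reps.get j)) := by
      cases f
      · simp [sgn, sgU, toMat_mul hg (r_rep hj).1]
      · rw [sgn, if_pos rfl, toMat_mul n_rep.1 (good_mul _ _), toMat_mul hg (r_rep hj).1, ← n_rep.2]
        rfl
    rw [e2, ← (r_rep hj).2, Units.val_mul] at e1
    have hss : (sgU f : Matrix (Fin 7) (Fin 7) (ZMod 11)) * (sgU f : Matrix (Fin 7) (Fin 7) (ZMod 11)) = 1 := by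
      rw [← Units.val_mul, sgU_mul, show xor f f = false by cases f <;> rfl]
      rfl
    rw [Units.val_mul, Units.val_mul, Units.val_mul, mul_assoc (sgU f : Matrix (Fin 7) (Fin 7) (ZMod 11)), e1,
      ← mul_assoc, hss, one_mul, Units.mul_inv_cancel_right]
  by_cases hb : (borelSch.get k).2 = true
  · rw [if_pos hb] at hsk
    have hs := schY_fact hi
    simp only [schYCheck, Bool.and_eq_true, Nat.blt_eq] at hs
    obtain ⟨e, hj, -⟩ := hs
    rw [hsk] at e
    exact key yMat yU _ _ y_mem y_rep hj e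
  · rw [if_neg hb] at hsk
    have hs := schX_fact hi
    simp only [schXCheck, Bool.and_eq_true, Nat.blt_eq] at hs
    obtain ⟨e, hj, -⟩ := hs
    rw [hsk] at e
    exact key xMat xU _ _ x_mem x_rep hj e

/-- The subgroup of order 320, up to sign. -/
def bU (k : ℕ) : GL (Fin 7) (ZMod 11) := if h : k < 160 then (borel_exists h).choose else 1

theorem b_mem (k : ℕ) : bU k ∈ K := by
  unfold bU; split
  · next h => exact (borel_exists h).choose_spec.1
  · exact one_mem _

theorem b_rep {k : ℕ} (hk : k < 160) : Rep (bU k) (borel.get k) := by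
  rw [bU, dif_pos hk]
  exact (borel_exists hk).choose_spec.2

theorem b_zero : bU 0 = 1 := (b_rep (by norm_num)).eq Rep.one misc.2.1

theorem step_fact {k : ℕ} (hk : k < 160) (n : Bool) :
    ∃ m < 160, ∃ f, bU k * bU (bGen n) = sgU f * bU m ∧ m = (borelStep.get (2 * k + if n then 1 else 0)).1 := by
  have h := List.all_eq_true.1 borel_ok k (List.mem_range.2 hk)
  simp only [borelCheck, Bool.and_eq_true, Nat.blt_eq] at h
  obtain ⟨h1, h2, h3, h4, -⟩ := h
  cases n
  · exact ⟨_, h3, _, ((b_rep hk).mul (b_rep misc.2.2.2.2.2.2.2.2.2.2.2.2.2.2.1.1)).eq (sgn_rep (b_rep h3) _) h1, rfl⟩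
  · exact ⟨_, h4, _, ((b_rep hk).mul (b_rep misc.2.2.2.2.2.2.2.2.2.2.2.2.2.2.1.2)).eq (sgn_rep (b_rep h4) _) h2, rfl⟩

/-- Products inside the subgroup of order 320. -/
theorem b_mul {k : ℕ} (hk : k < 160) : ∀ l < 160, ∃ m < 160, ∃ f, bU k * bU l = sgU f * bU m := by
  intro l
  induction l using Nat.strong_induction_on with
  | _ l ih =>
    intro hl
    rcases Nat.eq_zero_or_pos l with rfl | h0
    · exact ⟨k, hk, false, by simp [b_zero, sgU]⟩
    have h := List.all_eq_true.1 borel_ok l (List.mem_range.2 hl)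
    simp only [borelCheck, Bool.and_eq_true, Bool.or_eq_true, Nat.beq_eq, Nat.blt_eq, h0.ne', false_or] at h
    obtain ⟨-, -, -, -, hp, hnext⟩ := h
    set p := (borelPar.get l).1
    set n := (borelPar.get l).2
    obtain ⟨m₀, -, f₀, e₀, hm₀⟩ := step_fact (hp.trans hl) n
    rw [hnext] at hm₀
    rw [hm₀] at e₀
    obtain ⟨m, hm, f, e⟩ := ih p hp (hp.trans hl)
    obtain ⟨m', hm', f', e', -⟩ := step_fact hm n
    refine ⟨m', hm', xor f₀ (xor f f'), ?_⟩
    have el : bU l = sgU f₀ * (bU p * bU (bGen n)) := by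
      rw [e₀, ← mul_assoc, sgU_mul, show xor f₀ f₀ = false by cases f₀ <;> rfl]
      simp [sgU]
    rw [el, ← mul_assoc (bU k), ← sgU_central f₀ (b_mem k), mul_assoc, ← mul_assoc (bU k), e, mul_assoc, e',
      ← mul_assoc, ← mul_assoc, sgU_mul, sgU_mul, Bool.xor_assoc]

/-- Membership in the union of the cosets. -/
def InCosets (g : GL (Fin 7) (ZMod 11)) : Prop :=
  ∃ i k f, i < 3780 ∧ k < 160 ∧ g = sgU f * (bU k * rU i)

theorem sch_step {i : ℕ} (hi : i < 3780) (s : GL (Fin 7) (ZMod 11)) (hs : s = xU ∨ s = yU) :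
    ∃ j l f, j < 3780 ∧ l < 160 ∧ rU i * s = sgU f * (bU l * rU j) := by
  rcases hs with rfl | rfl
  · have h := schX_fact hi
    simp only [schXCheck, Bool.and_eq_true, Nat.blt_eq] at h
    exact ⟨_, _, _, h.2.1, h.2.2, ((r_rep hi).mul x_rep).eq (sgn_rep ((b_rep h.2.2).mul (r_rep h.2.1)) _) h.1⟩
  · have h := schY_fact hi
    simp only [schYCheck, Bool.and_eq_true, Nat.blt_eq] at h
    exact ⟨_, _, _, h.2.1, h.2.2, ((r_rep hi).mul y_rep).eq (sgn_rep ((b_rep h.2.2).mul (r_rep h.2.1)) _) h.1⟩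

theorem inCosets_mul {g s : GL (Fin 7) (ZMod 11)} (h : InCosets g) (hs : s = xU ∨ s = yU) : InCosets (g * s) := by
  obtain ⟨i, k, f, hi, hk, rfl⟩ := h
  obtain ⟨j, l, f', hj, hl, e⟩ := sch_step hi s hs
  obtain ⟨m, hm, f'', e'⟩ := b_mul hk l hl
  refine ⟨j, m, xor f (xor f' f''), hj, hm, ?_⟩
  rw [mul_assoc, mul_assoc (bU k), e, ← mul_assoc (bU k), ← sgU_central f' (b_mem k), mul_assoc (sgU f'),
    ← mul_assoc (bU k), e', mul_assoc (sgU f''), ← mul_assoc (sgU f'), sgU_mul, ← mul_assoc, sgU_mul]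

theorem inCosets_of_mem {g : GL (Fin 7) (ZMod 11)} (hg : g ∈ K) : InCosets g := by
  have hg' : g ∈ Submonoid.closure ({xU, yU} : Set (GL (Fin 7) (ZMod 11))) := by
    have : g ∈ (Subgroup.closure ({xU, yU} : Set (GL (Fin 7) (ZMod 11)))).toSubmonoid := hg
    rwa [Subgroup.closure_toSubmonoid_of_finite] at this
  induction hg' using Submonoid.closure_induction_right with
  | one => exact ⟨0, 0, false, by norm_num, by norm_num, by simp [b_zero, r_zero, sgU]⟩
  | mul_right a _ b hb ia =>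
    refine inCosets_mul (ia ?_) hb
    have hb' : b ∈ K := Subgroup.subset_closure hb
    simpa using mul_mem hg (inv_mem hb')

theorem base_red : IsRed baseVec := misc.2.2.2.2.2.2.2.2.2.2.2.2.2.2.2 ▸ isRed_red baseVec

theorem base_neg : rowMul baseVec negMat = red (10 * baseVec) := by decide +kernel

theorem base_borel {k : ℕ} (hk : k < 160) :
    ∃ c : ℕ, 1 ≤ c ∧ c < 11 ∧ c = borelScalar.get k ∧
      Matrix.vecMul (toVec baseVec) (bU k : Matrix (Fin 7) (Fin 7) (ZMod 11)) = (c : ZMod 11) • toVec baseVec := by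
  have h := List.all_eq_true.1 borel_line_ok k (List.mem_range.2 hk)
  simp only [borelLineCheck, Bool.and_eq_true, Nat.beq_eq, Nat.blt_eq, Nat.ble_eq] at h
  obtain ⟨he, h1, h2, -⟩ := h
  exact ⟨_, h1, h2, rfl, by rw [(b_rep hk).2, ← toVec_rowMul base_red (b_rep hk).1, he, toVec_red_mul base_red h2]⟩

theorem cast_ne_zero {c : ℕ} (h1 : 1 ≤ c) (h2 : c < 11) : (c : ZMod 11) ≠ 0 := fun h0 => by
  rw [ZMod.natCast_eq_zero_iff] at h0
  exact absurd (Nat.le_of_dvd h1 h0) (by omega)

/-- Elements of the scaled subgroup scale the base line. -/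
theorem base_scaled {k : ℕ} (hk : k < 160) (f : Bool) : ∃ c : ZMod 11, c ≠ 0 ∧
    Matrix.vecMul (toVec baseVec) ((sgU f * bU k : GL (Fin 7) (ZMod 11)) : Matrix (Fin 7) (Fin 7) (ZMod 11)) =
      c • toVec baseVec := by
  haveI : Fact (Nat.Prime 11) := ⟨by norm_num⟩
  obtain ⟨c, h1, h2, -, e⟩ := base_borel hk
  cases f
  · exact ⟨c, cast_ne_zero h1 h2, by simpa [sgU] using e⟩
  · refine ⟨(10 : ℕ) * (c : ZMod 11), mul_ne_zero (cast_ne_zero (by norm_num) (by norm_num)) (cast_ne_zero h1 h2), ?_⟩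
    rw [Units.val_mul, ← Matrix.vecMul_vecMul, show sgU true = nU from rfl, n_rep.2,
      ← toVec_rowMul base_red n_rep.1, base_neg, toVec_red_mul base_red (by norm_num), Matrix.smul_vecMul, e, smul_smul]

theorem norm_spec {i : ℕ} (hi : i < 3780) : IsRed (lineNorm.get i) ∧
    (∃ c : ZMod 11, c ≠ 0 ∧ Matrix.vecMul (toVec baseVec) (rU i : Matrix (Fin 7) (Fin 7) (ZMod 11)) =
      c • toVec (lineNorm.get i)) ∧
    ∃ p : Fin 7, toVec (lineNorm.get i) p = 1 ∧ ∀ q < p, toVec (lineNorm.get i) q = 0 := by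
  have h := List.all_eq_true.1 line_ok i (List.mem_range.2 hi)
  simp only [lineCheck, normalised, Bool.and_eq_true, Nat.beq_eq, Nat.blt_eq, Nat.ble_eq] at h
  obtain ⟨he, h1, h2, hr, hn⟩ := h
  have hred : IsRed (lineNorm.get i) := hr ▸ isRed_red _
  refine ⟨hred, ⟨_, cast_ne_zero h1 h2,
    by rw [(r_rep hi).2, ← toVec_rowMul base_red (r_rep hi).1, he, toVec_red_mul hred h2]⟩, ?_⟩
  simp only [Bool.or_eq_true, Bool.and_eq_true, Nat.beq_eq] at hn
  have hd : ∀ (p : Fin 7) (v : ℕ), lineNorm.get i / 4096 ^ p.val % 4096 = v → toVec (lineNorm.get i) p = (v : ZMod 11) := by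
    intro p v e
    simp only [toVec, dig, e]
  rcases hn with e0 | ⟨z0, e1 | ⟨z1, e2 | ⟨z2, e3 | ⟨z3, e4 | ⟨z4, e5⟩⟩⟩⟩⟩
  all_goals first
    | exact ⟨0, by rw [hd 0 1 (by simpa using e0)]; norm_num, fun q hq => absurd hq (by simp)⟩
    | skip
  · refine ⟨1, by rw [hd 1 1 (by simpa using e1)]; norm_num, fun q hq => ?_⟩
    fin_cases q <;> simp at hq ⊢
    rw [hd 0 0 (by simpa using z0)]; norm_num
  · refine ⟨2, by rw [hd 2 1 (by simpa using e2)]; norm_num, fun q hq => ?_⟩
    fin_cases q <;> simp at hq ⊢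
    · rw [hd 0 0 (by simpa using z0)]; norm_num
    · rw [hd 1 0 (by simpa using z1)]; norm_num
  · refine ⟨3, by rw [hd 3 1 (by simpa using e3)]; norm_num, fun q hq => ?_⟩
    fin_cases q <;> simp at hq ⊢
    · rw [hd 0 0 (by simpa using z0)]; norm_num
    · rw [hd 1 0 (by simpa using z1)]; norm_num
    · rw [hd 2 0 (by simpa using z2)]; norm_num
  · refine ⟨4, by rw [hd 4 1 (by simpa using e4)]; norm_num, fun q hq => ?_⟩
    fin_cases q <;> simp at hq ⊢
    · rw [hd 0 0 (by simpa using z0)]; norm_num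
    · rw [hd 1 0 (by simpa using z1)]; norm_num
    · rw [hd 2 0 (by simpa using z2)]; norm_num
    · rw [hd 3 0 (by simpa using z3)]; norm_num
  · refine ⟨5, by rw [hd 5 1 (by simpa using e5)]; norm_num, fun q hq => ?_⟩
    fin_cases q <;> simp at hq ⊢
    · rw [hd 0 0 (by simpa using z0)]; norm_num
    · rw [hd 1 0 (by simpa using z1)]; norm_num
    · rw [hd 2 0 (by simpa using z2)]; norm_num
    · rw [hd 3 0 (by simpa using z3)]; norm_num
    · rw [hd 4 0 (by simpa using z4)]; norm_num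

theorem lineNorm_injOn {a b : ℕ} (ha : a < 3780) (hb : b < 3780) (e : lineNorm.get a = lineNorm.get b) : a = b := by
  have hlt : ∀ k, k < 3779 → lineNorm.get (lineOrder.get k) < lineNorm.get (lineOrder.get (k + 1)) ∧
      lineOrder.get k < 3780 ∧ lineOrder.get (k + 1) < 3780 := fun k hk => by
    have h := List.all_eq_true.1 order_ok k (List.mem_range.2 hk)
    simpa only [orderCheck, Bool.and_eq_true, Nat.blt_eq] using h
  have hbd : ∀ k, k < 3780 → lineOrder.get k < 3780 := fun k hk => by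
    rcases Nat.lt_or_ge k 3779 with h | h
    · exact (hlt k h).2.1
    · rw [show k = 3778 + 1 by omega]
      exact (hlt 3778 (by norm_num)).2.2
  let σ : Fin 3780 → Fin 3780 := fun k => ⟨lineOrder.get k, hbd k k.2⟩
  have hmono : StrictMono (fun k : Fin 3780 => lineNorm.get (σ k)) :=
    Fin.strictMono_iff_lt_succ.2 fun k => (hlt k k.2).1
  have hσ : Function.Injective σ := fun a b e => hmono.injective (by simp only [e])
  obtain ⟨a', hae⟩ := (Finite.surjective_of_injective hσ) ⟨a, ha⟩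
  obtain ⟨b', hbe⟩ := (Finite.surjective_of_injective hσ) ⟨b, hb⟩
  have h : a' = b' := hmono.injective (by simp only [hae, hbe]; exact e)
  subst h
  exact congrArg Fin.val (hae.symm.trans hbe)

theorem decomp_unique {i j k l : ℕ} {f g : Bool} (hi : i < 3780) (hj : j < 3780) (hk : k < 160) (hl : l < 160)
    (h : sgU f * (bU k * rU i) = sgU g * (bU l * rU j)) : i = j ∧ k = l ∧ f = g := by
  haveI : Fact (Nat.Prime 11) := ⟨by norm_num⟩
  obtain ⟨c, hc, ec⟩ := base_scaled hk f
  obtain ⟨d, hd, ed⟩ := base_scaled hl g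
  obtain ⟨ri, ⟨a, ha, ea⟩, p, hp1, hp0⟩ := norm_spec hi
  obtain ⟨rj, ⟨b, hb, eb⟩, q, hq1, hq0⟩ := norm_spec hj
  rw [← mul_assoc, ← mul_assoc] at h
  have e := congrArg (fun u : GL (Fin 7) (ZMod 11) => Matrix.vecMul (toVec baseVec) (u : Matrix (Fin 7) (Fin 7) (ZMod 11))) h
  rw [Units.val_mul (sgU f * bU k), Units.val_mul (sgU g * bU l), ← Matrix.vecMul_vecMul, ← Matrix.vecMul_vecMul,
    ec, ed, Matrix.smul_vecMul, Matrix.smul_vecMul, ea, eb, smul_smul, smul_smul] at e
  have hpq : p = q := by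
    rcases lt_trichotomy p q with hlt | hlt | hlt
    · have := congrFun e p
      simp only [Pi.smul_apply, smul_eq_mul, hp1, hq0 p hlt, mul_one, mul_zero] at this
      exact absurd this (mul_ne_zero hc ha)
    · exact hlt
    · have := congrFun e q
      simp only [Pi.smul_apply, smul_eq_mul, hq1, hp0 q hlt, mul_one, mul_zero] at this
      exact absurd this.symm (mul_ne_zero hd hb)
  subst hpq
  have hs := congrFun e p
  simp only [Pi.smul_apply, smul_eq_mul, hp1, hq1, mul_one] at hs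
  rw [hs] at e
  have hij : i = j := lineNorm_injOn hi hj (toVec_inj ri rj (smul_right_injective _ (mul_ne_zero hd hb) e))
  subst hij
  have h2 : sgU f * bU k = sgU g * bU l := mul_right_cancel h
  have hdist := List.all_eq_true.1 (List.all_eq_true.1 borel_distinct k (List.mem_range.2 hk)) l (List.mem_range.2 hl)
  by_cases hfg : f = g
  · subst hfg
    have h3 : bU k = bU l := mul_left_cancel h2
    refine ⟨rfl, ?_, rfl⟩
    simp only [Bool.or_eq_true, Nat.beq_eq, Bool.not_eq_true'] at hdist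
    refine hdist.resolve_right fun hne => ?_
    rw [((b_rep hk).beq_iff (b_rep hl)).2 h3] at hne
    exact Bool.noConfusion hne
  · exfalso
    have h3 : nU * bU k = bU l := by
      cases f <;> cases g <;> first | exact absurd rfl hfg | skip
      · simp only [sgU, Bool.false_eq_true, if_false, if_true, one_mul] at h2
        rw [h2, ← mul_assoc, n_sq, one_mul]
      · simp only [sgU, Bool.false_eq_true, if_false, if_true, one_mul] at h2
        exact h2
    have hneg := List.all_eq_true.1 (List.all_eq_true.1 borel_distinct_neg k (List.mem_range.2 hk)) l (List.mem_range.2 hl)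
    rw [((n_rep.mul (b_rep hk)).beq_iff (b_rep hl)).2 h3] at hneg
    exact Bool.noConfusion hneg

/-- The order of the reduced group. -/
theorem card_K : Nat.card K = 1209600 := by
  let F : Bool × Fin 160 × Fin 3780 → K := fun p =>
    ⟨sgU p.1 * (bU p.2.1 * rU p.2.2), mul_mem (sgU_mem _) (mul_mem (b_mem _) (r_mem _))⟩
  have hF : Function.Bijective F := by
    refine ⟨fun p q e => ?_, fun g => ?_⟩
    · obtain ⟨h1, h2, h3⟩ := decomp_unique p.2.2.2 q.2.2.2 p.2.1.2 q.2.1.2 (congrArg Subtype.val e)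
      exact Prod.ext h3 (Prod.ext (Fin.ext h2) (Fin.ext h1))
    · obtain ⟨i, k, f, hi, hk, e⟩ := inCosets_of_mem g.2
      exact ⟨(f, ⟨k, hk⟩, ⟨i, hi⟩), Subtype.ext e.symm⟩
  rw [← Nat.card_eq_of_bijective F hF, Nat.card_prod, Nat.card_prod, Nat.card_fin, Nat.card_fin,
    Nat.card_eq_fintype_card, Fintype.card_bool]

theorem refl_mem (j : Fin 315) : Ico.reflUnit j ∈ K := by
  obtain ⟨j, hj⟩ := j
  induction j using Nat.strong_induction_on with
  | _ j ih =>
    rcases Nat.eq_zero_or_pos j with rfl | h0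
    · have h := misc.2.2.2.2.2.2.2.2.2.1
      obtain ⟨h1, h2⟩ := misc.2.2.2.2.2.2.2.2.2.2.1
      rw [(refl_rep hj).eq (sgn_rep ((b_rep h1).mul (r_rep h2)) _) h]
      exact mul_mem (sgU_mem _) (mul_mem (b_mem _) (r_mem _))
    have h := List.all_eq_true.1 refl_ok (j - 1) (List.mem_range.2 (by omega))
    rw [show j - 1 + 1 = j by omega] at h
    simp only [reflCheck, Bool.and_eq_true, Nat.blt_eq] at h
    obtain ⟨hp, he⟩ := h
    have ihp := ih _ hp (hp.trans hj)
    split at he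
    · have e := ((refl_rep hj).mul y_rep).eq (y_rep.mul (refl_rep (hp.trans hj))) he
      rw [eq_mul_inv_of_mul_eq e]
      exact mul_mem (mul_mem y_mem ihp) (inv_mem y_mem)
    · have e := ((refl_rep hj).mul x_rep).eq (x_rep.mul (refl_rep (hp.trans hj))) he
      rw [eq_mul_inv_of_mul_eq e]
      exact mul_mem (mul_mem x_mem ihp) (inv_mem x_mem)

theorem range_eq : Ico.beta.range = K := by
  rw [Ico.beta_range]
  refine le_antisymm ((Subgroup.closure_le _).2 ?_) ((Subgroup.closure_le _).2 ?_)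
  · rintro _ ⟨j, rfl⟩
    exact refl_mem j
  · have hm : ∀ j, Ico.reflUnit j ∈ Subgroup.closure (Set.range Ico.reflUnit) := fun j => Subgroup.subset_closure ⟨j, rfl⟩
    rintro s (rfl | rfl)
    · exact mul_mem (hm _) (hm _)
    · exact mul_mem (hm _) (hm _)

/-- Only the two signs are central. -/
theorem center_K {z : GL (Fin 7) (ZMod 11)} (hz : z ∈ K) (hc : ∀ g ∈ K, g * z = z * g) : z = 1 ∨ z = nU := by
  obtain ⟨i, k, f, hi, hk, rfl⟩ := inCosets_of_mem hz
  haveI : Fact (Nat.Prime 11) := ⟨by norm_num⟩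
  obtain ⟨hlen, ⟨hgf, hgt⟩, -⟩ := misc.2.2.2.2.2.2.2.2.2.2.2.2.2
  obtain ⟨c, hc0, ec⟩ := base_scaled hk f
  have hline : ∀ n, bGen n < 160 →
      rowMul (rowMul baseVec (reps.get i)) (borel.get (bGen n)) =
        red (borelScalar.get (bGen n) * rowMul baseVec (reps.get i)) := by
    intro n hn
    obtain ⟨d, hd1, hd2, hd, ed⟩ := base_borel hn
    have gr : IsRed (rowMul baseVec (reps.get i)) := isRed_red _
    refine toVec_inj (isRed_red _) (isRed_red _) ?_
    rw [← hd, toVec_rowMul gr (b_rep hn).1, toVec_red_mul gr hd2, toVec_rowMul base_red (r_rep hi).1,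
      ← (b_rep hn).2, ← (r_rep hi).2]
    have e := congrArg (fun u : GL (Fin 7) (ZMod 11) => Matrix.vecMul (toVec baseVec) (u : Matrix (Fin 7) (Fin 7) (ZMod 11)))
      (hc _ (b_mem (bGen n)))
    rw [← mul_assoc (sgU f)] at e
    rw [Units.val_mul (bU _), Units.val_mul _ (bU _), ← Matrix.vecMul_vecMul, ← Matrix.vecMul_vecMul, ed,
      Units.val_mul (sgU f * bU k), Matrix.smul_vecMul, ← Matrix.vecMul_vecMul, ec, Matrix.smul_vecMul,
      Matrix.smul_vecMul, smul_comm] at e
    exact smul_right_injective _ hc0 e.symm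
  have hcand : i ∈ centerCand := by
    have h := List.all_eq_true.1 cand_ok i (List.mem_range.2 hi)
    simp only [candCheck, Bool.or_eq_true, List.contains_iff_mem, Bool.not_eq_true', ← Bool.not_eq_true,
      Nat.beq_eq] at h
    rcases h with (h | h) | h
    · exact h
    · exact absurd (hline false hgf) h
    · exact absurd (hline true hgt) h
  obtain ⟨p, hp, hpi⟩ := List.getElem_of_mem hcand
  rw [hlen] at hp
  have h := List.all_eq_true.1 center_ok (p * 160 + k) (List.mem_range.2 (by omega))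
  simp only [centerCheck, show (p * 160 + k) % 160 = k by omega, show (p * 160 + k) / 160 = p by omega,
    List.getD_eq_getElem _ _ (show p < centerCand.length by omega), hpi, isPlusMinus, Bool.or_eq_true,
    Bool.not_eq_true'] at h
  have hgr := (b_rep hk).mul (r_rep hi)
  have hcomm : ∀ s ∈ K, (bU k * rU i) * s = s * (bU k * rU i) := by
    intro s hs
    have := hc s hs
    rw [← mul_assoc, ← sgU_central f hs, mul_assoc, mul_assoc] at this
    exact (mul_left_cancel this).symm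
  rcases h with ((h | h) | h) | h
  · rw [hgr.eq Rep.one h, mul_one]
    cases f
    · exact Or.inl rfl
    · exact Or.inr rfl
  · rw [hgr.eq n_rep h]
    cases f
    · exact Or.inr (one_mul _)
    · exact Or.inl n_sq
  · rw [(hgr.mul x_rep).beq_iff (x_rep.mul hgr) |>.2 (hcomm _ x_mem)] at h
    exact Bool.noConfusion h
  · rw [(hgr.mul y_rep).beq_iff (y_rep.mul hgr) |>.2 (hcomm _ y_mem)] at h
    exact Bool.noConfusion h

end Cfsg.Agent.Lie.J2Cert
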