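import Mathlib
import Cfsg.Agent.Lib.Lie.Ico.Cosets
import Cfsg.Agent.Lib.Lie.Ico.ClassChecks

/-!
The Hall–Janko group: order, centre of the double cover, element orders.
-/

set_option autoImplicit false
set_option maxRecDepth 20000
set_option maxHeartbeats 1000000

noncomputable section

namespace Cfsg.Agent.Lie.J2Cert

open Cfsg.Agent.Lie Janko Quaternion Cfsg.Spor

/-- The double cover as a matrix group. -/
def modEquiv : twoJ2 ≃* K :=
  (MonoidHom.ofInjective Ico.beta_injective).trans (MulEquiv.subgroupCongr range_eq)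

theorem card_twoJ2 : Nat.card twoJ2 = 1209600 :=
  (Nat.card_congr modEquiv.toEquiv).trans card_K

instance : Finite twoJ2 := Nat.finite_of_card_ne_zero (by rw [card_twoJ2]; norm_num)

theorem beta_mem (f : twoJ2) : Ico.beta f ∈ K := range_eq ▸ ⟨f, rfl⟩

theorem exists_beta {g : GL (Fin 7) (ZMod 11)} (hg : g ∈ K) : ∃ f : twoJ2, Ico.beta f = g := by
  rwa [← range_eq] at hg

theorem n_ne_one : nU ≠ 1 := fun e => by
  have h := (n_rep.beq_iff Rep.one).2 e
  revert h
  decide +kernel

theorem mem_center_iff (f : twoJ2) : f ∈ Subgroup.center twoJ2 ↔ Ico.beta f = 1 ∨ Ico.beta f = nU := by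
  rw [Subgroup.mem_center_iff]
  constructor
  · intro h
    refine center_K (beta_mem f) fun g hg => ?_
    obtain ⟨x, rfl⟩ := exists_beta hg
    rw [← map_mul, ← map_mul, h x]
  · intro h x
    refine Ico.beta_injective ?_
    rw [map_mul, map_mul]
    rcases h with h | h <;> rw [h]
    · rw [mul_one, one_mul]
    · exact (n_central (beta_mem x)).symm

/-- The negation of the lattice. -/
def negT : twoJ2 := (exists_beta n_mem).choose

theorem beta_negT : Ico.beta negT = nU := (exists_beta n_mem).choose_spec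

theorem negT_mem : negT ∈ Subgroup.center twoJ2 := (mem_center_iff _).2 (Or.inr beta_negT)

theorem neg_axis : ∀ a : Fin 3, toMat negMat * Ico.phiV (Ico.axisSQ a 1) = Ico.phiV (Ico.axisSQ a (-1)) := by
  decide +kernel

theorem negT_apply (x : icoLeech) :
    (((negT : Equiv.Perm icoLeech) x : icoLeech) : Fin 3 → ℍ[ℝ]) = -(x : Fin 3 → ℍ[ℝ]) :=
  Ico.apply_of_neg (fun a => by rw [beta_negT, n_rep.2]; exact neg_axis a) x

theorem card_center : Nat.card (Subgroup.center twoJ2) = 2 := by
  have h : (Subgroup.center twoJ2 : Set twoJ2) = {1, negT} := by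
    ext f
    rw [SetLike.mem_coe, mem_center_iff, Set.mem_insert_iff, Set.mem_singleton_iff, ← beta_negT,
      Ico.beta_injective.eq_iff, ← map_one Ico.beta, Ico.beta_injective.eq_iff]
  rw [← SetLike.coe_sort_coe, Nat.card_coe_set_eq, h, Set.ncard_pair]
  intro e
  exact n_ne_one (by rw [← beta_negT, ← e, map_one])

theorem card_J2 : Nat.card J2 = 604800 := by
  have h := Subgroup.card_eq_card_quotient_mul_card_subgroup (Subgroup.center twoJ2)
  rw [card_twoJ2, card_center] at h
  show Nat.card (twoJ2 ⧸ Subgroup.center twoJ2) = 604800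
  omega

/-- The projection onto the simple quotient. -/
def proj : twoJ2 →* J2 := QuotientGroup.mk' _

theorem proj_surjective : Function.Surjective proj := QuotientGroup.mk'_surjective _

theorem proj_eq_one (f : twoJ2) : proj f = 1 ↔ Ico.beta f = 1 ∨ Ico.beta f = nU :=
  (QuotientGroup.eq_one_iff f).trans (mem_center_iff f)

theorem isPM_iff {g : GL (Fin 7) (ZMod 11)} {A : M7} (hg : Rep g A) :
    isPlusMinus A = true ↔ g = 1 ∨ g = nU := by
  rw [isPlusMinus, Bool.or_eq_true, hg.beq_iff Rep.one, hg.beq_iff n_rep]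

theorem sqr_rep {g : GL (Fin 7) (ZMod 11)} {A : M7} (hg : Rep g A) : Rep (g * g) (sqr A) := hg.mul hg

theorem fastPow_rep {g : GL (Fin 7) (ZMod 11)} {A : M7} (hg : Rep g A) {n : ℕ} (hn : n ∈ allowed) :
    Rep (g ^ n) (fastPow A n) := by
  simp only [allowed, List.mem_cons, List.not_mem_nil, or_false] at hn
  rcases hn with rfl | rfl | rfl | rfl | rfl
  · convert (sqr_rep ((sqr_rep hg).mul hg)).mul hg using 1
    · simp [pow_succ, mul_assoc]
    · rfl
  · convert sqr_rep (sqr_rep (sqr_rep hg)) using 1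
    · simp [pow_succ, mul_assoc]
    · rfl
  · convert sqr_rep ((sqr_rep (sqr_rep hg)).mul hg) using 1
    · simp [pow_succ, mul_assoc]
    · rfl
  · convert sqr_rep (sqr_rep ((sqr_rep hg).mul hg)) using 1
    · simp [pow_succ, mul_assoc]
    · rfl
  · convert (sqr_rep ((sqr_rep ((sqr_rep hg).mul hg)).mul hg)).mul hg using 1
    · simp [pow_succ, mul_assoc]
    · rfl

theorem conj_fact {i : ℕ} (hi : i < 3780) : conjCheck i = true := by
  rcases Nat.lt_or_ge i 1890 with h | h
  · exact List.all_eq_true.1 conj_ok0 i (List.mem_range.2 h)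
  · rw [show i = 1890 + (i - 1890) by omega]
    exact List.all_eq_true.1 conj_ok1 _ (List.mem_range.2 (by omega))

theorem pow_fact {k : ℕ} (hk : k < 6240) : powCheck k = true := by
  rcases Nat.lt_or_ge k 1560 with h | h
  · exact List.all_eq_true.1 pow_ok0 k (List.mem_range.2 h)
  rcases Nat.lt_or_ge k 3120 with h' | h'
  · rw [show k = 1560 + (k - 1560) by omega]
    exact List.all_eq_true.1 pow_ok1 _ (List.mem_range.2 (by omega))
  rcases Nat.lt_or_ge k 4680 with h'' | h''
  · rw [show k = 3120 + (k - 3120) by omega]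
    exact List.all_eq_true.1 pow_ok2 _ (List.mem_range.2 (by omega))
  · rw [show k = 4680 + (k - 4680) by omega]
    exact List.all_eq_true.1 pow_ok3 _ (List.mem_range.2 (by omega))

theorem classRep_lt : ∀ t < 39, classReps.getD t 0 < 3780 := by decide +kernel

/-- Every element has a power with an admissible exponent that is a sign. -/
theorem exists_pow {g : GL (Fin 7) (ZMod 11)} (hg : g ∈ K) :
    ∃ n ∈ allowed, g ^ n = 1 ∨ g ^ n = nU := by
  obtain ⟨i, k, f, hi, hk, rfl⟩ := inCosets_of_mem hg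
  have hc := conj_fact hi
  simp only [conjCheck, Bool.and_eq_true, Nat.blt_eq] at hc
  obtain ⟨he, ht, h1, h2⟩ := hc
  set t := (conjTab.get i).1
  set k1 := (conjTab.get i).2.1
  set k2 := (conjTab.get i).2.2.1
  set f1 := (conjTab.get i).2.2.2
  have hr : rU i = sgU f1 * (bU k1 * rU (classReps.getD t 0) * bU k2) :=
    (r_rep hi).eq (sgn_rep (((b_rep h1).mul (r_rep (classRep_lt t ht))).mul (b_rep h2)) f1)
      (by rw [M7.eq_of_beq he]; exact beq_self _)
  obtain ⟨m', hm', f2, e2⟩ := b_mul h2 k hk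
  obtain ⟨m, hm, f3, e3⟩ := b_mul hm' k1 h1
  have hconj : bU k2 * (sgU f * (bU k * rU i)) * (bU k2)⁻¹ =
      sgU (xor f (xor f1 (xor f2 f3))) * (bU m * rU (classReps.getD t 0)) := by
    rw [← mul_assoc (bU k2) (sgU f), ← sgU_central f (b_mem k2), hr, ← mul_assoc (bU k) (sgU f1),
      ← sgU_central f1 (b_mem k), mul_assoc (sgU f1), ← mul_assoc (sgU f * bU k2), mul_assoc (sgU f) (bU k2) (sgU f1),
      ← sgU_central f1 (b_mem k2)]
    rw [← sgU_mul, ← sgU_mul, ← sgU_mul]
    simp only [mul_assoc, mul_inv_cancel, mul_one]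
    rw [← mul_assoc (bU k2) (bU k), e2, mul_assoc (sgU f2) (bU m'), ← mul_assoc (bU m') (bU k1), e3, mul_assoc (sgU f3)]
  obtain ⟨hal, hpm⟩ : allowed.contains (classPow.get (t * 160 + m)) = true ∧
      isPlusMinus (fastPow ((borel.get m).mul (reps.get (classReps.getD t 0))) (classPow.get (t * 160 + m))) = true := by
    have h := pow_fact (show t * 160 + m < 6240 by omega)
    simp only [powCheck, Bool.and_eq_true, show (t * 160 + m) % 160 = m by omega,
      show (t * 160 + m) / 160 = t by omega] at h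
    exact h
  have hn : classPow.get (t * 160 + m) ∈ allowed := List.contains_iff_mem.1 hal
  have hp := (isPM_iff (fastPow_rep ((b_rep hm).mul (r_rep (classRep_lt t ht))) hn)).1 hpm
  refine ⟨_, hn, ?_⟩
  set n := classPow.get (t * 160 + m)
  set s := xor f (xor f1 (xor f2 f3))
  set y := bU m * rU (classReps.getD t 0)
  set x := sgU f * (bU k * rU i)
  have hx : (bU k2 * x * (bU k2)⁻¹) ^ n = 1 ∨ (bU k2 * x * (bU k2)⁻¹) ^ n = nU := by
    rw [hconj, Commute.mul_pow (sgU_central s (mul_mem (b_mem _) (r_mem _)))]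
    have hs : sgU s ^ n = 1 ∨ sgU s ^ n = nU := by
      cases s
      · exact Or.inl (one_pow n)
      · rcases Nat.even_or_odd' n with ⟨l, hl | hl⟩
        · exact Or.inl (by rw [hl, pow_mul, pow_two, show sgU true = nU from rfl, n_sq, one_pow])
        · exact Or.inr (by rw [hl, pow_succ, pow_mul, pow_two, show sgU true = nU from rfl, n_sq, one_pow, one_mul])
    rcases hs with hs | hs <;> rcases hp with hp | hp <;> rw [hs, hp]
    · exact Or.inl (one_mul 1)
    · exact Or.inr (one_mul _)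
    · exact Or.inr (mul_one _)
    · exact Or.inl n_sq
  rw [conj_pow] at hx
  rcases hx with hx | hx
  · exact Or.inl (conj_eq_one_iff.1 hx)
  · refine Or.inr ?_
    have e : x ^ n = (bU k2)⁻¹ * nU * bU k2 := by rw [← hx]; group
    rw [e, mul_assoc, n_central (b_mem k2), inv_mul_cancel_left]

/-- The element orders of the Hall–Janko group. -/
def spectrum : Finset ℕ := {1, 2, 3, 4, 5, 6, 7, 8, 10, 12, 15}

theorem dvd_allowed {m : ℕ} : (∃ n ∈ allowed, m ∣ n) ↔ m ∈ spectrum := by
  constructor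
  · rintro ⟨n, hn, hm⟩
    have hle : ∀ n ∈ allowed, ∀ d ∈ n.divisors, d ∈ spectrum := by decide
    exact hle n hn m (Nat.mem_divisors.2 ⟨hm, fun e => absurd (e ▸ hn) (by decide)⟩)
  · intro hm
    have h : ∀ m ∈ spectrum, ∃ n ∈ allowed, m ∣ n := by decide
    exact h m hm

theorem exists_order {n : ℕ} (hn : n ∈ allowed) : ∃ x : J2, orderOf x = n := by
  rw [show allowed = witnesses.map (fun p => p.1) from witness_list.symm, List.mem_map] at hn
  obtain ⟨⟨o, k, i⟩, hp, rfl⟩ := hn
  have h := List.all_eq_true.1 witness_ok _ hp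
  simp only [Bool.and_eq_true, Nat.blt_eq, List.all_eq_true, Bool.not_eq_true'] at h
  obtain ⟨⟨⟨hk, hi⟩, hpm⟩, hq⟩ := h
  have hr := (b_rep hk).mul (r_rep hi)
  obtain ⟨x, hx⟩ := exists_beta (mul_mem (b_mem k) (r_mem i))
  have hw : ∀ q, proj x ^ q = 1 ↔ isPlusMinus (((borel.get k).mul (reps.get i)).pow q) = true := fun q => by
    rw [← map_pow, proj_eq_one, map_pow, hx, isPM_iff (hr.pow q)]
  have ho : o ∈ allowed := by rw [show allowed = witnesses.map (fun p => p.1) from witness_list.symm, List.mem_map]; exact ⟨_, hp, rfl⟩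
  have hpos : 0 < o := Nat.pos_of_ne_zero fun e => absurd (e ▸ ho) (by decide)
  refine ⟨proj x, orderOf_eq_of_pow_and_pow_div_prime hpos ((hw o).2 hpm) fun p hp' hpo => ?_⟩
  rw [Ne, hw, hq p ((Nat.mem_primeFactorsList hpos.ne').2 ⟨hp', hpo⟩)]
  decide

theorem range_orderOf : Set.range (orderOf : J2 → ℕ) = spectrum := by
  ext m
  simp only [Set.mem_range, Finset.mem_coe]
  constructor
  · rintro ⟨y, rfl⟩
    obtain ⟨f, rfl⟩ := proj_surjective y
    obtain ⟨n, hn, hp⟩ := exists_pow (beta_mem f)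
    refine dvd_allowed.1 ⟨n, hn, orderOf_dvd_of_pow_eq_one ?_⟩
    rw [← map_pow, proj_eq_one, map_pow]
    exact hp
  · intro hm
    obtain ⟨n, hn, hmn⟩ := dvd_allowed.2 hm
    obtain ⟨y, hy⟩ := exists_order hn
    have hn0 : 0 < n := Nat.pos_of_ne_zero fun e => absurd (e ▸ hn) (by decide)
    refine ⟨y ^ (n / m), ?_⟩
    have hd : n / m ∣ n := Nat.div_dvd_of_dvd hmn
    rw [orderOf_pow_of_dvd (Nat.div_pos (Nat.le_of_dvd hn0 hmn) (Nat.pos_of_dvd_of_pos hmn hn0)).ne' (hy.symm ▸ hd), hy,
      Nat.div_div_self hmn hn0.ne']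

end Cfsg.Agent.Lie.J2Cert
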