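import Cfsg.Agent.Lib.Lie.Ico.SimpleDefs

/-!
Kernel checks: simplicity, the involution centraliser and the degree 100 action.
-/

set_option autoImplicit false
set_option maxRecDepth 100000
set_option maxHeartbeats 0

namespace Cfsg.Agent.Lie.J2Cert

theorem genConj_ok : ((List.range 315).all fun j => genConjCheck j) = true := by decide +kernel

theorem orbit_ok : ((List.range 315).all fun j => orbitCheck j) = true := by decide +kernel

theorem mask_ok : ((List.range 64).all fun m => maskCheck m) = true := by decide +kernel

theorem stab_ok : (cBound (stabGen false) && cBound (stabGen true) && Nat.beq (stabAct false 0) 0 &&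
    Nat.beq (stabAct true 0) 0 && Nat.beq (orbitLabel.get 0) 0 && Nat.beq (orbitRoots.getD 0 1) 0) = true := by
  decide +kernel

theorem comm_ok : ((List.range 315).all fun j => commCheck j) = true := by decide +kernel

theorem pair_ok : ((List.range 5).all fun k => pairCheck k) = true := by decide +kernel

theorem pair_cover : (commuting.all fun j => (List.range 5).any fun k => inPair k j) = true := by decide +kernel

theorem quot_ok : (quotCheck false && quotCheck true) = true := by decide +kernel

theorem core_ok : (coreElems.all fun c => coreCheck c && coreCenterCheck c) = true := by decide +kernel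

theorem core_mul_ok : (coreElems.all fun c => coreElems.all fun d => coreMulCheck c d) = true := by decide +kernel

theorem core_distinct : coreElems.length = 32 ∧ (coreElems.map fun c => (c.1, c.2.1)).Nodup := by decide +kernel

theorem set_ok : ((List.range 100).all fun q => setCheck q) = true := by decide +kernel

theorem set_distinct : setMasks.length = 100 ∧ setMasks.Nodup ∧ (setMasks.all fun m => Nat.blt m (2 ^ 315)) = true ∧
    setActX.getD 0 0 ≠ 0 := by
  decide +kernel

end Cfsg.Agent.Lie.J2Cert
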