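import Mathlib
import Cfsg.Agent.Lib.Lie.Ico.J2
import Cfsg.Agent.Lib.Lie.Ico.SimpleChecks

/-!
The action on the 315 reflections; simplicity of the Hall–Janko group.
-/

set_option autoImplicit false
set_option maxRecDepth 20000
set_option maxHeartbeats 1000000

noncomputable section

namespace Cfsg.Agent.Lie.J2Cert

open Cfsg.Agent.Lie Janko Cfsg.Spor
open scoped Pointwise

/-- A reflection as an element of the double cover. -/
def refl (j : Fin 315) : twoJ2 := ⟨Ico.lineRefl j, Ico.lineRefl_mem j⟩

/-- The matrix of a reflection. -/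
abbrev RU (j : Fin 315) : GL (Fin 7) (ZMod 11) := Ico.reflUnit j

theorem beta_reflElt (j : Fin 315) : Ico.beta (refl j) = RU j := Ico.beta_refl j

theorem RU_rep (j : Fin 315) : Rep (RU j) (reflMat.get j) := refl_rep j.2

theorem pmEq_iff {g h : GL (Fin 7) (ZMod 11)} {A B : M7} (hg : Rep g A) (hh : Rep h B) :
    pmEq A B = true ↔ g = h ∨ nU * g = h := by
  rw [pmEq, Bool.or_eq_true, hg.beq_iff hh, (n_rep.mul hg).beq_iff hh]

theorem proj_eq_iff (f g : twoJ2) : proj f = proj g ↔ Ico.beta f = Ico.beta g ∨ nU * Ico.beta f = Ico.beta g := by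
  rw [← inv_mul_eq_one (a := proj f), ← map_inv, ← map_mul, proj_eq_one, map_mul, map_inv, inv_mul_eq_one,
    inv_mul_eq_iff_eq_mul, ← n_central (beta_mem f)]
  exact or_congr_right eq_comm

theorem RU_ne {i j : Fin 315} (h : i ≠ j) : RU i ≠ RU j ∧ nU * RU i ≠ RU j := by
  have key : ∀ a b : Fin 315, b.val < a.val → RU a ≠ RU b ∧ nU * RU a ≠ RU b := by
    intro a b hab
    have h := List.all_eq_true.1 Ico.refl_distinct a (List.mem_range.2 a.2)
    have h' := List.all_eq_true.1 h b (List.mem_range.2 hab)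
    simp only [Bool.and_eq_true, Bool.not_eq_true', ← Bool.not_eq_true] at h'
    exact ⟨fun e => h'.1 (((RU_rep a).beq_iff (RU_rep b)).2 e),
      fun e => h'.2 (((n_rep.mul (RU_rep a)).beq_iff (RU_rep b)).2 e)⟩
  rcases lt_or_gt_of_ne (fun e => h (Fin.ext e)) with hlt | hlt
  · obtain ⟨h1, h2⟩ := key j i hlt
    refine ⟨Ne.symm h1, fun e => h2 ?_⟩
    rw [← e, ← mul_assoc, n_sq, one_mul]
  · exact key i j hlt

theorem RU_injective : Function.Injective RU := fun i j e => by
  by_contra h
  exact (RU_ne h).1 e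

/-- The image of a reflection in the simple group. -/
def tJ (j : Fin 315) : J2 := proj (refl j)

theorem tJ_injective : Function.Injective tJ := fun i j e => by
  by_contra h
  obtain ⟨h1, h2⟩ := RU_ne h
  rw [tJ, tJ, proj_eq_iff, beta_reflElt, beta_reflElt] at e
  exact e.elim h1 h2

theorem tJ_sq (j : Fin 315) : tJ j * tJ j = 1 := by
  rw [tJ, ← map_mul, show refl j * refl j = 1 from Subtype.ext (Ico.lineRefl_sq j), map_one]

theorem exists_conj {g : GL (Fin 7) (ZMod 11)} (hg : g ∈ K) (j : Fin 315) : ∃ i, g * RU j = RU i * g := by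
  have hg' : g ∈ Submonoid.closure ({xU, yU} : Set (GL (Fin 7) (ZMod 11))) := by
    have : g ∈ (Subgroup.closure ({xU, yU} : Set (GL (Fin 7) (ZMod 11)))).toSubmonoid := hg
    rwa [Subgroup.closure_toSubmonoid_of_finite] at this
  clear hg
  induction hg' using Submonoid.closure_induction generalizing j with
  | mem s hs =>
    have h := List.all_eq_true.1 genConj_ok j (List.mem_range.2 j.2)
    simp only [genConjCheck, conjOk, Bool.and_eq_true, Nat.blt_eq] at h
    obtain ⟨⟨hx, hx'⟩, hy, hy'⟩ := h
    rcases hs with hs | hs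
    · exact ⟨⟨_, hx'⟩, by rw [hs]; exact (x_rep.mul (RU_rep j)).eq ((RU_rep ⟨_, hx'⟩).mul x_rep) hx⟩
    · exact ⟨⟨_, hy'⟩, by
        rw [Set.mem_singleton_iff.1 hs]; exact (y_rep.mul (RU_rep j)).eq ((RU_rep ⟨_, hy'⟩).mul y_rep) hy⟩
  | one => exact ⟨j, by rw [one_mul, mul_one]⟩
  | mul a b _ _ ia ib =>
    obtain ⟨i, hi⟩ := ib j
    obtain ⟨k, hk⟩ := ia i
    exact ⟨k, by rw [mul_assoc, hi, ← mul_assoc, hk, mul_assoc]⟩

/-- The image of a reflection under an element. -/
def conjImage (f : twoJ2) (j : Fin 315) : Fin 315 := (exists_conj (beta_mem f) j).choose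

theorem conjImage_spec (f : twoJ2) (j : Fin 315) : Ico.beta f * RU j = RU (conjImage f j) * Ico.beta f :=
  (exists_conj (beta_mem f) j).choose_spec

theorem conjImage_eq {f : twoJ2} {i j : Fin 315} (h : Ico.beta f * RU j = RU i * Ico.beta f) : conjImage f j = i :=
  RU_injective (mul_right_cancel ((conjImage_spec f j).symm.trans h))

/-- The permutation representation on the reflections. -/
def reflHom : twoJ2 →* Equiv.Perm (Fin 315) :=
  MonoidHom.mk' (fun f => Equiv.ofBijective (conjImage f) (Finite.injective_iff_bijective.1 fun i j e => by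
    have hi := conjImage_spec f i
    rw [e, ← conjImage_spec f j] at hi
    exact RU_injective (mul_left_cancel hi))) fun f g => Equiv.ext fun j => conjImage_eq (by
    show Ico.beta (f * g) * RU j = RU (conjImage f (conjImage g j)) * Ico.beta (f * g)
    rw [map_mul, mul_assoc, conjImage_spec, ← mul_assoc, conjImage_spec, mul_assoc])

theorem reflHom_spec (f : twoJ2) (j : Fin 315) : Ico.beta f * RU j = RU (reflHom f j) * Ico.beta f :=
  conjImage_spec f j

theorem reflHom_eq {f : twoJ2} {i j : Fin 315} (h : Ico.beta f * RU j = RU i * Ico.beta f) : reflHom f j = i :=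
  conjImage_eq h

theorem refl_conj (f : twoJ2) (j : Fin 315) : f * refl j * f⁻¹ = refl (reflHom f j) := by
  refine Ico.beta_injective ?_
  rw [map_mul, map_mul, map_inv, beta_reflElt, beta_reflElt, reflHom_spec, mul_inv_cancel_right]

theorem closure_refl : Subgroup.closure (Set.range refl) = ⊤ := by
  refine Subgroup.map_injective twoJ2.subtype_injective ?_
  rw [MonoidHom.map_closure, ← MonoidHom.range_eq_map, Subgroup.range_subtype, ← Set.range_comp]
  exact Ico.twoJ2_eq.symm

theorem ker_reflHom : reflHom.ker = Subgroup.center twoJ2 := by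
  ext f
  rw [MonoidHom.mem_ker, Subgroup.mem_center_iff]
  constructor
  · intro h
    have hle : Set.range refl ⊆ Subgroup.centralizer {f} := by
      rintro _ ⟨j, rfl⟩
      refine Subgroup.mem_centralizer_singleton_iff.2 ?_
      have := refl_conj f j
      rw [h, Equiv.Perm.one_apply, mul_inv_eq_iff_eq_mul] at this
      exact this.symm
    intro x
    have hx : x ∈ Subgroup.centralizer {f} := by
      refine (Subgroup.closure_le _).2 hle ?_
      rw [closure_refl]; exact Subgroup.mem_top x
    exact Subgroup.mem_centralizer_singleton_iff.1 hx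
  · intro h
    refine Equiv.ext fun j => reflHom_eq ?_
    rw [Equiv.Perm.one_apply, ← beta_reflElt, ← map_mul, ← map_mul, h (refl j)]

/-- The permutation representation of the simple group. -/
def actHom : J2 →* Equiv.Perm (Fin 315) := QuotientGroup.lift (Subgroup.center twoJ2) reflHom ker_reflHom.ge

theorem actHom_proj (f : twoJ2) : actHom (proj f) = reflHom f := rfl

theorem actHom_injective : Function.Injective actHom := (injective_iff_map_eq_one actHom).2 fun x hx => by
  obtain ⟨f, rfl⟩ := proj_surjective x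
  rw [actHom_proj, ← MonoidHom.mem_ker, ker_reflHom] at hx
  exact (QuotientGroup.eq_one_iff f).2 hx

/-- The action on the reflections. -/
instance reflAction : MulAction J2 (Fin 315) := MulAction.compHom (Fin 315) actHom

theorem smul_proj (f : twoJ2) (j : Fin 315) : proj f • j = reflHom f j := rfl

theorem conj_tJ (x : J2) (j : Fin 315) : x * tJ j * x⁻¹ = tJ (x • j) := by
  obtain ⟨f, rfl⟩ := proj_surjective x
  rw [tJ, tJ, smul_proj, ← map_mul, ← map_inv, ← map_mul, refl_conj]

instance : FaithfulSMul J2 (Fin 315) := ⟨fun h => actHom_injective (Equiv.ext h)⟩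

/-- Every reflection is conjugate to the first one. -/
theorem exists_to (j : Fin 315) : ∃ f : twoJ2, reflHom f 0 = j := by
  obtain ⟨j, hj⟩ := j
  induction j using Nat.strong_induction_on with
  | _ j ih =>
    rcases Nat.eq_zero_or_pos j with rfl | h0
    · exact ⟨1, by rw [map_one]; rfl⟩
    have h := List.all_eq_true.1 refl_ok (j - 1) (List.mem_range.2 (by omega))
    rw [show j - 1 + 1 = j by omega] at h
    simp only [reflCheck, Bool.and_eq_true, Nat.blt_eq] at h
    obtain ⟨hp, he⟩ := h
    obtain ⟨f, hf⟩ := ih _ hp (hp.trans hj)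
    obtain ⟨s, hs, hsr⟩ : ∃ s ∈ K, Rep s (if (reflPar.get j).2 then yMat else xMat) := by
      split
      · exact ⟨yU, y_mem, y_rep⟩
      · exact ⟨xU, x_mem, x_rep⟩
    obtain ⟨g, hg⟩ := exists_beta hs
    refine ⟨g * f, ?_⟩
    rw [map_mul, Equiv.Perm.mul_apply, hf]
    refine reflHom_eq ?_
    rw [hg]
    exact (((RU_rep ⟨j, hj⟩).mul hsr).eq (hsr.mul (RU_rep ⟨_, hp.trans hj⟩)) he).symm

instance : MulAction.IsPretransitive J2 (Fin 315) :=
  MulAction.isPretransitive_iff_base 0 |>.2 fun j => (exists_to j).imp' proj fun _ h => h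

theorem exists_cmat {c : ℕ × ℕ × Bool} (h : cBound c = true) : ∃ f : twoJ2, Rep (Ico.beta f) (cmat c) := by
  simp only [cBound, Bool.and_eq_true, Nat.blt_eq] at h
  obtain ⟨f, hf⟩ := exists_beta (mul_mem (sgU_mem c.2.2) (mul_mem (b_mem c.1) (r_mem c.2.1)))
  exact ⟨f, hf ▸ sgn_rep ((b_rep h.1).mul (r_rep h.2)) _⟩

theorem conjOk_spec {f : twoJ2} {A : M7} (hf : Rep (Ico.beta f) A) {i j : ℕ} (hj : j < 315)
    (h : conjOk A j i = true) : ∃ hi : i < 315, reflHom f ⟨j, hj⟩ = ⟨i, hi⟩ := by
  simp only [conjOk, Bool.and_eq_true, Nat.blt_eq] at h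
  exact ⟨h.2, reflHom_eq ((hf.mul (RU_rep ⟨j, hj⟩)).eq ((RU_rep ⟨i, h.2⟩).mul hf) h.1)⟩

theorem stab_exists (n : Bool) : ∃ f : twoJ2, reflHom f 0 = 0 ∧ ∀ j : Fin 315, (reflHom f j : ℕ) = stabAct n j := by
  have h := stab_ok
  simp only [Bool.and_eq_true, Nat.beq_eq] at h
  obtain ⟨f, hf⟩ := exists_cmat (c := stabGen n) (by cases n; exacts [h.1.1.1.1.1, h.1.1.1.1.2])
  have hact : ∀ j : Fin 315, (reflHom f j : ℕ) = stabAct n j := fun j => by
    have hj := List.all_eq_true.1 orbit_ok j (List.mem_range.2 j.2)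
    simp only [orbitCheck, Bool.and_eq_true] at hj
    obtain ⟨_, e⟩ := conjOk_spec hf j.2 (i := stabAct n j) (by cases n; exacts [hj.1, hj.2.1])
    rw [show (⟨(j : ℕ), j.2⟩ : Fin 315) = j from rfl] at e
    rw [e]
  refine ⟨f, Fin.ext ?_, hact⟩
  rw [hact]
  cases n; exacts [h.1.1.1.2, h.1.1.2]

/-- A mask with given bits. -/
def maskOf (P : Fin 6 → Bool) : ℕ := ∑ l : Fin 6, if P l then 2 ^ l.val else 0

theorem maskOf_spec : ∀ P : Fin 6 → Bool, maskOf P < 64 ∧ ∀ l : Fin 6, (maskOf P).testBit l = P l := by decide +kernel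

theorem card_filter_eq (n : ℕ) (p : ℕ → Bool) :
    ((Finset.univ : Finset (Fin n)).filter fun j => p j.val = true).card = (List.range n).countP p := by
  rw [List.countP_eq_length_filter]
  have : ((List.range n).filter p).length = ((Finset.range n).filter fun i => p i = true).card := by
    simp [Finset.card_def, Finset.filter_val, Finset.range_val, Multiset.range]
  rw [this, Finset.card_filter, Finset.card_filter, Fin.sum_univ_eq_sum_range (fun i => if p i = true then 1 else 0)]

theorem block_eq {B : Set (Fin 315)} (h0 : (0 : Fin 315) ∈ B) (hB : MulAction.IsBlock J2 B) :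
    B = {0} ∨ B = Set.univ := by
  classical
  have hinv : ∀ n (j : Fin 315), ∀ h : stabAct n j < 315, (⟨stabAct n j, h⟩ : Fin 315) ∈ B ↔ j ∈ B := by
    intro n j h
    obtain ⟨f, hf0, hf⟩ := stab_exists n
    have hfix : proj f • B = B := hB.smul_eq_of_mem h0 (by rw [smul_proj, hf0]; exact h0)
    have e : (⟨stabAct n j, h⟩ : Fin 315) = proj f • j := Fin.ext (hf j).symm
    rw [e]
    conv_lhs => rw [← hfix]
    exact Set.smul_mem_smul_set_iff
  let root : Fin 6 → Bool := fun l => decide (∃ h : orbitRoots.getD l 0 < 315, (⟨_, h⟩ : Fin 315) ∈ B)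
  obtain ⟨hm64, hbit⟩ := maskOf_spec root
  set m := maskOf root
  have hlab : ∀ j : Fin 315, orbitLabel.get j < 6 ∧ (j ∈ B ↔ m.testBit (orbitLabel.get j) = true) := by
    intro j
    induction hr : orbitRank.get j using Nat.strong_induction_on generalizing j with
    | _ r ih =>
      have hj := List.all_eq_true.1 orbit_ok j (List.mem_range.2 j.2)
      simp only [orbitCheck, Bool.and_eq_true, Bool.or_eq_true, Nat.blt_eq, Nat.beq_eq] at hj
      obtain ⟨-, -, hl, hj⟩ := hj
      refine ⟨hl, ?_⟩
      rcases hj with ⟨-, he⟩ | ⟨hlt, hp, hact, hlabel⟩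
      · rw [show m.testBit (orbitLabel.get j) = root ⟨_, hl⟩ from hbit ⟨_, hl⟩]
        simp only [root, decide_eq_true_eq]
        constructor
        · intro hjB
          exact ⟨he ▸ j.2, by convert hjB; exact he.symm⟩
        · rintro ⟨h, hB'⟩
          convert hB'
      · obtain ⟨-, hpar⟩ := ih _ (hr ▸ hlt) ⟨_, hp⟩ rfl
        rw [← hlabel, ← hpar]
        have := hinv (orbitPar.get j).2 ⟨_, hp⟩ (hact.symm ▸ j.2)
        simp only [hact] at this
        exact this
  have hcount : B.ncard = orbitCount m := by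
    have e : B = ↑((Finset.univ : Finset (Fin 315)).filter fun j => m.testBit (orbitLabel.get j.val) = true) := by
      ext j; simp [(hlab j).2]
    rw [e, Set.ncard_coe_finset, orbitCount, card_filter_eq 315 fun j => m.testBit (orbitLabel.get j)]
  have h := List.all_eq_true.1 mask_ok m (List.mem_range.2 hm64)
  simp only [maskCheck, Bool.or_eq_true, Bool.not_eq_true', ← Bool.not_eq_true, Nat.beq_eq] at h
  have hs := stab_ok
  simp only [Bool.and_eq_true, Nat.beq_eq] at hs
  have h0' : m.testBit 0 = true := by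
    have := (hlab 0).2.1 h0
    rwa [show orbitLabel.get ((0 : Fin 315) : ℕ) = 0 from hs.1.2] at this
  have hdvd : 315 % orbitCount m = 0 := by
    have := hB.ncard_dvd_card ⟨0, h0⟩
    rw [hcount, Nat.card_fin] at this
    exact Nat.mod_eq_zero_of_dvd this
  rcases h with ((h | h) | h) | h
  · exact absurd h0' h
  · left
    refine Set.eq_singleton_iff_unique_mem.2 ⟨h0, fun j hj => ?_⟩
    have := (hlab j).2.1 hj
    rw [h] at this
    have hc : orbitCount 1 = 1 := by decide +kernel
    rw [h, hc] at hcount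
    obtain ⟨a, ha⟩ := Set.ncard_eq_one.1 hcount
    rw [ha] at hj h0
    rw [Set.mem_singleton_iff.1 hj, Set.mem_singleton_iff.1 h0]
  · right
    refine Set.eq_univ_iff_forall.2 fun j => (hlab j).2.2 ?_
    rw [h]
    have : ∀ l : Fin 6, (63 : ℕ).testBit l = true := by decide
    exact this ⟨_, (hlab j).1⟩
  · exact absurd hdvd h

instance : MulAction.IsPreprimitive J2 (Fin 315) :=
  MulAction.IsPreprimitive.of_isTrivialBlock_base 0 fun h0 hB => by
    rcases block_eq h0 hB with rfl | rfl
    · exact Or.inl Set.subsingleton_singleton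
    · exact Or.inr rfl

theorem closure_tJ : Subgroup.closure (Set.range tJ) = ⊤ := by
  rw [show tJ = proj ∘ refl from rfl, Set.range_comp, ← MonoidHom.map_closure, closure_refl,
    Subgroup.map_top_of_surjective _ proj_surjective]

theorem perfect : commutator J2 = ⊤ := by
  have hgen : ∀ z : J2, Abelianization.of z = 1 := by
    have hc : ∀ j, Abelianization.of (tJ j) = Abelianization.of (tJ 0) := fun j => by
      obtain ⟨f, hf⟩ := exists_to j
      have := conj_tJ (proj f) 0
      rw [smul_proj, hf] at this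
      rw [← this, map_mul, map_mul, map_inv, mul_comm (Abelianization.of (proj f)), mul_inv_cancel_right]
    have hpair : ∀ a b : Fin 315, Abelianization.of (proj (refl a * refl b)) = 1 := fun a b => by
      rw [map_mul, map_mul, show proj (refl a) = tJ a from rfl, show proj (refl b) = tJ b from rfl, hc a, hc b,
        ← map_mul, tJ_sq, map_one]
    intro z
    obtain ⟨f, rfl⟩ := proj_surjective z
    suffices ∀ g ∈ K, ∀ f : twoJ2, Ico.beta f = g → Abelianization.of (proj f) = 1 from this _ (beta_mem f) f rfl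
    intro g hg
    induction hg using Subgroup.closure_induction with
    | mem s hs =>
      intro f hf
      rcases hs with hs | hs
      · rw [show f = refl ⟨_, genIdx_lt 0⟩ * refl ⟨_, genIdx_lt 1⟩ from Ico.beta_injective (by
          rw [hf, hs, map_mul, beta_reflElt, beta_reflElt]; rfl)]
        exact hpair _ _
      · rw [show f = refl ⟨_, genIdx_lt 2⟩ * refl ⟨_, genIdx_lt 3⟩ from Ico.beta_injective (by
          rw [hf, Set.mem_singleton_iff.1 hs, map_mul, beta_reflElt, beta_reflElt]; rfl)]
        exact hpair _ _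
    | one =>
      intro f hf
      rw [show f = 1 from Ico.beta_injective (hf.trans (map_one _).symm), map_one, map_one]
    | mul a b ha hb ia ib =>
      intro f hf
      obtain ⟨fa, hfa⟩ := exists_beta (g := a) ha
      obtain ⟨fb, hfb⟩ := exists_beta (g := b) hb
      rw [show f = fa * fb from Ico.beta_injective (by rw [hf, map_mul, hfa, hfb]), map_mul, map_mul, ia fa hfa,
        ib fb hfb, one_mul]
    | inv a ha ia =>
      intro f hf
      rw [← inv_inv f, map_inv, map_inv, ia f⁻¹ (by rw [map_inv, hf, inv_inv]), inv_one]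
  rw [← Abelianization.ker_of, eq_top_iff]
  exact fun z _ => MonoidHom.mem_ker.2 (hgen z)

/-- The Iwasawa structure. -/
def iwasawa : MulAction.IwasawaStructure J2 (Fin 315) where
  T j := Subgroup.zpowers (tJ j)
  is_comm _ := inferInstance
  is_conj g x := by
    rw [← conj_tJ]
    show _ = (Subgroup.zpowers (tJ x)).map (MulAut.conj g).toMonoidHom
    rw [MonoidHom.map_zpowers]
    rfl
  is_generator := by
    rw [eq_top_iff, ← closure_tJ, Subgroup.closure_le]
    rintro _ ⟨j, rfl⟩
    exact Subgroup.mem_iSup_of_mem j (Subgroup.mem_zpowers _)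

instance : Nontrivial J2 := Finite.one_lt_card_iff_nontrivial.1 (by rw [card_J2]; norm_num)

theorem isSimple : IsSimpleGroup J2 := iwasawa.isSimpleGroup perfect inferInstance

theorem not_abelian : ∃ a b : J2, a * b ≠ b * a := by
  by_contra h
  push Not at h
  have h2 : ∀ j, tJ j = tJ 0 := fun j => by
    obtain ⟨f, hf⟩ := exists_to j
    have := conj_tJ (proj f) 0
    rw [smul_proj, hf, h, inv_mul_cancel_left] at this
    exact this.symm
  exact absurd (tJ_injective (h2 1)) (by decide)

/-- Conjugacy of the reflections. -/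
theorem reflections_conjugate {f f' : Equiv.Perm icoLeech} (hf : IsIcoReflection f) (hf' : IsIcoReflection f') :
    ∃ g ∈ twoJ2, g * f * g⁻¹ = f' := by
  obtain ⟨i, rfl⟩ := Ico.eq_lineRefl hf
  obtain ⟨j, rfl⟩ := Ico.eq_lineRefl hf'
  obtain ⟨a, ha⟩ := exists_to i
  obtain ⟨b, hb⟩ := exists_to j
  have e : b * a⁻¹ * refl i * (b * a⁻¹)⁻¹ = refl j := by
    rw [← ha, ← hb, ← refl_conj, ← refl_conj]; group
  exact ⟨(b * a⁻¹ : twoJ2), (b * a⁻¹).2, congrArg Subtype.val e⟩

end Cfsg.Agent.Lie.J2Cert
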