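import Mathlib
import Cfsg.Agent.Lib.Lie.Ico.SimpleAction
import Cfsg.Agent.Lib.Solv.Extraspecial

/-!
The centraliser of a reflection: an extension of an extraspecial group of order 32 by A₅.
-/

set_option autoImplicit false
set_option maxRecDepth 20000
set_option maxHeartbeats 1000000

noncomputable section

namespace Cfsg.Agent.Lie.J2Cert

open Cfsg.Agent.Lie Janko Cfsg.Spor
open scoped commutatorElement

/-- The centraliser of the first reflection. -/
abbrev Cent : Subgroup J2 := Subgroup.centralizer {tJ 0}

theorem mem_cent_iff (x : J2) : x ∈ Cent ↔ x • (0 : Fin 315) = 0 := by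
  rw [Subgroup.mem_centralizer_singleton_iff, ← mul_inv_eq_iff_eq_mul, conj_tJ, tJ_injective.eq_iff]

theorem card_cent : Nat.card Cent = 1920 := by
  have e : Cent = MulAction.stabilizer J2 (0 : Fin 315) := by
    ext x
    rw [mem_cent_iff, MulAction.mem_stabilizer_iff]
  have h := Subgroup.card_mul_index (MulAction.stabilizer J2 (0 : Fin 315))
  rw [MulAction.index_stabilizer_of_transitive, Nat.card_fin, card_J2] at h
  rw [e]
  omega

/-- The first member of a pair. -/
def pairA (k : Fin 5) : Fin 315 := ⟨(pairMem k).1, by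
  have h := List.all_eq_true.1 pair_ok k (List.mem_range.2 k.2)
  simp only [pairCheck, Bool.and_eq_true, Nat.blt_eq] at h
  exact h.2.2.2.2.1⟩

/-- The second member of a pair. -/
def pairB (k : Fin 5) : Fin 315 := ⟨(pairMem k).2, by
  have h := List.all_eq_true.1 pair_ok k (List.mem_range.2 k.2)
  simp only [pairCheck, Bool.and_eq_true, Nat.blt_eq] at h
  exact h.2.2.2.2.2.1⟩

theorem pair_facts (k : Fin 5) :
    tJ (pairA k) * tJ (pairB k) = tJ 0 ∧ tJ (pairB k) * tJ (pairA k) = tJ 0 ∧ pairA k ≠ 0 ∧ pairB k ≠ 0 ∧
      pairA k ≠ pairB k := by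
  have h := List.all_eq_true.1 pair_ok k (List.mem_range.2 k.2)
  simp only [pairCheck, Bool.and_eq_true, Bool.not_eq_true', ← Bool.not_eq_true, Nat.beq_eq] at h
  obtain ⟨h1, h2, h3, h4, -, -, h5, -⟩ := h
  have key : ∀ a b : Fin 315, pmEq ((reflMat.get a).mul (reflMat.get b)) (reflMat.get (0 : Fin 315)) = true →
      tJ a * tJ b = tJ 0 := fun a b e => by
    rw [tJ, tJ, tJ, ← map_mul, proj_eq_iff, map_mul, beta_reflElt, beta_reflElt, beta_reflElt]
    exact (pmEq_iff ((RU_rep a).mul (RU_rep b)) (RU_rep 0)).1 e
  exact ⟨key (pairA k) (pairB k) h1, key (pairB k) (pairA k) h2, fun e => h3 (congrArg Fin.val e),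
    fun e => h4 (congrArg Fin.val e), fun e => h5 (congrArg Fin.val e)⟩

/-- Membership in a pair. -/
def InP (k : Fin 5) (j : Fin 315) : Prop := j = pairA k ∨ j = pairB k

theorem inP_unique {k l : Fin 5} {j : Fin 315} (hk : InP k j) (hl : InP l j) : k = l := by
  by_contra hne
  have key : ∀ a b : Fin 5, b.val < a.val → InP a j → InP b j → False := by
    intro a b hba ha hb
    have h := List.all_eq_true.1 pair_ok a (List.mem_range.2 a.2)
    simp only [pairCheck, Bool.and_eq_true] at h
    have h' := List.all_eq_true.1 h.2.2.2.2.2.2.2 b (List.mem_range.2 hba)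
    simp only [inPair, Bool.and_eq_true, Bool.not_eq_true', Bool.or_eq_false_iff] at h'
    rcases ha with rfl | rfl <;> rcases hb with e | e <;>
      (have ev := congrArg Fin.val e; simp only [pairA, pairB] at ev; simp [ev] at h')
  rcases lt_or_gt_of_ne (fun e => hne (Fin.ext e)) with h | h
  · exact key l k h hl hk
  · exact key k l h hk hl

theorem exists_pair {x : J2} (hx : x ∈ Cent) (k : Fin 5) : ∃ l, InP l (x • pairA k) ∧ InP l (x • pairB k) := by
  obtain ⟨h1, h2, h3, -⟩ := pair_facts k
  have hx0 := (mem_cent_iff x).1 hx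
  have hprod : tJ (x • pairA k) * tJ (x • pairB k) = tJ 0 := by
    rw [← conj_tJ, ← conj_tJ]
    conv_rhs => rw [← hx0, ← conj_tJ, ← h1]
    group
  have hprod' : tJ (x • pairB k) * tJ (x • pairA k) = tJ 0 := by
    rw [← conj_tJ, ← conj_tJ]
    conv_rhs => rw [← hx0, ← conj_tJ, ← h2]
    group
  have hne : x • pairA k ≠ 0 := fun e => h3 (MulAction.injective x (e.trans hx0.symm))
  set a := x • pairA k
  set b := x • pairB k
  have hb : tJ b = tJ a * tJ 0 := by rw [← hprod, ← mul_assoc, tJ_sq, one_mul]
  have hcomm : tJ a * tJ 0 = tJ 0 * tJ a := by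
    rw [← hb]
    nth_rw 1 [← hprod']
    rw [mul_assoc, tJ_sq, mul_one]
  have hmem : commuting.contains a.val = true := by
    have h := List.all_eq_true.1 comm_ok a (List.mem_range.2 a.2)
    simp only [commCheck, Bool.or_eq_true, Nat.beq_eq] at h
    rcases h with (h | h) | h
    · exact absurd (Fin.ext h) hne
    · exact h
    · exfalso
      rw [tJ, tJ, ← map_mul, ← map_mul, proj_eq_iff, map_mul, map_mul, beta_reflElt, beta_reflElt] at hcomm
      have := (pmEq_iff ((RU_rep a).mul (RU_rep 0)) ((RU_rep 0).mul (RU_rep a))).2 hcomm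
      rw [Fin.val_zero] at this
      rw [this] at h
      exact Bool.noConfusion h
  obtain ⟨l, hl, hin⟩ := List.any_eq_true.1 (List.all_eq_true.1 pair_cover a.val (List.contains_iff_mem.1 hmem))
  simp only [inPair, Bool.or_eq_true, Nat.beq_eq] at hin
  refine ⟨⟨l, List.mem_range.1 hl⟩, ?_⟩
  obtain ⟨g1, g2, -⟩ := pair_facts ⟨l, List.mem_range.1 hl⟩
  rcases hin with h | h
  · have ea : a = pairA ⟨l, List.mem_range.1 hl⟩ := Fin.ext h
    refine ⟨Or.inl ea, Or.inr (tJ_injective ?_)⟩
    rw [hb, ea, ← g1, ← mul_assoc, tJ_sq, one_mul]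
  · have ea : a = pairB ⟨l, List.mem_range.1 hl⟩ := Fin.ext h
    refine ⟨Or.inr ea, Or.inl (tJ_injective ?_)⟩
    rw [hb, ea, ← g2, ← mul_assoc, tJ_sq, one_mul]

/-- The image of a pair. -/
def pairImage (x : Cent) (k : Fin 5) : Fin 5 := (exists_pair x.2 k).choose

theorem pairImage_spec (x : Cent) (k : Fin 5) {j : Fin 315} (hj : InP k j) : InP (pairImage x k) ((x : J2) • j) := by
  obtain ⟨h1, h2⟩ := (exists_pair x.2 k).choose_spec
  rcases hj with rfl | rfl
  exacts [h1, h2]

theorem pairImage_eq {x : Cent} {k l : Fin 5} {j : Fin 315} (hj : InP k j) (h : InP l ((x : J2) • j)) :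
    pairImage x k = l :=
  inP_unique (pairImage_spec x k hj) h

theorem pairImage_bijective (x : Cent) : Function.Bijective (pairImage x) := by
  refine Function.bijective_iff_has_inverse.2 ⟨pairImage x⁻¹, fun k => ?_, fun k => ?_⟩
  · refine pairImage_eq (pairImage_spec x k (Or.inl rfl)) ?_
    rw [← mul_smul, ← Subgroup.coe_mul, inv_mul_cancel, Subgroup.coe_one, one_smul]
    exact Or.inl rfl
  · refine pairImage_eq (pairImage_spec x⁻¹ k (Or.inl rfl)) ?_
    rw [← mul_smul, ← Subgroup.coe_mul, mul_inv_cancel, Subgroup.coe_one, one_smul]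
    exact Or.inl rfl

/-- The action on the five pairs. -/
def pairHom : Cent →* Equiv.Perm (Fin 5) :=
  MonoidHom.mk' (fun x => Equiv.ofBijective (pairImage x) (pairImage_bijective x)) fun x y =>
    Equiv.ext fun k => pairImage_eq (Or.inl rfl) (by
      show InP (pairImage x (pairImage y k)) _
      rw [Subgroup.coe_mul, mul_smul]
      exact pairImage_spec x _ (pairImage_spec y k (Or.inl rfl)))

theorem conjOk_smul {f : twoJ2} {A : M7} (hf : Rep (Ico.beta f) A) {i j : Fin 315}
    (h : conjOk A j.val i.val = true) : proj f • j = i := by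
  obtain ⟨_, e⟩ := conjOk_spec hf j.2 h
  exact e

theorem exists_cent {c : ℕ × ℕ × Bool} (hb : cBound c = true) (h0 : conjOk (cmat c) 0 0 = true) :
    ∃ (f : twoJ2) (h : proj f ∈ Cent), Rep (Ico.beta f) (cmat c) ∧
      ∀ i j : Fin 315, conjOk (cmat c) j.val i.val = true → ((⟨proj f, h⟩ : Cent) : J2) • j = i := by
  obtain ⟨f, hf⟩ := exists_cmat hb
  exact ⟨f, (mem_cent_iff _).2 (conjOk_smul (i := 0) (j := 0) hf h0), hf, fun i j h => conjOk_smul hf h⟩

/-- The first generator of the image. -/
def piA : Equiv.Perm (Fin 5) :=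
  ⟨![3, 4, 0, 1, 2], ![2, 3, 4, 0, 1], by decide, by decide⟩

/-- The second generator of the image. -/
def piB : Equiv.Perm (Fin 5) :=
  ⟨![0, 3, 2, 4, 1], ![0, 4, 2, 1, 3], by decide, by decide⟩

theorem quot_image (n : Bool) : ∀ k : Fin 5, ∃ i < 10, (inPair k (commuting.getD i 0) = true) ∧
    inPair ((if n then piB else piA) k) (quotImage n i) = true := by
  revert n
  decide +kernel

theorem gen_mem_range (n : Bool) : (if n then piB else piA) ∈ pairHom.range := by
  have h : quotCheck n = true := by
    have := quot_ok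
    simp only [Bool.and_eq_true] at this
    cases n
    exacts [this.1, this.2]
  simp only [quotCheck, Bool.and_eq_true] at h
  obtain ⟨hb, h0, hall⟩ := h
  obtain ⟨f, hm, -, hsm⟩ := exists_cent hb h0
  refine ⟨⟨proj f, hm⟩, Equiv.ext fun k => ?_⟩
  obtain ⟨i, hi, h1, h2⟩ := quot_image n k
  have hc := List.all_eq_true.1 hall i (List.mem_range.2 hi)
  simp only [inPair, Bool.or_eq_true, Nat.beq_eq] at h1 h2
  have hj : commuting.getD i 0 < 315 := by
    rcases h1 with h | h <;> rw [h]
    exacts [(pairA k).2, (pairB k).2]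
  have hi' : quotImage n i < 315 := by
    simp only [conjOk, Bool.and_eq_true, Nat.blt_eq] at hc
    exact hc.2
  refine pairImage_eq (j := ⟨_, hj⟩) (h1.imp Fin.ext Fin.ext) ?_
  rw [hsm ⟨_, hi'⟩ ⟨_, hj⟩ hc]
  exact h2.imp Fin.ext Fin.ext

/-- Words for the sixty even permutations. -/
def evenWords : List (List Bool) := [[], [false], [true], [false, false], [false, true], [true, false], [true, true], [false, false, false], [false, false, true], [false, true, false], [false, true, true], [true, false, false], [true, false, true], [true, true, false], [false, false, false, false], [false, false, false, true], [false, false, true, false], [false, false, true, true], [false, true, false, false], [false, true, false, true], [false, true, true, false], [true, false, false, true], [true, false, true, false], [true, false, true, true], [true, true, false, true], [false, false, false, false, true], [false, false, false, true, false], [false, false, false, true, true], [false, false, true, false, true], [false, false, true, true, false], [false, true,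 false, false, true], [false, true, false, true, true], [false, true, true, false, true], [true, false, false, true, false], [true, false, true, false, false], [true, false, true, true, false], [true, true, false, true, false], [true, true, false, true, true], [false, false, false, false, true, false], [false, false, false, true, true, false], [false, false, true, false, true, true], [false, false, true, true, false, true], [false, true, false, false, true, false], [false, true, false, true, true, false], [false, true, true, false, true, false], [false, true, true, false, true, true], [true, false, false, true, false, true], [true, false, true, false, false, true], [true, false, true, true, false, true], [true, true, false, true, false, false], [true, true, false, true, true, false], [false, false, false, true, true, false, true], [false, false, true, false, true, true, false], [false, false, true, true, false, true, false], [false, true, true, false, true, false, false], [true, false, false, true, false, true, true], [true, false, true, true,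 false, true, true], [true, true, false, true, false, false, true], [true, true, false, true, true, false, true], [false, true, true, false, true, false, false, true]]

theorem evenWords_ok : ∀ σ : Equiv.Perm (Fin 5), Equiv.Perm.sign σ = 1 →
    ∃ w ∈ evenWords, w.foldl (fun g b => g * if b then piB else piA) 1 = σ := by
  decide +kernel

theorem alt_le_range : alternatingGroup (Fin 5) ≤ pairHom.range := by
  intro σ hσ
  obtain ⟨w, -, rfl⟩ := evenWords_ok σ (Equiv.Perm.mem_alternatingGroup.1 hσ)
  suffices ∀ (w : List Bool) (g : Equiv.Perm (Fin 5)), g ∈ pairHom.range →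
      w.foldl (fun g b => g * if b then piB else piA) g ∈ pairHom.range from this w 1 (one_mem _)
  intro w
  induction w with
  | nil => exact fun g hg => hg
  | cons b w ih => exact fun g hg => ih _ (mul_mem hg (gen_mem_range b))

theorem core_exists (i : Fin 32) : ∃ (f : twoJ2) (x : pairHom.ker), ((x : Cent) : J2) = proj f ∧
    Rep (Ico.beta f) (cmat (coreElems.getD i (0, 0, false))) := by
  have hmem : coreElems.getD i (0, 0, false) ∈ coreElems := by
    rw [List.getD_eq_getElem _ _ (by rw [core_distinct.1]; exact i.2)]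
    exact List.getElem_mem _
  have h := List.all_eq_true.1 core_ok _ hmem
  simp only [coreCheck, Bool.and_eq_true] at h
  obtain ⟨⟨hb, h0, hp⟩, -⟩ := h
  obtain ⟨f, hm, hf, hsm⟩ := exists_cent hb h0
  refine ⟨f, ⟨⟨proj f, hm⟩, MonoidHom.mem_ker.2 (Equiv.ext fun k => ?_)⟩, rfl, hf⟩
  have hk := List.all_eq_true.1 hp k (List.mem_range.2 k.2)
  simp only [Bool.or_eq_true] at hk
  refine pairImage_eq (Or.inl rfl) ?_
  rcases hk with hk | hk
  · exact Or.inl (hsm (pairA k) (pairA k) hk)
  · exact Or.inr (hsm (pairB k) (pairA k) hk)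

/-- The listed elements of the kernel. -/
def coreElt (i : Fin 32) : pairHom.ker := (core_exists i).choose_spec.choose

theorem coreElt_spec (i : Fin 32) : ∃ f : twoJ2, ((coreElt i : Cent) : J2) = proj f ∧
    Rep (Ico.beta f) (cmat (coreElems.getD i (0, 0, false))) :=
  ⟨_, (core_exists i).choose_spec.choose_spec⟩

theorem coreElt_injective : Function.Injective coreElt := by
  intro i j e
  obtain ⟨f, ef, hf⟩ := coreElt_spec i
  obtain ⟨g, eg, hg⟩ := coreElt_spec j
  obtain ⟨hlen, hnd⟩ := core_distinct
  have hi : i.val < coreElems.length := hlen.symm ▸ i.2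
  have hj : j.val < coreElems.length := hlen.symm ▸ j.2
  rw [List.getD_eq_getElem _ _ hi] at hf
  rw [List.getD_eq_getElem _ _ hj] at hg
  have hbd : ∀ c ∈ coreElems, c.1 < 160 ∧ c.2.1 < 3780 := fun c hc => by
    have h := List.all_eq_true.1 core_ok c hc
    simp only [coreCheck, cBound, Bool.and_eq_true, Nat.blt_eq] at h
    exact h.1.1
  obtain ⟨b1, b2⟩ := hbd _ (List.getElem_mem hi)
  obtain ⟨c1, c2⟩ := hbd _ (List.getElem_mem hj)
  set c := coreElems[i.val]
  set d := coreElems[j.val]
  have e1 := hf.unique (sgn_rep ((b_rep b1).mul (r_rep b2)) c.2.2)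
  have e2 := hg.unique (sgn_rep ((b_rep c1).mul (r_rep c2)) d.2.2)
  have e3 : proj f = proj g := by rw [← ef, ← eg, e]
  rw [proj_eq_iff, e1, e2, show nU = sgU true from rfl] at e3
  have key : c.1 = d.1 ∧ c.2.1 = d.2.1 := by
    rcases e3 with e3 | e3
    on_goal 2 => rw [← mul_assoc, sgU_mul] at e3
    all_goals obtain ⟨h2, h1, -⟩ := decomp_unique b2 c2 b1 c1 e3
    all_goals exact ⟨h1, h2⟩
  refine Fin.ext ((hnd.getElem_inj_iff (hi := by simpa using hi) (hj := by simpa using hj)).1 ?_)
  simp only [List.getElem_map]
  exact Prod.ext key.1 key.2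

theorem card_range_ker : Nat.card pairHom.range = 60 ∧ Nat.card pairHom.ker = 32 := by
  have h60 : Nat.card (alternatingGroup (Fin 5)) = 60 := by
    rw [nat_card_alternatingGroup, Nat.card_fin]
    rfl
  have h1 : 60 ≤ Nat.card pairHom.range := h60 ▸ Subgroup.card_le_of_le alt_le_range
  have h2 : 32 ≤ Nat.card pairHom.ker := by
    simpa using Nat.card_le_card_of_injective coreElt coreElt_injective
  have h := Subgroup.card_mul_index pairHom.ker
  rw [Subgroup.index_ker, card_cent] at h
  constructor <;> nlinarith

theorem range_eq_alt : pairHom.range = alternatingGroup (Fin 5) := by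
  refine (Subgroup.eq_of_le_of_card_ge alt_le_range ?_).symm
  rw [card_range_ker.1, nat_card_alternatingGroup, Nat.card_fin]
  rfl

theorem coreElt_surjective : Function.Surjective coreElt :=
  (coreElt_injective.bijective_of_nat_card_le (by rw [card_range_ker.2, Nat.card_fin])).2

theorem zero_mem_ker : ∃ z : pairHom.ker, ((z : Cent) : J2) = tJ 0 := by
  have hm : tJ 0 ∈ Cent := Subgroup.mem_centralizer_singleton_iff.2 rfl
  refine ⟨⟨⟨tJ 0, hm⟩, MonoidHom.mem_ker.2 (Equiv.ext fun k => pairImage_eq (Or.inl rfl) ?_)⟩, rfl⟩
  refine Or.inl (tJ_injective ?_)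
  show tJ (tJ 0 • pairA k) = tJ (pairA k)
  obtain ⟨h1, h2, -⟩ := pair_facts k
  rw [← conj_tJ, mul_inv_eq_iff_eq_mul]
  nth_rw 1 [← h2]
  rw [mul_assoc, tJ_sq, mul_one, ← h1, ← mul_assoc, tJ_sq, one_mul]

theorem inCenter_iff {f : twoJ2} {A : M7} (hf : Rep (Ico.beta f) A) :
    inCenter A = true ↔ proj f = 1 ∨ proj f = tJ 0 := by
  have h0 : pmEq A M7.one = true ↔ proj f = 1 := by
    rw [pmEq_iff hf Rep.one, ← map_one proj, proj_eq_iff, map_one]
  have h1 : pmEq A (reflMat.get 0) = true ↔ proj f = tJ 0 := by
    rw [tJ, proj_eq_iff, beta_reflElt]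
    exact pmEq_iff hf (RU_rep 0)
  rw [inCenter, Bool.or_eq_true, h0, h1]

theorem pmEq_mul {f g f' g' : twoJ2} {A B A' B' : M7} (hf : Rep (Ico.beta f) A) (hg : Rep (Ico.beta g) B)
    (hf' : Rep (Ico.beta f') A') (hg' : Rep (Ico.beta g') B') :
    pmEq (A.mul B) (A'.mul B') = true ↔ proj f * proj g = proj f' * proj g' := by
  rw [← map_mul, ← map_mul, proj_eq_iff, map_mul, map_mul]
  exact pmEq_iff (hf.mul hg) (hf'.mul hg')

theorem extraspecial : Cfsg.IsExtraspecial 2 pairHom.ker := by
  haveI : Fact (Nat.Prime 2) := ⟨Nat.prime_two⟩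
  obtain ⟨z, hz⟩ := zero_mem_ker
  have val : Function.Injective fun x : pairHom.ker => ((x : Cent) : J2) := fun x y e =>
    Subtype.ext (Subtype.ext e)
  have hzc : ∀ x : pairHom.ker, z * x = x * z := fun x => val (by
    show ((z : Cent) : J2) * ((x : Cent) : J2) = ((x : Cent) : J2) * ((z : Cent) : J2)
    rw [hz]
    exact (Subgroup.mem_centralizer_singleton_iff.1 (x : Cent).2).symm)
  have hz1 : z ≠ 1 := fun e => by
    have : tJ 0 = 1 := by rw [← hz, e]; rfl
    have h := conj_tJ (proj (exists_to 1).choose) 0
    rw [this, mul_one, mul_inv_cancel, smul_proj, (exists_to 1).choose_spec, ← this] at h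
    exact absurd (tJ_injective h) (by decide)
  have hmem : ∀ i : Fin 32, coreElems.getD i (0, 0, false) ∈ coreElems := fun i => by
    rw [List.getD_eq_getElem _ _ (by rw [core_distinct.1]; exact i.2)]
    exact List.getElem_mem _
  have hsq : ∀ x y : pairHom.ker, (x * x = 1 ∨ x * x = z) ∧ (x * y = y * x ∨ x * y = y * x * z) := by
    intro x y
    obtain ⟨i, rfl⟩ := coreElt_surjective x
    obtain ⟨j, rfl⟩ := coreElt_surjective y
    obtain ⟨f, ef, hf⟩ := coreElt_spec i
    obtain ⟨g, eg, hg⟩ := coreElt_spec j
    have h := List.all_eq_true.1 (List.all_eq_true.1 core_mul_ok _ (hmem i)) _ (hmem j)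
    simp only [coreMulCheck, Bool.and_eq_true, Bool.or_eq_true] at h
    obtain ⟨h1, h2⟩ := h
    refine ⟨?_, ?_⟩
    · have hff : Rep (Ico.beta (f * f)) ((cmat (coreElems.getD i (0, 0, false))).mul (cmat (coreElems.getD i (0, 0, false)))) := by rw [map_mul]; exact hf.mul hf
      rw [inCenter_iff hff] at h1
      refine h1.imp (fun e => val ?_) (fun e => val ?_)
      · show ((coreElt i : Cent) : J2) * ((coreElt i : Cent) : J2) = 1
        rw [ef, ← map_mul, e]
      · show ((coreElt i : Cent) : J2) * ((coreElt i : Cent) : J2) = ((z : Cent) : J2)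
        rw [ef, ← map_mul, e, hz]
    · refine h2.imp (fun e => val ?_) (fun e => val ?_)
      · show ((coreElt i : Cent) : J2) * ((coreElt j : Cent) : J2) = ((coreElt j : Cent) : J2) * ((coreElt i : Cent) : J2)
        rw [ef, eg]
        exact (pmEq_mul hf hg hg hf).1 e
      · show ((coreElt i : Cent) : J2) * ((coreElt j : Cent) : J2) =
          ((coreElt j : Cent) : J2) * ((coreElt i : Cent) : J2) * ((z : Cent) : J2)
        rw [ef, eg, hz, tJ, ← map_mul proj g f]
        exact (pmEq_mul (f' := g * f) hf hg (by rw [map_mul]; exact hg.mul hf)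
          (by rw [beta_reflElt]; exact RU_rep 0)).1 e
  have hcen : (Subgroup.center pairHom.ker : Set pairHom.ker) = {1, z} := by
    ext x
    rw [SetLike.mem_coe, Subgroup.mem_center_iff, Set.mem_insert_iff, Set.mem_singleton_iff]
    constructor
    · intro hx
      obtain ⟨i, rfl⟩ := coreElt_surjective x
      obtain ⟨f, ef, hf⟩ := coreElt_spec i
      have h := List.all_eq_true.1 core_ok _ (hmem i)
      simp only [coreCenterCheck, Bool.and_eq_true, Bool.or_eq_true, inCenter_iff hf, List.any_eq_true] at h
      rcases h.2 with h' | ⟨d, hd, hne⟩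
      · refine h'.imp (fun e => val ?_) (fun e => val ?_)
        · show ((coreElt i : Cent) : J2) = 1
          rw [ef, e]
        · show ((coreElt i : Cent) : J2) = ((z : Cent) : J2)
          rw [ef, e, hz]
      · exfalso
        obtain ⟨n, hn, rfl⟩ := List.getElem_of_mem hd
        have hn' : n < 32 := core_distinct.1 ▸ hn
        obtain ⟨g, eg, hg⟩ := coreElt_spec ⟨n, hn'⟩
        rw [List.getD_eq_getElem _ _ (show (⟨n, hn'⟩ : Fin 32).val < coreElems.length from hn)] at hg
        have hc : proj g * proj f = proj f * proj g := by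
          rw [← ef, ← eg]
          exact congrArg (fun u : pairHom.ker => ((u : Cent) : J2)) (hx (coreElt ⟨n, hn'⟩))
        rw [(pmEq_mul hf hg hg hf).2 hc.symm] at hne
        exact Bool.noConfusion hne
    · rintro (rfl | rfl) g
      · rw [mul_one, one_mul]
      · exact (hzc g).symm
  refine Solv.isExtraspecial_of (IsPGroup.of_card (n := 5) (by rw [card_range_ker.2]; norm_num)) ?_ ?_ fun x => ?_
  · rw [← SetLike.coe_sort_coe, Nat.card_coe_set_eq, hcen, Set.ncard_pair hz1.symm]
  · refine le_antisymm ?_ ?_
    · rw [commutator_def, Subgroup.commutator_le]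
      intro a _ b _
      rw [← SetLike.mem_coe, hcen, commutatorElement_def]
      rcases (hsq a b).2 with e | e
      · exact Or.inl (by rw [e]; group)
      · right
        show a * b * a⁻¹ * b⁻¹ = z
        rw [e, mul_assoc (b * a), hzc a⁻¹, ← mul_assoc, mul_assoc _ z, hzc b⁻¹, ← mul_assoc, mul_inv_cancel_right,
          mul_inv_cancel, one_mul]
    · intro x hx
      rw [← SetLike.mem_coe, hcen] at hx
      rcases hx with rfl | rfl
      · exact one_mem _
      obtain ⟨a, b, hab⟩ : ∃ a b : pairHom.ker, a * b ≠ b * a := by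
        by_contra hall
        push Not at hall
        have htop : Subgroup.center pairHom.ker = ⊤ :=
          eq_top_iff.2 fun x _ => Subgroup.mem_center_iff.2 fun g => hall g x
        have : (Set.univ : Set pairHom.ker).ncard = 2 := by
          rw [← Subgroup.coe_top, ← htop, hcen, Set.ncard_pair hz1.symm]
        rw [Set.ncard_univ, card_range_ker.2] at this
        omega
      have e : ⁅a, b⁆ = x := by
        rw [commutatorElement_def, (hsq a b).2.resolve_left hab, mul_assoc (b * a), hzc a⁻¹, ← mul_assoc,
          mul_assoc _ x, hzc b⁻¹, ← mul_assoc, mul_inv_cancel_right, mul_inv_cancel, one_mul]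
      rw [← e, commutator_def]
      exact Subgroup.commutator_mem_commutator (Subgroup.mem_top a) (Subgroup.mem_top b)
  · rw [← SetLike.mem_coe, hcen, pow_two]
    exact (hsq x x).1

/-- The quotient is the alternating group. -/
def quotEquiv : Cent ⧸ pairHom.ker ≃* alternatingGroup (Fin 5) :=
  (QuotientGroup.quotientKerEquivRange pairHom).trans (MulEquiv.subgroupCongr range_eq_alt)

end Cfsg.Agent.Lie.J2Cert
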