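import Mathlib
import Cfsg.Prelude.Def_Sporadic
import Cfsg.Agent.Lib.Lie.Ico.SimpleAction

/-!
The degree 100 representation of the Hall–Janko group.
-/

set_option autoImplicit false
set_option maxRecDepth 20000
set_option maxHeartbeats 1000000

noncomputable section

namespace Cfsg.Agent.Lie.J2Cert

open Cfsg.Agent.Lie Janko Cfsg.Spor

/-- The mask of one of the hundred sets. -/
def maskAt (q : Fin 100) : ℕ := setMasks.getD q 0

theorem maskAt_injective {q r : Fin 100} (h : ∀ j : Fin 315, (maskAt q).testBit j = (maskAt r).testBit j) : q = r := by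
  obtain ⟨hlen, hnd, hb, -⟩ := set_distinct
  have hlt : ∀ q : Fin 100, maskAt q < 2 ^ 315 ∧ maskAt q = setMasks[q.val]'(by rw [hlen]; exact q.2) := fun q => by
    have e : maskAt q = setMasks[q.val]'(by rw [hlen]; exact q.2) := List.getD_eq_getElem _ _ _
    refine ⟨?_, e⟩
    rw [e]
    exact Nat.blt_eq.mp (List.all_eq_true.1 hb _ (List.getElem_mem _))
  refine Fin.ext ((hnd.getElem_inj_iff (hi := by rw [hlen]; exact q.2) (hj := by rw [hlen]; exact r.2)).1 ?_)
  rw [← (hlt q).2, ← (hlt r).2]
  refine Nat.eq_of_testBit_eq fun j => ?_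
  rcases Nat.lt_or_ge j 315 with hj | hj
  · exact h ⟨j, hj⟩
  · rw [Nat.testBit_eq_false_of_lt ((hlt q).1.trans_le (Nat.pow_le_pow_right two_pos hj)),
      Nat.testBit_eq_false_of_lt ((hlt r).1.trans_le (Nat.pow_le_pow_right two_pos hj))]

theorem exists_gen (n : Bool) : ∃ f : twoJ2, Ico.beta f = (if n then yU else xU) ∧
    ∀ j : Fin 315, (reflHom f j : ℕ) = if n then conjY.get j else conjX.get j := by
  obtain ⟨f, hf⟩ := exists_beta (g := if n then yU else xU) (by cases n; exacts [x_mem, y_mem])
  refine ⟨f, hf, fun j => ?_⟩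
  have h := List.all_eq_true.1 genConj_ok j (List.mem_range.2 j.2)
  simp only [genConjCheck, Bool.and_eq_true] at h
  cases n
  · obtain ⟨_, e⟩ := conjOk_spec (f := f) (A := xMat) (by rw [hf]; exact x_rep) j.2 h.1
    rw [show (⟨(j : ℕ), j.2⟩ : Fin 315) = j from rfl] at e
    rw [e]; rfl
  · obtain ⟨_, e⟩ := conjOk_spec (f := f) (A := yMat) (by rw [hf]; exact y_rep) j.2 h.2
    rw [show (⟨(j : ℕ), j.2⟩ : Fin 315) = j from rfl] at e
    rw [e]; rfl

theorem exists_setImage (f : twoJ2) (q : Fin 100) :
    ∃ r : Fin 100, ∀ j : Fin 315, (maskAt q).testBit j = (maskAt r).testBit (reflHom f j) := by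
  suffices ∀ g ∈ K, ∀ f : twoJ2, Ico.beta f = g → ∀ q : Fin 100, ∃ r : Fin 100, ∀ j : Fin 315,
      (maskAt q).testBit j = (maskAt r).testBit (reflHom f j) from this _ (beta_mem f) f rfl q
  intro g hg
  have hg' : g ∈ Submonoid.closure ({xU, yU} : Set (GL (Fin 7) (ZMod 11))) := by
    have : g ∈ (Subgroup.closure ({xU, yU} : Set (GL (Fin 7) (ZMod 11)))).toSubmonoid := hg
    rwa [Subgroup.closure_toSubmonoid_of_finite] at this
  clear hg
  induction hg' using Submonoid.closure_induction with
  | mem s hs =>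
    intro f hf q
    obtain ⟨n, hn⟩ : ∃ n : Bool, s = if n then yU else xU := by
      rcases hs with hs | hs
      · exact ⟨false, hs⟩
      · exact ⟨true, hs⟩
    obtain ⟨f', hf', hact⟩ := exists_gen n
    obtain rfl : f = f' := Ico.beta_injective (by rw [hf, hf', hn])
    have h := List.all_eq_true.1 set_ok q (List.mem_range.2 q.2)
    simp only [setCheck, Bool.and_eq_true, Nat.blt_eq, List.all_eq_true, List.mem_range, beq_iff_eq] at h
    obtain ⟨hx, hy, hall⟩ := h
    cases n
    · refine ⟨⟨_, hx⟩, fun j => ?_⟩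
      rw [hact]
      exact (hall j j.2).1
    · refine ⟨⟨_, hy⟩, fun j => ?_⟩
      rw [hact]
      exact (hall j j.2).2
  | one =>
    intro f hf q
    obtain rfl : f = 1 := Ico.beta_injective (hf.trans (map_one _).symm)
    exact ⟨q, fun j => by rw [map_one]; rfl⟩
  | mul a b ha hb ia ib =>
    intro f hf q
    have mem : ∀ {c : GL (Fin 7) (ZMod 11)}, c ∈ Submonoid.closure ({xU, yU} : Set (GL (Fin 7) (ZMod 11))) → c ∈ K :=
      fun {c} hc => (Submonoid.closure_le (S := K.toSubmonoid)).2 Subgroup.subset_closure hc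
    obtain ⟨fa, hfa⟩ := exists_beta (mem ha)
    obtain ⟨fb, hfb⟩ := exists_beta (mem hb)
    obtain rfl : f = fa * fb := Ico.beta_injective (by rw [hf, map_mul, hfa, hfb])
    obtain ⟨r, hr⟩ := ib fb hfb q
    obtain ⟨t, ht⟩ := ia fa hfa r
    exact ⟨t, fun j => by rw [hr j, ht (reflHom fb j), map_mul]; rfl⟩

/-- The image of one of the sets. -/
def setImage (f : twoJ2) (q : Fin 100) : Fin 100 := (exists_setImage f q).choose

theorem setImage_spec (f : twoJ2) (q : Fin 100) (j : Fin 315) :
    (maskAt q).testBit j = (maskAt (setImage f q)).testBit (reflHom f j) := (exists_setImage f q).choose_spec j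

theorem setImage_eq {f : twoJ2} {q r : Fin 100}
    (h : ∀ j : Fin 315, (maskAt q).testBit j = (maskAt r).testBit (reflHom f j)) : setImage f q = r := by
  refine maskAt_injective fun j => ?_
  obtain ⟨i, rfl⟩ := (reflHom f).surjective j
  rw [← setImage_spec f q i, h i]

/-- The action on the hundred sets. -/
def setHom : twoJ2 →* Equiv.Perm (Fin 100) :=
  MonoidHom.mk' (fun f => Equiv.ofBijective (setImage f) (Finite.injective_iff_bijective.1 fun q r e => by
    refine maskAt_injective fun j => ?_
    rw [setImage_spec f q j, setImage_spec f r j, e])) fun f g => Equiv.ext fun q => setImage_eq fun j => by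
    show _ = (maskAt (setImage f (setImage g q))).testBit (reflHom (f * g) j)
    rw [setImage_spec g q j, setImage_spec f _ (reflHom g j), map_mul]
    rfl

/-- The degree 100 representation of the simple group. -/
def setHomJ2 : J2 →* Equiv.Perm (Fin 100) :=
  QuotientGroup.lift (Subgroup.center twoJ2) setHom fun f hf => MonoidHom.mem_ker.2 (Equiv.ext fun q =>
    setImage_eq fun j => by
      rw [← ker_reflHom, MonoidHom.mem_ker] at hf
      rw [hf]; rfl)

theorem setHomJ2_injective : Function.Injective setHomJ2 := by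
  haveI := isSimple
  rcases (inferInstance : setHomJ2.ker.Normal).eq_bot_or_eq_top with h | h
  · exact (MonoidHom.ker_eq_bot_iff _).1 h
  exfalso
  obtain ⟨f, -, hact⟩ := exists_gen false
  have hf : proj f ∈ setHomJ2.ker := h ▸ Subgroup.mem_top _
  have h1 : setImage f 0 = 0 := congrFun (congrArg DFunLike.coe (MonoidHom.mem_ker.1 hf)) 0
  have hc := List.all_eq_true.1 set_ok 0 (List.mem_range.2 (by norm_num))
  simp only [setCheck, Bool.and_eq_true, Nat.blt_eq, List.all_eq_true, List.mem_range, beq_iff_eq] at hc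
  obtain ⟨hx, -, hall⟩ := hc
  have h2 : setImage f 0 = ⟨_, hx⟩ := setImage_eq fun j => by
    rw [hact]
    exact (hall j j.2).1
  exact set_distinct.2.2.2 (congrArg Fin.val (h2.symm.trans h1))

theorem exists_degree_hundred : ∃ G : Subgroup (Equiv.Perm (Fin 100)), Cfsg.IsJ2 G := by
  refine ⟨setHomJ2.range, ?_, ?_⟩
  · haveI := isSimple
    haveI := (MonoidHom.ofInjective setHomJ2_injective).toEquiv.symm.nontrivial
    exact IsSimpleGroup.isSimpleGroup_of_surjective (MonoidHom.ofInjective setHomJ2_injective).toMonoidHom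
      (MonoidHom.ofInjective setHomJ2_injective).surjective
  · rw [← Nat.card_congr (MonoidHom.ofInjective setHomJ2_injective).toEquiv, card_J2]

end Cfsg.Agent.Lie.J2Cert
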