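import Cfsg.Agent.Lib.Lie.Ico.AutDefs

/-!
Kernel checks: the automorphism group of the Hall–Janko group.
-/

set_option autoImplicit false
set_option maxRecDepth 100000
set_option maxHeartbeats 0

namespace Cfsg.Agent.Lie.J2Cert

theorem autFive_ok : autPt 0 = 0 ∧ autPt 1 = 2 ∧ autPt 2 = 4 ∧ autPt 3 = 5 ∧ autPt 4 = 67 ∧
    orbitLabel.get 2 = 2 ∧ orbitRoots.getD 2 0 = 2 ∧
    (List.range 315).countP (fun j => Nat.beq (orbitLabel.get j) 2) = 160 := by
  decide +kernel

theorem three_ok : ((List.range 315).all fun j =>
    Nat.beq j 0 || (!(threeOk j) || Nat.beq (orbitLabel.get j) 2)) = true ∧ threeOk 2 = true := by decide +kernel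

theorem third_ok : (List.range 315).countP (fun j => okThird j) ≤ 8 ∧ okThird (autPt 2) = true ∧
    okFourth (autPt 2) (autPt 3) = true := by
  decide +kernel

theorem fourth_ok : ((List.range 315).all fun j => fourthCheck j) = true := by decide +kernel

theorem outer_ok : ((List.range 315).all fun j => outerCheck j) = true := by decide +kernel

theorem outer_fixed : autPi.get (autPt 0) = autPt 0 ∧ autPi.get (autPt 1) = autPt 1 ∧
    autPi.get (autPt 2) = autPt 4 ∧ autPi.get (autPt 3) = autPt 3 := by
  decide +kernel

theorem fix_ok : ((List.range 12).all fun i => fixCheck i) = true ∧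
    (autFix.map fun c => (c.1, c.2.1)).Nodup ∧ autFix.length = 12 := by
  decide +kernel

theorem eight_ok0 : ((List.range 3120).all fun k => eightCheck k) = true := by decide +kernel

theorem eight_ok1 : ((List.range 3120).all fun k => eightCheck (3120 + k)) = true := by decide +kernel

end Cfsg.Agent.Lie.J2Cert
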