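import Cfsg.Agent.Lib.Lie.JankoPack

/-!
Certificate data for the automorphism group (generated).
-/

set_option autoImplicit false
set_option maxRecDepth 100000
set_option maxHeartbeats 0

namespace Cfsg.Agent.Lie.J2Cert

def autFive : List ℕ := [0, 2, 4, 5, 67]

def autRelThree : List (List ℕ × ℕ) := [([0, 2], 5), ([1, 2], 4), ([0, 1, 2], 12), ([0, 1, 2, 1], 5), ([0, 2, 1, 2], 4), ([0, 1, 2, 0, 2, 1, 2], 3)]

def autRelFour : List (List ℕ × ℕ) := [([0, 3], 3), ([1, 3], 3), ([2, 3], 3), ([0, 1, 3], 4), ([0, 2, 3], 10), ([1, 2, 3], 8), ([0, 1, 2, 3], 15), ([0, 2, 1, 3], 15), ([0, 3, 1, 2, 3], 3), ([0, 1, 3, 2, 3], 10)]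

def autFix : List (ℕ × ℕ × Bool) := [(4, 2161, false), (10, 3766, true), (140, 670, false), (30, 1646, true), (40, 132, true), (102, 3481, true), (35, 3046, true), (145, 1070, true), (40, 58, true), (68, 2036, false), (0, 0, false), (1, 2664, true)]

def autFixImage : List ℕ := [218, 230, 218, 64, 64, 64, 230, 4, 230, 4, 4, 218]

def autConjA0 : Janko.Tree (ℕ) :=
  (.node (.node (.node (.node (.node (.leaf 0) (.leaf 282)) (.leaf 302)) (.node (.leaf 194) (.leaf 124))) (.node (.node (.node (.leaf 32) (.leaf 189)) (.leaf 201)) (.node (.leaf 122) (.leaf 150)))) (.node (.node (.node (.node (.leaf 12) (.leaf 6)) (.leaf 174)) (.node (.leaf 45) (.leaf 263))) (.node (.node (.node (.leaf 27) (.leaf 281)) (.leaf 125)) (.node (.leaf 285) (.leaf 196)))))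

def autConjA1 : Janko.Tree (ℕ) :=
  (.node (.node (.node (.node (.node (.leaf 1) (.leaf 38)) (.leaf 40)) (.node (.leaf 65) (.leaf 18))) (.node (.node (.node (.leaf 46) (.leaf 233)) (.leaf 116)) (.node (.leaf 292) (.leaf 101)))) (.node (.node (.node (.node (.leaf 44) (.leaf 4)) (.leaf 172)) (.node (.leaf 279) (.leaf 53))) (.node (.node (.node (.leaf 113) (.leaf 156)) (.leaf 185)) (.node (.leaf 49) (.leaf 262)))))

def autConjA2 : Janko.Tree (ℕ) :=
  (.node (.node (.node (.node (.node (.leaf 143) (.leaf 198)) (.leaf 135)) (.node (.leaf 261) (.leaf 64))) (.node (.node (.node (.leaf 229) (.leaf 43)) (.leaf 243)) (.node (.leaf 298) (.leaf 187)))) (.node (.node (.node (.node (.leaf 193) (.leaf 312)) (.leaf 223)) (.node (.leaf 134) (.leaf 280))) (.node (.node (.node (.leaf 77) (.leaf 216)) (.leaf 26)) (.node (.leaf 164) (.leaf 276)))))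

def autConjA3 : Janko.Tree (ℕ) :=
  (.node (.node (.node (.node (.node (.leaf 215) (.leaf 137)) (.leaf 166)) (.node (.leaf 269) (.leaf 14))) (.node (.node (.node (.leaf 110) (.leaf 153)) (.leaf 313)) (.node (.leaf 84) (.leaf 246)))) (.node (.node (.node (.node (.leaf 42) (.leaf 300)) (.leaf 111)) (.node (.leaf 222) (.leaf 20))) (.node (.node (.node (.leaf 29) (.leaf 86)) (.leaf 118)) (.node (.leaf 10) (.leaf 162)))))

def autConjA4 : Janko.Tree (ℕ) :=
  (.node (.node (.node (.node (.node (.leaf 273) (.leaf 95)) (.leaf 132)) (.node (.leaf 220) (.leaf 240))) (.node (.node (.node (.leaf 165) (.leaf 97)) (.leaf 114)) (.node (.leaf 5) (.leaf 151)))) (.node (.node (.node (.node (.leaf 211) (.leaf 242)) (.leaf 103)) (.node (.leaf 99) (.leaf 255))) (.node (.node (.node (.leaf 180) (.leaf 89)) (.leaf 52)) (.node (.leaf 161) (.leaf 121)))))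

def autConjA5 : Janko.Tree (ℕ) :=
  (.node (.node (.node (.node (.node (.leaf 100) (.leaf 66)) (.leaf 119)) (.node (.leaf 293) (.leaf 301))) (.node (.node (.node (.leaf 87) (.leaf 69)) (.leaf 36)) (.node (.leaf 225) (.leaf 34)))) (.node (.node (.node (.node (.leaf 157) (.leaf 297)) (.leaf 58)) (.node (.leaf 108) (.leaf 214))) (.node (.node (.node (.leaf 209) (.leaf 190)) (.leaf 139)) (.node (.leaf 70) (.leaf 251)))))

def autConjA6 : Janko.Tree (ℕ) :=
  (.node (.node (.node (.node (.node (.leaf 272) (.leaf 241)) (.leaf 82)) (.node (.leaf 117) (.leaf 258))) (.node (.node (.node (.leaf 257) (.leaf 234)) (.leaf 131)) (.node (.leaf 236) (.leaf 120)))) (.node (.node (.node (.node (.leaf 9) (.leaf 278)) (.leaf 224)) (.node (.leaf 307) (.leaf 213))) (.node (.node (.node (.leaf 186) (.leaf 311)) (.leaf 169)) (.node (.leaf 179) (.leaf 227)))))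

def autConjA7 : Janko.Tree (ℕ) :=
  (.node (.node (.node (.node (.node (.leaf 218) (.leaf 208)) (.leaf 130)) (.node (.leaf 127) (.leaf 203))) (.node (.node (.node (.leaf 267) (.leaf 270)) (.leaf 92)) (.node (.leaf 148) (.leaf 231)))) (.node (.node (.node (.node (.leaf 23) (.leaf 81)) (.leaf 228)) (.node (.leaf 37) (.leaf 3))) (.node (.node (.node (.leaf 141) (.leaf 310)) (.leaf 90)) (.node (.leaf 133) (.leaf 253)))))

def autConjA8 : Janko.Tree (ℕ) :=
  (.node (.node (.node (.node (.node (.leaf 239) (.leaf 138)) (.leaf 299)) (.node (.leaf 15) (.leaf 254))) (.node (.node (.node (.leaf 129) (.leaf 56)) (.leaf 126)) (.node (.leaf 88) (.leaf 60)))) (.node (.node (.node (.node (.leaf 286) (.leaf 210)) (.leaf 63)) (.node (.leaf 104) (.leaf 306))) (.node (.node (.node (.leaf 296) (.leaf 274)) (.leaf 287)) (.node (.leaf 230) (.leaf 248)))))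

def autConjA9 : Janko.Tree (ℕ) :=
  (.node (.node (.node (.node (.node (.leaf 22) (.leaf 105)) (.leaf 259)) (.node (.leaf 159) (.leaf 160))) (.node (.node (.node (.leaf 206) (.leaf 277)) (.leaf 182)) (.node (.leaf 265) (.leaf 289)))) (.node (.node (.node (.node (.leaf 207) (.leaf 304)) (.leaf 291)) (.node (.leaf 308) (.leaf 76))) (.node (.node (.node (.leaf 57) (.leaf 163)) (.leaf 177)) (.node (.leaf 244) (.leaf 47)))))

def autConjA10 : Janko.Tree (ℕ) :=
  (.node (.node (.node (.node (.node (.leaf 115) (.leaf 283)) (.leaf 264)) (.node (.leaf 75) (.leaf 107))) (.node (.node (.node (.leaf 19) (.leaf 98)) (.leaf 250)) (.node (.leaf 78) (.leaf 294)))) (.node (.node (.node (.node (.leaf 178) (.leaf 256)) (.leaf 303)) (.node (.leaf 183) (.leaf 7))) (.node (.node (.node (.leaf 149) (.leaf 109)) (.leaf 54)) (.node (.leaf 96) (.leaf 170)))))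

def autConjA11 : Janko.Tree (ℕ) :=
  (.node (.node (.node (.node (.node (.leaf 252) (.leaf 39)) (.leaf 181)) (.node (.leaf 74) (.leaf 199))) (.node (.node (.node (.leaf 290) (.leaf 136)) (.leaf 91)) (.node (.leaf 202) (.leaf 191)))) (.node (.node (.node (.node (.leaf 48) (.leaf 266)) (.leaf 284)) (.node (.leaf 171) (.leaf 62))) (.node (.node (.leaf 59) (.leaf 226)) (.node (.leaf 93) (.leaf 245)))))

def autConjA12 : Janko.Tree (ℕ) :=
  (.node (.node (.node (.node (.node (.leaf 16) (.leaf 13)) (.leaf 271)) (.node (.leaf 217) (.leaf 238))) (.node (.node (.node (.leaf 17) (.leaf 275)) (.leaf 145)) (.node (.leaf 85) (.leaf 102)))) (.node (.node (.node (.node (.leaf 30) (.leaf 155)) (.leaf 305)) (.node (.leaf 167) (.leaf 68))) (.node (.node (.leaf 232) (.leaf 205)) (.node (.leaf 192) (.leaf 11)))))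

def autConjA13 : Janko.Tree (ℕ) :=
  (.node (.node (.node (.node (.node (.leaf 268) (.leaf 67)) (.leaf 55)) (.node (.leaf 50) (.leaf 188))) (.node (.node (.node (.leaf 80) (.leaf 197)) (.leaf 158)) (.node (.leaf 314) (.leaf 79)))) (.node (.node (.node (.node (.leaf 51) (.leaf 112)) (.leaf 21)) (.node (.leaf 123) (.leaf 175))) (.node (.node (.leaf 94) (.leaf 288)) (.node (.leaf 176) (.leaf 247)))))

def autConjA14 : Janko.Tree (ℕ) :=
  (.node (.node (.node (.node (.node (.leaf 195) (.leaf 295)) (.leaf 31)) (.node (.leaf 106) (.leaf 41))) (.node (.node (.node (.leaf 33) (.leaf 128)) (.leaf 144)) (.node (.leaf 35) (.leaf 204)))) (.node (.node (.node (.node (.leaf 28) (.leaf 24)) (.leaf 173)) (.node (.leaf 61) (.leaf 83))) (.node (.node (.leaf 219) (.leaf 309)) (.node (.leaf 168) (.leaf 200)))))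

def autConjA15 : Janko.Tree (ℕ) :=
  (.node (.node (.node (.node (.node (.leaf 72) (.leaf 140)) (.leaf 2)) (.node (.leaf 237) (.leaf 25))) (.node (.node (.node (.leaf 249) (.leaf 154)) (.leaf 221)) (.node (.leaf 147) (.leaf 8)))) (.node (.node (.node (.node (.leaf 142) (.leaf 184)) (.leaf 73)) (.node (.leaf 260) (.leaf 146))) (.node (.node (.leaf 152) (.leaf 235)) (.node (.leaf 71) (.leaf 212)))))

def autConjA : Janko.Tree (ℕ) :=
  (.node (.node (.node (.node autConjA0 autConjA8) (.node autConjA4 autConjA12)) (.node (.node autConjA2 autConjA10) (.node autConjA6 autConjA14))) (.node (.node (.node autConjA1 autConjA9) (.node autConjA5 autConjA13)) (.node (.node autConjA3 autConjA11) (.node autConjA7 autConjA15))))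

def autConjB0 : Janko.Tree (ℕ) :=
  (.node (.node (.node (.node (.node (.leaf 143) (.leaf 25)) (.leaf 53)) (.node (.leaf 212) (.leaf 299))) (.node (.node (.node (.leaf 77) (.leaf 101)) (.leaf 75)) (.node (.leaf 279) (.leaf 95)))) (.node (.node (.node (.node (.leaf 237) (.leaf 57)) (.leaf 175)) (.node (.leaf 210) (.leaf 30))) (.node (.node (.node (.leaf 45) (.leaf 46)) (.leaf 170)) (.node (.leaf 31) (.leaf 167)))))

def autConjB1 : Janko.Tree (ℕ) :=
  (.node (.node (.node (.node (.node (.leaf 258) (.leaf 122)) (.leaf 275)) (.node (.leaf 5) (.leaf 312))) (.node (.node (.node (.leaf 14) (.leaf 61)) (.leaf 141)) (.node (.leaf 207) (.leaf 244)))) (.node (.node (.node (.node (.leaf 36) (.leaf 117)) (.leaf 149)) (.node (.leaf 38) (.leaf 297))) (.node (.node (.node (.leaf 194) (.leaf 313)) (.leaf 188)) (.node (.leaf 255) (.leaf 271)))))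

def autConjB2 : Janko.Tree (ℕ) :=
  (.node (.node (.node (.node (.node (.leaf 2) (.leaf 1)) (.leaf 58)) (.node (.leaf 293) (.leaf 49))) (.node (.node (.node (.leaf 190) (.leaf 180)) (.leaf 218)) (.node (.leaf 229) (.leaf 136)))) (.node (.node (.node (.node (.leaf 72) (.leaf 15)) (.leaf 87)) (.node (.leaf 196) (.leaf 80))) (.node (.node (.node (.leaf 50) (.leaf 28)) (.leaf 109)) (.node (.leaf 7) (.leaf 78)))))

def autConjB3 : Janko.Tree (ℕ) :=
  (.node (.node (.node (.node (.node (.leaf 3) (.leaf 104)) (.leaf 222)) (.node (.leaf 4) (.leaf 281))) (.node (.node (.node (.leaf 260) (.leaf 154)) (.leaf 19)) (.node (.leaf 238) (.leaf 9)))) (.node (.node (.node (.node (.leaf 163) (.leaf 129)) (.leaf 270)) (.node (.leaf 220) (.leaf 276))) (.node (.node (.node (.leaf 51) (.leaf 234)) (.leaf 303)) (.node (.leaf 251) (.leaf 164)))))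

def autConjB4 : Janko.Tree (ℕ) :=
  (.node (.node (.node (.node (.node (.leaf 67) (.leaf 35)) (.leaf 171)) (.node (.leaf 166) (.leaf 82))) (.node (.node (.node (.leaf 17) (.leaf 282)) (.leaf 243)) (.node (.leaf 100) (.leaf 231)))) (.node (.node (.node (.node (.leaf 106) (.leaf 211)) (.leaf 264)) (.node (.leaf 214) (.leaf 64))) (.node (.node (.node (.leaf 159) (.leaf 93)) (.leaf 290)) (.node (.leaf 85) (.leaf 225)))))

def autConjB5 : Janko.Tree (ℕ) :=
  (.node (.node (.node (.node (.node (.leaf 65) (.leaf 230)) (.leaf 133)) (.node (.leaf 120) (.leaf 223))) (.node (.node (.node (.leaf 301) (.leaf 66)) (.leaf 107)) (.node (.leaf 288) (.leaf 98)))) (.node (.node (.node (.node (.leaf 283) (.leaf 302)) (.leaf 145)) (.node (.leaf 116) (.leaf 204))) (.node (.node (.node (.leaf 128) (.leaf 298)) (.leaf 13)) (.node (.leaf 273) (.leaf 127)))))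

def autConjB6 : Janko.Tree (ℕ) :=
  (.node (.node (.node (.node (.node (.leaf 6) (.leaf 232)) (.leaf 92)) (.node (.leaf 269) (.leaf 198))) (.node (.node (.node (.leaf 81) (.leaf 152)) (.leaf 68)) (.node (.leaf 239) (.leaf 261)))) (.node (.node (.node (.node (.leaf 284) (.leaf 215)) (.leaf 110)) (.node (.leaf 63) (.leaf 84))) (.node (.node (.node (.leaf 158) (.leaf 139)) (.leaf 88)) (.node (.leaf 153) (.leaf 155)))))

def autConjB7 : Janko.Tree (ℕ) :=
  (.node (.node (.node (.node (.node (.leaf 114) (.leaf 216)) (.leaf 172)) (.node (.leaf 10) (.leaf 123))) (.node (.node (.node (.leaf 94) (.leaf 286)) (.leaf 240)) (.node (.leaf 296) (.leaf 228)))) (.node (.node (.node (.node (.leaf 29) (.leaf 96)) (.leaf 151)) (.node (.leaf 146) (.leaf 278))) (.node (.node (.node (.leaf 108) (.leaf 268)) (.leaf 174)) (.node (.leaf 248) (.leaf 142)))))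

def autConjB8 : Janko.Tree (ℕ) :=
  (.node (.node (.node (.node (.node (.leaf 252) (.leaf 148)) (.leaf 226)) (.node (.leaf 18) (.leaf 157))) (.node (.node (.node (.leaf 105) (.leaf 103)) (.leaf 185)) (.node (.leaf 259) (.leaf 262)))) (.node (.node (.node (.node (.leaf 111) (.leaf 27)) (.leaf 294)) (.node (.leaf 182) (.leaf 263))) (.node (.node (.node (.leaf 138) (.leaf 193)) (.leaf 184)) (.node (.leaf 69) (.leaf 119)))))

def autConjB9 : Janko.Tree (ℕ) :=
  (.node (.node (.node (.node (.node (.leaf 227) (.leaf 300)) (.leaf 169)) (.node (.leaf 43) (.leaf 206))) (.node (.node (.node (.leaf 74) (.leaf 209)) (.leaf 137)) (.node (.leaf 40) (.leaf 267)))) (.node (.node (.node (.node (.leaf 256) (.leaf 195)) (.leaf 118)) (.node (.leaf 203) (.leaf 26))) (.node (.node (.node (.leaf 272) (.leaf 305)) (.leaf 168)) (.node (.leaf 189) (.leaf 12)))))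

def autConjB10 : Janko.Tree (ℕ) :=
  (.node (.node (.node (.node (.node (.leaf 71) (.leaf 254)) (.leaf 56)) (.node (.leaf 41) (.leaf 44))) (.node (.node (.node (.leaf 156) (.leaf 309)) (.leaf 176)) (.node (.leaf 20) (.leaf 307)))) (.node (.node (.node (.node (.leaf 217) (.leaf 292)) (.leaf 291)) (.node (.leaf 221) (.leaf 162))) (.node (.node (.node (.leaf 130) (.leaf 76)) (.leaf 62)) (.node (.leaf 257) (.leaf 235)))))

def autConjB11 : Janko.Tree (ℕ) :=
  (.node (.node (.node (.node (.node (.leaf 236) (.leaf 233)) (.leaf 310)) (.node (.leaf 160) (.leaf 89))) (.node (.node (.node (.leaf 73) (.leaf 192)) (.leaf 132)) (.node (.leaf 165) (.leaf 250)))) (.node (.node (.node (.node (.leaf 280) (.leaf 21)) (.leaf 246)) (.node (.leaf 91) (.leaf 173))) (.node (.node (.leaf 287) (.leaf 124)) (.node (.leaf 199) (.leaf 115)))))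

def autConjB12 : Janko.Tree (ℕ) :=
  (.node (.node (.node (.node (.node (.leaf 249) (.leaf 311)) (.leaf 60)) (.node (.leaf 314) (.leaf 213))) (.node (.node (.node (.leaf 202) (.leaf 265)) (.leaf 135)) (.node (.leaf 55) (.leaf 11)))) (.node (.node (.node (.node (.leaf 306) (.leaf 22)) (.leaf 42)) (.node (.leaf 134) (.leaf 83))) (.node (.node (.leaf 140) (.leaf 177)) (.node (.leaf 187) (.leaf 8)))))

def autConjB13 : Janko.Tree (ℕ) :=
  (.node (.node (.node (.node (.node (.leaf 181) (.leaf 70)) (.leaf 161)) (.node (.leaf 32) (.leaf 126))) (.node (.node (.node (.leaf 48) (.leaf 37)) (.leaf 219)) (.node (.leaf 178) (.leaf 16)))) (.node (.node (.node (.node (.leaf 23) (.leaf 253)) (.leaf 200)) (.node (.leaf 308) (.leaf 90))) (.node (.node (.leaf 289) (.leaf 121)) (.node (.leaf 191) (.leaf 285)))))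

def autConjB14 : Janko.Tree (ℕ) :=
  (.node (.node (.node (.node (.node (.leaf 33) (.leaf 147)) (.leaf 247)) (.node (.leaf 242) (.leaf 201))) (.node (.node (.node (.leaf 304) (.leaf 277)) (.leaf 183)) (.node (.leaf 150) (.leaf 99)))) (.node (.node (.node (.node (.leaf 208) (.leaf 295)) (.leaf 54)) (.node (.leaf 39) (.leaf 131))) (.node (.node (.leaf 186) (.leaf 34)) (.node (.leaf 205) (.leaf 266)))))

def autConjB15 : Janko.Tree (ℕ) :=
  (.node (.node (.node (.node (.node (.leaf 274) (.leaf 241)) (.leaf 0)) (.node (.leaf 47) (.leaf 97))) (.node (.node (.node (.leaf 79) (.leaf 179)) (.leaf 144)) (.node (.leaf 24) (.leaf 102)))) (.node (.node (.node (.node (.leaf 112) (.leaf 59)) (.leaf 52)) (.node (.leaf 224) (.leaf 197))) (.node (.node (.leaf 86) (.leaf 125)) (.node (.leaf 245) (.leaf 113)))))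

def autConjB : Janko.Tree (ℕ) :=
  (.node (.node (.node (.node autConjB0 autConjB8) (.node autConjB4 autConjB12)) (.node (.node autConjB2 autConjB10) (.node autConjB6 autConjB14))) (.node (.node (.node autConjB1 autConjB9) (.node autConjB5 autConjB13)) (.node (.node autConjB3 autConjB11) (.node autConjB7 autConjB15))))

def autConjC0 : Janko.Tree (ℕ) :=
  (.node (.node (.node (.node (.node (.leaf 223) (.leaf 291)) (.leaf 96)) (.node (.leaf 25) (.leaf 82))) (.node (.node (.node (.leaf 216) (.leaf 149)) (.leaf 178)) (.node (.leaf 128) (.leaf 129)))) (.node (.node (.node (.node (.leaf 263) (.leaf 14)) (.leaf 294)) (.node (.leaf 125) (.leaf 166))) (.node (.node (.node (.leaf 213) (.leaf 239)) (.leaf 132)) (.node (.leaf 81) (.leaf 123)))))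

def autConjC1 : Janko.Tree (ℕ) :=
  (.node (.node (.node (.node (.node (.leaf 195) (.leaf 214)) (.leaf 224)) (.node (.leaf 155) (.leaf 282))) (.node (.node (.node (.leaf 143) (.leaf 15)) (.leaf 13)) (.node (.leaf 83) (.leaf 59)))) (.node (.node (.node (.node (.leaf 305) (.leaf 146)) (.leaf 118)) (.node (.leaf 112) (.leaf 26))) (.node (.node (.node (.leaf 66) (.leaf 17)) (.leaf 210)) (.node (.leaf 103) (.leaf 298)))))

def autConjC2 : Janko.Tree (ℕ) :=
  (.node (.node (.node (.node (.node (.leaf 51) (.leaf 106)) (.leaf 36)) (.node (.leaf 49) (.leaf 299))) (.node (.node (.node (.leaf 61) (.leaf 205)) (.leaf 190)) (.node (.leaf 109) (.leaf 248)))) (.node (.node (.node (.node (.leaf 108) (.leaf 218)) (.leaf 273)) (.node (.leaf 192) (.leaf 177))) (.node (.node (.node (.leaf 165) (.leaf 308)) (.leaf 160)) (.node (.leaf 255) (.leaf 236)))))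

def autConjC3 : Janko.Tree (ℕ) :=
  (.node (.node (.node (.node (.node (.leaf 29) (.leaf 244)) (.leaf 230)) (.node (.leaf 67) (.leaf 1))) (.node (.node (.node (.leaf 231) (.leaf 256)) (.leaf 302)) (.node (.leaf 153) (.leaf 120)))) (.node (.node (.node (.node (.leaf 10) (.leaf 220)) (.leaf 297)) (.node (.leaf 97) (.leaf 278))) (.node (.node (.node (.leaf 2) (.leaf 295)) (.leaf 199)) (.node (.leaf 310) (.leaf 69)))))

def autConjC4 : Janko.Tree (ℕ) :=
  (.node (.node (.node (.node (.node (.leaf 4) (.leaf 181)) (.leaf 176)) (.node (.leaf 72) (.leaf 293))) (.node (.node (.node (.leaf 130) (.leaf 201)) (.leaf 127)) (.node (.leaf 107) (.leaf 141)))) (.node (.node (.node (.node (.leaf 269) (.leaf 117)) (.leaf 285)) (.node (.leaf 85) (.leaf 185))) (.node (.node (.node (.leaf 233) (.leaf 306)) (.leaf 300)) (.node (.leaf 42) (.leaf 259)))))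

def autConjC5 : Janko.Tree (ℕ) :=
  (.node (.node (.node (.node (.node (.leaf 56) (.leaf 279)) (.leaf 186)) (.node (.leaf 243) (.leaf 57))) (.node (.node (.node (.leaf 46) (.leaf 196)) (.leaf 50)) (.node (.leaf 238) (.leaf 174)))) (.node (.node (.node (.node (.leaf 303) (.leaf 27)) (.leaf 288)) (.node (.leaf 84) (.leaf 48))) (.node (.node (.node (.leaf 222) (.leaf 93)) (.leaf 260)) (.node (.leaf 276) (.leaf 9)))))

def autConjC6 : Janko.Tree (ℕ) :=
  (.node (.node (.node (.node (.node (.leaf 6) (.leaf 267)) (.leaf 287)) (.node (.leaf 281) (.leaf 23))) (.node (.node (.node (.leaf 111) (.leaf 144)) (.leaf 208)) (.node (.leaf 8) (.leaf 131)))) (.node (.node (.node (.node (.leaf 232) (.leaf 211)) (.leaf 24)) (.node (.leaf 184) (.leaf 257))) (.node (.node (.node (.leaf 60) (.leaf 115)) (.leaf 88)) (.node (.leaf 145) (.leaf 12)))))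

def autConjC7 : Janko.Tree (ℕ) :=
  (.node (.node (.node (.node (.node (.leaf 121) (.leaf 16)) (.leaf 191)) (.node (.leaf 280) (.leaf 179))) (.node (.node (.node (.leaf 253) (.leaf 307)) (.leaf 283)) (.node (.leaf 113) (.leaf 35)))) (.node (.node (.node (.node (.leaf 198) (.leaf 261)) (.leaf 62)) (.node (.leaf 215) (.leaf 87))) (.node (.node (.node (.leaf 30) (.leaf 268)) (.leaf 75)) (.node (.leaf 251) (.leaf 314)))))

def autConjC8 : Janko.Tree (ℕ) :=
  (.node (.node (.node (.node (.node (.leaf 102) (.leaf 90)) (.leaf 139)) (.node (.leaf 68) (.leaf 173))) (.node (.node (.node (.leaf 171) (.leaf 189)) (.leaf 154)) (.node (.leaf 92) (.leaf 22)))) (.node (.node (.node (.node (.leaf 150) (.leaf 71)) (.leaf 286)) (.node (.leaf 182) (.leaf 32))) (.node (.node (.node (.leaf 5) (.leaf 250)) (.leaf 86)) (.node (.leaf 227) (.leaf 226)))))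

def autConjC9 : Janko.Tree (ℕ) :=
  (.node (.node (.node (.node (.node (.leaf 245) (.leaf 266)) (.leaf 170)) (.node (.leaf 73) (.leaf 292))) (.node (.node (.node (.leaf 77) (.leaf 147)) (.leaf 105)) (.node (.leaf 169) (.leaf 52)))) (.node (.node (.node (.node (.leaf 64) (.leaf 70)) (.leaf 99)) (.node (.leaf 89) (.leaf 187))) (.node (.node (.node (.leaf 197) (.leaf 44)) (.leaf 212)) (.node (.leaf 7) (.leaf 138)))))

def autConjC10 : Janko.Tree (ℕ) :=
  (.node (.node (.node (.node (.node (.leaf 19) (.leaf 265)) (.leaf 249)) (.node (.leaf 237) (.leaf 58))) (.node (.node (.node (.leaf 116) (.leaf 241)) (.leaf 137)) (.node (.leaf 258) (.leaf 175)))) (.node (.node (.node (.node (.leaf 209) (.leaf 193)) (.leaf 168)) (.node (.leaf 264) (.leaf 274))) (.node (.node (.node (.leaf 202) (.leaf 247)) (.leaf 133)) (.node (.leaf 156) (.leaf 312)))))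

def autConjC11 : Janko.Tree (ℕ) :=
  (.node (.node (.node (.node (.node (.leaf 11) (.leaf 262)) (.leaf 136)) (.node (.leaf 183) (.leaf 43))) (.node (.node (.node (.leaf 203) (.leaf 194)) (.leaf 40)) (.node (.leaf 100) (.leaf 206)))) (.node (.node (.node (.node (.leaf 277) (.leaf 167)) (.leaf 65)) (.node (.leaf 63) (.leaf 140))) (.node (.node (.leaf 225) (.leaf 217)) (.node (.leaf 240) (.leaf 119)))))

def autConjC12 : Janko.Tree (ℕ) :=
  (.node (.node (.node (.node (.node (.leaf 246) (.leaf 311)) (.leaf 219)) (.node (.leaf 76) (.leaf 204))) (.node (.node (.node (.leaf 313) (.leaf 180)) (.leaf 188)) (.node (.leaf 18) (.leaf 242)))) (.node (.node (.node (.node (.leaf 271) (.leaf 159)) (.leaf 122)) (.node (.leaf 104) (.leaf 275))) (.node (.node (.leaf 54) (.leaf 172)) (.node (.leaf 270) (.leaf 301)))))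

def autConjC13 : Janko.Tree (ℕ) :=
  (.node (.node (.node (.node (.node (.leaf 161) (.leaf 20)) (.leaf 228)) (.node (.leaf 41) (.leaf 290))) (.node (.node (.node (.leaf 45) (.leaf 252)) (.leaf 200)) (.node (.leaf 98) (.leaf 74)))) (.node (.node (.node (.node (.leaf 3) (.leaf 148)) (.leaf 158)) (.node (.leaf 309) (.leaf 94))) (.node (.node (.leaf 34) (.leaf 296)) (.node (.leaf 80) (.leaf 39)))))

def autConjC14 : Janko.Tree (ℕ) :=
  (.node (.node (.node (.node (.node (.leaf 272) (.leaf 124)) (.leaf 142)) (.node (.leaf 78) (.leaf 235))) (.node (.node (.node (.leaf 37) (.leaf 163)) (.leaf 229)) (.node (.leaf 31) (.leaf 101)))) (.node (.node (.node (.node (.leaf 55) (.leaf 152)) (.leaf 157)) (.node (.leaf 221) (.leaf 53))) (.node (.node (.leaf 151) (.leaf 162)) (.node (.leaf 254) (.leaf 126)))))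

def autConjC15 : Janko.Tree (ℕ) :=
  (.node (.node (.node (.node (.node (.leaf 289) (.leaf 28)) (.leaf 33)) (.node (.leaf 47) (.leaf 95))) (.node (.node (.node (.leaf 79) (.leaf 21)) (.leaf 234)) (.node (.leaf 38) (.leaf 304)))) (.node (.node (.node (.node (.leaf 110) (.leaf 134)) (.leaf 284)) (.node (.leaf 207) (.leaf 0))) (.node (.node (.leaf 91) (.leaf 135)) (.node (.leaf 164) (.leaf 114)))))

def autConjC : Janko.Tree (ℕ) :=
  (.node (.node (.node (.node autConjC0 autConjC8) (.node autConjC4 autConjC12)) (.node (.node autConjC2 autConjC10) (.node autConjC6 autConjC14))) (.node (.node (.node autConjC1 autConjC9) (.node autConjC5 autConjC13)) (.node (.node autConjC3 autConjC11) (.node autConjC7 autConjC15))))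

def autConjD0 : Janko.Tree (ℕ) :=
  (.node (.node (.node (.node (.node (.leaf 100) (.leaf 265)) (.leaf 78)) (.node (.leaf 112) (.leaf 92))) (.node (.node (.node (.leaf 50) (.leaf 58)) (.leaf 285)) (.node (.leaf 96) (.leaf 182)))) (.node (.node (.node (.node (.leaf 57) (.leaf 29)) (.leaf 299)) (.node (.leaf 208) (.leaf 80))) (.node (.node (.node (.leaf 230) (.leaf 115)) (.leaf 235)) (.node (.leaf 64) (.leaf 183)))))

def autConjD1 : Janko.Tree (ℕ) :=
  (.node (.node (.node (.node (.node (.leaf 162) (.leaf 132)) (.leaf 97)) (.node (.leaf 2) (.leaf 200))) (.node (.node (.node (.leaf 76) (.leaf 267)) (.leaf 108)) (.node (.leaf 129) (.leaf 37)))) (.node (.node (.node (.node (.leaf 264) (.leaf 202)) (.leaf 308)) (.node (.leaf 184) (.leaf 98))) (.node (.node (.node (.leaf 84) (.leaf 217)) (.leaf 248)) (.node (.leaf 247) (.leaf 124)))))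

def autConjD2 : Janko.Tree (ℕ) :=
  (.node (.node (.node (.node (.node (.leaf 65) (.leaf 215)) (.leaf 199)) (.node (.leaf 30) (.leaf 201))) (.node (.node (.node (.leaf 153) (.leaf 45)) (.leaf 1)) (.node (.leaf 209) (.leaf 196)))) (.node (.node (.node (.node (.leaf 286) (.leaf 147)) (.leaf 149)) (.node (.leaf 140) (.leaf 293))) (.node (.node (.node (.leaf 32) (.leaf 27)) (.leaf 281)) (.node (.leaf 198) (.leaf 291)))))

def autConjD3 : Janko.Tree (ℕ) :=
  (.node (.node (.node (.node (.node (.leaf 164) (.leaf 35)) (.leaf 110)) (.node (.leaf 246) (.leaf 163))) (.node (.node (.node (.leaf 259) (.leaf 242)) (.leaf 195)) (.node (.leaf 253) (.leaf 165)))) (.node (.node (.node (.node (.leaf 109) (.leaf 268)) (.leaf 274)) (.node (.leaf 88) (.leaf 297))) (.node (.node (.node (.leaf 249) (.leaf 310)) (.leaf 20)) (.node (.leaf 304) (.leaf 243)))))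

def autConjD4 : Janko.Tree (ℕ) :=
  (.node (.node (.node (.node (.node (.leaf 56) (.leaf 173)) (.leaf 257)) (.node (.leaf 158) (.leaf 226))) (.node (.node (.node (.leaf 269) (.leaf 294)) (.leaf 3)) (.node (.leaf 0) (.leaf 119)))) (.node (.node (.node (.node (.leaf 179) (.leaf 229)) (.leaf 70)) (.node (.leaf 49) (.leaf 204))) (.node (.node (.node (.leaf 28) (.leaf 145)) (.leaf 261)) (.node (.leaf 141) (.leaf 172)))))

def autConjD5 : Janko.Tree (ℕ) :=
  (.node (.node (.node (.node (.node (.leaf 5) (.leaf 180)) (.leaf 126)) (.node (.leaf 73) (.leaf 203))) (.node (.node (.node (.leaf 225) (.leaf 210)) (.leaf 227)) (.node (.leaf 123) (.leaf 276)))) (.node (.node (.node (.node (.leaf 270) (.leaf 118)) (.leaf 146)) (.node (.leaf 55) (.leaf 31))) (.node (.node (.node (.leaf 154) (.leaf 106)) (.leaf 282)) (.node (.leaf 22) (.leaf 314)))))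

def autConjD6 : Janko.Tree (ℕ) :=
  (.node (.node (.node (.node (.node (.leaf 47) (.leaf 167)) (.leaf 175)) (.node (.leaf 148) (.leaf 114))) (.node (.node (.node (.leaf 38) (.leaf 292)) (.leaf 137)) (.node (.leaf 72) (.leaf 48)))) (.node (.node (.node (.node (.leaf 117) (.leaf 218)) (.leaf 186)) (.node (.leaf 25) (.leaf 206))) (.node (.node (.node (.leaf 169) (.leaf 307)) (.leaf 224)) (.node (.leaf 277) (.leaf 67)))))

def autConjD7 : Janko.Tree (ℕ) :=
  (.node (.node (.node (.node (.node (.leaf 7) (.leaf 43)) (.leaf 301)) (.node (.leaf 313) (.leaf 130))) (.node (.node (.node (.leaf 61) (.leaf 239)) (.leaf 262)) (.node (.leaf 9) (.leaf 188)))) (.node (.node (.node (.node (.leaf 237) (.leaf 91)) (.leaf 168)) (.node (.leaf 93) (.leaf 258))) (.node (.node (.node (.leaf 85) (.leaf 207)) (.leaf 240)) (.node (.leaf 228) (.leaf 113)))))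

def autConjD8 : Janko.Tree (ℕ) :=
  (.node (.node (.node (.node (.node (.leaf 157) (.leaf 17)) (.leaf 60)) (.node (.leaf 102) (.leaf 193))) (.node (.node (.node (.leaf 234) (.leaf 107)) (.leaf 151)) (.node (.leaf 219) (.leaf 174)))) (.node (.node (.node (.node (.leaf 254) (.leaf 159)) (.leaf 13)) (.node (.leaf 83) (.leaf 120))) (.node (.node (.node (.leaf 4) (.leaf 252)) (.leaf 81)) (.node (.leaf 216) (.leaf 177)))))

def autConjD9 : Janko.Tree (ℕ) :=
  (.node (.node (.node (.node (.node (.leaf 103) (.leaf 256)) (.leaf 166)) (.node (.leaf 69) (.leaf 194))) (.node (.node (.node (.leaf 142) (.leaf 211)) (.leaf 54)) (.node (.leaf 139) (.leaf 94)))) (.node (.node (.node (.node (.leaf 86) (.leaf 178)) (.leaf 34)) (.node (.leaf 121) (.leaf 305))) (.node (.node (.node (.leaf 16) (.leaf 71)) (.leaf 185)) (.node (.leaf 89) (.leaf 51)))))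

def autConjD10 : Janko.Tree (ℕ) :=
  (.node (.node (.node (.node (.node (.leaf 26) (.leaf 236)) (.leaf 155)) (.node (.leaf 255) (.leaf 273))) (.node (.node (.node (.leaf 251) (.leaf 303)) (.leaf 125)) (.node (.leaf 309) (.leaf 40)))) (.node (.node (.node (.node (.leaf 10) (.leaf 181)) (.leaf 53)) (.node (.leaf 187) (.leaf 278))) (.node (.node (.node (.leaf 288) (.leaf 245)) (.leaf 150)) (.node (.leaf 59) (.leaf 191)))))

def autConjD11 : Janko.Tree (ℕ) :=
  (.node (.node (.node (.node (.node (.leaf 111) (.leaf 289)) (.leaf 105)) (.node (.leaf 238) (.leaf 197))) (.node (.node (.node (.leaf 263) (.leaf 144)) (.leaf 287)) (.node (.leaf 296) (.leaf 176)))) (.node (.node (.node (.node (.leaf 306) (.leaf 15)) (.leaf 138)) (.node (.leaf 279) (.leaf 104))) (.node (.node (.leaf 122) (.leaf 90)) (.node (.leaf 101) (.leaf 42)))))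

def autConjD12 : Janko.Tree (ℕ) :=
  (.node (.node (.node (.node (.node (.leaf 12) (.leaf 275)) (.leaf 82)) (.node (.leaf 33) (.leaf 212))) (.node (.node (.node (.leaf 284) (.leaf 63)) (.leaf 244)) (.node (.leaf 161) (.leaf 266)))) (.node (.node (.node (.node (.leaf 52) (.leaf 44)) (.leaf 46)) (.node (.leaf 192) (.leaf 95))) (.node (.node (.leaf 136) (.leaf 231)) (.node (.leaf 241) (.leaf 312)))))

def autConjD13 : Janko.Tree (ℕ) :=
  (.node (.node (.node (.node (.node (.leaf 152) (.leaf 36)) (.leaf 116)) (.node (.leaf 77) (.leaf 205))) (.node (.node (.node (.leaf 290) (.leaf 135)) (.leaf 260)) (.node (.leaf 19) (.leaf 23)))) (.node (.node (.node (.node (.leaf 272) (.leaf 160)) (.leaf 8)) (.node (.leaf 87) (.leaf 271))) (.node (.node (.leaf 39) (.leaf 223)) (.node (.leaf 170) (.leaf 99)))))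

def autConjD14 : Janko.Tree (ℕ) :=
  (.node (.node (.node (.node (.node (.leaf 127) (.leaf 21)) (.leaf 41)) (.node (.leaf 128) (.leaf 214))) (.node (.node (.node (.leaf 156) (.leaf 190)) (.leaf 232)) (.node (.leaf 131) (.leaf 75)))) (.node (.node (.node (.node (.leaf 66) (.leaf 18)) (.leaf 68)) (.node (.leaf 233) (.leaf 62))) (.node (.node (.leaf 222) (.leaf 302)) (.node (.leaf 133) (.leaf 24)))))

def autConjD15 : Janko.Tree (ℕ) :=
  (.node (.node (.node (.node (.node (.leaf 283) (.leaf 221)) (.leaf 143)) (.node (.leaf 79) (.leaf 311))) (.node (.node (.node (.leaf 6) (.leaf 298)) (.leaf 134)) (.node (.leaf 11) (.leaf 295)))) (.node (.node (.node (.node (.leaf 213) (.leaf 171)) (.leaf 280)) (.node (.leaf 220) (.leaf 189))) (.node (.node (.leaf 300) (.leaf 250)) (.node (.leaf 14) (.leaf 74)))))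

def autConjD : Janko.Tree (ℕ) :=
  (.node (.node (.node (.node autConjD0 autConjD8) (.node autConjD4 autConjD12)) (.node (.node autConjD2 autConjD10) (.node autConjD6 autConjD14))) (.node (.node (.node autConjD1 autConjD9) (.node autConjD5 autConjD13)) (.node (.node autConjD3 autConjD11) (.node autConjD7 autConjD15))))

def autConjE0 : Janko.Tree (ℕ) :=
  (.node (.node (.node (.node (.node (.leaf 14) (.leaf 212)) (.leaf 131)) (.node (.leaf 168) (.leaf 49))) (.node (.node (.node (.leaf 74) (.leaf 99)) (.leaf 174)) (.node (.leaf 230) (.leaf 97)))) (.node (.node (.node (.node (.leaf 41) (.leaf 223)) (.leaf 307)) (.node (.leaf 188) (.leaf 108))) (.node (.node (.node (.leaf 48) (.leaf 301)) (.leaf 169)) (.node (.leaf 150) (.leaf 21)))))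

def autConjE1 : Janko.Tree (ℕ) :=
  (.node (.node (.node (.node (.node (.leaf 20) (.leaf 42)) (.leaf 83)) (.node (.leaf 138) (.leaf 235))) (.node (.node (.node (.leaf 57) (.leaf 190)) (.leaf 231)) (.node (.leaf 224) (.leaf 104)))) (.node (.node (.node (.node (.leaf 58) (.leaf 211)) (.leaf 101)) (.node (.leaf 24) (.leaf 270))) (.node (.node (.node (.leaf 192) (.leaf 202)) (.leaf 135)) (.node (.leaf 7) (.leaf 306)))))

def autConjE2 : Janko.Tree (ℕ) :=
  (.node (.node (.node (.node (.node (.leaf 51) (.leaf 281)) (.leaf 44)) (.node (.leaf 82) (.leaf 293))) (.node (.node (.node (.leaf 218) (.leaf 265)) (.leaf 15)) (.node (.leaf 183) (.leaf 310)))) (.node (.node (.node (.node (.leaf 166) (.leaf 61)) (.leaf 278)) (.node (.leaf 66) (.leaf 191))) (.node (.node (.node (.leaf 107) (.leaf 241)) (.leaf 229)) (.node (.leaf 189) (.leaf 242)))))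

def autConjE3 : Janko.Tree (ℕ) :=
  (.node (.node (.node (.node (.node (.leaf 23) (.leaf 134)) (.leaf 128)) (.node (.leaf 67) (.leaf 269))) (.node (.node (.node (.leaf 13) (.leaf 185)) (.leaf 71)) (.node (.leaf 288) (.leaf 127)))) (.node (.node (.node (.node (.leaf 277) (.leaf 95)) (.leaf 187)) (.node (.leaf 129) (.leaf 273))) (.node (.node (.node (.leaf 2) (.leaf 144)) (.leaf 283)) (.node (.leaf 248) (.leaf 245)))))

def autConjE4 : Janko.Tree (ℕ) :=
  (.node (.node (.node (.node (.node (.leaf 4) (.leaf 228)) (.leaf 105)) (.node (.leaf 30) (.leaf 299))) (.node (.node (.node (.leaf 313) (.leaf 312)) (.leaf 120)) (.node (.leaf 165) (.leaf 260)))) (.node (.node (.node (.node (.leaf 1) (.leaf 215)) (.leaf 221)) (.node (.leaf 122) (.leaf 256))) (.node (.node (.node (.leaf 22) (.leaf 298)) (.leaf 126)) (.node (.leaf 214) (.leaf 287)))))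

def autConjE5 : Janko.Tree (ℕ) :=
  (.node (.node (.node (.node (.node (.leaf 246) (.leaf 222)) (.leaf 62)) (.node (.leaf 9) (.leaf 143))) (.node (.node (.node (.leaf 8) (.leaf 194)) (.leaf 100)) (.node (.leaf 145) (.leaf 178)))) (.node (.node (.node (.node (.leaf 240) (.leaf 19)) (.leaf 153)) (.node (.leaf 156) (.leaf 213))) (.node (.node (.node (.leaf 279) (.leaf 271)) (.leaf 141)) (.node (.leaf 87) (.leaf 243)))))

def autConjE6 : Janko.Tree (ℕ) :=
  (.node (.node (.node (.node (.node (.leaf 6) (.leaf 284)) (.leaf 259)) (.node (.leaf 106) (.leaf 29))) (.node (.node (.node (.leaf 31) (.leaf 295)) (.leaf 18)) (.node (.leaf 46) (.leaf 96)))) (.node (.node (.node (.node (.leaf 52) (.leaf 146)) (.leaf 112)) (.node (.leaf 91) (.leaf 116))) (.node (.node (.node (.leaf 200) (.leaf 226)) (.leaf 88)) (.node (.leaf 238) (.leaf 5)))))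

def autConjE7 : Janko.Tree (ℕ) :=
  (.node (.node (.node (.node (.node (.leaf 113) (.leaf 77)) (.leaf 177)) (.node (.leaf 163) (.leaf 167))) (.node (.node (.node (.leaf 90) (.leaf 294)) (.leaf 199)) (.node (.leaf 121) (.leaf 161)))) (.node (.node (.node (.node (.leaf 3) (.leaf 53)) (.leaf 186)) (.node (.leaf 117) (.leaf 276))) (.node (.node (.node (.leaf 72) (.leaf 268)) (.leaf 98)) (.node (.leaf 136) (.leaf 247)))))

def autConjE8 : Janko.Tree (ℕ) :=
  (.node (.node (.node (.node (.node (.leaf 37) (.leaf 253)) (.leaf 119)) (.node (.leaf 55) (.leaf 54))) (.node (.node (.node (.leaf 137) (.leaf 255)) (.leaf 64)) (.node (.leaf 225) (.leaf 233)))) (.node (.node (.node (.node (.leaf 81) (.leaf 302)) (.leaf 175)) (.node (.leaf 182) (.leaf 237))) (.node (.node (.node (.leaf 12) (.leaf 292)) (.leaf 63)) (.node (.leaf 164) (.leaf 115)))))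

def autConjE9 : Janko.Tree (ℕ) :=
  (.node (.node (.node (.node (.node (.leaf 69) (.leaf 290)) (.leaf 40)) (.node (.leaf 89) (.leaf 250))) (.node (.node (.node (.leaf 16) (.leaf 217)) (.leaf 176)) (.node (.leaf 132) (.leaf 232)))) (.node (.node (.node (.node (.leaf 154) (.leaf 258)) (.leaf 149)) (.node (.leaf 73) (.leaf 297))) (.node (.node (.node (.leaf 33) (.leaf 36)) (.leaf 291)) (.node (.leaf 103) (.leaf 155)))))

def autConjE10 : Janko.Tree (ℕ) :=
  (.node (.node (.node (.node (.node (.leaf 27) (.leaf 205)) (.leaf 65)) (.node (.leaf 32) (.leaf 305))) (.node (.node (.node (.leaf 257) (.leaf 308)) (.leaf 171)) (.node (.leaf 70) (.leaf 286)))) (.node (.node (.node (.node (.leaf 124) (.leaf 206)) (.leaf 25)) (.node (.leaf 39) (.leaf 34))) (.node (.node (.node (.leaf 17) (.leaf 314)) (.leaf 151)) (.node (.leaf 84) (.leaf 201)))))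

def autConjE11 : Janko.Tree (ℕ) :=
  (.node (.node (.node (.node (.node (.leaf 78) (.leaf 159)) (.leaf 251)) (.node (.leaf 109) (.leaf 203))) (.node (.node (.node (.leaf 43) (.leaf 196)) (.leaf 170)) (.node (.leaf 50) (.leaf 193)))) (.node (.node (.node (.node (.leaf 10) (.leaf 179)) (.leaf 249)) (.node (.leaf 86) (.leaf 157))) (.node (.node (.leaf 92) (.leaf 147)) (.node (.leaf 303) (.leaf 139)))))

def autConjE12 : Janko.Tree (ℕ) :=
  (.node (.node (.node (.node (.node (.leaf 56) (.leaf 311)) (.leaf 158)) (.node (.leaf 142) (.leaf 45))) (.node (.node (.node (.leaf 130) (.leaf 254)) (.leaf 125)) (.node (.leaf 208) (.leaf 236)))) (.node (.node (.node (.node (.leaf 93) (.leaf 262)) (.leaf 85)) (.node (.leaf 59) (.leaf 207))) (.node (.node (.leaf 173) (.leaf 80)) (.node (.leaf 26) (.leaf 239)))))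

def autConjE13 : Janko.Tree (ℕ) :=
  (.node (.node (.node (.node (.node (.leaf 35) (.leaf 195)) (.leaf 181)) (.node (.leaf 263) (.leaf 266))) (.node (.node (.node (.leaf 204) (.leaf 304)) (.leaf 60)) (.node (.leaf 75) (.leaf 216)))) (.node (.node (.node (.node (.leaf 198) (.leaf 94)) (.leaf 219)) (.node (.leaf 28) (.leaf 148))) (.node (.node (.leaf 274) (.leaf 114)) (.node (.leaf 172) (.leaf 264)))))

def autConjE14 : Janko.Tree (ℕ) :=
  (.node (.node (.node (.node (.node (.leaf 0) (.leaf 209)) (.leaf 76)) (.node (.leaf 11) (.leaf 282))) (.node (.node (.node (.leaf 102) (.leaf 280)) (.leaf 160)) (.node (.leaf 111) (.leaf 118)))) (.node (.node (.node (.node (.leaf 68) (.leaf 234)) (.leaf 140)) (.node (.leaf 285) (.leaf 261))) (.node (.node (.leaf 133) (.leaf 289)) (.node (.leaf 180) (.leaf 300)))))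

def autConjE15 : Janko.Tree (ℕ) :=
  (.node (.node (.node (.node (.node (.leaf 162) (.leaf 309)) (.leaf 197)) (.node (.leaf 47) (.leaf 220))) (.node (.node (.node (.leaf 79) (.leaf 123)) (.leaf 152)) (.node (.leaf 110) (.leaf 252)))) (.node (.node (.node (.node (.leaf 38) (.leaf 244)) (.leaf 267)) (.node (.leaf 275) (.leaf 272))) (.node (.node (.leaf 184) (.leaf 210)) (.node (.leaf 227) (.leaf 296)))))

def autConjE : Janko.Tree (ℕ) :=
  (.node (.node (.node (.node autConjE0 autConjE8) (.node autConjE4 autConjE12)) (.node (.node autConjE2 autConjE10) (.node autConjE6 autConjE14))) (.node (.node (.node autConjE1 autConjE9) (.node autConjE5 autConjE13)) (.node (.node autConjE3 autConjE11) (.node autConjE7 autConjE15))))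

def autPi0 : Janko.Tree (ℕ) :=
  (.node (.node (.node (.node (.node (.leaf 0) (.leaf 131)) (.leaf 291)) (.node (.leaf 261) (.leaf 196))) (.node (.node (.node (.leaf 32) (.leaf 71)) (.leaf 28)) (.node (.leaf 185) (.leaf 275)))) (.node (.node (.node (.node (.leaf 16) (.leaf 272)) (.leaf 140)) (.node (.leaf 214) (.leaf 206))) (.node (.node (.node (.leaf 204) (.leaf 37)) (.leaf 161)) (.node (.leaf 180) (.leaf 124)))))

def autPi1 : Janko.Tree (ℕ) :=
  (.node (.node (.node (.node (.node (.leaf 278) (.leaf 188)) (.leaf 95)) (.node (.leaf 65) (.leaf 18))) (.node (.node (.node (.leaf 197) (.leaf 61)) (.leaf 176)) (.node (.leaf 220) (.leaf 115)))) (.node (.node (.node (.node (.leaf 44) (.leaf 269)) (.leaf 19)) (.node (.leaf 126) (.leaf 303))) (.node (.node (.node (.leaf 293) (.leaf 130)) (.leaf 122)) (.node (.leaf 69) (.leaf 183)))))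

def autPi2 : Janko.Tree (ℕ) :=
  (.node (.node (.node (.node (.node (.leaf 2) (.leaf 215)) (.leaf 305)) (.node (.leaf 194) (.leaf 66))) (.node (.node (.node (.leaf 190) (.leaf 31)) (.leaf 218)) (.node (.leaf 298) (.leaf 92)))) (.node (.node (.node (.node (.leaf 193) (.leaf 15)) (.leaf 195)) (.node (.leaf 299) (.leaf 84))) (.node (.node (.node (.leaf 50) (.leaf 75)) (.leaf 93)) (.node (.leaf 164) (.leaf 78)))))

def autPi3 : Janko.Tree (ℕ) :=
  (.node (.node (.node (.node (.node (.leaf 198) (.leaf 139)) (.leaf 256)) (.node (.leaf 4) (.leaf 146))) (.node (.node (.node (.leaf 105) (.leaf 128)) (.leaf 149)) (.node (.leaf 280) (.leaf 296)))) (.node (.node (.node (.node (.leaf 145) (.leaf 224)) (.leaf 283)) (.node (.leaf 207) (.leaf 20))) (.node (.node (.node (.leaf 51) (.leaf 219)) (.leaf 297)) (.node (.leaf 225) (.leaf 7)))))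

def autPi4 : Janko.Tree (ℕ) :=
  (.node (.node (.node (.node (.node (.leaf 67) (.leaf 40)) (.leaf 231)) (.node (.leaf 292) (.leaf 192))) (.node (.node (.node (.leaf 202) (.leaf 68)) (.leaf 114)) (.node (.leaf 100) (.leaf 171)))) (.node (.node (.node (.node (.leaf 211) (.leaf 106)) (.leaf 22)) (.node (.leaf 210) (.leaf 230))) (.node (.node (.node (.leaf 285) (.leaf 109)) (.leaf 112)) (.node (.leaf 125) (.leaf 251)))))

def autPi5 : Janko.Tree (ℕ) :=
  (.node (.node (.node (.node (.node (.leaf 5) (.leaf 64)) (.leaf 184)) (.node (.leaf 113) (.leaf 33))) (.node (.node (.node (.leaf 304) (.leaf 49)) (.leaf 107)) (.node (.leaf 10) (.leaf 309)))) (.node (.node (.node (.node (.leaf 270) (.leaf 118)) (.leaf 163)) (.node (.leaf 191) (.leaf 45))) (.node (.node (.node (.leaf 154) (.leaf 229)) (.leaf 137)) (.node (.leaf 70) (.leaf 121)))))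

def autPi6 : Janko.Tree (ℕ) :=
  (.node (.node (.node (.node (.node (.leaf 6) (.leaf 90)) (.leaf 136)) (.node (.leaf 117) (.leaf 3))) (.node (.node (.node (.leaf 205) (.leaf 158)) (.leaf 282)) (.node (.leaf 252) (.leaf 212)))) (.node (.node (.node (.node (.leaf 148) (.leaf 1)) (.leaf 300)) (.node (.leaf 62) (.leaf 80))) (.node (.node (.node (.leaf 152) (.leaf 104)) (.leaf 268)) (.node (.leaf 277) (.leaf 56)))))

def autPi7 : Janko.Tree (ℕ) :=
  (.node (.node (.node (.node (.node (.leaf 243) (.leaf 41)) (.leaf 156)) (.node (.leaf 288) (.leaf 217))) (.node (.node (.node (.leaf 267) (.leaf 157)) (.leaf 187)) (.node (.leaf 9) (.leaf 132)))) (.node (.node (.node (.node (.leaf 23) (.leaf 168)) (.leaf 91)) (.node (.leaf 281) (.leaf 258))) (.node (.node (.node (.leaf 250) (.leaf 88)) (.leaf 241)) (.node (.leaf 287) (.leaf 73)))))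

def autPi8 : Janko.Tree (ℕ) :=
  (.node (.node (.node (.node (.node (.leaf 239) (.leaf 284)) (.leaf 134)) (.node (.leaf 312) (.leaf 286))) (.node (.node (.node (.leaf 260) (.leaf 227)) (.leaf 279)) (.node (.leaf 310) (.leaf 221)))) (.node (.node (.node (.node (.leaf 254) (.leaf 99)) (.leaf 54)) (.node (.leaf 311) (.leaf 74))) (.node (.node (.node (.leaf 246) (.leaf 72)) (.leaf 133)) (.node (.leaf 255) (.leaf 59)))))

def autPi9 : Janko.Tree (ℕ) :=
  (.node (.node (.node (.node (.node (.leaf 103) (.leaf 110)) (.leaf 181)) (.node (.leaf 247) (.leaf 30))) (.node (.node (.node (.leaf 263) (.leaf 179)) (.leaf 13)) (.node (.leaf 35) (.leaf 94)))) (.node (.node (.node (.node (.leaf 222) (.leaf 87)) (.leaf 302)) (.node (.leaf 314) (.leaf 199))) (.node (.node (.node (.leaf 57) (.leaf 58)) (.leaf 96)) (.node (.leaf 245) (.leaf 249)))))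

def autPi10 : Janko.Tree (ℕ) :=
  (.node (.node (.node (.node (.node (.leaf 101) (.leaf 111)) (.leaf 155)) (.node (.leaf 216) (.leaf 36))) (.node (.node (.node (.leaf 172) (.leaf 98)) (.leaf 141)) (.node (.leaf 276) (.leaf 173)))) (.node (.node (.node (.node (.leaf 123) (.leaf 166)) (.leaf 53)) (.node (.leaf 262) (.leaf 162))) (.node (.node (.node (.leaf 313) (.leaf 89)) (.leaf 63)) (.node (.leaf 177) (.leaf 55)))))

def autPi11 : Janko.Tree (ℕ) :=
  (.node (.node (.node (.node (.node (.leaf 236) (.leaf 39)) (.leaf 259)) (.node (.leaf 306) (.leaf 76))) (.node (.node (.node (.leaf 142) (.leaf 82)) (.leaf 228)) (.node (.leaf 165) (.leaf 108)))) (.node (.node (.node (.node (.leaf 238) (.leaf 147)) (.leaf 138)) (.node (.leaf 151) (.leaf 307))) (.node (.node (.leaf 248) (.leaf 167)) (.node (.leaf 26) (.leaf 244)))))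

def autPi12 : Janko.Tree (ℕ) :=
  (.node (.node (.node (.node (.node (.leaf 12) (.leaf 182)) (.leaf 144)) (.node (.leaf 203) (.leaf 48))) (.node (.node (.node (.leaf 17) (.leaf 150)) (.leaf 42)) (.node (.leaf 235) (.leaf 11)))) (.node (.node (.node (.node (.leaf 160) (.leaf 264)) (.leaf 135)) (.node (.leaf 226) (.leaf 97))) (.node (.node (.leaf 175) (.leaf 257)) (.node (.leaf 240) (.leaf 102)))))

def autPi13 : Janko.Tree (ℕ) :=
  (.node (.node (.node (.node (.node (.leaf 169) (.leaf 273)) (.leaf 170)) (.node (.leaf 77) (.leaf 38))) (.node (.node (.node (.leaf 213) (.leaf 46)) (.leaf 234)) (.node (.leaf 308) (.leaf 237)))) (.node (.node (.node (.node (.leaf 29) (.leaf 52)) (.leaf 295)) (.node (.leaf 178) (.leaf 232))) (.node (.node (.leaf 289) (.leaf 127)) (.node (.leaf 116) (.leaf 159)))))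

def autPi14 : Janko.Tree (ℕ) :=
  (.node (.node (.node (.node (.node (.leaf 223) (.leaf 21)) (.leaf 43)) (.node (.leaf 242) (.leaf 208))) (.node (.node (.node (.leaf 301) (.leaf 153)) (.leaf 271)) (.node (.leaf 265) (.leaf 27)))) (.node (.node (.node (.node (.leaf 201) (.leaf 200)) (.leaf 294)) (.node (.leaf 233) (.leaf 25))) (.node (.node (.leaf 86) (.leaf 34)) (.node (.leaf 81) (.leaf 24)))))

def autPi15 : Janko.Tree (ℕ) :=
  (.node (.node (.node (.node (.node (.leaf 274) (.leaf 174)) (.leaf 143)) (.node (.leaf 79) (.leaf 83))) (.node (.node (.node (.leaf 47) (.leaf 209)) (.leaf 60)) (.node (.leaf 266) (.leaf 8)))) (.node (.node (.node (.node (.leaf 290) (.leaf 119)) (.leaf 253)) (.node (.leaf 129) (.leaf 14))) (.node (.node (.leaf 186) (.leaf 85)) (.node (.leaf 189) (.leaf 120)))))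

def autPi : Janko.Tree (ℕ) :=
  (.node (.node (.node (.node autPi0 autPi8) (.node autPi4 autPi12)) (.node (.node autPi2 autPi10) (.node autPi6 autPi14))) (.node (.node (.node autPi1 autPi9) (.node autPi5 autPi13)) (.node (.node autPi3 autPi11) (.node autPi7 autPi15))))

def autPiInv0 : Janko.Tree (ℕ) :=
  (.node (.node (.node (.node (.node (.leaf 0) (.leaf 131)) (.leaf 291)) (.node (.leaf 261) (.leaf 196))) (.node (.node (.node (.leaf 32) (.leaf 71)) (.leaf 28)) (.node (.leaf 185) (.leaf 275)))) (.node (.node (.node (.node (.leaf 16) (.leaf 272)) (.leaf 140)) (.node (.leaf 214) (.leaf 206))) (.node (.node (.node (.leaf 204) (.leaf 37)) (.leaf 161)) (.node (.leaf 180) (.leaf 124)))))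

def autPiInv1 : Janko.Tree (ℕ) :=
  (.node (.node (.node (.node (.node (.leaf 278) (.leaf 188)) (.leaf 95)) (.node (.leaf 65) (.leaf 18))) (.node (.node (.node (.leaf 197) (.leaf 61)) (.leaf 176)) (.node (.leaf 220) (.leaf 115)))) (.node (.node (.node (.node (.leaf 44) (.leaf 269)) (.leaf 19)) (.node (.leaf 126) (.leaf 303))) (.node (.node (.node (.leaf 293) (.leaf 130)) (.leaf 122)) (.node (.leaf 69) (.leaf 183)))))

def autPiInv2 : Janko.Tree (ℕ) :=
  (.node (.node (.node (.node (.node (.leaf 2) (.leaf 215)) (.leaf 305)) (.node (.leaf 194) (.leaf 66))) (.node (.node (.node (.leaf 190) (.leaf 31)) (.leaf 218)) (.node (.leaf 298) (.leaf 92)))) (.node (.node (.node (.node (.leaf 193) (.leaf 15)) (.leaf 195)) (.node (.leaf 299) (.leaf 84))) (.node (.node (.node (.leaf 50) (.leaf 75)) (.leaf 93)) (.node (.leaf 164) (.leaf 78)))))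

def autPiInv3 : Janko.Tree (ℕ) :=
  (.node (.node (.node (.node (.node (.leaf 198) (.leaf 139)) (.leaf 256)) (.node (.leaf 4) (.leaf 146))) (.node (.node (.node (.leaf 105) (.leaf 128)) (.leaf 149)) (.node (.leaf 280) (.leaf 296)))) (.node (.node (.node (.node (.leaf 145) (.leaf 224)) (.leaf 283)) (.node (.leaf 207) (.leaf 20))) (.node (.node (.node (.leaf 51) (.leaf 219)) (.leaf 297)) (.node (.leaf 225) (.leaf 7)))))

def autPiInv4 : Janko.Tree (ℕ) :=
  (.node (.node (.node (.node (.node (.leaf 67) (.leaf 40)) (.leaf 231)) (.node (.leaf 292) (.leaf 192))) (.node (.node (.node (.leaf 202) (.leaf 68)) (.leaf 114)) (.node (.leaf 100) (.leaf 171)))) (.node (.node (.node (.node (.leaf 211) (.leaf 106)) (.leaf 22)) (.node (.leaf 210) (.leaf 230))) (.node (.node (.node (.leaf 285) (.leaf 109)) (.leaf 112)) (.node (.leaf 125) (.leaf 251)))))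

def autPiInv5 : Janko.Tree (ℕ) :=
  (.node (.node (.node (.node (.node (.leaf 5) (.leaf 64)) (.leaf 184)) (.node (.leaf 113) (.leaf 33))) (.node (.node (.node (.leaf 304) (.leaf 49)) (.leaf 107)) (.node (.leaf 10) (.leaf 309)))) (.node (.node (.node (.node (.leaf 270) (.leaf 118)) (.leaf 163)) (.node (.leaf 191) (.leaf 45))) (.node (.node (.node (.leaf 154) (.leaf 229)) (.leaf 137)) (.node (.leaf 70) (.leaf 121)))))

def autPiInv6 : Janko.Tree (ℕ) :=
  (.node (.node (.node (.node (.node (.leaf 6) (.leaf 90)) (.leaf 136)) (.node (.leaf 117) (.leaf 3))) (.node (.node (.node (.leaf 205) (.leaf 158)) (.leaf 282)) (.node (.leaf 252) (.leaf 212)))) (.node (.node (.node (.node (.leaf 148) (.leaf 1)) (.leaf 300)) (.node (.leaf 62) (.leaf 80))) (.node (.node (.node (.leaf 152) (.leaf 104)) (.leaf 268)) (.node (.leaf 277) (.leaf 56)))))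

def autPiInv7 : Janko.Tree (ℕ) :=
  (.node (.node (.node (.node (.node (.leaf 243) (.leaf 41)) (.leaf 156)) (.node (.leaf 288) (.leaf 217))) (.node (.node (.node (.leaf 267) (.leaf 157)) (.leaf 187)) (.node (.leaf 9) (.leaf 132)))) (.node (.node (.node (.node (.leaf 23) (.leaf 168)) (.leaf 91)) (.node (.leaf 281) (.leaf 258))) (.node (.node (.node (.leaf 250) (.leaf 88)) (.leaf 241)) (.node (.leaf 287) (.leaf 73)))))

def autPiInv8 : Janko.Tree (ℕ) :=
  (.node (.node (.node (.node (.node (.leaf 239) (.leaf 284)) (.leaf 134)) (.node (.leaf 312) (.leaf 286))) (.node (.node (.node (.leaf 260) (.leaf 227)) (.leaf 279)) (.node (.leaf 310) (.leaf 221)))) (.node (.node (.node (.node (.leaf 254) (.leaf 99)) (.leaf 54)) (.node (.leaf 311) (.leaf 74))) (.node (.node (.node (.leaf 246) (.leaf 72)) (.leaf 133)) (.node (.leaf 255) (.leaf 59)))))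

def autPiInv9 : Janko.Tree (ℕ) :=
  (.node (.node (.node (.node (.node (.leaf 103) (.leaf 110)) (.leaf 181)) (.node (.leaf 247) (.leaf 30))) (.node (.node (.node (.leaf 263) (.leaf 179)) (.leaf 13)) (.node (.leaf 35) (.leaf 94)))) (.node (.node (.node (.node (.leaf 222) (.leaf 87)) (.leaf 302)) (.node (.leaf 314) (.leaf 199))) (.node (.node (.node (.leaf 57) (.leaf 58)) (.leaf 96)) (.node (.leaf 245) (.leaf 249)))))

def autPiInv10 : Janko.Tree (ℕ) :=
  (.node (.node (.node (.node (.node (.leaf 101) (.leaf 111)) (.leaf 155)) (.node (.leaf 216) (.leaf 36))) (.node (.node (.node (.leaf 172) (.leaf 98)) (.leaf 141)) (.node (.leaf 276) (.leaf 173)))) (.node (.node (.node (.node (.leaf 123) (.leaf 166)) (.leaf 53)) (.node (.leaf 262) (.leaf 162))) (.node (.node (.node (.leaf 313) (.leaf 89)) (.leaf 63)) (.node (.leaf 177) (.leaf 55)))))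

def autPiInv11 : Janko.Tree (ℕ) :=
  (.node (.node (.node (.node (.node (.leaf 236) (.leaf 39)) (.leaf 259)) (.node (.leaf 306) (.leaf 76))) (.node (.node (.node (.leaf 142) (.leaf 82)) (.leaf 228)) (.node (.leaf 165) (.leaf 108)))) (.node (.node (.node (.node (.leaf 238) (.leaf 147)) (.leaf 138)) (.node (.leaf 151) (.leaf 307))) (.node (.node (.leaf 248) (.leaf 167)) (.node (.leaf 26) (.leaf 244)))))

def autPiInv12 : Janko.Tree (ℕ) :=
  (.node (.node (.node (.node (.node (.leaf 12) (.leaf 182)) (.leaf 144)) (.node (.leaf 203) (.leaf 48))) (.node (.node (.node (.leaf 17) (.leaf 150)) (.leaf 42)) (.node (.leaf 235) (.leaf 11)))) (.node (.node (.node (.node (.leaf 160) (.leaf 264)) (.leaf 135)) (.node (.leaf 226) (.leaf 97))) (.node (.node (.leaf 175) (.leaf 257)) (.node (.leaf 240) (.leaf 102)))))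

def autPiInv13 : Janko.Tree (ℕ) :=
  (.node (.node (.node (.node (.node (.leaf 169) (.leaf 273)) (.leaf 170)) (.node (.leaf 77) (.leaf 38))) (.node (.node (.node (.leaf 213) (.leaf 46)) (.leaf 234)) (.node (.leaf 308) (.leaf 237)))) (.node (.node (.node (.node (.leaf 29) (.leaf 52)) (.leaf 295)) (.node (.leaf 178) (.leaf 232))) (.node (.node (.leaf 289) (.leaf 127)) (.node (.leaf 116) (.leaf 159)))))

def autPiInv14 : Janko.Tree (ℕ) :=
  (.node (.node (.node (.node (.node (.leaf 223) (.leaf 21)) (.leaf 43)) (.node (.leaf 242) (.leaf 208))) (.node (.node (.node (.leaf 301) (.leaf 153)) (.leaf 271)) (.node (.leaf 265) (.leaf 27)))) (.node (.node (.node (.node (.leaf 201) (.leaf 200)) (.leaf 294)) (.node (.leaf 233) (.leaf 25))) (.node (.node (.leaf 86) (.leaf 34)) (.node (.leaf 81) (.leaf 24)))))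

def autPiInv15 : Janko.Tree (ℕ) :=
  (.node (.node (.node (.node (.node (.leaf 274) (.leaf 174)) (.leaf 143)) (.node (.leaf 79) (.leaf 83))) (.node (.node (.node (.leaf 47) (.leaf 209)) (.leaf 60)) (.node (.leaf 266) (.leaf 8)))) (.node (.node (.node (.node (.leaf 290) (.leaf 119)) (.leaf 253)) (.node (.leaf 129) (.leaf 14))) (.node (.node (.leaf 186) (.leaf 85)) (.node (.leaf 189) (.leaf 120)))))

def autPiInv : Janko.Tree (ℕ) :=
  (.node (.node (.node (.node autPiInv0 autPiInv8) (.node autPiInv4 autPiInv12)) (.node (.node autPiInv2 autPiInv10) (.node autPiInv6 autPiInv14))) (.node (.node (.node autPiInv1 autPiInv9) (.node autPiInv5 autPiInv13)) (.node (.node autPiInv3 autPiInv11) (.node autPiInv7 autPiInv15))))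

def autRank0 : Janko.Tree (ℕ) :=
  (.node (.node (.node (.node (.node (.leaf 0) (.leaf 202)) (.leaf 199)) (.node (.leaf 271) (.leaf 242))) (.node (.node (.node (.leaf 127) (.leaf 34)) (.leaf 197)) (.node (.leaf 159) (.leaf 313)))) (.node (.node (.node (.node (.leaf 65) (.leaf 39)) (.leaf 205)) (.node (.leaf 256) (.leaf 182))) (.node (.node (.node (.leaf 215) (.leaf 53)) (.leaf 255)) (.node (.leaf 198) (.leaf 168)))))

def autRank1 : Janko.Tree (ℕ) :=
  (.node (.node (.node (.node (.node (.leaf 100) (.leaf 160)) (.leaf 314)) (.node (.leaf 8) (.leaf 178))) (.node (.node (.node (.leaf 12) (.leaf 268)) (.leaf 232)) (.node (.leaf 312) (.leaf 96)))) (.node (.node (.node (.node (.leaf 86) (.leaf 9)) (.leaf 62)) (.node (.leaf 270) (.leaf 163))) (.node (.node (.node (.leaf 147) (.leaf 97)) (.leaf 245)) (.node (.leaf 92) (.leaf 209)))))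

def autRank2 : Janko.Tree (ℕ) :=
  (.node (.node (.node (.node (.node (.leaf 1) (.leaf 109)) (.leaf 88)) (.node (.leaf 218) (.leaf 217))) (.node (.node (.node (.leaf 138) (.leaf 120)) (.leaf 161)) (.node (.leaf 139) (.leaf 164)))) (.node (.node (.node (.node (.leaf 251) (.leaf 177)) (.leaf 13)) (.node (.leaf 279) (.leaf 195))) (.node (.node (.node (.leaf 72) (.leaf 169)) (.leaf 132)) (.node (.leaf 125) (.leaf 81)))))

def autRank3 : Janko.Tree (ℕ) :=
  (.node (.node (.node (.node (.node (.leaf 38) (.leaf 123)) (.leaf 214)) (.node (.leaf 10) (.leaf 56))) (.node (.node (.node (.leaf 191) (.leaf 136)) (.leaf 101)) (.node (.leaf 187) (.leaf 50)))) (.node (.node (.node (.node (.leaf 157) (.leaf 303)) (.leaf 203)) (.node (.leaf 306) (.leaf 82))) (.node (.node (.node (.leaf 7) (.leaf 227)) (.leaf 90)) (.node (.leaf 95) (.leaf 129)))))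

def autRank4 : Janko.Tree (ℕ) :=
  (.node (.node (.node (.node (.node (.leaf 2) (.leaf 267)) (.leaf 238)) (.node (.leaf 285) (.leaf 241))) (.node (.node (.node (.leaf 49) (.leaf 302)) (.leaf 75)) (.node (.leaf 6) (.leaf 289)))) (.node (.node (.node (.node (.leaf 48) (.leaf 44)) (.leaf 80)) (.node (.leaf 219) (.leaf 220))) (.node (.node (.node (.leaf 130) (.leaf 111)) (.leaf 183)) (.node (.leaf 158) (.leaf 70)))))

def autRank5 : Janko.Tree (ℕ) :=
  (.node (.node (.node (.node (.node (.leaf 3) (.leaf 213)) (.leaf 288)) (.node (.leaf 145) (.leaf 14))) (.node (.node (.node (.leaf 54) (.leaf 216)) (.leaf 36)) (.node (.leaf 69) (.leaf 83)))) (.node (.node (.node (.node (.leaf 212) (.leaf 174)) (.leaf 30)) (.node (.leaf 233) (.leaf 261))) (.node (.node (.node (.leaf 239) (.leaf 112)) (.leaf 292)) (.node (.leaf 20) (.leaf 103)))))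

def autRank6 : Janko.Tree (ℕ) :=
  (.node (.node (.node (.node (.node (.leaf 76) (.leaf 142)) (.leaf 284)) (.node (.leaf 43) (.leaf 73))) (.node (.node (.node (.leaf 236) (.leaf 277)) (.leaf 258)) (.node (.leaf 151) (.leaf 144)))) (.node (.node (.node (.node (.leaf 45) (.leaf 108)) (.leaf 300)) (.node (.leaf 287) (.leaf 237))) (.node (.node (.node (.leaf 207) (.leaf 155)) (.leaf 305)) (.node (.leaf 114) (.leaf 23)))))

def autRank7 : Janko.Tree (ℕ) :=
  (.node (.node (.node (.node (.node (.leaf 71) (.leaf 119)) (.leaf 64)) (.node (.leaf 102) (.leaf 66))) (.node (.node (.node (.leaf 243) (.leaf 152)) (.leaf 211)) (.node (.leaf 51) (.leaf 246)))) (.node (.node (.node (.node (.leaf 37) (.leaf 235)) (.leaf 309)) (.node (.leaf 29) (.leaf 60))) (.node (.node (.node (.leaf 298) (.leaf 229)) (.leaf 149)) (.node (.leaf 228) (.leaf 107)))))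

def autRank8 : Janko.Tree (ℕ) :=
  (.node (.node (.node (.node (.node (.leaf 116) (.leaf 52)) (.leaf 208)) (.node (.leaf 224) (.leaf 248))) (.node (.node (.node (.leaf 310) (.leaf 24)) (.leaf 275)) (.node (.leaf 190) (.leaf 85)))) (.node (.node (.node (.node (.leaf 247) (.leaf 131)) (.leaf 286)) (.node (.leaf 263) (.leaf 146))) (.node (.node (.node (.leaf 11) (.leaf 117)) (.leaf 294)) (.node (.leaf 91) (.leaf 240)))))

def autRank9 : Janko.Tree (ℕ) :=
  (.node (.node (.node (.node (.node (.leaf 84) (.leaf 274)) (.leaf 189)) (.node (.leaf 121) (.leaf 269))) (.node (.node (.node (.leaf 192) (.leaf 137)) (.leaf 262)) (.node (.leaf 293) (.leaf 193)))) (.node (.node (.node (.node (.leaf 276) (.leaf 79)) (.leaf 173)) (.node (.leaf 67) (.leaf 58))) (.node (.node (.node (.leaf 32) (.leaf 87)) (.leaf 282)) (.node (.leaf 35) (.leaf 18)))))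

def autRank10 : Janko.Tree (ℕ) :=
  (.node (.node (.node (.node (.node (.leaf 153) (.leaf 200)) (.leaf 25)) (.node (.leaf 128) (.leaf 21))) (.node (.node (.node (.leaf 98) (.leaf 171)) (.leaf 253)) (.node (.leaf 89) (.leaf 283)))) (.node (.node (.node (.node (.leaf 104) (.leaf 252)) (.leaf 201)) (.node (.leaf 93) (.leaf 124))) (.node (.node (.node (.leaf 47) (.leaf 59)) (.leaf 280)) (.node (.leaf 99) (.leaf 179)))))

def autRank11 : Janko.Tree (ℕ) :=
  (.node (.node (.node (.node (.node (.leaf 115) (.leaf 210)) (.leaf 230)) (.node (.leaf 188) (.leaf 33))) (.node (.node (.node (.leaf 68) (.leaf 278)) (.leaf 295)) (.node (.leaf 16) (.leaf 180)))) (.node (.node (.node (.node (.leaf 196) (.leaf 272)) (.leaf 19)) (.node (.leaf 299) (.leaf 265))) (.node (.node (.leaf 156) (.leaf 105)) (.node (.leaf 110) (.leaf 154)))))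

def autRank12 : Janko.Tree (ℕ) :=
  (.node (.node (.node (.node (.node (.leaf 41) (.leaf 290)) (.leaf 206)) (.node (.leaf 28) (.leaf 186))) (.node (.node (.node (.leaf 46) (.leaf 259)) (.leaf 113)) (.node (.leaf 297) (.leaf 135)))) (.node (.node (.node (.node (.leaf 194) (.leaf 42)) (.leaf 55)) (.node (.leaf 264) (.leaf 311))) (.node (.node (.leaf 141) (.leaf 172)) (.node (.leaf 165) (.leaf 63)))))

def autRank13 : Janko.Tree (ℕ) :=
  (.node (.node (.node (.node (.node (.leaf 296) (.leaf 22)) (.leaf 234)) (.node (.leaf 126) (.leaf 184))) (.node (.node (.node (.leaf 185) (.leaf 31)) (.leaf 301)) (.node (.leaf 106) (.leaf 74)))) (.node (.node (.node (.node (.leaf 17) (.leaf 133)) (.leaf 176)) (.node (.leaf 61) (.leaf 150))) (.node (.node (.leaf 204) (.leaf 15)) (.node (.leaf 181) (.leaf 166)))))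

def autRank14 : Janko.Tree (ℕ) :=
  (.node (.node (.node (.node (.node (.leaf 27) (.leaf 225)) (.leaf 167)) (.node (.leaf 134) (.leaf 254))) (.node (.node (.node (.leaf 26) (.leaf 162)) (.leaf 140)) (.node (.leaf 266) (.leaf 122)))) (.node (.node (.node (.node (.leaf 257) (.leaf 226)) (.leaf 249)) (.node (.leaf 222) (.leaf 281))) (.node (.node (.leaf 307) (.leaf 170)) (.node (.leaf 260) (.leaf 273)))))

def autRank15 : Janko.Tree (ℕ) :=
  (.node (.node (.node (.node (.node (.leaf 250) (.leaf 223)) (.leaf 4)) (.node (.leaf 77) (.leaf 291))) (.node (.node (.node (.leaf 40) (.leaf 143)) (.leaf 221)) (.node (.leaf 175) (.leaf 94)))) (.node (.node (.node (.node (.leaf 244) (.leaf 231)) (.leaf 78)) (.node (.leaf 308) (.leaf 5))) (.node (.node (.leaf 304) (.leaf 118)) (.node (.leaf 57) (.leaf 148)))))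

def autRank : Janko.Tree (ℕ) :=
  (.node (.node (.node (.node autRank0 autRank8) (.node autRank4 autRank12)) (.node (.node autRank2 autRank10) (.node autRank6 autRank14))) (.node (.node (.node autRank1 autRank9) (.node autRank5 autRank13)) (.node (.node autRank3 autRank11) (.node autRank7 autRank15))))

def autPar0 : Janko.Tree (ℕ × ℕ) :=
  (.node (.node (.node (.node (.node (.leaf (4, 0)) (.leaf (2, 291))) (.leaf (3, 78))) (.node (.leaf (3, 112)) (.leaf (0, 124)))) (.node (.node (.node (.leaf (3, 50)) (.leaf (0, 189))) (.leaf (2, 178))) (.node (.leaf (0, 122)) (.leaf (0, 150))))) (.node (.node (.node (.node (.leaf (3, 57)) (.leaf (3, 29))) (.leaf (0, 174))) (.node (.leaf (2, 125)) (.leaf (0, 263)))) (.node (.node (.node (.leaf (3, 230)) (.leaf (1, 46))) (.leaf (3, 235))) (.node (.leaf (0, 285)) (.leaf (2, 123))))))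

def autPar1 : Janko.Tree (ℕ × ℕ) :=
  (.node (.node (.node (.node (.node (.leaf (2, 195)) (.leaf (1, 122))) (.leaf (1, 275))) (.node (.leaf (3, 2)) (.leaf (1, 312)))) (.node (.node (.node (.leaf (2, 143)) (.leaf (0, 233))) (.leaf (0, 116))) (.node (.leaf (1, 207)) (.leaf (3, 37))))) (.node (.node (.node (.node (.leaf (0, 44)) (.leaf (0, 4))) (.leaf (1, 149))) (.node (.leaf (2, 112)) (.leaf (2, 26)))) (.node (.node (.node (.leaf (0, 113)) (.leaf (0, 156))) (.leaf (1, 188))) (.node (.leaf (2, 103)) (.leaf (0, 262))))))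

def autPar2 : Janko.Tree (ℕ × ℕ) :=
  (.node (.node (.node (.node (.node (.leaf (4, 2)) (.leaf (3, 215))) (.leaf (1, 58))) (.node (.leaf (2, 49)) (.leaf (1, 49)))) (.node (.node (.node (.leaf (0, 229)) (.leaf (0, 43))) (.leaf (3, 1))) (.node (.leaf (1, 229)) (.leaf (0, 187))))) (.node (.node (.node (.node (.leaf (0, 193)) (.leaf (0, 312))) (.leaf (0, 223))) (.node (.leaf (3, 140)) (.leaf (0, 280)))) (.node (.node (.node (.leaf (2, 165)) (.leaf (2, 308))) (.leaf (3, 281))) (.node (.leaf (1, 7)) (.leaf (0, 276))))))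

def autPar3 : Janko.Tree (ℕ × ℕ) :=
  (.node (.node (.node (.node (.node (.leaf (2, 29)) (.leaf (2, 244))) (.leaf (2, 230))) (.node (.leaf (1, 4)) (.leaf (0, 14)))) (.node (.node (.node (.leaf (3, 259)) (.leaf (3, 242))) (.leaf (3, 195))) (.node (.leaf (1, 238)) (.leaf (0, 246))))) (.node (.node (.node (.node (.leaf (0, 42)) (.leaf (0, 300))) (.leaf (2, 297))) (.node (.leaf (3, 88)) (.leaf (1, 276)))) (.node (.node (.node (.leaf (2, 2)) (.leaf (2, 295))) (.leaf (3, 20))) (.node (.leaf (3, 304)) (.leaf (1, 164))))))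

def autPar4 : Janko.Tree (ℕ × ℕ) :=
  (.node (.node (.node (.node (.node (.leaf (4, 4)) (.leaf (1, 35))) (.leaf (3, 257))) (.node (.leaf (2, 72)) (.leaf (3, 226)))) (.node (.node (.node (.leaf (3, 269)) (.leaf (1, 282))) (.leaf (3, 3))) (.node (.leaf (3, 0)) (.leaf (3, 119))))) (.node (.node (.node (.node (.leaf (2, 269)) (.leaf (2, 117))) (.leaf (3, 70))) (.node (.leaf (3, 49)) (.leaf (0, 255)))) (.node (.node (.node (.leaf (1, 159)) (.leaf (1, 93))) (.leaf (1, 290))) (.node (.leaf (2, 42)) (.leaf (0, 121))))))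

def autPar5 : Janko.Tree (ℕ × ℕ) :=
  (.node (.node (.node (.node (.node (.leaf (4, 5)) (.leaf (1, 230))) (.leaf (0, 119))) (.node (.leaf (1, 120)) (.leaf (1, 223)))) (.node (.node (.node (.leaf (2, 46)) (.leaf (0, 69))) (.leaf (1, 107))) (.node (.leaf (1, 288)) (.leaf (3, 276))))) (.node (.node (.node (.node (.leaf (2, 303)) (.leaf (3, 118))) (.leaf (3, 146))) (.node (.leaf (1, 116)) (.leaf (1, 204)))) (.node (.node (.node (.leaf (0, 209)) (.leaf (2, 93))) (.leaf (0, 139))) (.node (.leaf (1, 273)) (.leaf (1, 127))))))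

def autPar6 : Janko.Tree (ℕ × ℕ) :=
  (.node (.node (.node (.node (.node (.leaf (0, 272)) (.leaf (1, 232))) (.leaf (3, 175))) (.node (.leaf (0, 117)) (.leaf (2, 23)))) (.node (.node (.node (.leaf (0, 257)) (.leaf (2, 144))) (.leaf (2, 208))) (.node (.leaf (1, 239)) (.leaf (0, 120))))) (.node (.node (.node (.node (.leaf (3, 117)) (.leaf (1, 215))) (.leaf (2, 24))) (.node (.leaf (0, 307)) (.leaf (2, 257)))) (.node (.node (.node (.leaf (2, 60)) (.leaf (2, 115))) (.leaf (0, 169))) (.node (.leaf (2, 145)) (.leaf (3, 67))))))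

def autPar7 : Janko.Tree (ℕ × ℕ) :=
  (.node (.node (.node (.node (.node (.leaf (2, 121)) (.leaf (2, 16))) (.leaf (3, 301))) (.node (.leaf (0, 127)) (.leaf (0, 203)))) (.node (.node (.node (.leaf (2, 253)) (.leaf (3, 239))) (.leaf (3, 262))) (.node (.leaf (1, 296)) (.leaf (3, 188))))) (.node (.node (.node (.node (.leaf (1, 29)) (.leaf (1, 96))) (.leaf (3, 168))) (.node (.leaf (1, 146)) (.leaf (2, 87)))) (.node (.node (.node (.leaf (3, 85)) (.leaf (0, 310))) (.leaf (0, 90))) (.node (.leaf (2, 251)) (.leaf (2, 314))))))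

def autPar8 : Janko.Tree (ℕ × ℕ) :=
  (.node (.node (.node (.node (.node (.leaf (1, 252)) (.leaf (0, 138))) (.leaf (3, 60))) (.node (.leaf (3, 102)) (.leaf (1, 157)))) (.node (.node (.node (.leaf (3, 234)) (.leaf (0, 56))) (.leaf (2, 154))) (.node (.leaf (1, 259)) (.leaf (2, 22))))) (.node (.node (.node (.node (.leaf (1, 111)) (.leaf (3, 159))) (.leaf (2, 286))) (.node (.leaf (0, 104)) (.leaf (3, 120)))) (.node (.node (.node (.leaf (3, 4)) (.leaf (3, 252))) (.leaf (0, 287))) (.node (.leaf (2, 227)) (.leaf (2, 226))))))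

def autPar9 : Janko.Tree (ℕ × ℕ) :=
  (.node (.node (.node (.node (.node (.leaf (0, 22)) (.leaf (2, 266))) (.leaf (0, 259))) (.node (.leaf (1, 43)) (.leaf (0, 160)))) (.node (.node (.node (.leaf (2, 77)) (.leaf (3, 211))) (.leaf (1, 137))) (.node (.leaf (3, 139)) (.leaf (2, 52))))) (.node (.node (.node (.node (.leaf (1, 256)) (.leaf (2, 70))) (.leaf (1, 118))) (.node (.leaf (1, 203)) (.leaf (0, 76)))) (.node (.node (.node (.leaf (2, 197)) (.leaf (2, 44))) (.leaf (2, 212))) (.node (.leaf (1, 189)) (.leaf (3, 51))))))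

def autPar10 : Janko.Tree (ℕ × ℕ) :=
  (.node (.node (.node (.node (.node (.leaf (0, 115)) (.leaf (3, 236))) (.leaf (1, 56))) (.node (.leaf (2, 237)) (.leaf (3, 273)))) (.node (.node (.node (.leaf (1, 156)) (.leaf (1, 309))) (.leaf (0, 250))) (.node (.leaf (1, 20)) (.leaf (2, 175))))) (.node (.node (.node (.node (.leaf (1, 217)) (.leaf (2, 193))) (.leaf (1, 291))) (.node (.leaf (2, 264)) (.leaf (0, 7)))) (.node (.node (.node (.leaf (2, 202)) (.leaf (1, 76))) (.leaf (0, 54))) (.node (.leaf (2, 156)) (.leaf (2, 312))))))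

def autPar11 : Janko.Tree (ℕ × ℕ) :=
  (.node (.node (.node (.node (.node (.leaf (0, 252)) (.leaf (2, 262))) (.leaf (1, 310))) (.node (.leaf (3, 238)) (.leaf (3, 197)))) (.node (.node (.node (.leaf (2, 203)) (.leaf (3, 144))) (.leaf (3, 287))) (.node (.leaf (2, 100)) (.leaf (0, 191))))) (.node (.node (.node (.node (.leaf (1, 280)) (.leaf (0, 266))) (.leaf (2, 65))) (.node (.leaf (3, 279)) (.leaf (3, 104)))) (.node (.node (.leaf (2, 225)) (.leaf (2, 217))) (.node (.leaf (0, 93)) (.leaf (1, 115))))))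

def autPar12 : Janko.Tree (ℕ × ℕ) :=
  (.node (.node (.node (.node (.node (.leaf (1, 249)) (.leaf (1, 311))) (.leaf (1, 60))) (.node (.leaf (3, 33)) (.leaf (0, 238)))) (.node (.node (.node (.leaf (1, 202)) (.leaf (2, 180))) (.leaf (0, 145))) (.node (.leaf (3, 161)) (.leaf (2, 242))))) (.node (.node (.node (.node (.leaf (3, 52)) (.leaf (0, 155))) (.leaf (3, 46))) (.node (.leaf (2, 104)) (.leaf (0, 68)))) (.node (.node (.leaf (0, 232)) (.leaf (2, 172))) (.node (.leaf (1, 187)) (.leaf (2, 301))))))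

def autPar13 : Janko.Tree (ℕ × ℕ) :=
  (.node (.node (.node (.node (.node (.leaf (2, 161)) (.leaf (0, 67))) (.leaf (3, 116))) (.node (.leaf (0, 50)) (.leaf (2, 290)))) (.node (.node (.node (.leaf (3, 290)) (.leaf (0, 197))) (.leaf (2, 200))) (.node (.leaf (0, 314)) (.leaf (3, 23))))) (.node (.node (.node (.node (.leaf (0, 51)) (.leaf (2, 148))) (.leaf (3, 8))) (.node (.leaf (3, 87)) (.leaf (1, 90)))) (.node (.node (.leaf (2, 34)) (.leaf (3, 223))) (.node (.leaf (1, 191)) (.leaf (0, 247))))))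

def autPar14 : Janko.Tree (ℕ × ℕ) :=
  (.node (.node (.node (.node (.node (.leaf (1, 33)) (.leaf (0, 295))) (.leaf (1, 247))) (.node (.leaf (1, 242)) (.leaf (2, 235)))) (.node (.node (.node (.leaf (0, 33)) (.leaf (2, 163))) (.leaf (2, 229))) (.node (.leaf (0, 35)) (.leaf (2, 101))))) (.node (.node (.node (.node (.leaf (1, 208)) (.leaf (1, 295))) (.leaf (2, 157))) (.node (.leaf (2, 221)) (.leaf (1, 131)))) (.node (.node (.leaf (0, 219)) (.leaf (0, 309))) (.node (.leaf (1, 205)) (.leaf (1, 266))))))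

def autPar15 : Janko.Tree (ℕ × ℕ) :=
  (.node (.node (.node (.node (.node (.leaf (1, 274)) (.leaf (3, 221))) (.leaf (1, 0))) (.node (.leaf (1, 47)) (.leaf (3, 311)))) (.node (.node (.node (.leaf (0, 249)) (.leaf (1, 179))) (.leaf (0, 221))) (.node (.leaf (3, 11)) (.leaf (2, 304))))) (.node (.node (.node (.node (.leaf (0, 142)) (.leaf (1, 59))) (.leaf (2, 284))) (.node (.leaf (0, 260)) (.leaf (2, 0)))) (.node (.node (.leaf (3, 300)) (.leaf (2, 135))) (.node (.leaf (3, 14)) (.leaf (1, 113))))))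

def autPar : Janko.Tree (ℕ × ℕ) :=
  (.node (.node (.node (.node autPar0 autPar8) (.node autPar4 autPar12)) (.node (.node autPar2 autPar10) (.node autPar6 autPar14))) (.node (.node (.node autPar1 autPar9) (.node autPar5 autPar13)) (.node (.node autPar3 autPar11) (.node autPar7 autPar15))))

def eightTab0 : Janko.Tree (ℕ) :=
  (.node (.node (.node (.node (.node (.node (.node (.node (.node (.leaf 0) (.leaf 0)) (.node (.leaf 0) (.leaf 0))) (.node (.node (.leaf 0) (.leaf 0)) (.leaf 1))) (.node (.node (.node (.leaf 0) (.leaf 118)) (.leaf 127)) (.node (.node (.leaf 0) (.leaf 0)) (.leaf 0)))) (.node (.node (.node (.node (.leaf 0) (.leaf 245)) (.leaf 213)) (.node (.node (.leaf 0) (.leaf 0)) (.leaf 0))) (.node (.node (.node (.leaf 0) (.leaf 0)) (.leaf 315)) (.node (.node (.leaf 0) (.leaf 0)) (.leaf 0))))) (.node (.node (.node (.node (.node (.leaf 0) (.leaf 0)) (.leaf 0)) (.node (.node (.leaf 0) (.leaf 0)) (.leaf 0))) (.node (.node (.node (.leaf 108)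 (.leaf 315)) (.leaf 0)) (.node (.node (.leaf 213) (.leaf 0)) (.leaf 0)))) (.node (.node (.node (.node (.leaf 302) (.leaf 0)) (.leaf 0)) (.node (.node (.leaf 0) (.leaf 0)) (.leaf 0))) (.node (.node (.node (.leaf 0) (.leaf 315)) (.leaf 0)) (.node (.node (.leaf 0) (.leaf 0)) (.leaf 0)))))) (.node (.node (.node (.node (.node (.node (.leaf 0) (.leaf 0)) (.node (.leaf 0) (.leaf 0))) (.node (.node (.leaf 0) (.leaf 0)) (.leaf 0))) (.node (.node (.node (.leaf 0) (.leaf 0)) (.leaf 0)) (.node (.node (.leaf 0) (.leaf 0)) (.leaf 0)))) (.node (.node (.node (.node (.leaf 0) (.leaf 171)) (.leaf 0)) (.node (.node (.leaf 0) (.leaf 0)) (.leaf 0))) (.node (.node (.node (.leaf 0) (.leaf 0)) (.leaf 304)) (.node (.node (.leaf 0) (.leaf 0)) (.leaf 0))))) (.node (.node (.node (.node (.node (.leaf 296) (.leaf 0)) (.leaf 0)) (.node (.node (.leaf 0) (.leaf 0)) (.leaf 0))) (.node (.node (.node (.leaf 213) (.leaf 315)) (.leaf 315)) (.node (.node (.leaf 0) (.leaf 0)) (.leaf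 149)))) (.node (.node (.node (.node (.leaf 0) (.leaf 0)) (.leaf 0)) (.node (.node (.leaf 0) (.leaf 315)) (.leaf 0))) (.node (.node (.node (.leaf 315) (.leaf 315)) (.leaf 88)) (.node (.node (.leaf 0) (.leaf 0)) (.leaf 0))))))) (.node (.node (.node (.node (.node (.node (.node (.leaf 315) (.leaf 0)) (.node (.leaf 0) (.leaf 0))) (.node (.node (.leaf 0) (.leaf 0)) (.leaf 172))) (.node (.node (.node (.leaf 0) (.leaf 5)) (.leaf 0)) (.node (.node (.leaf 0) (.leaf 0)) (.leaf 0)))) (.node (.node (.node (.node (.leaf 0) (.leaf 0)) (.leaf 0)) (.node (.node (.leaf 0) (.leaf 0)) (.leaf 0))) (.node (.node (.node (.leaf 0) (.leaf 0)) (.leaf 0)) (.node (.node (.leaf 0) (.leaf 0)) (.leaf 0))))) (.node (.node (.node (.node (.node (.leaf 315) (.leaf 0)) (.leaf 0)) (.node (.node (.leaf 213) (.leaf 0)) (.leaf 229))) (.node (.node (.node (.leaf 0) (.leaf 0)) (.leaf 71)) (.node (.node (.leaf 0) (.leaf 0)) (.leaf 41)))) (.node (.node (.node (.node (.leaf 0) (.leaf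 196)) (.leaf 0)) (.node (.node (.leaf 0) (.leaf 0)) (.leaf 0))) (.node (.node (.node (.leaf 0) (.leaf 315)) (.leaf 0)) (.node (.node (.leaf 0) (.leaf 0)) (.leaf 0)))))) (.node (.node (.node (.node (.node (.node (.leaf 0) (.leaf 0)) (.leaf 0)) (.node (.node (.leaf 0) (.leaf 0)) (.leaf 0))) (.node (.node (.node (.leaf 0) (.leaf 0)) (.leaf 0)) (.node (.node (.leaf 0) (.leaf 0)) (.leaf 304)))) (.node (.node (.node (.node (.leaf 0) (.leaf 0)) (.leaf 71)) (.node (.node (.leaf 0) (.leaf 0)) (.leaf 0))) (.node (.node (.node (.leaf 0) (.leaf 315)) (.leaf 0)) (.node (.node (.leaf 0) (.leaf 0)) (.leaf 0))))) (.node (.node (.node (.node (.node (.leaf 0) (.leaf 0)) (.leaf 0)) (.node (.node (.leaf 275) (.leaf 0)) (.leaf 0))) (.node (.node (.node (.leaf 0) (.leaf 0)) (.leaf 0)) (.node (.node (.leaf 0) (.leaf 0)) (.leaf 0)))) (.node (.node (.node (.node (.leaf 315) (.leaf 0)) (.leaf 0)) (.node (.node (.leaf 0) (.leaf 148)) (.leaf 0))) (.node (.node (.node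 (.leaf 0) (.leaf 315)) (.leaf 0)) (.node (.node (.leaf 0) (.leaf 0)) (.leaf 0)))))))) (.node (.node (.node (.node (.node (.node (.node (.node (.leaf 0) (.leaf 0)) (.node (.leaf 256) (.leaf 0))) (.node (.node (.leaf 0) (.leaf 315)) (.leaf 0))) (.node (.node (.node (.leaf 315) (.leaf 0)) (.leaf 124)) (.node (.node (.leaf 263) (.leaf 0)) (.leaf 0)))) (.node (.node (.node (.node (.leaf 0) (.leaf 245)) (.leaf 104)) (.node (.node (.leaf 0) (.leaf 0)) (.leaf 43))) (.node (.node (.node (.leaf 0) (.leaf 0)) (.leaf 0)) (.node (.node (.leaf 0) (.leaf 0)) (.leaf 290))))) (.node (.node (.node (.node (.node (.leaf 0) (.leaf 0)) (.leaf 0)) (.node (.node (.leaf 0) (.leaf 0)) (.leaf 0))) (.node (.node (.node (.leaf 0) (.leaf 0)) (.leaf 0)) (.node (.node (.leaf 0) (.leaf 0)) (.leaf 315)))) (.node (.node (.node (.node (.leaf 0) (.leaf 0)) (.leaf 54)) (.node (.node (.leaf 0) (.leaf 0)) (.leaf 0))) (.node (.node (.node (.leaf 0) (.leaf 243)) (.leaf 0)) (.node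 (.node (.leaf 82) (.leaf 0)) (.leaf 0)))))) (.node (.node (.node (.node (.node (.node (.leaf 0) (.leaf 0)) (.node (.leaf 0) (.leaf 0))) (.node (.node (.leaf 0) (.leaf 0)) (.leaf 0))) (.node (.node (.node (.leaf 0) (.leaf 0)) (.leaf 0)) (.node (.node (.leaf 0) (.leaf 189)) (.leaf 315)))) (.node (.node (.node (.node (.leaf 95) (.leaf 199)) (.leaf 0)) (.node (.node (.leaf 0) (.leaf 0)) (.leaf 0))) (.node (.node (.node (.leaf 0) (.leaf 0)) (.leaf 0)) (.node (.node (.leaf 0) (.leaf 0)) (.leaf 0))))) (.node (.node (.node (.node (.node (.leaf 0) (.leaf 0)) (.leaf 0)) (.node (.node (.leaf 0) (.leaf 120)) (.leaf 0))) (.node (.node (.node (.leaf 0) (.leaf 0)) (.leaf 261)) (.node (.node (.leaf 0) (.leaf 0)) (.leaf 0)))) (.node (.node (.node (.node (.leaf 0) (.leaf 162)) (.leaf 0)) (.node (.node (.leaf 0) (.leaf 0)) (.leaf 315))) (.node (.node (.node (.leaf 57) (.leaf 315)) (.leaf 0)) (.node (.node (.leaf 0) (.leaf 0)) (.leaf 0))))))) (.node (.node (.node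 (.node (.node (.node (.node (.leaf 315) (.leaf 0)) (.node (.leaf 0) (.leaf 0))) (.node (.node (.leaf 0) (.leaf 0)) (.leaf 0))) (.node (.node (.node (.leaf 0) (.leaf 0)) (.leaf 0)) (.node (.node (.leaf 0) (.leaf 0)) (.leaf 0)))) (.node (.node (.node (.node (.leaf 0) (.leaf 202)) (.leaf 0)) (.node (.node (.leaf 0) (.leaf 0)) (.leaf 0))) (.node (.node (.node (.leaf 0) (.leaf 0)) (.leaf 0)) (.node (.node (.leaf 106) (.leaf 0)) (.leaf 0))))) (.node (.node (.node (.node (.node (.leaf 0) (.leaf 0)) (.leaf 0)) (.node (.node (.leaf 0) (.leaf 0)) (.leaf 0))) (.node (.node (.node (.leaf 0) (.leaf 0)) (.leaf 0)) (.node (.node (.leaf 0) (.leaf 0)) (.leaf 0)))) (.node (.node (.node (.node (.leaf 105) (.leaf 0)) (.leaf 0)) (.node (.node (.leaf 0) (.leaf 0)) (.leaf 0))) (.node (.node (.node (.leaf 24) (.leaf 243)) (.leaf 0)) (.node (.node (.leaf 0) (.leaf 0)) (.leaf 0)))))) (.node (.node (.node (.node (.node (.node (.leaf 0) (.leaf 301)) (.leaf 185)) (.node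 (.node (.leaf 0) (.leaf 0)) (.leaf 1))) (.node (.node (.node (.leaf 0) (.leaf 0)) (.leaf 68)) (.node (.node (.leaf 0) (.leaf 162)) (.leaf 0)))) (.node (.node (.node (.node (.leaf 0) (.leaf 0)) (.leaf 0)) (.node (.node (.leaf 0) (.leaf 0)) (.leaf 0))) (.node (.node (.node (.leaf 0) (.leaf 315)) (.leaf 315)) (.node (.node (.leaf 0) (.leaf 0)) (.leaf 0))))) (.node (.node (.node (.node (.node (.leaf 0) (.leaf 0)) (.leaf 0)) (.node (.node (.leaf 16) (.leaf 0)) (.leaf 0))) (.node (.node (.node (.leaf 0) (.leaf 304)) (.leaf 0)) (.node (.node (.leaf 0) (.leaf 0)) (.leaf 0)))) (.node (.node (.node (.node (.leaf 0) (.leaf 0)) (.leaf 0)) (.node (.node (.leaf 0) (.leaf 0)) (.leaf 0))) (.node (.node (.node (.leaf 0) (.leaf 315)) (.leaf 262)) (.node (.node (.leaf 0) (.leaf 0)) (.leaf 0)))))))))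

def eightTab1 : Janko.Tree (ℕ) :=
  (.node (.node (.node (.node (.node (.node (.node (.node (.node (.leaf 0) (.leaf 0)) (.node (.leaf 95) (.leaf 154))) (.node (.node (.leaf 0) (.leaf 0)) (.leaf 0))) (.node (.node (.node (.leaf 0) (.leaf 0)) (.leaf 0)) (.node (.node (.leaf 0) (.leaf 76)) (.leaf 0)))) (.node (.node (.node (.node (.leaf 0) (.leaf 245)) (.leaf 0)) (.node (.node (.leaf 0) (.leaf 0)) (.leaf 0))) (.node (.node (.node (.leaf 0) (.leaf 76)) (.leaf 0)) (.node (.node (.leaf 0) (.leaf 0)) (.leaf 0))))) (.node (.node (.node (.node (.node (.leaf 0) (.leaf 0)) (.leaf 315)) (.node (.node (.leaf 0) (.leaf 0)) (.leaf 0))) (.node (.node (.node (.leaf 0) (.leaf 0)) (.leaf 0)) (.node (.node (.leaf 0) (.leaf 0)) (.leaf 0)))) (.node (.node (.node (.node (.leaf 0) (.leaf 0)) (.leaf 0)) (.node (.node (.leaf 0) (.leaf 0)) (.leaf 37))) (.node (.node (.node (.leaf 0) (.leaf 243)) (.leaf 41)) (.node (.node (.leaf 0) (.leaf 0)) (.leaf 0)))))) (.node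 (.node (.node (.node (.node (.node (.leaf 0) (.leaf 0)) (.node (.leaf 0) (.leaf 0))) (.node (.node (.leaf 244) (.leaf 0)) (.leaf 0))) (.node (.node (.node (.leaf 0) (.leaf 0)) (.leaf 0)) (.node (.node (.leaf 0) (.leaf 315)) (.leaf 0)))) (.node (.node (.node (.node (.leaf 0) (.leaf 0)) (.leaf 0)) (.node (.node (.leaf 0) (.leaf 0)) (.leaf 0))) (.node (.node (.node (.leaf 0) (.leaf 0)) (.leaf 0)) (.node (.node (.leaf 0) (.leaf 0)) (.leaf 0))))) (.node (.node (.node (.node (.node (.leaf 0) (.leaf 252)) (.leaf 0)) (.node (.node (.leaf 0) (.leaf 0)) (.leaf 0))) (.node (.node (.node (.leaf 0) (.leaf 0)) (.leaf 96)) (.node (.node (.leaf 0) (.leaf 0)) (.leaf 0)))) (.node (.node (.node (.node (.leaf 0) (.leaf 0)) (.leaf 0)) (.node (.node (.leaf 0) (.leaf 315)) (.leaf 0))) (.node (.node (.node (.leaf 0) (.leaf 243)) (.leaf 0)) (.node (.node (.leaf 0) (.leaf 0)) (.leaf 0))))))) (.node (.node (.node (.node (.node (.node (.node (.leaf 315) (.leaf 0)) (.node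 (.leaf 175) (.leaf 0))) (.node (.node (.leaf 125) (.leaf 42)) (.leaf 0))) (.node (.node (.node (.leaf 0) (.leaf 0)) (.leaf 0)) (.node (.node (.leaf 0) (.leaf 162)) (.leaf 0)))) (.node (.node (.node (.node (.leaf 0) (.leaf 0)) (.leaf 0)) (.node (.node (.leaf 0) (.leaf 0)) (.leaf 0))) (.node (.node (.node (.leaf 0) (.leaf 0)) (.leaf 0)) (.node (.node (.leaf 0) (.leaf 0)) (.leaf 0))))) (.node (.node (.node (.node (.node (.leaf 0) (.leaf 0)) (.leaf 0)) (.node (.node (.leaf 0) (.leaf 0)) (.leaf 0))) (.node (.node (.node (.leaf 0) (.leaf 0)) (.leaf 0)) (.node (.node (.leaf 117) (.leaf 0)) (.leaf 0)))) (.node (.node (.node (.node (.leaf 0) (.leaf 0)) (.leaf 0)) (.node (.node (.leaf 0) (.leaf 0)) (.leaf 0))) (.node (.node (.node (.leaf 0) (.leaf 243)) (.leaf 315)) (.node (.node (.leaf 0) (.leaf 0)) (.leaf 0)))))) (.node (.node (.node (.node (.node (.node (.leaf 0) (.leaf 282)) (.leaf 0)) (.node (.node (.leaf 0) (.leaf 0)) (.leaf 0))) (.node (.node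 (.node (.leaf 0) (.leaf 28)) (.leaf 0)) (.node (.node (.leaf 0) (.leaf 275)) (.leaf 0)))) (.node (.node (.node (.node (.leaf 62) (.leaf 0)) (.leaf 0)) (.node (.node (.leaf 0) (.leaf 0)) (.leaf 0))) (.node (.node (.node (.leaf 0) (.leaf 243)) (.leaf 0)) (.node (.node (.leaf 0) (.leaf 0)) (.leaf 0))))) (.node (.node (.node (.node (.node (.leaf 0) (.leaf 0)) (.leaf 0)) (.node (.node (.leaf 0) (.leaf 0)) (.leaf 0))) (.node (.node (.node (.leaf 0) (.leaf 174)) (.leaf 0)) (.node (.node (.leaf 0) (.leaf 0)) (.leaf 0)))) (.node (.node (.node (.node (.leaf 195) (.leaf 0)) (.leaf 0)) (.node (.node (.leaf 0) (.leaf 0)) (.leaf 0))) (.node (.node (.node (.leaf 313) (.leaf 315)) (.leaf 66)) (.node (.node (.leaf 0) (.leaf 315)) (.leaf 0)))))))) (.node (.node (.node (.node (.node (.node (.node (.node (.leaf 0) (.leaf 312)) (.node (.leaf 0) (.leaf 0))) (.node (.node (.leaf 0) (.leaf 0)) (.leaf 224))) (.node (.node (.node (.leaf 0) (.leaf 0)) (.leaf 0)) (.node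 (.node (.leaf 0) (.leaf 0)) (.leaf 0)))) (.node (.node (.node (.node (.leaf 73) (.leaf 0)) (.leaf 0)) (.node (.node (.leaf 0) (.leaf 0)) (.leaf 0))) (.node (.node (.node (.leaf 0) (.leaf 0)) (.leaf 0)) (.node (.node (.leaf 0) (.leaf 0)) (.leaf 0))))) (.node (.node (.node (.node (.node (.leaf 0) (.leaf 0)) (.leaf 0)) (.node (.node (.leaf 0) (.leaf 0)) (.leaf 0))) (.node (.node (.node (.leaf 0) (.leaf 0)) (.leaf 276)) (.node (.node (.leaf 0) (.leaf 0)) (.leaf 0)))) (.node (.node (.node (.node (.leaf 0) (.leaf 0)) (.leaf 0)) (.node (.node (.leaf 0) (.leaf 0)) (.leaf 0))) (.node (.node (.node (.leaf 0) (.leaf 243)) (.leaf 0)) (.node (.node (.leaf 0) (.leaf 0)) (.leaf 0)))))) (.node (.node (.node (.node (.node (.node (.leaf 0) (.leaf 245)) (.node (.leaf 0) (.leaf 188))) (.node (.node (.leaf 0) (.leaf 0)) (.leaf 0))) (.node (.node (.node (.leaf 0) (.leaf 0)) (.leaf 0)) (.node (.node (.leaf 0) (.leaf 186)) (.leaf 243)))) (.node (.node (.node (.node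 (.leaf 0) (.leaf 0)) (.leaf 0)) (.node (.node (.leaf 0) (.leaf 0)) (.leaf 0))) (.node (.node (.node (.leaf 0) (.leaf 121)) (.leaf 0)) (.node (.node (.leaf 0) (.leaf 0)) (.leaf 250))))) (.node (.node (.node (.node (.node (.leaf 0) (.leaf 245)) (.leaf 0)) (.node (.node (.leaf 0) (.leaf 0)) (.leaf 0))) (.node (.node (.node (.leaf 115) (.leaf 0)) (.leaf 0)) (.node (.node (.leaf 221) (.leaf 0)) (.leaf 12)))) (.node (.node (.node (.node (.leaf 0) (.leaf 154)) (.leaf 0)) (.node (.node (.leaf 0) (.leaf 0)) (.leaf 243))) (.node (.node (.node (.leaf 0) (.leaf 315)) (.leaf 40)) (.node (.node (.leaf 0) (.leaf 257)) (.leaf 0))))))) (.node (.node (.node (.node (.node (.node (.node (.leaf 315) (.leaf 0)) (.node (.leaf 0) (.leaf 0))) (.node (.node (.leaf 0) (.leaf 0)) (.leaf 0))) (.node (.node (.node (.leaf 0) (.leaf 0)) (.leaf 0)) (.node (.node (.leaf 0) (.leaf 0)) (.leaf 0)))) (.node (.node (.node (.node (.leaf 311) (.leaf 280)) (.leaf 0)) (.node (.node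 (.leaf 0) (.leaf 0)) (.leaf 0))) (.node (.node (.node (.leaf 263) (.leaf 315)) (.leaf 0)) (.node (.node (.leaf 0) (.leaf 0)) (.leaf 0))))) (.node (.node (.node (.node (.node (.leaf 0) (.leaf 0)) (.leaf 0)) (.node (.node (.leaf 0) (.leaf 0)) (.leaf 241))) (.node (.node (.node (.leaf 0) (.leaf 0)) (.leaf 0)) (.node (.node (.leaf 0) (.leaf 0)) (.leaf 0)))) (.node (.node (.node (.node (.leaf 0) (.leaf 0)) (.leaf 0)) (.node (.node (.leaf 0) (.leaf 315)) (.leaf 0))) (.node (.node (.node (.leaf 0) (.leaf 243)) (.leaf 0)) (.node (.node (.leaf 0) (.leaf 0)) (.leaf 0)))))) (.node (.node (.node (.node (.node (.node (.leaf 0) (.leaf 315)) (.leaf 252)) (.node (.node (.leaf 0) (.leaf 315)) (.leaf 0))) (.node (.node (.node (.leaf 0) (.leaf 0)) (.leaf 0)) (.node (.node (.leaf 0) (.leaf 0)) (.leaf 0)))) (.node (.node (.node (.node (.leaf 0) (.leaf 0)) (.leaf 0)) (.node (.node (.leaf 0) (.leaf 0)) (.leaf 0))) (.node (.node (.node (.leaf 0) (.leaf 315)) (.leaf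 0)) (.node (.node (.leaf 0) (.leaf 0)) (.leaf 0))))) (.node (.node (.node (.node (.node (.leaf 0) (.leaf 0)) (.leaf 244)) (.node (.node (.leaf 0) (.leaf 0)) (.leaf 0))) (.node (.node (.node (.leaf 0) (.leaf 0)) (.leaf 0)) (.node (.node (.leaf 0) (.leaf 0)) (.leaf 0)))) (.node (.node (.node (.node (.leaf 0) (.leaf 0)) (.leaf 0)) (.node (.node (.leaf 128) (.leaf 0)) (.leaf 0))) (.node (.node (.node (.leaf 0) (.leaf 243)) (.leaf 0)) (.node (.node (.leaf 0) (.leaf 0)) (.leaf 0)))))))))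

def eightTab2 : Janko.Tree (ℕ) :=
  (.node (.node (.node (.node (.node (.node (.node (.node (.node (.leaf 0) (.leaf 0)) (.node (.leaf 0) (.leaf 0))) (.node (.node (.leaf 0) (.leaf 0)) (.leaf 0))) (.node (.node (.node (.leaf 0) (.leaf 0)) (.leaf 0)) (.node (.node (.leaf 0) (.leaf 0)) (.leaf 0)))) (.node (.node (.node (.node (.leaf 0) (.leaf 0)) (.leaf 0)) (.node (.node (.leaf 0) (.leaf 0)) (.leaf 0))) (.node (.node (.node (.leaf 0) (.leaf 0)) (.leaf 0)) (.node (.node (.leaf 0) (.leaf 0)) (.leaf 0))))) (.node (.node (.node (.node (.node (.leaf 0) (.leaf 0)) (.leaf 0)) (.node (.node (.leaf 0) (.leaf 180)) (.leaf 0))) (.node (.node (.node (.leaf 0) (.leaf 0)) (.leaf 0)) (.node (.node (.leaf 0) (.leaf 0)) (.leaf 3)))) (.node (.node (.node (.node (.leaf 82) (.leaf 0)) (.leaf 0)) (.node (.node (.leaf 0) (.leaf 0)) (.leaf 0))) (.node (.node (.node (.leaf 0) (.leaf 243)) (.leaf 0)) (.node (.node (.leaf 0) (.leaf 0)) (.leaf 0)))))) (.node (.node (.node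 (.node (.node (.node (.leaf 0) (.leaf 0)) (.node (.leaf 0) (.leaf 0))) (.node (.node (.leaf 0) (.leaf 0)) (.leaf 0))) (.node (.node (.node (.leaf 0) (.leaf 0)) (.leaf 0)) (.node (.node (.leaf 0) (.leaf 0)) (.leaf 0)))) (.node (.node (.node (.node (.leaf 21) (.leaf 0)) (.leaf 282)) (.node (.node (.leaf 0) (.leaf 0)) (.leaf 0))) (.node (.node (.node (.leaf 0) (.leaf 0)) (.leaf 0)) (.node (.node (.leaf 13) (.leaf 0)) (.leaf 0))))) (.node (.node (.node (.node (.node (.leaf 175) (.leaf 275)) (.leaf 0)) (.node (.node (.leaf 0) (.leaf 0)) (.leaf 0))) (.node (.node (.node (.leaf 315) (.leaf 0)) (.leaf 0)) (.node (.node (.leaf 0) (.leaf 0)) (.leaf 0)))) (.node (.node (.node (.node (.leaf 0) (.leaf 0)) (.leaf 0)) (.node (.node (.leaf 0) (.leaf 315)) (.leaf 0))) (.node (.node (.node (.leaf 0) (.leaf 243)) (.leaf 163)) (.node (.node (.leaf 238) (.leaf 0)) (.leaf 0))))))) (.node (.node (.node (.node (.node (.node (.node (.leaf 315) (.leaf 52)) (.node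 (.leaf 0) (.leaf 0))) (.node (.node (.leaf 0) (.leaf 0)) (.leaf 0))) (.node (.node (.node (.leaf 0) (.leaf 0)) (.leaf 0)) (.node (.node (.leaf 0) (.leaf 0)) (.leaf 0)))) (.node (.node (.node (.node (.leaf 100) (.leaf 0)) (.leaf 0)) (.node (.node (.leaf 0) (.leaf 0)) (.leaf 0))) (.node (.node (.node (.leaf 0) (.leaf 63)) (.leaf 226)) (.node (.node (.leaf 0) (.leaf 0)) (.leaf 0))))) (.node (.node (.node (.node (.node (.leaf 0) (.leaf 0)) (.leaf 0)) (.node (.node (.leaf 0) (.leaf 0)) (.leaf 175))) (.node (.node (.node (.leaf 0) (.leaf 0)) (.leaf 0)) (.node (.node (.leaf 301) (.leaf 0)) (.leaf 0)))) (.node (.node (.node (.node (.leaf 0) (.leaf 0)) (.leaf 0)) (.node (.node (.leaf 0) (.leaf 0)) (.leaf 0))) (.node (.node (.node (.leaf 0) (.leaf 315)) (.leaf 177)) (.node (.node (.leaf 0) (.leaf 0)) (.leaf 0)))))) (.node (.node (.node (.node (.node (.node (.leaf 0) (.leaf 0)) (.leaf 0)) (.node (.node (.leaf 0) (.leaf 315)) (.leaf 50))) (.node (.node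 (.node (.leaf 292) (.leaf 0)) (.leaf 0)) (.node (.node (.leaf 0) (.leaf 185)) (.leaf 85)))) (.node (.node (.node (.node (.leaf 265) (.leaf 0)) (.leaf 0)) (.node (.node (.leaf 0) (.leaf 0)) (.leaf 0))) (.node (.node (.node (.leaf 0) (.leaf 315)) (.leaf 0)) (.node (.node (.leaf 0) (.leaf 0)) (.leaf 0))))) (.node (.node (.node (.node (.node (.leaf 0) (.leaf 0)) (.leaf 0)) (.node (.node (.leaf 0) (.leaf 0)) (.leaf 0))) (.node (.node (.node (.leaf 0) (.leaf 133)) (.leaf 0)) (.node (.node (.leaf 0) (.leaf 0)) (.leaf 0)))) (.node (.node (.node (.node (.leaf 0) (.leaf 0)) (.leaf 0)) (.node (.node (.leaf 0) (.leaf 310)) (.leaf 0))) (.node (.node (.node (.leaf 0) (.leaf 243)) (.leaf 0)) (.node (.node (.leaf 0) (.leaf 0)) (.leaf 0)))))))) (.node (.node (.node (.node (.node (.node (.node (.node (.leaf 0) (.leaf 0)) (.node (.leaf 0) (.leaf 0))) (.node (.node (.leaf 0) (.leaf 0)) (.leaf 0))) (.node (.node (.node (.leaf 0) (.leaf 0)) (.leaf 0)) (.node (.node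 (.leaf 45) (.leaf 162)) (.leaf 0)))) (.node (.node (.node (.node (.leaf 0) (.leaf 245)) (.leaf 0)) (.node (.node (.leaf 0) (.leaf 0)) (.leaf 0))) (.node (.node (.node (.leaf 0) (.leaf 0)) (.leaf 0)) (.node (.node (.leaf 0) (.leaf 0)) (.leaf 0))))) (.node (.node (.node (.node (.node (.leaf 0) (.leaf 0)) (.leaf 0)) (.node (.node (.leaf 0) (.leaf 0)) (.leaf 0))) (.node (.node (.node (.leaf 0) (.leaf 0)) (.leaf 85)) (.node (.node (.leaf 0) (.leaf 0)) (.leaf 251)))) (.node (.node (.node (.node (.leaf 0) (.leaf 0)) (.leaf 0)) (.node (.node (.leaf 0) (.leaf 0)) (.leaf 0))) (.node (.node (.node (.leaf 0) (.leaf 315)) (.leaf 0)) (.node (.node (.leaf 0) (.leaf 0)) (.leaf 0)))))) (.node (.node (.node (.node (.node (.node (.leaf 0) (.leaf 0)) (.node (.leaf 0) (.leaf 0))) (.node (.node (.leaf 0) (.leaf 0)) (.leaf 0))) (.node (.node (.node (.leaf 97) (.leaf 111)) (.leaf 0)) (.node (.node (.leaf 0) (.leaf 0)) (.leaf 315)))) (.node (.node (.node (.node (.leaf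 0) (.leaf 0)) (.leaf 0)) (.node (.node (.leaf 0) (.leaf 0)) (.leaf 0))) (.node (.node (.node (.leaf 0) (.leaf 0)) (.leaf 0)) (.node (.node (.leaf 0) (.leaf 0)) (.leaf 0))))) (.node (.node (.node (.node (.node (.leaf 0) (.leaf 157)) (.leaf 0)) (.node (.node (.leaf 158) (.leaf 0)) (.leaf 0))) (.node (.node (.node (.leaf 0) (.leaf 0)) (.leaf 0)) (.node (.node (.leaf 0) (.leaf 0)) (.leaf 0)))) (.node (.node (.node (.node (.leaf 0) (.leaf 0)) (.leaf 0)) (.node (.node (.leaf 0) (.leaf 0)) (.leaf 315))) (.node (.node (.node (.leaf 0) (.leaf 243)) (.leaf 283)) (.node (.node (.leaf 0) (.leaf 0)) (.leaf 0))))))) (.node (.node (.node (.node (.node (.node (.node (.leaf 315) (.leaf 0)) (.node (.leaf 0) (.leaf 0))) (.node (.node (.leaf 0) (.leaf 0)) (.leaf 0))) (.node (.node (.node (.leaf 0) (.leaf 0)) (.leaf 0)) (.node (.node (.leaf 0) (.leaf 52)) (.leaf 0)))) (.node (.node (.node (.node (.leaf 0) (.leaf 0)) (.leaf 24)) (.node (.node (.leaf 0) (.leaf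 0)) (.leaf 0))) (.node (.node (.node (.leaf 0) (.leaf 10)) (.leaf 0)) (.node (.node (.leaf 0) (.leaf 0)) (.leaf 0))))) (.node (.node (.node (.node (.node (.leaf 0) (.leaf 0)) (.leaf 0)) (.node (.node (.leaf 0) (.leaf 0)) (.leaf 0))) (.node (.node (.node (.leaf 0) (.leaf 0)) (.leaf 0)) (.node (.node (.leaf 305) (.leaf 0)) (.leaf 0)))) (.node (.node (.node (.node (.leaf 68) (.leaf 0)) (.leaf 0)) (.node (.node (.leaf 0) (.leaf 315)) (.leaf 0))) (.node (.node (.node (.leaf 0) (.leaf 243)) (.leaf 11)) (.node (.node (.leaf 0) (.leaf 0)) (.leaf 0)))))) (.node (.node (.node (.node (.node (.node (.leaf 0) (.leaf 0)) (.leaf 0)) (.node (.node (.leaf 0) (.leaf 0)) (.leaf 0))) (.node (.node (.node (.leaf 0) (.leaf 0)) (.leaf 0)) (.node (.node (.leaf 127) (.leaf 0)) (.leaf 0)))) (.node (.node (.node (.node (.leaf 0) (.leaf 0)) (.leaf 0)) (.node (.node (.leaf 0) (.leaf 0)) (.leaf 0))) (.node (.node (.node (.leaf 0) (.leaf 315)) (.leaf 0)) (.node (.node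 (.leaf 0) (.leaf 0)) (.leaf 0))))) (.node (.node (.node (.node (.node (.leaf 0) (.leaf 0)) (.leaf 0)) (.node (.node (.leaf 0) (.leaf 0)) (.leaf 0))) (.node (.node (.node (.leaf 315) (.leaf 255)) (.leaf 0)) (.node (.node (.leaf 0) (.leaf 0)) (.leaf 0)))) (.node (.node (.node (.node (.leaf 0) (.leaf 0)) (.leaf 0)) (.node (.node (.leaf 56) (.leaf 0)) (.leaf 0))) (.node (.node (.node (.leaf 0) (.leaf 243)) (.leaf 0)) (.node (.node (.leaf 0) (.leaf 0)) (.leaf 0)))))))))

def eightTab3 : Janko.Tree (ℕ) :=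
  (.node (.node (.node (.node (.node (.node (.node (.node (.node (.leaf 0) (.leaf 0)) (.node (.leaf 0) (.leaf 0))) (.node (.node (.leaf 0) (.leaf 0)) (.leaf 124))) (.node (.node (.node (.leaf 0) (.leaf 0)) (.leaf 0)) (.node (.node (.leaf 0) (.leaf 0)) (.leaf 0)))) (.node (.node (.node (.node (.leaf 0) (.leaf 0)) (.leaf 0)) (.node (.node (.leaf 0) (.leaf 0)) (.leaf 0))) (.node (.node (.node (.leaf 0) (.leaf 0)) (.leaf 0)) (.node (.node (.leaf 0) (.leaf 0)) (.leaf 0))))) (.node (.node (.node (.node (.node (.leaf 0) (.leaf 0)) (.leaf 0)) (.node (.node (.leaf 0) (.leaf 0)) (.leaf 86))) (.node (.node (.node (.leaf 0) (.leaf 0)) (.leaf 0)) (.node (.node (.leaf 0) (.leaf 0)) (.leaf 0)))) (.node (.node (.node (.node (.leaf 0) (.leaf 0)) (.leaf 89)) (.node (.node (.leaf 0) (.leaf 0)) (.leaf 0))) (.node (.node (.node (.leaf 0) (.leaf 243)) (.leaf 0)) (.node (.node (.leaf 0) (.leaf 0)) (.leaf 0)))))) (.node (.node (.node (.node (.node (.node (.leaf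 0) (.leaf 0)) (.node (.leaf 0) (.leaf 0))) (.node (.node (.leaf 0) (.leaf 42)) (.leaf 0))) (.node (.node (.node (.leaf 0) (.leaf 0)) (.leaf 306)) (.node (.node (.leaf 0) (.leaf 0)) (.leaf 0)))) (.node (.node (.node (.node (.leaf 0) (.leaf 0)) (.leaf 0)) (.node (.node (.leaf 0) (.leaf 0)) (.leaf 0))) (.node (.node (.node (.leaf 0) (.leaf 212)) (.leaf 204)) (.node (.node (.leaf 0) (.leaf 0)) (.leaf 0))))) (.node (.node (.node (.node (.node (.leaf 0) (.leaf 0)) (.leaf 0)) (.node (.node (.leaf 0) (.leaf 0)) (.leaf 307))) (.node (.node (.node (.leaf 0) (.leaf 0)) (.leaf 0)) (.node (.node (.leaf 0) (.leaf 0)) (.leaf 0)))) (.node (.node (.node (.node (.leaf 0) (.leaf 0)) (.leaf 0)) (.node (.node (.leaf 0) (.leaf 243)) (.leaf 0))) (.node (.node (.node (.leaf 49) (.leaf 243)) (.leaf 0)) (.node (.node (.leaf 0) (.leaf 0)) (.leaf 0))))))) (.node (.node (.node (.node (.node (.node (.node (.leaf 315) (.leaf 0)) (.node (.leaf 0) (.leaf 0))) (.node (.node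 (.leaf 0) (.leaf 0)) (.leaf 0))) (.node (.node (.node (.leaf 0) (.leaf 0)) (.leaf 0)) (.node (.node (.leaf 34) (.leaf 0)) (.leaf 0)))) (.node (.node (.node (.node (.leaf 0) (.leaf 0)) (.leaf 0)) (.node (.node (.leaf 0) (.leaf 0)) (.leaf 0))) (.node (.node (.node (.leaf 0) (.leaf 0)) (.leaf 0)) (.node (.node (.leaf 0) (.leaf 0)) (.leaf 0))))) (.node (.node (.node (.node (.node (.leaf 0) (.leaf 0)) (.leaf 0)) (.node (.node (.leaf 0) (.leaf 0)) (.leaf 0))) (.node (.node (.node (.leaf 0) (.leaf 0)) (.leaf 0)) (.node (.node (.leaf 0) (.leaf 0)) (.leaf 0)))) (.node (.node (.node (.node (.leaf 0) (.leaf 0)) (.leaf 0)) (.node (.node (.leaf 0) (.leaf 0)) (.leaf 315))) (.node (.node (.node (.leaf 0) (.leaf 243)) (.leaf 0)) (.node (.node (.leaf 0) (.leaf 0)) (.leaf 0)))))) (.node (.node (.node (.node (.node (.node (.leaf 0) (.leaf 0)) (.leaf 0)) (.node (.node (.leaf 0) (.leaf 0)) (.leaf 0))) (.node (.node (.node (.leaf 0) (.leaf 18)) (.leaf 0)) (.node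 (.node (.leaf 0) (.leaf 0)) (.leaf 0)))) (.node (.node (.node (.node (.leaf 291) (.leaf 0)) (.leaf 0)) (.node (.node (.leaf 2) (.leaf 0)) (.leaf 0))) (.node (.node (.node (.leaf 0) (.leaf 243)) (.leaf 0)) (.node (.node (.leaf 0) (.leaf 0)) (.leaf 0))))) (.node (.node (.node (.node (.node (.leaf 0) (.leaf 0)) (.leaf 0)) (.node (.node (.leaf 0) (.leaf 0)) (.leaf 0))) (.node (.node (.node (.leaf 0) (.leaf 0)) (.leaf 0)) (.node (.node (.leaf 0) (.leaf 0)) (.leaf 40)))) (.node (.node (.node (.node (.leaf 0) (.leaf 0)) (.leaf 0)) (.node (.node (.leaf 0) (.leaf 0)) (.leaf 0))) (.node (.node (.node (.leaf 0) (.leaf 315)) (.leaf 152)) (.node (.node (.leaf 0) (.leaf 0)) (.leaf 0)))))))) (.node (.node (.node (.node (.node (.node (.node (.node (.leaf 0) (.leaf 232)) (.node (.leaf 0) (.leaf 0))) (.node (.node (.leaf 0) (.leaf 0)) (.leaf 0))) (.node (.node (.node (.leaf 0) (.leaf 0)) (.leaf 0)) (.node (.node (.leaf 130) (.leaf 232)) (.leaf 0)))) (.node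 (.node (.node (.node (.leaf 0) (.leaf 0)) (.leaf 0)) (.node (.node (.leaf 0) (.leaf 0)) (.leaf 0))) (.node (.node (.node (.leaf 0) (.leaf 0)) (.leaf 0)) (.node (.node (.leaf 0) (.leaf 0)) (.leaf 0))))) (.node (.node (.node (.node (.node (.leaf 0) (.leaf 186)) (.leaf 237)) (.node (.node (.leaf 0) (.leaf 0)) (.leaf 0))) (.node (.node (.node (.leaf 168) (.leaf 0)) (.leaf 0)) (.node (.node (.leaf 0) (.leaf 0)) (.leaf 0)))) (.node (.node (.node (.node (.leaf 0) (.leaf 2)) (.leaf 315)) (.node (.node (.leaf 0) (.leaf 0)) (.leaf 0))) (.node (.node (.node (.leaf 0) (.leaf 315)) (.leaf 0)) (.node (.node (.leaf 0) (.leaf 0)) (.leaf 0)))))) (.node (.node (.node (.node (.node (.node (.leaf 0) (.leaf 0)) (.node (.leaf 0) (.leaf 63))) (.node (.node (.leaf 0) (.leaf 0)) (.leaf 0))) (.node (.node (.node (.leaf 0) (.leaf 0)) (.leaf 0)) (.node (.node (.leaf 0) (.leaf 0)) (.leaf 243)))) (.node (.node (.node (.node (.leaf 0) (.leaf 0)) (.leaf 0)) (.node (.node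 (.leaf 0) (.leaf 0)) (.leaf 0))) (.node (.node (.node (.leaf 0) (.leaf 0)) (.leaf 0)) (.node (.node (.leaf 0) (.leaf 0)) (.leaf 0))))) (.node (.node (.node (.node (.node (.leaf 0) (.leaf 0)) (.leaf 0)) (.node (.node (.leaf 0) (.leaf 0)) (.leaf 0))) (.node (.node (.node (.leaf 0) (.leaf 0)) (.leaf 0)) (.node (.node (.leaf 0) (.leaf 0)) (.leaf 0)))) (.node (.node (.node (.node (.leaf 0) (.leaf 0)) (.leaf 0)) (.node (.node (.leaf 0) (.leaf 0)) (.leaf 243))) (.node (.node (.node (.leaf 256) (.leaf 243)) (.leaf 0)) (.node (.node (.leaf 257) (.leaf 0)) (.leaf 0))))))) (.node (.node (.node (.node (.node (.node (.node (.leaf 315) (.leaf 0)) (.node (.leaf 0) (.leaf 0))) (.node (.node (.leaf 0) (.leaf 0)) (.leaf 261))) (.node (.node (.node (.leaf 0) (.leaf 0)) (.leaf 0)) (.node (.node (.leaf 0) (.leaf 0)) (.leaf 0)))) (.node (.node (.node (.node (.leaf 0) (.leaf 0)) (.leaf 0)) (.node (.node (.leaf 0) (.leaf 0)) (.leaf 0))) (.node (.node (.node (.leaf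 0) (.leaf 0)) (.leaf 0)) (.node (.node (.leaf 0) (.leaf 0)) (.leaf 0))))) (.node (.node (.node (.node (.node (.leaf 0) (.leaf 0)) (.leaf 0)) (.node (.node (.leaf 0) (.leaf 64)) (.leaf 0))) (.node (.node (.node (.leaf 0) (.leaf 0)) (.leaf 0)) (.node (.node (.leaf 0) (.leaf 0)) (.leaf 0)))) (.node (.node (.node (.node (.leaf 0) (.leaf 0)) (.leaf 0)) (.node (.node (.leaf 0) (.leaf 315)) (.leaf 0))) (.node (.node (.node (.leaf 124) (.leaf 243)) (.leaf 0)) (.node (.node (.leaf 0) (.leaf 0)) (.leaf 0)))))) (.node (.node (.node (.node (.node (.node (.leaf 0) (.leaf 189)) (.leaf 0)) (.node (.node (.leaf 0) (.leaf 212)) (.leaf 16))) (.node (.node (.node (.leaf 0) (.leaf 0)) (.leaf 0)) (.node (.node (.leaf 0) (.leaf 52)) (.leaf 0)))) (.node (.node (.node (.node (.leaf 0) (.leaf 0)) (.leaf 0)) (.node (.node (.leaf 0) (.leaf 0)) (.leaf 0))) (.node (.node (.node (.leaf 0) (.leaf 315)) (.leaf 0)) (.node (.node (.leaf 0) (.leaf 0)) (.leaf 0))))) (.node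 (.node (.node (.node (.node (.leaf 0) (.leaf 278)) (.leaf 0)) (.node (.node (.leaf 0) (.leaf 0)) (.leaf 0))) (.node (.node (.node (.leaf 0) (.leaf 292)) (.leaf 0)) (.node (.node (.leaf 0) (.leaf 0)) (.leaf 0)))) (.node (.node (.node (.node (.leaf 0) (.leaf 0)) (.leaf 0)) (.node (.node (.leaf 0) (.leaf 0)) (.leaf 0))) (.node (.node (.node (.leaf 0) (.leaf 243)) (.leaf 0)) (.node (.node (.leaf 0) (.leaf 315)) (.leaf 0)))))))))

def eightTab4 : Janko.Tree (ℕ) :=
  (.node (.node (.node (.node (.node (.node (.node (.node (.node (.leaf 0) (.leaf 0)) (.node (.leaf 0) (.leaf 0))) (.node (.node (.leaf 0) (.leaf 0)) (.leaf 0))) (.node (.node (.node (.leaf 0) (.leaf 251)) (.leaf 223)) (.node (.node (.leaf 0) (.leaf 0)) (.leaf 0)))) (.node (.node (.node (.node (.leaf 0) (.leaf 315)) (.leaf 155)) (.node (.node (.leaf 0) (.leaf 0)) (.leaf 0))) (.node (.node (.node (.leaf 0) (.leaf 0)) (.leaf 0)) (.node (.node (.leaf 0) (.leaf 0)) (.leaf 0))))) (.node (.node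 (.node (.node (.node (.leaf 0) (.leaf 0)) (.leaf 0)) (.node (.node (.leaf 0) (.leaf 315)) (.leaf 0))) (.node (.node (.node (.leaf 0) (.leaf 0)) (.leaf 104)) (.node (.node (.leaf 0) (.leaf 0)) (.leaf 0)))) (.node (.node (.node (.node (.leaf 0) (.leaf 0)) (.leaf 0)) (.node (.node (.leaf 0) (.leaf 0)) (.leaf 0))) (.node (.node (.node (.leaf 0) (.leaf 243)) (.leaf 0)) (.node (.node (.leaf 0) (.leaf 0)) (.leaf 0)))))) (.node (.node (.node (.node (.node (.node (.leaf 0) (.leaf 0)) (.node (.leaf 315) (.leaf 0))) (.node (.node (.leaf 222) (.leaf 0)) (.leaf 0))) (.node (.node (.node (.leaf 0) (.leaf 5)) (.leaf 0)) (.node (.node (.leaf 0) (.leaf 0)) (.leaf 0)))) (.node (.node (.node (.node (.leaf 0) (.leaf 0)) (.leaf 0)) (.node (.node (.leaf 0) (.leaf 0)) (.leaf 0))) (.node (.node (.node (.leaf 315) (.leaf 12)) (.leaf 0)) (.node (.node (.leaf 0) (.leaf 0)) (.leaf 315))))) (.node (.node (.node (.node (.node (.leaf 0) (.leaf 0)) (.leaf 0)) (.node (.node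 (.leaf 0) (.leaf 0)) (.leaf 0))) (.node (.node (.node (.leaf 315) (.leaf 76)) (.leaf 0)) (.node (.node (.leaf 0) (.leaf 0)) (.leaf 67)))) (.node (.node (.node (.node (.leaf 0) (.leaf 0)) (.leaf 0)) (.node (.node (.leaf 0) (.leaf 243)) (.leaf 0))) (.node (.node (.node (.leaf 0) (.leaf 243)) (.leaf 0)) (.node (.node (.leaf 210) (.leaf 0)) (.leaf 0))))))) (.node (.node (.node (.node (.node (.node (.node (.leaf 315) (.leaf 0)) (.node (.leaf 0) (.leaf 0))) (.node (.node (.leaf 0) (.leaf 0)) (.leaf 315))) (.node (.node (.node (.leaf 0) (.leaf 0)) (.leaf 0)) (.node (.node (.leaf 0) (.leaf 0)) (.leaf 0)))) (.node (.node (.node (.node (.leaf 83) (.leaf 0)) (.leaf 0)) (.node (.node (.leaf 315) (.leaf 0)) (.leaf 0))) (.node (.node (.node (.leaf 0) (.leaf 0)) (.leaf 0)) (.node (.node (.leaf 0) (.leaf 0)) (.leaf 0))))) (.node (.node (.node (.node (.node (.leaf 0) (.leaf 0)) (.leaf 0)) (.node (.node (.leaf 0) (.leaf 0)) (.leaf 0))) (.node (.node (.node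 (.leaf 0) (.leaf 0)) (.leaf 0)) (.node (.node (.leaf 0) (.leaf 0)) (.leaf 0)))) (.node (.node (.node (.node (.leaf 0) (.leaf 0)) (.leaf 0)) (.node (.node (.leaf 0) (.leaf 0)) (.leaf 164))) (.node (.node (.node (.leaf 0) (.leaf 315)) (.leaf 0)) (.node (.node (.leaf 0) (.leaf 0)) (.leaf 0)))))) (.node (.node (.node (.node (.node (.node (.leaf 0) (.leaf 0)) (.leaf 0)) (.node (.node (.leaf 0) (.leaf 0)) (.leaf 0))) (.node (.node (.node (.leaf 0) (.leaf 0)) (.leaf 40)) (.node (.node (.leaf 0) (.leaf 169)) (.leaf 87)))) (.node (.node (.node (.node (.leaf 315) (.leaf 0)) (.leaf 0)) (.node (.node (.leaf 0) (.leaf 0)) (.leaf 0))) (.node (.node (.node (.leaf 0) (.leaf 243)) (.leaf 0)) (.node (.node (.leaf 0) (.leaf 0)) (.leaf 0))))) (.node (.node (.node (.node (.node (.leaf 0) (.leaf 0)) (.leaf 0)) (.node (.node (.leaf 0) (.leaf 0)) (.leaf 0))) (.node (.node (.node (.leaf 0) (.leaf 0)) (.leaf 0)) (.node (.node (.leaf 0) (.leaf 0)) (.leaf 315)))) (.node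 (.node (.node (.node (.leaf 0) (.leaf 41)) (.leaf 0)) (.node (.node (.leaf 0) (.leaf 0)) (.leaf 0))) (.node (.node (.node (.leaf 0) (.leaf 243)) (.leaf 122)) (.node (.node (.leaf 0) (.leaf 0)) (.leaf 0)))))))) (.node (.node (.node (.node (.node (.node (.node (.node (.leaf 0) (.leaf 88)) (.node (.leaf 0) (.leaf 0))) (.node (.node (.leaf 0) (.leaf 315)) (.leaf 0))) (.node (.node (.node (.leaf 0) (.leaf 188)) (.leaf 0)) (.node (.node (.leaf 0) (.leaf 0)) (.leaf 0)))) (.node (.node (.node (.node (.leaf 83) (.leaf 315)) (.leaf 0)) (.node (.node (.leaf 0) (.leaf 311)) (.leaf 0))) (.node (.node (.node (.leaf 0) (.leaf 0)) (.leaf 0)) (.node (.node (.leaf 0) (.leaf 0)) (.leaf 0))))) (.node (.node (.node (.node (.node (.leaf 0) (.leaf 0)) (.leaf 0)) (.node (.node (.leaf 0) (.leaf 0)) (.leaf 0))) (.node (.node (.node (.leaf 234) (.leaf 0)) (.leaf 0)) (.node (.node (.leaf 255) (.leaf 0)) (.leaf 0)))) (.node (.node (.node (.node (.leaf 0) (.leaf 0)) (.leaf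 0)) (.node (.node (.leaf 0) (.leaf 0)) (.leaf 80))) (.node (.node (.node (.leaf 0) (.leaf 243)) (.leaf 0)) (.node (.node (.leaf 0) (.leaf 0)) (.leaf 0)))))) (.node (.node (.node (.node (.node (.node (.leaf 0) (.leaf 38)) (.node (.leaf 314) (.leaf 0))) (.node (.node (.leaf 0) (.leaf 0)) (.leaf 0))) (.node (.node (.node (.leaf 0) (.leaf 315)) (.leaf 209)) (.node (.node (.leaf 0) (.leaf 0)) (.leaf 315)))) (.node (.node (.node (.node (.leaf 0) (.leaf 0)) (.leaf 0)) (.node (.node (.leaf 0) (.leaf 0)) (.leaf 0))) (.node (.node (.node (.leaf 0) (.leaf 36)) (.leaf 0)) (.node (.node (.leaf 0) (.leaf 0)) (.leaf 0))))) (.node (.node (.node (.node (.node (.leaf 0) (.leaf 0)) (.leaf 0)) (.node (.node (.leaf 0) (.leaf 0)) (.leaf 194))) (.node (.node (.node (.leaf 55) (.leaf 315)) (.leaf 0)) (.node (.node (.leaf 0) (.leaf 0)) (.leaf 255)))) (.node (.node (.node (.node (.leaf 0) (.leaf 0)) (.leaf 0)) (.node (.node (.leaf 0) (.leaf 0)) (.leaf 315))) (.node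 (.node (.node (.leaf 0) (.leaf 315)) (.leaf 0)) (.node (.node (.leaf 0) (.leaf 0)) (.leaf 0))))))) (.node (.node (.node (.node (.node (.node (.node (.leaf 315) (.leaf 0)) (.node (.leaf 0) (.leaf 0))) (.node (.node (.leaf 0) (.leaf 0)) (.leaf 0))) (.node (.node (.node (.leaf 0) (.leaf 52)) (.leaf 0)) (.node (.node (.leaf 0) (.leaf 0)) (.leaf 0)))) (.node (.node (.node (.node (.leaf 0) (.leaf 0)) (.leaf 0)) (.node (.node (.leaf 245) (.leaf 0)) (.leaf 0))) (.node (.node (.node (.leaf 0) (.leaf 259)) (.leaf 0)) (.node (.node (.leaf 0) (.leaf 0)) (.leaf 0))))) (.node (.node (.node (.node (.node (.leaf 0) (.leaf 0)) (.leaf 0)) (.node (.node (.leaf 0) (.leaf 0)) (.leaf 0))) (.node (.node (.node (.leaf 0) (.leaf 0)) (.leaf 0)) (.node (.node (.leaf 0) (.leaf 0)) (.leaf 143)))) (.node (.node (.node (.node (.leaf 0) (.leaf 0)) (.leaf 0)) (.node (.node (.leaf 0) (.leaf 315)) (.leaf 0))) (.node (.node (.node (.leaf 303) (.leaf 243)) (.leaf 0)) (.node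 (.node (.leaf 0) (.leaf 0)) (.leaf 122)))))) (.node (.node (.node (.node (.node (.node (.leaf 0) (.leaf 0)) (.leaf 0)) (.node (.node (.leaf 0) (.leaf 0)) (.leaf 0))) (.node (.node (.node (.leaf 0) (.leaf 0)) (.leaf 0)) (.node (.node (.leaf 0) (.leaf 315)) (.leaf 0)))) (.node (.node (.node (.node (.leaf 0) (.leaf 0)) (.leaf 0)) (.node (.node (.leaf 315) (.leaf 0)) (.leaf 0))) (.node (.node (.node (.leaf 137) (.leaf 315)) (.leaf 0)) (.node (.node (.leaf 0) (.leaf 0)) (.leaf 0))))) (.node (.node (.node (.node (.node (.leaf 37) (.leaf 172)) (.leaf 207)) (.node (.node (.leaf 0) (.leaf 0)) (.leaf 0))) (.node (.node (.node (.leaf 0) (.leaf 0)) (.leaf 0)) (.node (.node (.leaf 0) (.leaf 0)) (.leaf 0)))) (.node (.node (.node (.node (.leaf 0) (.leaf 0)) (.leaf 0)) (.node (.node (.leaf 0) (.leaf 0)) (.leaf 0))) (.node (.node (.node (.leaf 0) (.leaf 243)) (.leaf 0)) (.node (.node (.leaf 0) (.leaf 0)) (.leaf 0)))))))))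

def eightTab5 : Janko.Tree (ℕ) :=
  (.node (.node (.node (.node (.node (.node (.node (.node (.node (.leaf 0) (.leaf 160)) (.node (.leaf 0) (.leaf 0))) (.node (.node (.leaf 0) (.leaf 0)) (.leaf 0))) (.node (.node (.node (.leaf 0) (.leaf 0)) (.leaf 0)) (.node (.node (.leaf 124) (.leaf 0)) (.leaf 0)))) (.node (.node (.node (.node (.leaf 0) (.leaf 245)) (.leaf 0)) (.node (.node (.leaf 0) (.leaf 0)) (.leaf 0))) (.node (.node (.node (.leaf 10) (.leaf 0)) (.leaf 0)) (.node (.node (.leaf 0) (.leaf 0)) (.leaf 0))))) (.node (.node (.node (.node (.node (.leaf 0) (.leaf 0)) (.leaf 0)) (.node (.node (.leaf 0) (.leaf 0)) (.leaf 0))) (.node (.node (.node (.leaf 0) (.leaf 0)) (.leaf 0)) (.node (.node (.leaf 0) (.leaf 0)) (.leaf 307)))) (.node (.node (.node (.node (.leaf 15) (.leaf 0)) (.leaf 0)) (.node (.node (.leaf 0) (.leaf 0)) (.leaf 191))) (.node (.node (.node (.leaf 0) (.leaf 315)) (.leaf 0)) (.node (.node (.leaf 0) (.leaf 0)) (.leaf 0)))))) (.node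 (.node (.node (.node (.node (.node (.leaf 0) (.leaf 0)) (.node (.leaf 0) (.leaf 0))) (.node (.node (.leaf 0) (.leaf 0)) (.leaf 0))) (.node (.node (.node (.leaf 0) (.leaf 0)) (.leaf 0)) (.node (.node (.leaf 0) (.leaf 0)) (.leaf 0)))) (.node (.node (.node (.node (.leaf 0) (.leaf 0)) (.leaf 0)) (.node (.node (.leaf 0) (.leaf 0)) (.leaf 0))) (.node (.node (.node (.leaf 0) (.leaf 315)) (.leaf 0)) (.node (.node (.leaf 0) (.leaf 0)) (.leaf 95))))) (.node (.node (.node (.node (.node (.leaf 0) (.leaf 197)) (.leaf 0)) (.node (.node (.leaf 310) (.leaf 0)) (.leaf 0))) (.node (.node (.node (.leaf 0) (.leaf 0)) (.leaf 284)) (.node (.node (.leaf 0) (.leaf 0)) (.leaf 0)))) (.node (.node (.node (.node (.leaf 0) (.leaf 0)) (.leaf 0)) (.node (.node (.leaf 0) (.leaf 243)) (.leaf 0))) (.node (.node (.node (.leaf 0) (.leaf 243)) (.leaf 0)) (.node (.node (.leaf 0) (.leaf 0)) (.leaf 0))))))) (.node (.node (.node (.node (.node (.node (.node (.leaf 315) (.leaf 65))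 (.node (.leaf 0) (.leaf 0))) (.node (.node (.leaf 0) (.leaf 0)) (.leaf 0))) (.node (.node (.node (.leaf 0) (.leaf 0)) (.leaf 0)) (.node (.node (.leaf 0) (.leaf 0)) (.leaf 0)))) (.node (.node (.node (.node (.leaf 0) (.leaf 0)) (.leaf 0)) (.node (.node (.leaf 0) (.leaf 0)) (.leaf 0))) (.node (.node (.node (.leaf 0) (.leaf 0)) (.leaf 0)) (.node (.node (.leaf 0) (.leaf 0)) (.leaf 0))))) (.node (.node (.node (.node (.node (.leaf 0) (.leaf 165)) (.leaf 0)) (.node (.node (.leaf 0) (.leaf 43)) (.leaf 0))) (.node (.node (.node (.leaf 0) (.leaf 0)) (.leaf 0)) (.node (.node (.leaf 0) (.leaf 0)) (.leaf 0)))) (.node (.node (.node (.node (.leaf 126) (.leaf 0)) (.leaf 0)) (.node (.node (.leaf 0) (.leaf 0)) (.leaf 0))) (.node (.node (.node (.leaf 0) (.leaf 243)) (.leaf 0)) (.node (.node (.leaf 0) (.leaf 0)) (.leaf 0)))))) (.node (.node (.node (.node (.node (.node (.leaf 0) (.leaf 61)) (.leaf 0)) (.node (.node (.leaf 315) (.leaf 315)) (.leaf 0))) (.node (.node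 (.node (.leaf 0) (.leaf 0)) (.leaf 0)) (.node (.node (.leaf 0) (.leaf 0)) (.leaf 315)))) (.node (.node (.node (.node (.leaf 0) (.leaf 0)) (.leaf 0)) (.node (.node (.leaf 0) (.leaf 0)) (.leaf 0))) (.node (.node (.node (.leaf 0) (.leaf 243)) (.leaf 315)) (.node (.node (.leaf 0) (.leaf 0)) (.leaf 0))))) (.node (.node (.node (.node (.node (.leaf 0) (.leaf 0)) (.leaf 0)) (.node (.node (.leaf 42) (.leaf 0)) (.leaf 225))) (.node (.node (.node (.leaf 0) (.leaf 111)) (.leaf 0)) (.node (.node (.leaf 0) (.leaf 0)) (.leaf 0)))) (.node (.node (.node (.node (.leaf 0) (.leaf 0)) (.leaf 0)) (.node (.node (.leaf 0) (.leaf 0)) (.leaf 0))) (.node (.node (.node (.leaf 0) (.leaf 315)) (.leaf 0)) (.node (.node (.leaf 0) (.leaf 0)) (.leaf 0)))))))) (.node (.node (.node (.node (.node (.node (.node (.node (.leaf 0) (.leaf 0)) (.node (.leaf 0) (.leaf 0))) (.node (.node (.leaf 179) (.leaf 0)) (.leaf 0))) (.node (.node (.node (.leaf 0) (.leaf 0)) (.leaf 0)) (.node (.node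 (.leaf 0) (.leaf 229)) (.leaf 0)))) (.node (.node (.node (.node (.leaf 0) (.leaf 0)) (.leaf 0)) (.node (.node (.leaf 148) (.leaf 0)) (.leaf 81))) (.node (.node (.node (.leaf 42) (.leaf 0)) (.leaf 0)) (.node (.node (.leaf 0) (.leaf 0)) (.leaf 0))))) (.node (.node (.node (.node (.node (.leaf 0) (.leaf 0)) (.leaf 0)) (.node (.node (.leaf 0) (.leaf 0)) (.leaf 0))) (.node (.node (.node (.leaf 0) (.leaf 0)) (.leaf 0)) (.node (.node (.leaf 0) (.leaf 0)) (.leaf 40)))) (.node (.node (.node (.node (.leaf 0) (.leaf 0)) (.leaf 0)) (.node (.node (.leaf 13) (.leaf 0)) (.leaf 0))) (.node (.node (.node (.leaf 177) (.leaf 243)) (.leaf 0)) (.node (.node (.leaf 0) (.leaf 0)) (.leaf 0)))))) (.node (.node (.node (.node (.node (.node (.leaf 0) (.leaf 0)) (.node (.leaf 0) (.leaf 0))) (.node (.node (.leaf 0) (.leaf 0)) (.leaf 0))) (.node (.node (.node (.leaf 0) (.leaf 0)) (.leaf 0)) (.node (.node (.leaf 0) (.leaf 315)) (.leaf 243)))) (.node (.node (.node (.node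 (.leaf 0) (.leaf 0)) (.leaf 0)) (.node (.node (.leaf 0) (.leaf 0)) (.leaf 0))) (.node (.node (.node (.leaf 294) (.leaf 0)) (.leaf 0)) (.node (.node (.leaf 166) (.leaf 0)) (.leaf 0))))) (.node (.node (.node (.node (.node (.leaf 0) (.leaf 0)) (.leaf 0)) (.node (.node (.leaf 0) (.leaf 0)) (.leaf 0))) (.node (.node (.node (.leaf 0) (.leaf 0)) (.leaf 0)) (.node (.node (.leaf 0) (.leaf 0)) (.leaf 0)))) (.node (.node (.node (.node (.leaf 0) (.leaf 0)) (.leaf 0)) (.node (.node (.leaf 0) (.leaf 0)) (.leaf 243))) (.node (.node (.node (.leaf 0) (.leaf 315)) (.leaf 0)) (.node (.node (.leaf 0) (.leaf 0)) (.leaf 0))))))) (.node (.node (.node (.node (.node (.node (.node (.leaf 315) (.leaf 129)) (.node (.leaf 0) (.leaf 0))) (.node (.node (.leaf 0) (.leaf 183)) (.leaf 206))) (.node (.node (.node (.leaf 0) (.leaf 0)) (.leaf 0)) (.node (.node (.leaf 0) (.leaf 0)) (.leaf 0)))) (.node (.node (.node (.node (.leaf 86) (.leaf 176)) (.leaf 249)) (.node (.node (.leaf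 0) (.leaf 0)) (.leaf 0))) (.node (.node (.node (.leaf 0) (.leaf 0)) (.leaf 0)) (.node (.node (.leaf 0) (.leaf 0)) (.leaf 44))))) (.node (.node (.node (.node (.node (.leaf 0) (.leaf 0)) (.leaf 0)) (.node (.node (.leaf 0) (.leaf 0)) (.leaf 129))) (.node (.node (.node (.leaf 247) (.leaf 0)) (.leaf 0)) (.node (.node (.leaf 32) (.leaf 0)) (.leaf 0)))) (.node (.node (.node (.node (.leaf 0) (.leaf 0)) (.leaf 0)) (.node (.node (.leaf 244) (.leaf 243)) (.leaf 0))) (.node (.node (.node (.leaf 0) (.leaf 243)) (.leaf 0)) (.node (.node (.leaf 0) (.leaf 0)) (.leaf 0)))))) (.node (.node (.node (.node (.node (.node (.leaf 0) (.leaf 229)) (.leaf 0)) (.node (.node (.leaf 0) (.leaf 0)) (.leaf 0))) (.node (.node (.node (.leaf 0) (.leaf 0)) (.leaf 0)) (.node (.node (.leaf 0) (.leaf 0)) (.leaf 40)))) (.node (.node (.node (.node (.leaf 0) (.leaf 0)) (.leaf 0)) (.node (.node (.leaf 0) (.leaf 0)) (.leaf 0))) (.node (.node (.node (.leaf 0) (.leaf 315)) (.leaf 0))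 (.node (.node (.leaf 0) (.leaf 0)) (.leaf 0))))) (.node (.node (.node (.node (.node (.leaf 0) (.leaf 0)) (.leaf 0)) (.node (.node (.leaf 27) (.leaf 0)) (.leaf 0))) (.node (.node (.node (.leaf 0) (.leaf 0)) (.leaf 0)) (.node (.node (.leaf 0) (.leaf 0)) (.leaf 0)))) (.node (.node (.node (.node (.leaf 0) (.leaf 0)) (.leaf 0)) (.node (.node (.leaf 0) (.leaf 0)) (.leaf 0))) (.node (.node (.node (.leaf 203) (.leaf 243)) (.leaf 0)) (.node (.node (.leaf 0) (.leaf 0)) (.leaf 0)))))))))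

def eightTab6 : Janko.Tree (ℕ) :=
  (.node (.node (.node (.node (.node (.node (.node (.node (.node (.leaf 0) (.leaf 0)) (.node (.leaf 0) (.leaf 0))) (.node (.node (.leaf 0) (.leaf 0)) (.leaf 0))) (.node (.node (.node (.leaf 0) (.leaf 0)) (.leaf 0)) (.node (.node (.leaf 0) (.leaf 0)) (.leaf 0)))) (.node (.node (.node (.node (.leaf 0) (.leaf 0)) (.leaf 0)) (.node (.node (.leaf 0) (.leaf 0)) (.leaf 0))) (.node (.node (.node (.leaf 315) (.leaf 0)) (.leaf 0)) (.node (.node (.leaf 0) (.leaf 0)) (.leaf 0))))) (.node (.node (.node (.node (.node (.leaf 0) (.leaf 0)) (.leaf 0)) (.node (.node (.leaf 184) (.leaf 0)) (.leaf 0))) (.node (.node (.node (.leaf 0) (.leaf 0)) (.leaf 0)) (.node (.node (.leaf 0) (.leaf 0)) (.leaf 0)))) (.node (.node (.node (.node (.leaf 0) (.leaf 0)) (.leaf 0)) (.node (.node (.leaf 0) (.leaf 0)) (.leaf 0))) (.node (.node (.node (.leaf 0) (.leaf 315)) (.leaf 0)) (.node (.node (.leaf 0) (.leaf 0)) (.leaf 0)))))) (.node (.node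 (.node (.node (.node (.node (.leaf 0) (.leaf 0)) (.node (.leaf 0) (.leaf 0))) (.node (.node (.leaf 0) (.leaf 0)) (.leaf 0))) (.node (.node (.node (.leaf 0) (.leaf 0)) (.leaf 0)) (.node (.node (.leaf 0) (.leaf 0)) (.leaf 0)))) (.node (.node (.node (.node (.leaf 0) (.leaf 153)) (.leaf 0)) (.node (.node (.leaf 0) (.leaf 0)) (.leaf 0))) (.node (.node (.node (.leaf 0) (.leaf 0)) (.leaf 0)) (.node (.node (.leaf 0) (.leaf 0)) (.leaf 0))))) (.node (.node (.node (.node (.node (.leaf 0) (.leaf 0)) (.leaf 0)) (.node (.node (.leaf 0) (.leaf 0)) (.leaf 185))) (.node (.node (.node (.leaf 0) (.leaf 0)) (.leaf 315)) (.node (.node (.leaf 305) (.leaf 0)) (.leaf 0)))) (.node (.node (.node (.node (.leaf 0) (.leaf 0)) (.leaf 0)) (.node (.node (.leaf 0) (.leaf 315)) (.leaf 0))) (.node (.node (.node (.leaf 0) (.leaf 243)) (.leaf 0)) (.node (.node (.leaf 0) (.leaf 173)) (.leaf 0))))))) (.node (.node (.node (.node (.node (.node (.node (.leaf 315) (.leaf 0)) (.node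 (.leaf 0) (.leaf 168))) (.node (.node (.leaf 286) (.leaf 0)) (.leaf 0))) (.node (.node (.node (.leaf 4) (.leaf 0)) (.leaf 0)) (.node (.node (.leaf 0) (.leaf 186)) (.leaf 0)))) (.node (.node (.node (.node (.leaf 0) (.leaf 0)) (.leaf 0)) (.node (.node (.leaf 0) (.leaf 315)) (.leaf 0))) (.node (.node (.node (.leaf 0) (.leaf 0)) (.leaf 0)) (.node (.node (.leaf 0) (.leaf 0)) (.leaf 184))))) (.node (.node (.node (.node (.node (.leaf 0) (.leaf 0)) (.leaf 1)) (.node (.node (.leaf 0) (.leaf 0)) (.leaf 0))) (.node (.node (.node (.leaf 109) (.leaf 0)) (.leaf 0)) (.node (.node (.leaf 0) (.leaf 0)) (.leaf 0)))) (.node (.node (.node (.node (.leaf 0) (.leaf 0)) (.leaf 0)) (.node (.node (.leaf 0) (.leaf 0)) (.leaf 0))) (.node (.node (.node (.leaf 0) (.leaf 315)) (.leaf 0)) (.node (.node (.leaf 0) (.leaf 0)) (.leaf 0)))))) (.node (.node (.node (.node (.node (.node (.leaf 0) (.leaf 0)) (.leaf 0)) (.node (.node (.leaf 0) (.leaf 0)) (.leaf 0))) (.node (.node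 (.node (.leaf 0) (.leaf 0)) (.leaf 0)) (.node (.node (.leaf 0) (.leaf 0)) (.leaf 0)))) (.node (.node (.node (.node (.leaf 0) (.leaf 0)) (.leaf 0)) (.node (.node (.leaf 0) (.leaf 0)) (.leaf 0))) (.node (.node (.node (.leaf 0) (.leaf 243)) (.leaf 0)) (.node (.node (.leaf 0) (.leaf 0)) (.leaf 0))))) (.node (.node (.node (.node (.node (.leaf 0) (.leaf 0)) (.leaf 0)) (.node (.node (.leaf 0) (.leaf 0)) (.leaf 0))) (.node (.node (.node (.leaf 0) (.leaf 0)) (.leaf 0)) (.node (.node (.leaf 0) (.leaf 0)) (.leaf 0)))) (.node (.node (.node (.node (.leaf 0) (.leaf 0)) (.leaf 0)) (.node (.node (.leaf 0) (.leaf 76)) (.leaf 0))) (.node (.node (.node (.leaf 0) (.leaf 315)) (.leaf 0)) (.node (.node (.leaf 0) (.leaf 7)) (.leaf 0)))))))) (.node (.node (.node (.node (.node (.node (.node (.node (.leaf 0) (.leaf 0)) (.node (.leaf 0) (.leaf 0))) (.node (.node (.leaf 0) (.leaf 0)) (.leaf 0))) (.node (.node (.node (.leaf 0) (.leaf 0)) (.leaf 0)) (.node (.node (.leaf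 0) (.leaf 0)) (.leaf 0)))) (.node (.node (.node (.node (.leaf 0) (.leaf 245)) (.leaf 0)) (.node (.node (.leaf 190) (.leaf 89)) (.leaf 0))) (.node (.node (.node (.leaf 183) (.leaf 0)) (.leaf 0)) (.node (.node (.leaf 0) (.leaf 0)) (.leaf 0))))) (.node (.node (.node (.node (.node (.leaf 0) (.leaf 0)) (.leaf 0)) (.node (.node (.leaf 0) (.leaf 0)) (.leaf 0))) (.node (.node (.node (.leaf 0) (.leaf 315)) (.leaf 0)) (.node (.node (.leaf 0) (.leaf 0)) (.leaf 0)))) (.node (.node (.node (.node (.leaf 0) (.leaf 0)) (.leaf 315)) (.node (.node (.leaf 272) (.leaf 0)) (.leaf 0))) (.node (.node (.node (.leaf 0) (.leaf 315)) (.leaf 0)) (.node (.node (.leaf 0) (.leaf 0)) (.leaf 0)))))) (.node (.node (.node (.node (.node (.node (.leaf 0) (.leaf 0)) (.node (.leaf 0) (.leaf 0))) (.node (.node (.leaf 0) (.leaf 0)) (.leaf 0))) (.node (.node (.node (.leaf 0) (.leaf 0)) (.leaf 0)) (.node (.node (.leaf 0) (.leaf 0)) (.leaf 315)))) (.node (.node (.node (.node (.leaf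 0) (.leaf 0)) (.leaf 0)) (.node (.node (.leaf 186) (.leaf 0)) (.leaf 0))) (.node (.node (.node (.leaf 0) (.leaf 0)) (.leaf 0)) (.node (.node (.leaf 0) (.leaf 0)) (.leaf 0))))) (.node (.node (.node (.node (.node (.leaf 0) (.leaf 0)) (.leaf 0)) (.node (.node (.leaf 172) (.leaf 0)) (.leaf 0))) (.node (.node (.node (.leaf 0) (.leaf 0)) (.leaf 0)) (.node (.node (.leaf 0) (.leaf 0)) (.leaf 0)))) (.node (.node (.node (.node (.leaf 0) (.leaf 91)) (.leaf 315)) (.node (.node (.leaf 0) (.leaf 0)) (.leaf 315))) (.node (.node (.node (.leaf 0) (.leaf 243)) (.leaf 0)) (.node (.node (.leaf 0) (.leaf 0)) (.leaf 0))))))) (.node (.node (.node (.node (.node (.node (.node (.leaf 315) (.leaf 0)) (.node (.leaf 0) (.leaf 100))) (.node (.node (.leaf 0) (.leaf 0)) (.leaf 178))) (.node (.node (.node (.leaf 0) (.leaf 0)) (.leaf 0)) (.node (.node (.leaf 160) (.leaf 246)) (.leaf 0)))) (.node (.node (.node (.node (.leaf 0) (.leaf 0)) (.leaf 0)) (.node (.node (.leaf 0)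 (.leaf 0)) (.leaf 0))) (.node (.node (.node (.leaf 0) (.leaf 0)) (.leaf 0)) (.node (.node (.leaf 133) (.leaf 0)) (.leaf 0))))) (.node (.node (.node (.node (.node (.leaf 0) (.leaf 90)) (.leaf 0)) (.node (.node (.leaf 0) (.leaf 0)) (.leaf 0))) (.node (.node (.node (.leaf 0) (.leaf 28)) (.leaf 0)) (.node (.node (.leaf 0) (.leaf 0)) (.leaf 41)))) (.node (.node (.node (.node (.leaf 0) (.leaf 315)) (.leaf 0)) (.node (.node (.leaf 0) (.leaf 243)) (.leaf 0))) (.node (.node (.node (.leaf 0) (.leaf 243)) (.leaf 315)) (.node (.node (.leaf 0) (.leaf 0)) (.leaf 0)))))) (.node (.node (.node (.node (.node (.node (.leaf 0) (.leaf 0)) (.leaf 0)) (.node (.node (.leaf 0) (.leaf 0)) (.leaf 44))) (.node (.node (.node (.leaf 0) (.leaf 0)) (.leaf 0)) (.node (.node (.leaf 0) (.leaf 0)) (.leaf 0)))) (.node (.node (.node (.node (.leaf 0) (.leaf 0)) (.leaf 0)) (.node (.node (.leaf 0) (.leaf 0)) (.leaf 0))) (.node (.node (.node (.leaf 0) (.leaf 315)) (.leaf 0)) (.node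 (.node (.leaf 0) (.leaf 0)) (.leaf 0))))) (.node (.node (.node (.node (.node (.leaf 0) (.leaf 0)) (.leaf 179)) (.node (.node (.leaf 0) (.leaf 0)) (.leaf 0))) (.node (.node (.node (.leaf 0) (.leaf 0)) (.leaf 0)) (.node (.node (.leaf 22) (.leaf 0)) (.leaf 185)))) (.node (.node (.node (.node (.leaf 0) (.leaf 0)) (.leaf 0)) (.node (.node (.leaf 0) (.leaf 76)) (.leaf 0))) (.node (.node (.node (.leaf 285) (.leaf 243)) (.leaf 0)) (.node (.node (.leaf 297) (.leaf 0)) (.leaf 0)))))))))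

def eightTab7 : Janko.Tree (ℕ) :=
  (.node (.node (.node (.node (.node (.node (.node (.node (.node (.leaf 0) (.leaf 0)) (.node (.leaf 0) (.leaf 0))) (.node (.node (.leaf 274) (.leaf 5)) (.leaf 0))) (.node (.node (.node (.leaf 0) (.leaf 0)) (.leaf 0)) (.node (.node (.leaf 0) (.leaf 0)) (.leaf 0)))) (.node (.node (.node (.node (.leaf 0) (.leaf 0)) (.leaf 0)) (.node (.node (.leaf 0) (.leaf 0)) (.leaf 0))) (.node (.node (.node (.leaf 0) (.leaf 0)) (.leaf 0)) (.node (.node (.leaf 0) (.leaf 0)) (.leaf 0))))) (.node (.node (.node (.node (.node (.leaf 0) (.leaf 0)) (.leaf 0)) (.node (.node (.leaf 0) (.leaf 0)) (.leaf 0))) (.node (.node (.node (.leaf 0) (.leaf 0)) (.leaf 0)) (.node (.node (.leaf 315) (.leaf 0)) (.leaf 0)))) (.node (.node (.node (.node (.leaf 0) (.leaf 0)) (.leaf 0)) (.node (.node (.leaf 0) (.leaf 0)) (.leaf 0))) (.node (.node (.node (.leaf 0) (.leaf 315)) (.leaf 0)) (.node (.node (.leaf 0) (.leaf 0)) (.leaf 0)))))) (.node (.node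 (.node (.node (.node (.node (.leaf 0) (.leaf 205)) (.node (.leaf 0) (.leaf 0))) (.node (.node (.leaf 0) (.leaf 251)) (.leaf 0))) (.node (.node (.node (.leaf 0) (.leaf 0)) (.leaf 0)) (.node (.node (.leaf 0) (.leaf 0)) (.leaf 0)))) (.node (.node (.node (.node (.leaf 0) (.leaf 0)) (.leaf 121)) (.node (.node (.leaf 0) (.leaf 315)) (.leaf 0))) (.node (.node (.node (.leaf 0) (.leaf 134)) (.leaf 0)) (.node (.node (.leaf 0) (.leaf 0)) (.leaf 0))))) (.node (.node (.node (.node (.node (.leaf 0) (.leaf 0)) (.leaf 0)) (.node (.node (.leaf 0) (.leaf 0)) (.leaf 0))) (.node (.node (.node (.leaf 202) (.leaf 0)) (.leaf 0)) (.node (.node (.leaf 2) (.leaf 0)) (.leaf 0)))) (.node (.node (.node (.node (.leaf 0) (.leaf 0)) (.leaf 0)) (.node (.node (.leaf 0) (.leaf 315)) (.leaf 0))) (.node (.node (.node (.leaf 0) (.leaf 315)) (.leaf 0)) (.node (.node (.leaf 0) (.leaf 0)) (.leaf 0))))))) (.node (.node (.node (.node (.node (.node (.node (.leaf 315) (.leaf 0)) (.node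 (.leaf 0) (.leaf 0))) (.node (.node (.leaf 0) (.leaf 0)) (.leaf 0))) (.node (.node (.node (.leaf 0) (.leaf 0)) (.leaf 0)) (.node (.node (.leaf 0) (.leaf 58)) (.leaf 0)))) (.node (.node (.node (.node (.leaf 0) (.leaf 0)) (.leaf 0)) (.node (.node (.leaf 0) (.leaf 69)) (.leaf 259))) (.node (.node (.node (.leaf 0) (.leaf 0)) (.leaf 0)) (.node (.node (.leaf 0) (.leaf 0)) (.leaf 0))))) (.node (.node (.node (.node (.node (.leaf 131) (.leaf 0)) (.leaf 0)) (.node (.node (.leaf 0) (.leaf 0)) (.leaf 229))) (.node (.node (.node (.leaf 315) (.leaf 0)) (.leaf 0)) (.node (.node (.leaf 0) (.leaf 0)) (.leaf 0)))) (.node (.node (.node (.node (.leaf 0) (.leaf 0)) (.leaf 0)) (.node (.node (.leaf 0) (.leaf 0)) (.leaf 156))) (.node (.node (.node (.leaf 0) (.leaf 315)) (.leaf 207)) (.node (.node (.leaf 0) (.leaf 0)) (.leaf 0)))))) (.node (.node (.node (.node (.node (.node (.leaf 0) (.leaf 219)) (.leaf 0)) (.node (.node (.leaf 0) (.leaf 0)) (.leaf 114))) (.node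 (.node (.node (.leaf 0) (.leaf 0)) (.leaf 223)) (.node (.node (.leaf 0) (.leaf 0)) (.leaf 0)))) (.node (.node (.node (.node (.leaf 39) (.leaf 0)) (.leaf 0)) (.node (.node (.leaf 0) (.leaf 0)) (.leaf 0))) (.node (.node (.node (.leaf 0) (.leaf 315)) (.leaf 0)) (.node (.node (.leaf 0) (.leaf 0)) (.leaf 0))))) (.node (.node (.node (.node (.node (.leaf 0) (.leaf 0)) (.leaf 0)) (.node (.node (.leaf 0) (.leaf 0)) (.leaf 0))) (.node (.node (.node (.leaf 0) (.leaf 0)) (.leaf 0)) (.node (.node (.leaf 0) (.leaf 0)) (.leaf 41)))) (.node (.node (.node (.node (.leaf 0) (.leaf 0)) (.leaf 0)) (.node (.node (.leaf 0) (.leaf 162)) (.leaf 0))) (.node (.node (.node (.leaf 0) (.leaf 243)) (.leaf 0)) (.node (.node (.leaf 0) (.leaf 0)) (.leaf 0)))))))) (.node (.node (.node (.node (.node (.node (.node (.node (.leaf 0) (.leaf 0)) (.node (.leaf 107) (.leaf 0))) (.node (.node (.leaf 0) (.leaf 0)) (.leaf 0))) (.node (.node (.node (.leaf 0) (.leaf 0)) (.leaf 0)) (.node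 (.node (.leaf 0) (.leaf 0)) (.leaf 0)))) (.node (.node (.node (.node (.leaf 97) (.leaf 0)) (.leaf 0)) (.node (.node (.leaf 0) (.leaf 0)) (.leaf 0))) (.node (.node (.node (.leaf 0) (.leaf 0)) (.leaf 315)) (.node (.node (.leaf 0) (.leaf 0)) (.leaf 179))))) (.node (.node (.node (.node (.node (.leaf 0) (.leaf 0)) (.leaf 0)) (.node (.node (.leaf 0) (.leaf 0)) (.leaf 0))) (.node (.node (.node (.leaf 0) (.leaf 0)) (.leaf 0)) (.node (.node (.leaf 0) (.leaf 0)) (.leaf 0)))) (.node (.node (.node (.node (.leaf 0) (.leaf 0)) (.leaf 0)) (.node (.node (.leaf 0) (.leaf 0)) (.leaf 0))) (.node (.node (.node (.leaf 0) (.leaf 243)) (.leaf 0)) (.node (.node (.leaf 84) (.leaf 0)) (.leaf 0)))))) (.node (.node (.node (.node (.node (.node (.leaf 0) (.leaf 315)) (.node (.leaf 0) (.leaf 0))) (.node (.node (.leaf 0) (.leaf 0)) (.leaf 0))) (.node (.node (.node (.leaf 0) (.leaf 0)) (.leaf 0)) (.node (.node (.leaf 0) (.leaf 0)) (.leaf 243)))) (.node (.node (.node (.node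 (.leaf 0) (.leaf 0)) (.leaf 0)) (.node (.node (.leaf 0) (.leaf 0)) (.leaf 0))) (.node (.node (.node (.leaf 0) (.leaf 0)) (.leaf 0)) (.node (.node (.leaf 0) (.leaf 0)) (.leaf 0))))) (.node (.node (.node (.node (.node (.leaf 0) (.leaf 0)) (.leaf 0)) (.node (.node (.leaf 0) (.leaf 0)) (.leaf 0))) (.node (.node (.node (.leaf 0) (.leaf 143)) (.leaf 0)) (.node (.node (.leaf 0) (.leaf 0)) (.leaf 0)))) (.node (.node (.node (.node (.leaf 0) (.leaf 0)) (.leaf 0)) (.node (.node (.leaf 0) (.leaf 0)) (.leaf 243))) (.node (.node (.node (.leaf 0) (.leaf 243)) (.leaf 0)) (.node (.node (.leaf 0) (.leaf 0)) (.leaf 0))))))) (.node (.node (.node (.node (.node (.node (.node (.leaf 0) (.leaf 0)) (.node (.leaf 0) (.leaf 0))) (.node (.node (.leaf 0) (.leaf 0)) (.leaf 0))) (.node (.node (.node (.leaf 0) (.leaf 0)) (.leaf 0)) (.node (.node (.leaf 0) (.leaf 0)) (.leaf 0)))) (.node (.node (.node (.node (.leaf 0) (.leaf 0)) (.leaf 0)) (.node (.node (.leaf 0) (.leaf 0))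 (.leaf 71))) (.node (.node (.node (.leaf 0) (.leaf 214)) (.leaf 0)) (.node (.node (.leaf 0) (.leaf 0)) (.leaf 0))))) (.node (.node (.node (.node (.node (.leaf 0) (.leaf 315)) (.leaf 0)) (.node (.node (.leaf 0) (.leaf 0)) (.leaf 0))) (.node (.node (.node (.leaf 0) (.leaf 0)) (.leaf 0)) (.node (.node (.leaf 0) (.leaf 0)) (.leaf 0)))) (.node (.node (.node (.node (.leaf 0) (.leaf 0)) (.leaf 0)) (.node (.node (.leaf 0) (.leaf 243)) (.leaf 0))) (.node (.node (.node (.leaf 0) (.leaf 243)) (.leaf 0)) (.node (.node (.leaf 0) (.leaf 0)) (.leaf 0)))))) (.node (.node (.node (.node (.node (.node (.leaf 0) (.leaf 0)) (.leaf 0)) (.node (.node (.leaf 0) (.leaf 0)) (.leaf 0))) (.node (.node (.node (.leaf 0) (.leaf 0)) (.leaf 0)) (.node (.node (.leaf 0) (.leaf 125)) (.leaf 0)))) (.node (.node (.node (.node (.leaf 0) (.leaf 284)) (.leaf 0)) (.node (.node (.leaf 0) (.leaf 0)) (.leaf 0))) (.node (.node (.node (.leaf 0) (.leaf 243)) (.leaf 0)) (.node (.node (.leaf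 112) (.leaf 0)) (.leaf 0))))) (.node (.node (.node (.node (.node (.leaf 250) (.leaf 0)) (.leaf 0)) (.node (.node (.leaf 0) (.leaf 0)) (.leaf 0))) (.node (.node (.node (.leaf 0) (.leaf 0)) (.leaf 0)) (.node (.node (.leaf 0) (.leaf 0)) (.leaf 0)))) (.node (.node (.node (.node (.leaf 14) (.leaf 0)) (.leaf 0)) (.node (.node (.leaf 0) (.leaf 0)) (.leaf 0))) (.node (.node (.node (.leaf 0) (.leaf 243)) (.leaf 0)) (.node (.node (.leaf 0) (.leaf 0)) (.leaf 0)))))))))

def eightTab8 : Janko.Tree (ℕ) :=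
  (.node (.node (.node (.node (.node (.node (.node (.node (.node (.leaf 0) (.leaf 258)) (.node (.leaf 248) (.leaf 0))) (.node (.node (.leaf 0) (.leaf 0)) (.leaf 0))) (.node (.node (.node (.leaf 315) (.leaf 0)) (.leaf 296)) (.node (.node (.leaf 0) (.leaf 58)) (.leaf 0)))) (.node (.node (.node (.node (.leaf 0) (.leaf 245)) (.leaf 0)) (.node (.node (.leaf 0) (.leaf 0)) (.leaf 0))) (.node (.node (.node (.leaf 0) (.leaf 0)) (.leaf 0)) (.node (.node (.leaf 0) (.leaf 0)) (.leaf 0))))) (.node (.node (.node (.node (.node (.leaf 0) (.leaf 0)) (.leaf 0)) (.node (.node (.leaf 0) (.leaf 0)) (.leaf 0))) (.node (.node (.node (.leaf 101) (.leaf 0)) (.leaf 0)) (.node (.node (.leaf 94) (.leaf 0)) (.leaf 87)))) (.node (.node (.node (.node (.leaf 0) (.leaf 0)) (.leaf 201)) (.node (.node (.leaf 0) (.leaf 0)) (.leaf 59))) (.node (.node (.node (.leaf 0) (.leaf 315)) (.leaf 0)) (.node (.node (.leaf 0) (.leaf 0)) (.leaf 0)))))) (.node (.node (.node (.node (.node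 (.node (.leaf 0) (.leaf 0)) (.node (.leaf 0) (.leaf 0))) (.node (.node (.leaf 0) (.leaf 0)) (.leaf 145))) (.node (.node (.node (.leaf 0) (.leaf 11)) (.leaf 0)) (.node (.node (.leaf 0) (.leaf 157)) (.leaf 0)))) (.node (.node (.node (.node (.leaf 0) (.leaf 0)) (.leaf 190)) (.node (.node (.leaf 0) (.leaf 315)) (.leaf 0))) (.node (.node (.node (.leaf 0) (.leaf 0)) (.leaf 0)) (.node (.node (.leaf 0) (.leaf 0)) (.leaf 0))))) (.node (.node (.node (.node (.node (.leaf 111) (.leaf 0)) (.leaf 91)) (.node (.node (.leaf 12) (.leaf 0)) (.leaf 0))) (.node (.node (.node (.leaf 0) (.leaf 0)) (.leaf 171)) (.node (.node (.leaf 0) (.leaf 0)) (.leaf 0)))) (.node (.node (.node (.node (.leaf 0) (.leaf 0)) (.leaf 0)) (.node (.node (.leaf 0) (.leaf 243)) (.leaf 0))) (.node (.node (.node (.leaf 0) (.leaf 315)) (.leaf 0)) (.node (.node (.leaf 0) (.leaf 0)) (.leaf 0))))))) (.node (.node (.node (.node (.node (.node (.node (.leaf 315) (.leaf 0)) (.node (.leaf 0) (.leaf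 0))) (.node (.node (.leaf 0) (.leaf 0)) (.leaf 0))) (.node (.node (.node (.leaf 0) (.leaf 0)) (.leaf 0)) (.node (.node (.leaf 0) (.leaf 0)) (.leaf 0)))) (.node (.node (.node (.node (.leaf 0) (.leaf 0)) (.leaf 0)) (.node (.node (.leaf 0) (.leaf 0)) (.leaf 0))) (.node (.node (.node (.leaf 0) (.leaf 0)) (.leaf 0)) (.node (.node (.leaf 0) (.leaf 0)) (.leaf 0))))) (.node (.node (.node (.node (.node (.leaf 0) (.leaf 0)) (.leaf 0)) (.node (.node (.leaf 0) (.leaf 0)) (.leaf 0))) (.node (.node (.node (.leaf 160) (.leaf 0)) (.leaf 0)) (.node (.node (.leaf 0) (.leaf 0)) (.leaf 204)))) (.node (.node (.node (.node (.leaf 0) (.leaf 0)) (.leaf 41)) (.node (.node (.leaf 0) (.leaf 0)) (.leaf 0))) (.node (.node (.node (.leaf 0) (.leaf 315)) (.leaf 0)) (.node (.node (.leaf 0) (.leaf 0)) (.leaf 0)))))) (.node (.node (.node (.node (.node (.node (.leaf 0) (.leaf 110)) (.leaf 0)) (.node (.node (.leaf 197) (.leaf 0)) (.leaf 0))) (.node (.node (.node (.leaf 0) (.leaf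 0)) (.leaf 0)) (.node (.node (.leaf 0) (.leaf 52)) (.leaf 0)))) (.node (.node (.node (.node (.leaf 0) (.leaf 0)) (.leaf 0)) (.node (.node (.leaf 0) (.leaf 0)) (.leaf 0))) (.node (.node (.node (.leaf 34) (.leaf 243)) (.leaf 0)) (.node (.node (.leaf 0) (.leaf 0)) (.leaf 0))))) (.node (.node (.node (.node (.node (.leaf 0) (.leaf 0)) (.leaf 0)) (.node (.node (.leaf 0) (.leaf 0)) (.leaf 0))) (.node (.node (.node (.leaf 0) (.leaf 0)) (.leaf 0)) (.node (.node (.leaf 0) (.leaf 0)) (.leaf 0)))) (.node (.node (.node (.node (.leaf 0) (.leaf 0)) (.leaf 0)) (.node (.node (.leaf 0) (.leaf 46)) (.leaf 0))) (.node (.node (.node (.leaf 111) (.leaf 243)) (.leaf 0)) (.node (.node (.leaf 0) (.leaf 0)) (.leaf 0)))))))) (.node (.node (.node (.node (.node (.node (.node (.node (.leaf 0) (.leaf 0)) (.node (.leaf 0) (.leaf 0))) (.node (.node (.leaf 0) (.leaf 0)) (.leaf 0))) (.node (.node (.node (.leaf 0) (.leaf 0)) (.leaf 0)) (.node (.node (.leaf 0) (.leaf 0)) (.leaf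 0)))) (.node (.node (.node (.node (.leaf 0) (.leaf 0)) (.leaf 0)) (.node (.node (.leaf 0) (.leaf 212)) (.leaf 0))) (.node (.node (.node (.leaf 0) (.leaf 0)) (.leaf 0)) (.node (.node (.leaf 29) (.leaf 0)) (.leaf 0))))) (.node (.node (.node (.node (.node (.leaf 0) (.leaf 186)) (.leaf 0)) (.node (.node (.leaf 0) (.leaf 0)) (.leaf 0))) (.node (.node (.node (.leaf 0) (.leaf 0)) (.leaf 0)) (.node (.node (.leaf 0) (.leaf 0)) (.leaf 0)))) (.node (.node (.node (.node (.leaf 0) (.leaf 0)) (.leaf 0)) (.node (.node (.leaf 0) (.leaf 0)) (.leaf 0))) (.node (.node (.node (.leaf 0) (.leaf 315)) (.leaf 180)) (.node (.node (.leaf 0) (.leaf 0)) (.leaf 0)))))) (.node (.node (.node (.node (.node (.node (.leaf 0) (.leaf 66)) (.node (.leaf 0) (.leaf 0))) (.node (.node (.leaf 0) (.leaf 0)) (.leaf 0))) (.node (.node (.node (.leaf 0) (.leaf 0)) (.leaf 63)) (.node (.node (.leaf 0) (.leaf 0)) (.leaf 315)))) (.node (.node (.node (.node (.leaf 20) (.leaf 222)) (.leaf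 0)) (.node (.node (.leaf 0) (.leaf 0)) (.leaf 0))) (.node (.node (.node (.leaf 0) (.leaf 0)) (.leaf 0)) (.node (.node (.leaf 0) (.leaf 0)) (.leaf 0))))) (.node (.node (.node (.node (.node (.leaf 0) (.leaf 0)) (.leaf 0)) (.node (.node (.leaf 0) (.leaf 0)) (.leaf 0))) (.node (.node (.node (.leaf 183) (.leaf 0)) (.leaf 0)) (.node (.node (.leaf 0) (.leaf 0)) (.leaf 0)))) (.node (.node (.node (.node (.leaf 0) (.leaf 0)) (.leaf 0)) (.node (.node (.leaf 0) (.leaf 0)) (.leaf 315))) (.node (.node (.node (.leaf 0) (.leaf 315)) (.leaf 0)) (.node (.node (.leaf 0) (.leaf 0)) (.leaf 0))))))) (.node (.node (.node (.node (.node (.node (.node (.leaf 0) (.leaf 0)) (.node (.leaf 0) (.leaf 0))) (.node (.node (.leaf 0) (.leaf 0)) (.leaf 0))) (.node (.node (.node (.leaf 0) (.leaf 0)) (.leaf 0)) (.node (.node (.leaf 0) (.leaf 58)) (.leaf 0)))) (.node (.node (.node (.node (.leaf 0) (.leaf 0)) (.leaf 0)) (.node (.node (.leaf 0) (.leaf 187)) (.leaf 179))) (.node (.node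 (.node (.leaf 0) (.leaf 0)) (.leaf 0)) (.node (.node (.leaf 0) (.leaf 0)) (.leaf 0))))) (.node (.node (.node (.node (.node (.leaf 0) (.leaf 0)) (.leaf 0)) (.node (.node (.leaf 294) (.leaf 0)) (.leaf 34))) (.node (.node (.node (.leaf 0) (.leaf 0)) (.leaf 173)) (.node (.node (.leaf 266) (.leaf 0)) (.leaf 0)))) (.node (.node (.node (.node (.leaf 0) (.leaf 0)) (.leaf 0)) (.node (.node (.leaf 0) (.leaf 243)) (.leaf 211))) (.node (.node (.node (.leaf 18) (.leaf 243)) (.leaf 0)) (.node (.node (.leaf 310) (.leaf 315)) (.leaf 20)))))) (.node (.node (.node (.node (.node (.node (.leaf 0) (.leaf 0)) (.leaf 0)) (.node (.node (.leaf 0) (.leaf 0)) (.leaf 0))) (.node (.node (.node (.leaf 0) (.leaf 0)) (.leaf 0)) (.node (.node (.leaf 0) (.leaf 0)) (.leaf 0)))) (.node (.node (.node (.node (.leaf 0) (.leaf 200)) (.leaf 0)) (.node (.node (.leaf 0) (.leaf 0)) (.leaf 106))) (.node (.node (.node (.leaf 0) (.leaf 243)) (.leaf 0)) (.node (.node (.leaf 0) (.leaf 0))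 (.leaf 0))))) (.node (.node (.node (.node (.node (.leaf 0) (.leaf 0)) (.leaf 0)) (.node (.node (.leaf 0) (.leaf 0)) (.leaf 0))) (.node (.node (.node (.leaf 212) (.leaf 0)) (.leaf 0)) (.node (.node (.leaf 0) (.leaf 0)) (.leaf 3)))) (.node (.node (.node (.node (.leaf 0) (.leaf 0)) (.leaf 0)) (.node (.node (.leaf 71) (.leaf 0)) (.leaf 0))) (.node (.node (.node (.leaf 0) (.leaf 243)) (.leaf 0)) (.node (.node (.leaf 0) (.leaf 0)) (.leaf 0)))))))))

def eightTab9 : Janko.Tree (ℕ) :=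
  (.node (.node (.node (.node (.node (.node (.node (.node (.node (.leaf 0) (.leaf 0)) (.node (.leaf 0) (.leaf 0))) (.node (.node (.leaf 0) (.leaf 204)) (.leaf 0))) (.node (.node (.node (.leaf 0) (.leaf 52)) (.leaf 0)) (.node (.node (.leaf 0) (.leaf 315)) (.leaf 0)))) (.node (.node (.node (.node (.leaf 0) (.leaf 245)) (.leaf 0)) (.node (.node (.leaf 0) (.leaf 0)) (.leaf 0))) (.node (.node (.node (.leaf 0) (.leaf 0)) (.leaf 0)) (.node (.node (.leaf 0) (.leaf 0)) (.leaf 0))))) (.node (.node (.node (.node (.node (.leaf 0) (.leaf 162)) (.leaf 0)) (.node (.node (.leaf 0) (.leaf 0)) (.leaf 0))) (.node (.node (.node (.leaf 0) (.leaf 0)) (.leaf 0)) (.node (.node (.leaf 129) (.leaf 0)) (.leaf 0)))) (.node (.node (.node (.node (.leaf 203) (.leaf 0)) (.leaf 0)) (.node (.node (.leaf 176) (.leaf 0)) (.leaf 0))) (.node (.node (.node (.leaf 0) (.leaf 243)) (.leaf 0)) (.node (.node (.leaf 0) (.leaf 0)) (.leaf 0)))))) (.node (.node (.node (.node (.node (.node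 (.leaf 0) (.leaf 212)) (.node (.leaf 0) (.leaf 0))) (.node (.node (.leaf 0) (.leaf 0)) (.leaf 0))) (.node (.node (.node (.leaf 0) (.leaf 0)) (.leaf 0)) (.node (.node (.leaf 0) (.leaf 0)) (.leaf 243)))) (.node (.node (.node (.node (.leaf 0) (.leaf 0)) (.leaf 0)) (.node (.node (.leaf 0) (.leaf 315)) (.leaf 0))) (.node (.node (.node (.leaf 0) (.leaf 315)) (.leaf 0)) (.node (.node (.leaf 0) (.leaf 0)) (.leaf 0))))) (.node (.node (.node (.node (.node (.leaf 0) (.leaf 0)) (.leaf 0)) (.node (.node (.leaf 0) (.leaf 258)) (.leaf 0))) (.node (.node (.node (.leaf 0) (.leaf 0)) (.leaf 0)) (.node (.node (.leaf 0) (.leaf 0)) (.leaf 0)))) (.node (.node (.node (.node (.leaf 0) (.leaf 0)) (.leaf 315)) (.node (.node (.leaf 0) (.leaf 0)) (.leaf 0))) (.node (.node (.node (.leaf 0) (.leaf 315)) (.leaf 0)) (.node (.node (.leaf 65) (.leaf 234)) (.leaf 0))))))) (.node (.node (.node (.node (.node (.node (.node (.leaf 315) (.leaf 0)) (.node (.leaf 0) (.leaf 0))) (.node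 (.node (.leaf 138) (.leaf 0)) (.leaf 0))) (.node (.node (.node (.leaf 0) (.leaf 0)) (.leaf 0)) (.node (.node (.leaf 0) (.leaf 0)) (.leaf 0)))) (.node (.node (.node (.node (.leaf 0) (.leaf 0)) (.leaf 0)) (.node (.node (.leaf 0) (.leaf 0)) (.leaf 205))) (.node (.node (.node (.leaf 0) (.leaf 0)) (.leaf 0)) (.node (.node (.leaf 0) (.leaf 0)) (.leaf 0))))) (.node (.node (.node (.node (.node (.leaf 0) (.leaf 0)) (.leaf 0)) (.node (.node (.leaf 160) (.leaf 0)) (.leaf 0))) (.node (.node (.node (.leaf 0) (.leaf 0)) (.leaf 0)) (.node (.node (.leaf 0) (.leaf 0)) (.leaf 0)))) (.node (.node (.node (.node (.leaf 0) (.leaf 0)) (.leaf 0)) (.node (.node (.leaf 0) (.leaf 0)) (.leaf 0))) (.node (.node (.node (.leaf 0) (.leaf 315)) (.leaf 0)) (.node (.node (.leaf 0) (.leaf 0)) (.leaf 0)))))) (.node (.node (.node (.node (.node (.node (.leaf 0) (.leaf 315)) (.leaf 255)) (.node (.node (.leaf 0) (.leaf 0)) (.leaf 0))) (.node (.node (.node (.leaf 273) (.leaf 0))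 (.leaf 0)) (.node (.node (.leaf 0) (.leaf 30)) (.leaf 232)))) (.node (.node (.node (.node (.leaf 0) (.leaf 0)) (.leaf 0)) (.node (.node (.leaf 0) (.leaf 0)) (.leaf 0))) (.node (.node (.node (.leaf 0) (.leaf 243)) (.leaf 0)) (.node (.node (.leaf 0) (.leaf 0)) (.leaf 0))))) (.node (.node (.node (.node (.node (.leaf 0) (.leaf 289)) (.leaf 0)) (.node (.node (.leaf 0) (.leaf 0)) (.leaf 0))) (.node (.node (.node (.leaf 234) (.leaf 0)) (.leaf 0)) (.node (.node (.leaf 0) (.leaf 0)) (.leaf 315)))) (.node (.node (.node (.node (.leaf 0) (.leaf 0)) (.leaf 0)) (.node (.node (.leaf 0) (.leaf 0)) (.leaf 0))) (.node (.node (.node (.leaf 0) (.leaf 315)) (.leaf 0)) (.node (.node (.leaf 0) (.leaf 0)) (.leaf 0)))))))) (.node (.node (.node (.node (.node (.node (.node (.node (.leaf 0) (.leaf 63)) (.node (.leaf 0) (.leaf 51))) (.node (.node (.leaf 0) (.leaf 0)) (.leaf 0))) (.node (.node (.node (.leaf 0) (.leaf 0)) (.leaf 304)) (.node (.node (.leaf 248) (.leaf 38))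 (.leaf 0)))) (.node (.node (.node (.node (.leaf 0) (.leaf 0)) (.leaf 0)) (.node (.node (.leaf 304) (.leaf 0)) (.leaf 0))) (.node (.node (.node (.leaf 0) (.leaf 0)) (.leaf 0)) (.node (.node (.leaf 0) (.leaf 0)) (.leaf 0))))) (.node (.node (.node (.node (.node (.leaf 315) (.leaf 60)) (.leaf 288)) (.node (.node (.leaf 0) (.leaf 0)) (.leaf 0))) (.node (.node (.node (.leaf 0) (.leaf 0)) (.leaf 0)) (.node (.node (.leaf 0) (.leaf 0)) (.leaf 0)))) (.node (.node (.node (.node (.leaf 0) (.leaf 0)) (.leaf 0)) (.node (.node (.leaf 0) (.leaf 0)) (.leaf 0))) (.node (.node (.node (.leaf 0) (.leaf 243)) (.leaf 0)) (.node (.node (.leaf 0) (.leaf 0)) (.leaf 0)))))) (.node (.node (.node (.node (.node (.node (.leaf 0) (.leaf 0)) (.node (.leaf 198) (.leaf 7))) (.node (.node (.leaf 0) (.leaf 0)) (.leaf 304))) (.node (.node (.node (.leaf 0) (.leaf 0)) (.leaf 0)) (.node (.node (.leaf 0) (.leaf 0)) (.leaf 0)))) (.node (.node (.node (.node (.leaf 0) (.leaf 0)) (.leaf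 0)) (.node (.node (.leaf 0) (.leaf 0)) (.leaf 0))) (.node (.node (.node (.leaf 0) (.leaf 0)) (.leaf 0)) (.node (.node (.leaf 0) (.leaf 0)) (.leaf 0))))) (.node (.node (.node (.node (.node (.leaf 0) (.leaf 0)) (.leaf 0)) (.node (.node (.leaf 0) (.leaf 198)) (.leaf 0))) (.node (.node (.node (.leaf 0) (.leaf 0)) (.leaf 0)) (.node (.node (.leaf 0) (.leaf 0)) (.leaf 0)))) (.node (.node (.node (.node (.leaf 0) (.leaf 0)) (.leaf 0)) (.node (.node (.leaf 0) (.leaf 0)) (.leaf 243))) (.node (.node (.node (.leaf 0) (.leaf 315)) (.leaf 0)) (.node (.node (.leaf 0) (.leaf 0)) (.leaf 0))))))) (.node (.node (.node (.node (.node (.node (.node (.leaf 0) (.leaf 0)) (.node (.leaf 0) (.leaf 0))) (.node (.node (.leaf 0) (.leaf 0)) (.leaf 0))) (.node (.node (.node (.leaf 184) (.leaf 0)) (.leaf 0)) (.node (.node (.leaf 0) (.leaf 0)) (.leaf 0)))) (.node (.node (.node (.node (.leaf 306) (.leaf 0)) (.leaf 0)) (.node (.node (.leaf 0) (.leaf 0)) (.leaf 0))) (.node (.node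 (.node (.leaf 225) (.leaf 0)) (.leaf 0)) (.node (.node (.leaf 90) (.leaf 0)) (.leaf 0))))) (.node (.node (.node (.node (.node (.leaf 0) (.leaf 0)) (.leaf 0)) (.node (.node (.leaf 239) (.leaf 0)) (.leaf 0))) (.node (.node (.node (.leaf 0) (.leaf 0)) (.leaf 0)) (.node (.node (.leaf 0) (.leaf 0)) (.leaf 0)))) (.node (.node (.node (.node (.leaf 0) (.leaf 0)) (.leaf 0)) (.node (.node (.leaf 0) (.leaf 243)) (.leaf 0))) (.node (.node (.node (.leaf 95) (.leaf 315)) (.leaf 261)) (.node (.node (.leaf 192) (.leaf 0)) (.leaf 287)))))) (.node (.node (.node (.node (.node (.node (.leaf 0) (.leaf 0)) (.leaf 0)) (.node (.node (.leaf 0) (.leaf 0)) (.leaf 0))) (.node (.node (.node (.leaf 0) (.leaf 0)) (.leaf 0)) (.node (.node (.leaf 0) (.leaf 186)) (.leaf 298)))) (.node (.node (.node (.node (.leaf 302) (.leaf 245)) (.leaf 0)) (.node (.node (.leaf 0) (.leaf 0)) (.leaf 0))) (.node (.node (.node (.leaf 104) (.leaf 243)) (.leaf 0)) (.node (.node (.leaf 0) (.leaf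 0)) (.leaf 0))))) (.node (.node (.node (.node (.node (.leaf 0) (.leaf 0)) (.leaf 0)) (.node (.node (.leaf 0) (.leaf 0)) (.leaf 68))) (.node (.node (.node (.leaf 12) (.leaf 0)) (.leaf 0)) (.node (.node (.leaf 0) (.leaf 0)) (.leaf 0)))) (.node (.node (.node (.node (.leaf 0) (.leaf 0)) (.leaf 79)) (.node (.node (.leaf 0) (.leaf 58)) (.leaf 0))) (.node (.node (.node (.leaf 0) (.leaf 243)) (.leaf 244)) (.node (.node (.leaf 155) (.leaf 0)) (.leaf 71)))))))))

def eightTab10 : Janko.Tree (ℕ) :=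
  (.node (.node (.node (.node (.node (.node (.node (.node (.node (.leaf 0) (.leaf 0)) (.node (.leaf 0) (.leaf 0))) (.node (.node (.leaf 0) (.leaf 0)) (.leaf 263))) (.node (.node (.node (.leaf 315) (.leaf 0)) (.leaf 0)) (.node (.node (.leaf 0) (.leaf 0)) (.leaf 0)))) (.node (.node (.node (.node (.leaf 0) (.leaf 0)) (.leaf 0)) (.node (.node (.leaf 0) (.leaf 0)) (.leaf 0))) (.node (.node (.node (.leaf 0) (.leaf 23)) (.leaf 0)) (.node (.node (.leaf 0) (.leaf 0)) (.leaf 94))))) (.node (.node (.node (.node (.node (.leaf 0) (.leaf 0)) (.leaf 0)) (.node (.node (.leaf 0) (.leaf 0)) (.leaf 0))) (.node (.node (.node (.leaf 0) (.leaf 315)) (.leaf 0)) (.node (.node (.leaf 0) (.leaf 0)) (.leaf 0)))) (.node (.node (.node (.node (.leaf 0) (.leaf 0)) (.leaf 125)) (.node (.node (.leaf 199) (.leaf 0)) (.leaf 103))) (.node (.node (.node (.leaf 0) (.leaf 243)) (.leaf 0)) (.node (.node (.leaf 0) (.leaf 0)) (.leaf 0)))))) (.node (.node (.node (.node (.node (.node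 (.leaf 0) (.leaf 0)) (.node (.leaf 0) (.leaf 0))) (.node (.node (.leaf 0) (.leaf 0)) (.leaf 0))) (.node (.node (.node (.leaf 0) (.leaf 0)) (.leaf 0)) (.node (.node (.leaf 0) (.leaf 0)) (.leaf 315)))) (.node (.node (.node (.node (.leaf 0) (.leaf 0)) (.leaf 0)) (.node (.node (.leaf 0) (.leaf 315)) (.leaf 0))) (.node (.node (.node (.leaf 0) (.leaf 0)) (.leaf 258)) (.node (.node (.leaf 0) (.leaf 0)) (.leaf 0))))) (.node (.node (.node (.node (.node (.leaf 145) (.leaf 0)) (.leaf 0)) (.node (.node (.leaf 250) (.leaf 0)) (.leaf 0))) (.node (.node (.node (.leaf 0) (.leaf 0)) (.leaf 262)) (.node (.node (.leaf 0) (.leaf 0)) (.leaf 0)))) (.node (.node (.node (.node (.leaf 0) (.leaf 0)) (.leaf 0)) (.node (.node (.leaf 0) (.leaf 0)) (.leaf 0))) (.node (.node (.node (.leaf 0) (.leaf 315)) (.leaf 264)) (.node (.node (.leaf 0) (.leaf 0)) (.leaf 0))))))) (.node (.node (.node (.node (.node (.node (.node (.leaf 315) (.leaf 0)) (.node (.leaf 0) (.leaf 0))) (.node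 (.node (.leaf 0) (.leaf 0)) (.leaf 147))) (.node (.node (.node (.leaf 0) (.leaf 0)) (.leaf 0)) (.node (.node (.leaf 0) (.leaf 0)) (.leaf 0)))) (.node (.node (.node (.node (.leaf 0) (.leaf 0)) (.leaf 0)) (.node (.node (.leaf 0) (.leaf 0)) (.leaf 251))) (.node (.node (.node (.leaf 0) (.leaf 0)) (.leaf 0)) (.node (.node (.leaf 0) (.leaf 0)) (.leaf 0))))) (.node (.node (.node (.node (.node (.leaf 0) (.leaf 0)) (.leaf 0)) (.node (.node (.leaf 0) (.leaf 34)) (.leaf 110))) (.node (.node (.node (.leaf 0) (.leaf 0)) (.leaf 0)) (.node (.node (.leaf 0) (.leaf 0)) (.leaf 40)))) (.node (.node (.node (.node (.leaf 0) (.leaf 0)) (.leaf 277)) (.node (.node (.leaf 0) (.leaf 0)) (.leaf 0))) (.node (.node (.node (.leaf 303) (.leaf 315)) (.leaf 0)) (.node (.node (.leaf 0) (.leaf 0)) (.leaf 0)))))) (.node (.node (.node (.node (.node (.node (.leaf 0) (.leaf 0)) (.leaf 229)) (.node (.node (.leaf 0) (.leaf 0)) (.leaf 0))) (.node (.node (.node (.leaf 0) (.leaf 0))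 (.leaf 0)) (.node (.node (.leaf 0) (.leaf 303)) (.leaf 0)))) (.node (.node (.node (.node (.leaf 0) (.leaf 0)) (.leaf 0)) (.node (.node (.leaf 0) (.leaf 0)) (.leaf 0))) (.node (.node (.node (.leaf 0) (.leaf 315)) (.leaf 0)) (.node (.node (.leaf 0) (.leaf 0)) (.leaf 0))))) (.node (.node (.node (.node (.node (.leaf 0) (.leaf 0)) (.leaf 0)) (.node (.node (.leaf 0) (.leaf 0)) (.leaf 0))) (.node (.node (.node (.leaf 0) (.leaf 0)) (.leaf 0)) (.node (.node (.leaf 0) (.leaf 0)) (.leaf 0)))) (.node (.node (.node (.node (.leaf 0) (.leaf 0)) (.leaf 0)) (.node (.node (.leaf 0) (.leaf 0)) (.leaf 0))) (.node (.node (.node (.leaf 145) (.leaf 315)) (.leaf 304)) (.node (.node (.leaf 0) (.leaf 0)) (.leaf 0)))))))) (.node (.node (.node (.node (.node (.node (.node (.node (.leaf 0) (.leaf 315)) (.node (.leaf 0) (.leaf 0))) (.node (.node (.leaf 125) (.leaf 0)) (.leaf 241))) (.node (.node (.node (.leaf 0) (.leaf 0)) (.leaf 0)) (.node (.node (.leaf 0) (.leaf 0))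 (.leaf 0)))) (.node (.node (.node (.node (.leaf 0) (.leaf 0)) (.leaf 0)) (.node (.node (.leaf 210) (.leaf 308)) (.leaf 0))) (.node (.node (.node (.leaf 303) (.leaf 0)) (.leaf 0)) (.node (.node (.leaf 0) (.leaf 0)) (.leaf 0))))) (.node (.node (.node (.node (.node (.leaf 315) (.leaf 0)) (.leaf 0)) (.node (.node (.leaf 0) (.leaf 0)) (.leaf 0))) (.node (.node (.node (.leaf 0) (.leaf 315)) (.leaf 0)) (.node (.node (.leaf 0) (.leaf 0)) (.leaf 0)))) (.node (.node (.node (.node (.leaf 0) (.leaf 0)) (.leaf 0)) (.node (.node (.leaf 0) (.leaf 0)) (.leaf 260))) (.node (.node (.node (.leaf 0) (.leaf 315)) (.leaf 305)) (.node (.node (.leaf 0) (.leaf 0)) (.leaf 0)))))) (.node (.node (.node (.node (.node (.node (.leaf 0) (.leaf 0)) (.node (.leaf 0) (.leaf 0))) (.node (.node (.leaf 0) (.leaf 0)) (.leaf 0))) (.node (.node (.node (.leaf 0) (.leaf 286)) (.leaf 0)) (.node (.node (.leaf 0) (.leaf 0)) (.leaf 0)))) (.node (.node (.node (.node (.leaf 0) (.leaf 221))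 (.leaf 0)) (.node (.node (.leaf 0) (.leaf 0)) (.leaf 0))) (.node (.node (.node (.leaf 0) (.leaf 0)) (.leaf 0)) (.node (.node (.leaf 0) (.leaf 0)) (.leaf 0))))) (.node (.node (.node (.node (.node (.leaf 0) (.leaf 0)) (.leaf 0)) (.node (.node (.leaf 0) (.leaf 0)) (.leaf 0))) (.node (.node (.node (.leaf 0) (.leaf 66)) (.leaf 0)) (.node (.node (.leaf 215) (.leaf 0)) (.leaf 0)))) (.node (.node (.node (.node (.leaf 0) (.leaf 0)) (.leaf 0)) (.node (.node (.leaf 0) (.leaf 0)) (.leaf 315))) (.node (.node (.node (.leaf 0) (.leaf 243)) (.leaf 0)) (.node (.node (.leaf 0) (.leaf 0)) (.leaf 0))))))) (.node (.node (.node (.node (.node (.node (.node (.leaf 0) (.leaf 0)) (.node (.leaf 0) (.leaf 24))) (.node (.node (.leaf 0) (.leaf 0)) (.leaf 0))) (.node (.node (.node (.leaf 0) (.leaf 0)) (.leaf 0)) (.node (.node (.leaf 0) (.leaf 0)) (.leaf 0)))) (.node (.node (.node (.node (.leaf 0) (.leaf 0)) (.leaf 0)) (.node (.node (.leaf 0) (.leaf 0)) (.leaf 0))) (.node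 (.node (.node (.leaf 0) (.leaf 0)) (.leaf 26)) (.node (.node (.leaf 0) (.leaf 0)) (.leaf 242))))) (.node (.node (.node (.node (.node (.leaf 0) (.leaf 315)) (.leaf 0)) (.node (.node (.leaf 0) (.leaf 0)) (.leaf 0))) (.node (.node (.node (.leaf 99) (.leaf 0)) (.leaf 283)) (.node (.node (.leaf 0) (.leaf 0)) (.leaf 0)))) (.node (.node (.node (.node (.leaf 0) (.leaf 0)) (.leaf 0)) (.node (.node (.leaf 0) (.leaf 243)) (.leaf 0))) (.node (.node (.node (.leaf 297) (.leaf 315)) (.leaf 0)) (.node (.node (.leaf 305) (.leaf 0)) (.leaf 0)))))) (.node (.node (.node (.node (.node (.node (.leaf 0) (.leaf 0)) (.leaf 0)) (.node (.node (.leaf 0) (.leaf 5)) (.leaf 177))) (.node (.node (.node (.leaf 0) (.leaf 0)) (.leaf 0)) (.node (.node (.leaf 0) (.leaf 0)) (.leaf 66)))) (.node (.node (.node (.node (.leaf 0) (.leaf 0)) (.leaf 0)) (.node (.node (.leaf 0) (.leaf 0)) (.leaf 0))) (.node (.node (.node (.leaf 0) (.leaf 243)) (.leaf 0)) (.node (.node (.leaf 0) (.leaf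 0)) (.leaf 0))))) (.node (.node (.node (.node (.node (.leaf 176) (.leaf 0)) (.leaf 0)) (.node (.node (.leaf 313) (.leaf 0)) (.leaf 0))) (.node (.node (.node (.leaf 0) (.leaf 0)) (.leaf 0)) (.node (.node (.leaf 0) (.leaf 0)) (.leaf 11)))) (.node (.node (.node (.node (.leaf 0) (.leaf 0)) (.leaf 0)) (.node (.node (.leaf 0) (.leaf 0)) (.leaf 0))) (.node (.node (.node (.leaf 0) (.leaf 243)) (.leaf 0)) (.node (.node (.leaf 0) (.leaf 0)) (.leaf 0)))))))))

def eightTab11 : Janko.Tree (ℕ) :=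
  (.node (.node (.node (.node (.node (.node (.node (.node (.node (.leaf 0) (.leaf 0)) (.node (.leaf 0) (.leaf 270))) (.node (.node (.leaf 128) (.leaf 0)) (.leaf 0))) (.node (.node (.node (.leaf 0) (.leaf 0)) (.leaf 0)) (.node (.node (.leaf 0) (.leaf 0)) (.leaf 0)))) (.node (.node (.node (.node (.leaf 0) (.leaf 0)) (.leaf 0)) (.node (.node (.leaf 0) (.leaf 0)) (.leaf 0))) (.node (.node (.node (.leaf 0) (.leaf 136)) (.leaf 0)) (.node (.node (.leaf 0) (.leaf 0)) (.leaf 0))))) (.node (.node (.node (.node (.node (.leaf 0) (.leaf 0)) (.leaf 0)) (.node (.node (.leaf 0) (.leaf 0)) (.leaf 0))) (.node (.node (.node (.leaf 0) (.leaf 0)) (.leaf 172)) (.node (.node (.leaf 0) (.leaf 0)) (.leaf 0)))) (.node (.node (.node (.node (.leaf 0) (.leaf 0)) (.leaf 0)) (.node (.node (.leaf 315) (.leaf 0)) (.leaf 0))) (.node (.node (.node (.leaf 0) (.leaf 243)) (.leaf 0)) (.node (.node (.leaf 0) (.leaf 0)) (.leaf 0)))))) (.node (.node (.node (.node (.node (.node (.leaf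 0) (.leaf 0)) (.node (.leaf 0) (.leaf 0))) (.node (.node (.leaf 0) (.leaf 0)) (.leaf 145))) (.node (.node (.node (.leaf 0) (.leaf 0)) (.leaf 0)) (.node (.node (.leaf 193) (.leaf 0)) (.leaf 243)))) (.node (.node (.node (.node (.leaf 0) (.leaf 0)) (.leaf 0)) (.node (.node (.leaf 0) (.leaf 243)) (.leaf 0))) (.node (.node (.node (.leaf 0) (.leaf 0)) (.leaf 130)) (.node (.node (.leaf 0) (.leaf 0)) (.leaf 12))))) (.node (.node (.node (.node (.node (.leaf 0) (.leaf 315)) (.leaf 87)) (.node (.node (.leaf 0) (.leaf 0)) (.leaf 0))) (.node (.node (.node (.leaf 0) (.leaf 140)) (.leaf 0)) (.node (.node (.leaf 0) (.leaf 0)) (.leaf 0)))) (.node (.node (.node (.node (.leaf 0) (.leaf 0)) (.leaf 0)) (.node (.node (.leaf 0) (.leaf 0)) (.leaf 0))) (.node (.node (.node (.leaf 0) (.leaf 315)) (.leaf 0)) (.node (.node (.leaf 0) (.leaf 0)) (.leaf 0))))))) (.node (.node (.node (.node (.node (.node (.node (.leaf 315) (.leaf 0)) (.node (.leaf 0) (.leaf 0))) (.node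 (.node (.leaf 0) (.leaf 0)) (.leaf 0))) (.node (.node (.node (.leaf 0) (.leaf 0)) (.leaf 0)) (.node (.node (.leaf 0) (.leaf 0)) (.leaf 0)))) (.node (.node (.node (.node (.leaf 0) (.leaf 106)) (.leaf 0)) (.node (.node (.leaf 0) (.leaf 0)) (.leaf 0))) (.node (.node (.node (.leaf 0) (.leaf 0)) (.leaf 0)) (.node (.node (.leaf 0) (.leaf 0)) (.leaf 0))))) (.node (.node (.node (.node (.node (.leaf 0) (.leaf 0)) (.leaf 0)) (.node (.node (.leaf 0) (.leaf 0)) (.leaf 0))) (.node (.node (.node (.leaf 0) (.leaf 0)) (.leaf 0)) (.node (.node (.leaf 0) (.leaf 0)) (.leaf 0)))) (.node (.node (.node (.node (.leaf 0) (.leaf 315)) (.leaf 0)) (.node (.node (.leaf 0) (.leaf 0)) (.leaf 0))) (.node (.node (.node (.leaf 290) (.leaf 315)) (.leaf 0)) (.node (.node (.leaf 0) (.leaf 0)) (.leaf 146)))))) (.node (.node (.node (.node (.node (.node (.leaf 0) (.leaf 0)) (.leaf 62)) (.node (.node (.leaf 275) (.leaf 0)) (.leaf 0))) (.node (.node (.node (.leaf 0) (.leaf 0)) (.leaf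 0)) (.node (.node (.leaf 0) (.leaf 293)) (.leaf 190)))) (.node (.node (.node (.node (.leaf 0) (.leaf 0)) (.leaf 0)) (.node (.node (.leaf 0) (.leaf 0)) (.leaf 0))) (.node (.node (.node (.leaf 0) (.leaf 315)) (.leaf 0)) (.node (.node (.leaf 0) (.leaf 0)) (.leaf 0))))) (.node (.node (.node (.node (.node (.leaf 0) (.leaf 0)) (.leaf 0)) (.node (.node (.leaf 0) (.leaf 0)) (.leaf 0))) (.node (.node (.node (.leaf 0) (.leaf 230)) (.leaf 0)) (.node (.node (.leaf 0) (.leaf 0)) (.leaf 0)))) (.node (.node (.node (.node (.leaf 0) (.leaf 0)) (.leaf 0)) (.node (.node (.leaf 0) (.leaf 0)) (.leaf 0))) (.node (.node (.node (.leaf 0) (.leaf 315)) (.leaf 1)) (.node (.node (.leaf 0) (.leaf 0)) (.leaf 0)))))))) (.node (.node (.node (.node (.node (.node (.node (.node (.leaf 0) (.leaf 0)) (.node (.leaf 0) (.leaf 0))) (.node (.node (.leaf 0) (.leaf 0)) (.leaf 0))) (.node (.node (.node (.leaf 0) (.leaf 0)) (.leaf 0)) (.node (.node (.leaf 0) (.leaf 0)) (.leaf 0))))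 (.node (.node (.node (.node (.leaf 0) (.leaf 0)) (.leaf 0)) (.node (.node (.leaf 0) (.leaf 0)) (.leaf 87))) (.node (.node (.node (.leaf 0) (.leaf 188)) (.leaf 0)) (.node (.node (.leaf 0) (.leaf 0)) (.leaf 0))))) (.node (.node (.node (.node (.node (.leaf 315) (.leaf 0)) (.leaf 0)) (.node (.node (.leaf 0) (.leaf 0)) (.leaf 0))) (.node (.node (.node (.leaf 0) (.leaf 0)) (.leaf 0)) (.node (.node (.leaf 0) (.leaf 0)) (.leaf 3)))) (.node (.node (.node (.node (.leaf 0) (.leaf 0)) (.leaf 0)) (.node (.node (.leaf 0) (.leaf 0)) (.leaf 0))) (.node (.node (.node (.leaf 0) (.leaf 243)) (.leaf 268)) (.node (.node (.leaf 135) (.leaf 0)) (.leaf 0)))))) (.node (.node (.node (.node (.node (.node (.leaf 0) (.leaf 0)) (.node (.leaf 315) (.leaf 0))) (.node (.node (.leaf 0) (.leaf 0)) (.leaf 0))) (.node (.node (.node (.leaf 0) (.leaf 0)) (.leaf 163)) (.node (.node (.leaf 0) (.leaf 76)) (.leaf 0)))) (.node (.node (.node (.node (.leaf 0) (.leaf 0)) (.leaf 0)) (.node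 (.node (.leaf 0) (.leaf 0)) (.leaf 0))) (.node (.node (.node (.leaf 0) (.leaf 0)) (.leaf 0)) (.node (.node (.leaf 0) (.leaf 0)) (.leaf 176))))) (.node (.node (.node (.node (.node (.leaf 0) (.leaf 0)) (.leaf 0)) (.node (.node (.leaf 0) (.leaf 230)) (.leaf 0))) (.node (.node (.node (.leaf 0) (.leaf 0)) (.leaf 0)) (.node (.node (.leaf 0) (.leaf 0)) (.leaf 0)))) (.node (.node (.node (.node (.leaf 0) (.leaf 93)) (.leaf 0)) (.node (.node (.leaf 0) (.leaf 0)) (.leaf 243))) (.node (.node (.node (.leaf 0) (.leaf 243)) (.leaf 314)) (.node (.node (.leaf 0) (.leaf 0)) (.leaf 0))))))) (.node (.node (.node (.node (.node (.node (.node (.leaf 0) (.leaf 0)) (.node (.leaf 0) (.leaf 0))) (.node (.node (.leaf 0) (.leaf 0)) (.leaf 0))) (.node (.node (.node (.leaf 0) (.leaf 0)) (.leaf 0)) (.node (.node (.leaf 0) (.leaf 0)) (.leaf 0)))) (.node (.node (.node (.node (.leaf 0) (.leaf 0)) (.leaf 0)) (.node (.node (.leaf 0) (.leaf 0)) (.leaf 0))) (.node (.node (.node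 (.leaf 0) (.leaf 0)) (.leaf 0)) (.node (.node (.leaf 0) (.leaf 0)) (.leaf 0))))) (.node (.node (.node (.node (.node (.leaf 0) (.leaf 233)) (.leaf 0)) (.node (.node (.leaf 0) (.leaf 0)) (.leaf 0))) (.node (.node (.node (.leaf 0) (.leaf 0)) (.leaf 240)) (.node (.node (.leaf 0) (.leaf 0)) (.leaf 0)))) (.node (.node (.node (.node (.leaf 0) (.leaf 132)) (.leaf 0)) (.node (.node (.leaf 0) (.leaf 243)) (.leaf 0))) (.node (.node (.node (.leaf 0) (.leaf 315)) (.leaf 235)) (.node (.node (.leaf 0) (.leaf 0)) (.leaf 0)))))) (.node (.node (.node (.node (.node (.node (.leaf 0) (.leaf 0)) (.leaf 0)) (.node (.node (.leaf 0) (.leaf 0)) (.leaf 111))) (.node (.node (.node (.leaf 0) (.leaf 0)) (.leaf 0)) (.node (.node (.leaf 0) (.leaf 0)) (.leaf 0)))) (.node (.node (.node (.node (.leaf 306) (.leaf 245)) (.leaf 0)) (.node (.node (.leaf 0) (.leaf 0)) (.leaf 0))) (.node (.node (.node (.leaf 0) (.leaf 243)) (.leaf 0)) (.node (.node (.leaf 0) (.leaf 0)) (.leaf 0)))))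 (.node (.node (.node (.node (.node (.leaf 0) (.leaf 0)) (.leaf 137)) (.node (.node (.leaf 0) (.leaf 0)) (.leaf 0))) (.node (.node (.node (.leaf 0) (.leaf 0)) (.leaf 0)) (.node (.node (.leaf 86) (.leaf 0)) (.leaf 0)))) (.node (.node (.node (.node (.leaf 0) (.leaf 3)) (.leaf 281)) (.node (.node (.leaf 0) (.leaf 0)) (.leaf 0))) (.node (.node (.node (.leaf 0) (.leaf 315)) (.leaf 0)) (.node (.node (.leaf 0) (.leaf 0)) (.leaf 0)))))))))

def eightTab12 : Janko.Tree (ℕ) :=
  (.node (.node (.node (.node (.node (.node (.node (.node (.node (.leaf 0) (.leaf 0)) (.node (.leaf 278) (.leaf 0))) (.node (.node (.leaf 0) (.leaf 0)) (.leaf 0))) (.node (.node (.node (.leaf 0) (.leaf 0)) (.leaf 0)) (.node (.node (.leaf 0) (.leaf 0)) (.leaf 0)))) (.node (.node (.node (.node (.leaf 0) (.leaf 245)) (.leaf 258)) (.node (.node (.leaf 0) (.leaf 236)) (.leaf 0))) (.node (.node (.node (.leaf 0) (.leaf 0)) (.leaf 0)) (.node (.node (.leaf 0) (.leaf 0)) (.leaf 0))))) (.node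 (.node (.node (.node (.node (.leaf 0) (.leaf 0)) (.leaf 0)) (.node (.node (.leaf 0) (.leaf 0)) (.leaf 0))) (.node (.node (.node (.leaf 0) (.leaf 0)) (.leaf 315)) (.node (.node (.leaf 0) (.leaf 0)) (.leaf 0)))) (.node (.node (.node (.node (.leaf 0) (.leaf 0)) (.leaf 0)) (.node (.node (.leaf 315) (.leaf 0)) (.leaf 0))) (.node (.node (.node (.leaf 0) (.leaf 243)) (.leaf 283)) (.node (.node (.leaf 0) (.leaf 0)) (.leaf 0)))))) (.node (.node (.node (.node (.node (.node (.leaf 0) (.leaf 0)) (.node (.leaf 0) (.leaf 0))) (.node (.node (.leaf 0) (.leaf 0)) (.leaf 0))) (.node (.node (.node (.leaf 0) (.leaf 0)) (.leaf 0)) (.node (.node (.leaf 0) (.leaf 0)) (.leaf 315)))) (.node (.node (.node (.node (.leaf 0) (.leaf 0)) (.leaf 0)) (.node (.node (.leaf 0) (.leaf 243)) (.leaf 0))) (.node (.node (.node (.leaf 0) (.leaf 0)) (.leaf 0)) (.node (.node (.leaf 0) (.leaf 0)) (.leaf 0))))) (.node (.node (.node (.node (.node (.leaf 0) (.leaf 0)) (.leaf 0)) (.node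 (.node (.leaf 0) (.leaf 0)) (.leaf 0))) (.node (.node (.node (.leaf 0) (.leaf 0)) (.leaf 0)) (.node (.node (.leaf 0) (.leaf 0)) (.leaf 259)))) (.node (.node (.node (.node (.leaf 0) (.leaf 0)) (.leaf 0)) (.node (.node (.leaf 0) (.leaf 0)) (.leaf 0))) (.node (.node (.node (.leaf 0) (.leaf 315)) (.leaf 0)) (.node (.node (.leaf 0) (.leaf 0)) (.leaf 0))))))) (.node (.node (.node (.node (.node (.node (.node (.leaf 315) (.leaf 138)) (.node (.leaf 0) (.leaf 0))) (.node (.node (.leaf 0) (.leaf 0)) (.leaf 0))) (.node (.node (.node (.leaf 0) (.leaf 0)) (.leaf 267)) (.node (.node (.leaf 0) (.leaf 0)) (.leaf 0)))) (.node (.node (.node (.node (.leaf 0) (.leaf 0)) (.leaf 0)) (.node (.node (.leaf 0) (.leaf 0)) (.leaf 0))) (.node (.node (.node (.leaf 0) (.leaf 0)) (.leaf 0)) (.node (.node (.leaf 0) (.leaf 0)) (.leaf 0))))) (.node (.node (.node (.node (.node (.leaf 0) (.leaf 0)) (.leaf 0)) (.node (.node (.leaf 0) (.leaf 0)) (.leaf 0))) (.node (.node (.node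 (.leaf 205) (.leaf 0)) (.leaf 0)) (.node (.node (.leaf 0) (.leaf 0)) (.leaf 0)))) (.node (.node (.node (.node (.leaf 0) (.leaf 0)) (.leaf 0)) (.node (.node (.leaf 0) (.leaf 0)) (.leaf 14))) (.node (.node (.node (.leaf 0) (.leaf 315)) (.leaf 273)) (.node (.node (.leaf 0) (.leaf 0)) (.leaf 0)))))) (.node (.node (.node (.node (.node (.node (.leaf 0) (.leaf 0)) (.leaf 0)) (.node (.node (.leaf 128) (.leaf 0)) (.leaf 0))) (.node (.node (.node (.leaf 0) (.leaf 0)) (.leaf 0)) (.node (.node (.leaf 0) (.leaf 0)) (.leaf 0)))) (.node (.node (.node (.node (.leaf 0) (.leaf 0)) (.leaf 0)) (.node (.node (.leaf 0) (.leaf 0)) (.leaf 0))) (.node (.node (.node (.leaf 0) (.leaf 243)) (.leaf 314)) (.node (.node (.leaf 0) (.leaf 0)) (.leaf 0))))) (.node (.node (.node (.node (.node (.leaf 0) (.leaf 0)) (.leaf 0)) (.node (.node (.leaf 0) (.leaf 0)) (.leaf 0))) (.node (.node (.node (.leaf 80) (.leaf 0)) (.leaf 0)) (.node (.node (.leaf 0) (.leaf 0)) (.leaf 0)))) (.node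 (.node (.node (.node (.leaf 0) (.leaf 100)) (.leaf 0)) (.node (.node (.leaf 0) (.leaf 0)) (.leaf 0))) (.node (.node (.node (.leaf 0) (.leaf 315)) (.leaf 0)) (.node (.node (.leaf 0) (.leaf 0)) (.leaf 0)))))))) (.node (.node (.node (.node (.node (.node (.node (.node (.leaf 0) (.leaf 0)) (.node (.leaf 0) (.leaf 0))) (.node (.node (.leaf 230) (.leaf 0)) (.leaf 0))) (.node (.node (.node (.leaf 0) (.leaf 0)) (.leaf 0)) (.node (.node (.leaf 0) (.leaf 74)) (.leaf 0)))) (.node (.node (.node (.node (.leaf 257) (.leaf 126)) (.leaf 0)) (.node (.node (.leaf 0) (.leaf 0)) (.leaf 0))) (.node (.node (.node (.leaf 0) (.leaf 0)) (.leaf 0)) (.node (.node (.leaf 202) (.leaf 0)) (.leaf 0))))) (.node (.node (.node (.node (.node (.leaf 315) (.leaf 0)) (.leaf 0)) (.node (.node (.leaf 0) (.leaf 0)) (.leaf 0))) (.node (.node (.node (.leaf 0) (.leaf 0)) (.leaf 0)) (.node (.node (.leaf 0) (.leaf 0)) (.leaf 0)))) (.node (.node (.node (.node (.leaf 0) (.leaf 0)) (.leaf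 0)) (.node (.node (.leaf 0) (.leaf 0)) (.leaf 0))) (.node (.node (.node (.leaf 0) (.leaf 315)) (.leaf 0)) (.node (.node (.leaf 0) (.leaf 0)) (.leaf 0)))))) (.node (.node (.node (.node (.node (.node (.leaf 0) (.leaf 0)) (.node (.leaf 271) (.leaf 0))) (.node (.node (.leaf 0) (.leaf 0)) (.leaf 0))) (.node (.node (.node (.leaf 0) (.leaf 52)) (.leaf 0)) (.node (.node (.leaf 0) (.leaf 0)) (.leaf 0)))) (.node (.node (.node (.node (.leaf 0) (.leaf 0)) (.leaf 0)) (.node (.node (.leaf 60) (.leaf 0)) (.leaf 0))) (.node (.node (.node (.leaf 0) (.leaf 271)) (.leaf 0)) (.node (.node (.leaf 0) (.leaf 0)) (.leaf 0))))) (.node (.node (.node (.node (.node (.leaf 0) (.leaf 0)) (.leaf 0)) (.node (.node (.leaf 0) (.leaf 0)) (.leaf 0))) (.node (.node (.node (.leaf 0) (.leaf 0)) (.leaf 0)) (.node (.node (.leaf 0) (.leaf 0)) (.leaf 87)))) (.node (.node (.node (.node (.leaf 0) (.leaf 0)) (.leaf 0)) (.node (.node (.leaf 0) (.leaf 0)) (.leaf 315))) (.node (.node (.node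 (.leaf 0) (.leaf 315)) (.leaf 0)) (.node (.node (.leaf 0) (.leaf 0)) (.leaf 0))))))) (.node (.node (.node (.node (.node (.node (.node (.leaf 0) (.leaf 0)) (.node (.leaf 0) (.leaf 0))) (.node (.node (.leaf 0) (.leaf 0)) (.leaf 0))) (.node (.node (.node (.leaf 0) (.leaf 0)) (.leaf 0)) (.node (.node (.leaf 0) (.leaf 143)) (.leaf 0)))) (.node (.node (.node (.node (.leaf 0) (.leaf 0)) (.leaf 0)) (.node (.node (.leaf 0) (.leaf 0)) (.leaf 0))) (.node (.node (.node (.leaf 0) (.leaf 0)) (.leaf 0)) (.node (.node (.leaf 0) (.leaf 0)) (.leaf 0))))) (.node (.node (.node (.node (.node (.leaf 0) (.leaf 0)) (.leaf 0)) (.node (.node (.leaf 0) (.leaf 0)) (.leaf 315))) (.node (.node (.node (.leaf 120) (.leaf 0)) (.leaf 0)) (.node (.node (.leaf 0) (.leaf 0)) (.leaf 276)))) (.node (.node (.node (.node (.leaf 0) (.leaf 0)) (.leaf 314)) (.node (.node (.leaf 0) (.leaf 243)) (.leaf 0))) (.node (.node (.node (.leaf 61) (.leaf 315)) (.leaf 315)) (.node (.node (.leaf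 0) (.leaf 0)) (.leaf 0)))))) (.node (.node (.node (.node (.node (.node (.leaf 0) (.leaf 60)) (.leaf 0)) (.node (.node (.leaf 0) (.leaf 0)) (.leaf 0))) (.node (.node (.node (.leaf 0) (.leaf 0)) (.leaf 0)) (.node (.node (.leaf 0) (.leaf 0)) (.leaf 0)))) (.node (.node (.node (.node (.leaf 0) (.leaf 0)) (.leaf 0)) (.node (.node (.leaf 0) (.leaf 0)) (.leaf 0))) (.node (.node (.node (.leaf 0) (.leaf 243)) (.leaf 0)) (.node (.node (.leaf 0) (.leaf 0)) (.leaf 0))))) (.node (.node (.node (.node (.node (.leaf 0) (.leaf 0)) (.leaf 0)) (.node (.node (.leaf 0) (.leaf 0)) (.leaf 0))) (.node (.node (.node (.leaf 0) (.leaf 0)) (.leaf 0)) (.node (.node (.leaf 0) (.leaf 0)) (.leaf 38)))) (.node (.node (.node (.node (.leaf 0) (.leaf 0)) (.leaf 0)) (.node (.node (.leaf 0) (.leaf 0)) (.leaf 0))) (.node (.node (.node (.leaf 0) (.leaf 315)) (.leaf 209)) (.node (.node (.leaf 0) (.leaf 23)) (.leaf 109)))))))))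

def eightTab13 : Janko.Tree (ℕ) :=
  (.node (.node (.node (.node (.node (.node (.node (.node (.node (.leaf 0) (.leaf 250)) (.node (.leaf 0) (.leaf 0))) (.node (.node (.leaf 0) (.leaf 0)) (.leaf 0))) (.node (.node (.node (.leaf 0) (.leaf 0)) (.leaf 0)) (.node (.node (.leaf 0) (.leaf 0)) (.leaf 0)))) (.node (.node (.node (.node (.leaf 0) (.leaf 315)) (.leaf 0)) (.node (.node (.leaf 0) (.leaf 0)) (.leaf 0))) (.node (.node (.node (.leaf 0) (.leaf 0)) (.leaf 0)) (.node (.node (.leaf 0) (.leaf 0)) (.leaf 241))))) (.node (.node (.node (.node (.node (.leaf 0) (.leaf 0)) (.leaf 0)) (.node (.node (.leaf 0) (.leaf 0)) (.leaf 250))) (.node (.node (.node (.leaf 0) (.leaf 0)) (.leaf 0)) (.node (.node (.leaf 0) (.leaf 0)) (.leaf 0)))) (.node (.node (.node (.node (.leaf 0) (.leaf 0)) (.leaf 0)) (.node (.node (.leaf 0) (.leaf 0)) (.leaf 0))) (.node (.node (.node (.leaf 0) (.leaf 315)) (.leaf 0)) (.node (.node (.leaf 0) (.leaf 0)) (.leaf 0)))))) (.node (.node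 (.node (.node (.node (.node (.leaf 0) (.leaf 0)) (.node (.leaf 315) (.leaf 0))) (.node (.node (.leaf 0) (.leaf 0)) (.leaf 0))) (.node (.node (.node (.leaf 0) (.leaf 246)) (.leaf 0)) (.node (.node (.leaf 0) (.leaf 0)) (.leaf 243)))) (.node (.node (.node (.node (.leaf 0) (.leaf 0)) (.leaf 0)) (.node (.node (.leaf 0) (.leaf 243)) (.leaf 0))) (.node (.node (.node (.leaf 85) (.leaf 0)) (.leaf 190)) (.node (.node (.leaf 0) (.leaf 0)) (.leaf 258))))) (.node (.node (.node (.node (.node (.leaf 0) (.leaf 0)) (.leaf 0)) (.node (.node (.leaf 0) (.leaf 0)) (.leaf 0))) (.node (.node (.node (.leaf 0) (.leaf 0)) (.leaf 0)) (.node (.node (.leaf 0) (.leaf 0)) (.leaf 0)))) (.node (.node (.node (.node (.leaf 0) (.leaf 0)) (.leaf 0)) (.node (.node (.leaf 0) (.leaf 0)) (.leaf 0))) (.node (.node (.node (.leaf 0) (.leaf 243)) (.leaf 0)) (.node (.node (.leaf 0) (.leaf 0)) (.leaf 0))))))) (.node (.node (.node (.node (.node (.node (.node (.leaf 315) (.leaf 0)) (.node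 (.leaf 132) (.leaf 0))) (.node (.node (.leaf 0) (.leaf 0)) (.leaf 281))) (.node (.node (.node (.leaf 0) (.leaf 0)) (.leaf 0)) (.node (.node (.leaf 134) (.leaf 302)) (.leaf 0)))) (.node (.node (.node (.node (.leaf 0) (.leaf 0)) (.leaf 0)) (.node (.node (.leaf 245) (.leaf 0)) (.leaf 302))) (.node (.node (.node (.leaf 0) (.leaf 0)) (.leaf 0)) (.node (.node (.leaf 0) (.leaf 0)) (.leaf 0))))) (.node (.node (.node (.node (.node (.leaf 182) (.leaf 0)) (.leaf 0)) (.node (.node (.leaf 0) (.leaf 255)) (.leaf 0))) (.node (.node (.node (.leaf 281) (.leaf 0)) (.leaf 226)) (.node (.node (.leaf 0) (.leaf 0)) (.leaf 70)))) (.node (.node (.node (.node (.leaf 0) (.leaf 0)) (.leaf 0)) (.node (.node (.leaf 0) (.leaf 0)) (.leaf 291))) (.node (.node (.node (.leaf 0) (.leaf 315)) (.leaf 0)) (.node (.node (.leaf 0) (.leaf 0)) (.leaf 0)))))) (.node (.node (.node (.node (.node (.node (.leaf 0) (.leaf 0)) (.leaf 0)) (.node (.node (.leaf 0) (.leaf 0)) (.leaf 262)))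 (.node (.node (.node (.leaf 0) (.leaf 0)) (.leaf 0)) (.node (.node (.leaf 0) (.leaf 0)) (.leaf 0)))) (.node (.node (.node (.node (.leaf 0) (.leaf 0)) (.leaf 0)) (.node (.node (.leaf 0) (.leaf 0)) (.leaf 0))) (.node (.node (.node (.leaf 0) (.leaf 243)) (.leaf 0)) (.node (.node (.leaf 0) (.leaf 0)) (.leaf 0))))) (.node (.node (.node (.node (.node (.leaf 0) (.leaf 0)) (.leaf 0)) (.node (.node (.leaf 0) (.leaf 0)) (.leaf 0))) (.node (.node (.node (.leaf 0) (.leaf 0)) (.leaf 0)) (.node (.node (.leaf 0) (.leaf 0)) (.leaf 0)))) (.node (.node (.node (.node (.leaf 0) (.leaf 0)) (.leaf 0)) (.node (.node (.leaf 73) (.leaf 0)) (.leaf 0))) (.node (.node (.node (.leaf 0) (.leaf 315)) (.leaf 0)) (.node (.node (.leaf 0) (.leaf 0)) (.leaf 0)))))))) (.node (.node (.node (.node (.node (.node (.node (.node (.leaf 0) (.leaf 0)) (.node (.leaf 0) (.leaf 0))) (.node (.node (.leaf 0) (.leaf 0)) (.leaf 0))) (.node (.node (.node (.leaf 0) (.leaf 0)) (.leaf 0)) (.node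 (.node (.leaf 0) (.leaf 0)) (.leaf 0)))) (.node (.node (.node (.node (.leaf 0) (.leaf 0)) (.leaf 0)) (.node (.node (.leaf 0) (.leaf 0)) (.leaf 0))) (.node (.node (.node (.leaf 92) (.leaf 0)) (.leaf 0)) (.node (.node (.leaf 0) (.leaf 0)) (.leaf 0))))) (.node (.node (.node (.node (.node (.leaf 315) (.leaf 300)) (.leaf 0)) (.node (.node (.leaf 0) (.leaf 0)) (.leaf 0))) (.node (.node (.node (.leaf 0) (.leaf 0)) (.leaf 0)) (.node (.node (.leaf 0) (.leaf 0)) (.leaf 0)))) (.node (.node (.node (.node (.leaf 0) (.leaf 0)) (.leaf 0)) (.node (.node (.leaf 0) (.leaf 0)) (.leaf 0))) (.node (.node (.node (.leaf 0) (.leaf 243)) (.leaf 0)) (.node (.node (.leaf 0) (.leaf 0)) (.leaf 0)))))) (.node (.node (.node (.node (.node (.node (.leaf 0) (.leaf 0)) (.node (.leaf 315) (.leaf 0))) (.node (.node (.leaf 262) (.leaf 0)) (.leaf 0))) (.node (.node (.node (.leaf 0) (.leaf 0)) (.leaf 0)) (.node (.node (.leaf 0) (.leaf 0)) (.leaf 0)))) (.node (.node (.node (.node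 (.leaf 0) (.leaf 297)) (.leaf 19)) (.node (.node (.leaf 238) (.leaf 0)) (.leaf 0))) (.node (.node (.node (.leaf 0) (.leaf 0)) (.leaf 0)) (.node (.node (.leaf 0) (.leaf 0)) (.leaf 0))))) (.node (.node (.node (.node (.node (.leaf 0) (.leaf 0)) (.leaf 0)) (.node (.node (.leaf 60) (.leaf 0)) (.leaf 0))) (.node (.node (.node (.leaf 0) (.leaf 0)) (.leaf 0)) (.node (.node (.leaf 0) (.leaf 0)) (.leaf 0)))) (.node (.node (.node (.node (.leaf 0) (.leaf 0)) (.leaf 0)) (.node (.node (.leaf 0) (.leaf 0)) (.leaf 243))) (.node (.node (.node (.leaf 0) (.leaf 315)) (.leaf 0)) (.node (.node (.leaf 0) (.leaf 0)) (.leaf 0))))))) (.node (.node (.node (.node (.node (.node (.node (.leaf 0) (.leaf 0)) (.node (.leaf 0) (.leaf 0))) (.node (.node (.leaf 0) (.leaf 0)) (.leaf 0))) (.node (.node (.node (.leaf 0) (.leaf 286)) (.leaf 0)) (.node (.node (.leaf 0) (.leaf 0)) (.leaf 0)))) (.node (.node (.node (.node (.leaf 262) (.leaf 0)) (.leaf 223)) (.node (.node (.leaf 0)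 (.leaf 0)) (.leaf 0))) (.node (.node (.node (.leaf 0) (.leaf 233)) (.leaf 0)) (.node (.node (.leaf 159) (.leaf 0)) (.leaf 217))))) (.node (.node (.node (.node (.node (.leaf 0) (.leaf 0)) (.leaf 0)) (.node (.node (.leaf 212) (.leaf 0)) (.leaf 171))) (.node (.node (.node (.leaf 0) (.leaf 0)) (.leaf 24)) (.node (.node (.leaf 0) (.leaf 0)) (.leaf 0)))) (.node (.node (.node (.node (.leaf 0) (.leaf 58)) (.leaf 0)) (.node (.node (.leaf 0) (.leaf 315)) (.leaf 0))) (.node (.node (.node (.leaf 0) (.leaf 315)) (.leaf 0)) (.node (.node (.leaf 186) (.leaf 0)) (.leaf 0)))))) (.node (.node (.node (.node (.node (.node (.leaf 0) (.leaf 0)) (.leaf 0)) (.node (.node (.leaf 0) (.leaf 0)) (.leaf 0))) (.node (.node (.node (.leaf 315) (.leaf 0)) (.leaf 0)) (.node (.node (.leaf 145) (.leaf 0)) (.leaf 0)))) (.node (.node (.node (.node (.leaf 0) (.leaf 245)) (.leaf 0)) (.node (.node (.leaf 0) (.leaf 0)) (.leaf 0))) (.node (.node (.node (.leaf 0) (.leaf 243)) (.leaf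 0)) (.node (.node (.leaf 0) (.leaf 0)) (.leaf 0))))) (.node (.node (.node (.node (.node (.leaf 0) (.leaf 0)) (.leaf 0)) (.node (.node (.leaf 0) (.leaf 0)) (.leaf 0))) (.node (.node (.node (.leaf 101) (.leaf 0)) (.leaf 0)) (.node (.node (.leaf 0) (.leaf 0)) (.leaf 0)))) (.node (.node (.node (.node (.leaf 0) (.leaf 168)) (.leaf 0)) (.node (.node (.leaf 0) (.leaf 0)) (.leaf 0))) (.node (.node (.node (.leaf 0) (.leaf 243)) (.leaf 0)) (.node (.node (.leaf 0) (.leaf 0)) (.leaf 0)))))))))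

def eightTab14 : Janko.Tree (ℕ) :=
  (.node (.node (.node (.node (.node (.node (.node (.node (.node (.leaf 0) (.leaf 0)) (.node (.leaf 0) (.leaf 0))) (.node (.node (.leaf 0) (.leaf 0)) (.leaf 0))) (.node (.node (.node (.leaf 0) (.leaf 0)) (.leaf 0)) (.node (.node (.leaf 0) (.leaf 0)) (.leaf 0)))) (.node (.node (.node (.node (.leaf 0) (.leaf 0)) (.leaf 0)) (.node (.node (.leaf 0) (.leaf 0)) (.leaf 0))) (.node (.node (.node (.leaf 0) (.leaf 63)) (.leaf 0)) (.node (.node (.leaf 0) (.leaf 0)) (.leaf 0))))) (.node (.node (.node (.node (.node (.leaf 0) (.leaf 0)) (.leaf 0)) (.node (.node (.leaf 0) (.leaf 0)) (.leaf 0))) (.node (.node (.node (.leaf 259) (.leaf 0)) (.leaf 0)) (.node (.node (.leaf 70) (.leaf 0)) (.leaf 0)))) (.node (.node (.node (.node (.leaf 280) (.leaf 0)) (.leaf 290)) (.node (.node (.leaf 0) (.leaf 0)) (.leaf 0))) (.node (.node (.node (.leaf 0) (.leaf 315)) (.leaf 0)) (.node (.node (.leaf 6) (.leaf 0)) (.leaf 0)))))) (.node (.node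 (.node (.node (.node (.node (.leaf 0) (.leaf 263)) (.node (.leaf 0) (.leaf 0))) (.node (.node (.leaf 0) (.leaf 240)) (.leaf 0))) (.node (.node (.node (.leaf 0) (.leaf 0)) (.leaf 0)) (.node (.node (.leaf 218) (.leaf 0)) (.leaf 315)))) (.node (.node (.node (.node (.leaf 0) (.leaf 0)) (.leaf 0)) (.node (.node (.leaf 0) (.leaf 243)) (.leaf 0))) (.node (.node (.node (.leaf 125) (.leaf 101)) (.leaf 0)) (.node (.node (.leaf 0) (.leaf 0)) (.leaf 144))))) (.node (.node (.node (.node (.node (.leaf 0) (.leaf 92)) (.leaf 315)) (.node (.node (.leaf 0) (.leaf 0)) (.leaf 0))) (.node (.node (.node (.leaf 144) (.leaf 0)) (.leaf 0)) (.node (.node (.leaf 0) (.leaf 0)) (.leaf 0)))) (.node (.node (.node (.node (.leaf 0) (.leaf 0)) (.leaf 0)) (.node (.node (.leaf 0) (.leaf 0)) (.leaf 0))) (.node (.node (.node (.leaf 0) (.leaf 243)) (.leaf 0)) (.node (.node (.leaf 0) (.leaf 0)) (.leaf 0))))))) (.node (.node (.node (.node (.node (.node (.node (.leaf 315) (.leaf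 0)) (.node (.leaf 0) (.leaf 0))) (.node (.node (.leaf 0) (.leaf 240)) (.leaf 144))) (.node (.node (.node (.leaf 0) (.leaf 0)) (.leaf 0)) (.node (.node (.leaf 0) (.leaf 0)) (.leaf 0)))) (.node (.node (.node (.node (.leaf 0) (.leaf 0)) (.leaf 0)) (.node (.node (.leaf 0) (.leaf 0)) (.leaf 0))) (.node (.node (.node (.leaf 0) (.leaf 0)) (.leaf 0)) (.node (.node (.leaf 0) (.leaf 0)) (.leaf 0))))) (.node (.node (.node (.node (.node (.leaf 0) (.leaf 0)) (.leaf 0)) (.node (.node (.leaf 0) (.leaf 0)) (.leaf 0))) (.node (.node (.node (.leaf 0) (.leaf 0)) (.leaf 0)) (.node (.node (.leaf 0) (.leaf 0)) (.leaf 87)))) (.node (.node (.node (.node (.leaf 0) (.leaf 0)) (.leaf 0)) (.node (.node (.leaf 0) (.leaf 0)) (.leaf 218))) (.node (.node (.node (.leaf 0) (.leaf 243)) (.leaf 159)) (.node (.node (.leaf 0) (.leaf 0)) (.leaf 0)))))) (.node (.node (.node (.node (.node (.node (.leaf 0) (.leaf 0)) (.leaf 0)) (.node (.node (.leaf 0) (.leaf 0)) (.leaf 0))) (.node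 (.node (.node (.leaf 0) (.leaf 0)) (.leaf 0)) (.node (.node (.leaf 0) (.leaf 0)) (.leaf 0)))) (.node (.node (.node (.node (.leaf 0) (.leaf 0)) (.leaf 0)) (.node (.node (.leaf 0) (.leaf 0)) (.leaf 0))) (.node (.node (.node (.leaf 0) (.leaf 315)) (.leaf 111)) (.node (.node (.leaf 179) (.leaf 0)) (.leaf 84))))) (.node (.node (.node (.node (.node (.leaf 0) (.leaf 0)) (.leaf 0)) (.node (.node (.leaf 0) (.leaf 0)) (.leaf 0))) (.node (.node (.node (.leaf 0) (.leaf 315)) (.leaf 0)) (.node (.node (.leaf 108) (.leaf 0)) (.leaf 54)))) (.node (.node (.node (.node (.leaf 0) (.leaf 0)) (.leaf 0)) (.node (.node (.leaf 0) (.leaf 0)) (.leaf 0))) (.node (.node (.node (.leaf 0) (.leaf 315)) (.leaf 0)) (.node (.node (.leaf 0) (.leaf 0)) (.leaf 0)))))))) (.node (.node (.node (.node (.node (.node (.node (.node (.leaf 0) (.leaf 154)) (.node (.leaf 0) (.leaf 0))) (.node (.node (.leaf 0) (.leaf 0)) (.leaf 0))) (.node (.node (.node (.leaf 0) (.leaf 196)) (.leaf 0))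 (.node (.node (.leaf 0) (.leaf 0)) (.leaf 0)))) (.node (.node (.node (.node (.leaf 0) (.leaf 0)) (.leaf 0)) (.node (.node (.leaf 0) (.leaf 0)) (.leaf 0))) (.node (.node (.node (.leaf 0) (.leaf 0)) (.leaf 315)) (.node (.node (.leaf 0) (.leaf 0)) (.leaf 0))))) (.node (.node (.node (.node (.node (.leaf 315) (.leaf 0)) (.leaf 0)) (.node (.node (.leaf 0) (.leaf 0)) (.leaf 0))) (.node (.node (.node (.leaf 0) (.leaf 0)) (.leaf 0)) (.node (.node (.leaf 0) (.leaf 0)) (.leaf 0)))) (.node (.node (.node (.node (.leaf 0) (.leaf 33)) (.leaf 264)) (.node (.node (.leaf 0) (.leaf 0)) (.leaf 0))) (.node (.node (.node (.leaf 0) (.leaf 315)) (.leaf 0)) (.node (.node (.leaf 0) (.leaf 0)) (.leaf 0)))))) (.node (.node (.node (.node (.node (.node (.leaf 0) (.leaf 0)) (.node (.leaf 0) (.leaf 0))) (.node (.node (.leaf 0) (.leaf 0)) (.leaf 274))) (.node (.node (.node (.leaf 0) (.leaf 0)) (.leaf 0)) (.node (.node (.leaf 69) (.leaf 0)) (.leaf 0)))) (.node (.node (.node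 (.node (.leaf 0) (.leaf 0)) (.leaf 0)) (.node (.node (.leaf 0) (.leaf 0)) (.leaf 0))) (.node (.node (.node (.leaf 0) (.leaf 0)) (.leaf 0)) (.node (.node (.leaf 216) (.leaf 0)) (.leaf 0))))) (.node (.node (.node (.node (.node (.leaf 0) (.leaf 95)) (.leaf 0)) (.node (.node (.leaf 0) (.leaf 0)) (.leaf 0))) (.node (.node (.node (.leaf 0) (.leaf 0)) (.leaf 0)) (.node (.node (.leaf 0) (.leaf 0)) (.leaf 0)))) (.node (.node (.node (.node (.leaf 0) (.leaf 0)) (.leaf 315)) (.node (.node (.leaf 158) (.leaf 0)) (.leaf 315))) (.node (.node (.node (.leaf 0) (.leaf 243)) (.leaf 0)) (.node (.node (.leaf 0) (.leaf 0)) (.leaf 0))))))) (.node (.node (.node (.node (.node (.node (.node (.leaf 0) (.leaf 0)) (.node (.leaf 0) (.leaf 0))) (.node (.node (.leaf 0) (.leaf 183)) (.leaf 0))) (.node (.node (.node (.leaf 0) (.leaf 0)) (.leaf 0)) (.node (.node (.leaf 0) (.leaf 0)) (.leaf 0)))) (.node (.node (.node (.node (.leaf 0) (.leaf 0)) (.leaf 0)) (.node (.node (.leaf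 0) (.leaf 0)) (.leaf 0))) (.node (.node (.node (.leaf 0) (.leaf 0)) (.leaf 0)) (.node (.node (.leaf 0) (.leaf 0)) (.leaf 0))))) (.node (.node (.node (.node (.node (.leaf 0) (.leaf 0)) (.leaf 0)) (.node (.node (.leaf 0) (.leaf 0)) (.leaf 0))) (.node (.node (.node (.leaf 0) (.leaf 0)) (.leaf 0)) (.node (.node (.leaf 3) (.leaf 315)) (.leaf 0)))) (.node (.node (.node (.node (.leaf 294) (.leaf 0)) (.leaf 0)) (.node (.node (.leaf 44) (.leaf 315)) (.leaf 0))) (.node (.node (.node (.leaf 0) (.leaf 315)) (.leaf 0)) (.node (.node (.leaf 0) (.leaf 0)) (.leaf 6)))))) (.node (.node (.node (.node (.node (.node (.leaf 0) (.leaf 0)) (.leaf 0)) (.node (.node (.leaf 0) (.leaf 261)) (.leaf 0))) (.node (.node (.node (.leaf 0) (.leaf 0)) (.leaf 0)) (.node (.node (.leaf 0) (.leaf 0)) (.leaf 41)))) (.node (.node (.node (.node (.leaf 0) (.leaf 0)) (.leaf 0)) (.node (.node (.leaf 315) (.leaf 0)) (.leaf 0))) (.node (.node (.node (.leaf 0) (.leaf 243)) (.leaf 40))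 (.node (.node (.leaf 0) (.leaf 0)) (.leaf 0))))) (.node (.node (.node (.node (.node (.leaf 0) (.leaf 0)) (.leaf 0)) (.node (.node (.leaf 0) (.leaf 0)) (.leaf 0))) (.node (.node (.node (.leaf 0) (.leaf 0)) (.leaf 0)) (.node (.node (.leaf 0) (.leaf 0)) (.leaf 0)))) (.node (.node (.node (.node (.leaf 0) (.leaf 0)) (.leaf 0)) (.node (.node (.leaf 0) (.leaf 0)) (.leaf 0))) (.node (.node (.node (.leaf 0) (.leaf 243)) (.leaf 0)) (.node (.node (.leaf 228) (.leaf 0)) (.leaf 0)))))))))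

def eightTab15 : Janko.Tree (ℕ) :=
  (.node (.node (.node (.node (.node (.node (.node (.node (.node (.leaf 0) (.leaf 0)) (.node (.leaf 0) (.leaf 2))) (.node (.node (.leaf 0) (.leaf 0)) (.leaf 111))) (.node (.node (.node (.leaf 0) (.leaf 0)) (.leaf 198)) (.node (.node (.leaf 0) (.leaf 79)) (.leaf 0)))) (.node (.node (.node (.node (.leaf 0) (.leaf 0)) (.leaf 141)) (.node (.node (.leaf 0) (.leaf 0)) (.leaf 0))) (.node (.node (.node (.leaf 0) (.leaf 0)) (.leaf 0)) (.node (.node (.leaf 0) (.leaf 0)) (.leaf 0))))) (.node (.node (.node (.node (.node (.leaf 0) (.leaf 23)) (.leaf 0)) (.node (.node (.leaf 0) (.leaf 0)) (.leaf 0))) (.node (.node (.node (.leaf 0) (.leaf 0)) (.leaf 0)) (.node (.node (.leaf 0) (.leaf 0)) (.leaf 0)))) (.node (.node (.node (.node (.leaf 0) (.leaf 0)) (.leaf 0)) (.node (.node (.leaf 0) (.leaf 0)) (.leaf 292))) (.node (.node (.node (.leaf 0) (.leaf 315)) (.leaf 277)) (.node (.node (.leaf 0) (.leaf 0)) (.leaf 0)))))) (.node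 (.node (.node (.node (.node (.node (.leaf 0) (.leaf 0)) (.node (.leaf 0) (.leaf 0))) (.node (.node (.leaf 0) (.leaf 0)) (.leaf 1))) (.node (.node (.node (.leaf 287) (.leaf 0)) (.leaf 0)) (.node (.node (.leaf 0) (.leaf 186)) (.leaf 243)))) (.node (.node (.node (.node (.leaf 0) (.leaf 0)) (.leaf 0)) (.node (.node (.leaf 0) (.leaf 0)) (.leaf 0))) (.node (.node (.node (.leaf 0) (.leaf 0)) (.leaf 0)) (.node (.node (.leaf 0) (.leaf 0)) (.leaf 61))))) (.node (.node (.node (.node (.node (.leaf 0) (.leaf 0)) (.leaf 0)) (.node (.node (.leaf 0) (.leaf 0)) (.leaf 276))) (.node (.node (.node (.leaf 0) (.leaf 101)) (.leaf 224)) (.node (.node (.leaf 0) (.leaf 0)) (.leaf 3)))) (.node (.node (.node (.node (.leaf 0) (.leaf 0)) (.leaf 314)) (.node (.node (.leaf 0) (.leaf 0)) (.leaf 243))) (.node (.node (.node (.leaf 0) (.leaf 315)) (.leaf 0)) (.node (.node (.leaf 315) (.leaf 150)) (.leaf 0))))))) (.node (.node (.node (.node (.node (.node (.node (.leaf 315)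 (.leaf 0)) (.node (.leaf 0) (.leaf 277))) (.node (.node (.leaf 142) (.leaf 0)) (.leaf 174))) (.node (.node (.node (.leaf 0) (.leaf 0)) (.leaf 0)) (.node (.node (.leaf 0) (.leaf 0)) (.leaf 0)))) (.node (.node (.node (.node (.leaf 0) (.leaf 0)) (.leaf 0)) (.node (.node (.leaf 0) (.leaf 0)) (.leaf 0))) (.node (.node (.node (.leaf 0) (.leaf 0)) (.leaf 0)) (.node (.node (.leaf 0) (.leaf 0)) (.leaf 0))))) (.node (.node (.node (.node (.node (.leaf 0) (.leaf 0)) (.leaf 0)) (.node (.node (.leaf 0) (.leaf 0)) (.leaf 0))) (.node (.node (.node (.leaf 315) (.leaf 18)) (.leaf 0)) (.node (.node (.leaf 0) (.leaf 0)) (.leaf 315)))) (.node (.node (.node (.node (.leaf 0) (.leaf 0)) (.leaf 0)) (.node (.node (.leaf 0) (.leaf 0)) (.leaf 0))) (.node (.node (.node (.leaf 0) (.leaf 243)) (.leaf 0)) (.node (.node (.leaf 0) (.leaf 0)) (.leaf 0)))))) (.node (.node (.node (.node (.node (.node (.leaf 0) (.leaf 0)) (.leaf 0)) (.node (.node (.leaf 0) (.leaf 0)) (.leaf 0)))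 (.node (.node (.node (.leaf 0) (.leaf 0)) (.leaf 78)) (.node (.node (.leaf 0) (.leaf 0)) (.leaf 0)))) (.node (.node (.node (.node (.leaf 170) (.leaf 0)) (.leaf 0)) (.node (.node (.leaf 0) (.leaf 0)) (.leaf 0))) (.node (.node (.node (.leaf 0) (.leaf 315)) (.leaf 66)) (.node (.node (.leaf 0) (.leaf 0)) (.leaf 0))))) (.node (.node (.node (.node (.node (.leaf 216) (.leaf 0)) (.leaf 73)) (.node (.node (.leaf 0) (.leaf 0)) (.leaf 0))) (.node (.node (.node (.leaf 0) (.leaf 0)) (.leaf 0)) (.node (.node (.leaf 0) (.leaf 0)) (.leaf 251)))) (.node (.node (.node (.node (.leaf 0) (.leaf 0)) (.leaf 0)) (.node (.node (.leaf 0) (.leaf 0)) (.leaf 0))) (.node (.node (.node (.leaf 0) (.leaf 315)) (.leaf 0)) (.node (.node (.leaf 0) (.leaf 0)) (.leaf 0)))))))) (.node (.node (.node (.node (.node (.node (.node (.node (.leaf 315) (.leaf 0)) (.node (.leaf 0) (.leaf 0))) (.node (.node (.leaf 0) (.leaf 0)) (.leaf 0))) (.node (.node (.node (.leaf 0) (.leaf 0)) (.leaf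 0)) (.node (.node (.leaf 0) (.leaf 315)) (.leaf 0)))) (.node (.node (.node (.node (.leaf 0) (.leaf 0)) (.leaf 0)) (.node (.node (.leaf 0) (.leaf 177)) (.leaf 33))) (.node (.node (.node (.leaf 0) (.leaf 1)) (.leaf 0)) (.node (.node (.leaf 94) (.leaf 0)) (.leaf 0))))) (.node (.node (.node (.node (.node (.leaf 315) (.leaf 0)) (.leaf 0)) (.node (.node (.leaf 0) (.leaf 251)) (.leaf 0))) (.node (.node (.node (.leaf 0) (.leaf 0)) (.leaf 0)) (.node (.node (.leaf 0) (.leaf 0)) (.leaf 0)))) (.node (.node (.node (.node (.leaf 0) (.leaf 0)) (.leaf 0)) (.node (.node (.leaf 315) (.leaf 0)) (.leaf 0))) (.node (.node (.node (.leaf 152) (.leaf 243)) (.leaf 315)) (.node (.node (.leaf 0) (.leaf 0)) (.leaf 0)))))) (.node (.node (.node (.node (.node (.node (.leaf 0) (.leaf 0)) (.node (.leaf 0) (.leaf 0))) (.node (.node (.leaf 0) (.leaf 0)) (.leaf 295))) (.node (.node (.node (.leaf 0) (.leaf 0)) (.leaf 271)) (.node (.node (.leaf 0) (.leaf 0)) (.leaf 0)))) (.node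 (.node (.node (.node (.leaf 0) (.leaf 0)) (.leaf 198)) (.node (.node (.leaf 0) (.leaf 0)) (.leaf 0))) (.node (.node (.node (.leaf 0) (.leaf 0)) (.leaf 212)) (.node (.node (.leaf 228) (.leaf 0)) (.leaf 0))))) (.node (.node (.node (.node (.node (.leaf 0) (.leaf 0)) (.leaf 0)) (.node (.node (.leaf 0) (.leaf 0)) (.leaf 0))) (.node (.node (.node (.leaf 0) (.leaf 0)) (.leaf 0)) (.node (.node (.leaf 0) (.leaf 0)) (.leaf 251)))) (.node (.node (.node (.node (.leaf 55) (.leaf 0)) (.leaf 0)) (.node (.node (.leaf 0) (.leaf 0)) (.leaf 0))) (.node (.node (.node (.leaf 0) (.leaf 243)) (.leaf 0)) (.node (.node (.leaf 0) (.leaf 0)) (.leaf 0))))))) (.node (.node (.node (.node (.node (.node (.node (.leaf 0) (.leaf 0)) (.node (.leaf 0) (.leaf 91))) (.node (.node (.leaf 0) (.leaf 0)) (.leaf 0))) (.node (.node (.node (.leaf 0) (.leaf 315)) (.leaf 0)) (.node (.node (.leaf 0) (.leaf 52)) (.leaf 0)))) (.node (.node (.node (.node (.leaf 0) (.leaf 0)) (.leaf 0)) (.node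 (.node (.leaf 0) (.leaf 0)) (.leaf 0))) (.node (.node (.node (.leaf 0) (.leaf 0)) (.leaf 0)) (.node (.node (.leaf 0) (.leaf 0)) (.leaf 0))))) (.node (.node (.node (.node (.node (.leaf 0) (.leaf 0)) (.leaf 314)) (.node (.node (.leaf 0) (.leaf 0)) (.leaf 0))) (.node (.node (.node (.leaf 39) (.leaf 67)) (.leaf 0)) (.node (.node (.leaf 0) (.leaf 0)) (.leaf 251)))) (.node (.node (.node (.node (.leaf 0) (.leaf 0)) (.leaf 315)) (.node (.node (.leaf 0) (.leaf 315)) (.leaf 0))) (.node (.node (.node (.leaf 0) (.leaf 315)) (.leaf 0)) (.node (.node (.leaf 0) (.leaf 0)) (.leaf 0)))))) (.node (.node (.node (.node (.node (.node (.leaf 0) (.leaf 0)) (.leaf 315)) (.node (.node (.leaf 0) (.leaf 0)) (.leaf 0))) (.node (.node (.node (.leaf 0) (.leaf 0)) (.leaf 0)) (.node (.node (.leaf 0) (.leaf 0)) (.leaf 0)))) (.node (.node (.node (.node (.leaf 0) (.leaf 315)) (.leaf 0)) (.node (.node (.leaf 0) (.leaf 0)) (.leaf 0))) (.node (.node (.node (.leaf 311) (.leaf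 315)) (.leaf 0)) (.node (.node (.leaf 0) (.leaf 0)) (.leaf 0))))) (.node (.node (.node (.node (.node (.leaf 0) (.leaf 0)) (.leaf 0)) (.node (.node (.leaf 0) (.leaf 0)) (.leaf 0))) (.node (.node (.node (.leaf 0) (.leaf 0)) (.leaf 315)) (.node (.node (.leaf 0) (.leaf 0)) (.leaf 0)))) (.node (.node (.node (.node (.leaf 0) (.leaf 0)) (.leaf 0)) (.node (.node (.leaf 107) (.leaf 0)) (.leaf 0))) (.node (.node (.node (.leaf 0) (.leaf 315)) (.leaf 0)) (.node (.node (.leaf 0) (.leaf 0)) (.leaf 166)))))))))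

def eightTab : Janko.Tree (ℕ) :=
  (.node (.node (.node (.node eightTab0 eightTab8) (.node eightTab4 eightTab12)) (.node (.node eightTab2 eightTab10) (.node eightTab6 eightTab14))) (.node (.node (.node eightTab1 eightTab9) (.node eightTab5 eightTab13)) (.node (.node eightTab3 eightTab11) (.node eightTab7 eightTab15))))

end Cfsg.Agent.Lie.J2Cert
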