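import Cfsg.Agent.Lib.Lie.Ico.SimpleDefs
import Cfsg.Agent.Lib.Lie.Ico.AutData

/-!
Boolean tests for the automorphism group of the Hall–Janko group.
-/

set_option autoImplicit false
set_option maxRecDepth 100000
set_option maxHeartbeats 0

namespace Cfsg.Agent.Lie.J2Cert

open Cfsg.Agent.Lie.Janko (M7)

/-- One of the five chosen reflections. -/
def autPt (k : ℕ) : ℕ := autFive.getD k 0

/-- The product of the reflections along a word. -/
def wordMat (pts : List ℕ) (w : List ℕ) : M7 :=
  w.foldr (fun k A => (reflMat.get (pts.getD k 0)).mul A) M7.one

/-- A list of reflections satisfies the relations. -/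
def relOk (R : List (List ℕ × ℕ)) (pts : List ℕ) : Bool :=
  R.all fun p => isPlusMinus ((wordMat pts p.1).pow p.2)

/-- The product with the first reflection has order dividing three. -/
def threeOk (j : ℕ) : Bool := isPlusMinus (((reflMat.get 0).mul (reflMat.get j)).pow 3)

/-- The candidates for the image of the third point. -/
def okThird (j : ℕ) : Bool := relOk autRelThree [autPt 0, autPt 1, j]

/-- The candidates for the image of the fourth point. -/
def okFourth (j m : ℕ) : Bool := relOk autRelFour [autPt 0, autPt 1, j, m]

/-- The number of candidates for the fourth point is at most three. -/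
def fourthCheck (j : ℕ) : Bool :=
  !(okThird j) || Nat.ble ((List.range 315).countP fun m => okFourth j m) 3

/-- Conjugation by one of the five chosen reflections. -/
def autConj (k : ℕ) (j : ℕ) : ℕ :=
  match k with
  | 0 => autConjA.get j
  | 1 => autConjB.get j
  | 2 => autConjC.get j
  | 3 => autConjD.get j
  | _ => autConjE.get j

/-- The image of one of the first four chosen reflections among the five. -/
def autTarget (k : ℕ) : ℕ := if k = 2 then 4 else k

/-- The outer permutation and the orbit of the four reflections. -/
def outerCheck (j : ℕ) : Bool :=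
  (([0, 1, 2, 3, 4].all fun k => conjOk (reflMat.get (autPt k)) j (autConj k j)) &&
    ([0, 1, 2, 3].all fun k => Nat.beq (autPi.get (autConj k j)) (autConj (autTarget k) (autPi.get j)))) &&
  (Nat.blt (autPi.get j) 315 && (Nat.blt (autPiInv.get j) 315 && (Nat.beq (autPi.get (autPiInv.get j)) j &&
    (Nat.beq (autPiInv.get (autPi.get j)) j &&
      ((Nat.beq (autPar.get j).1 4 && [0, 1, 2, 3].any fun k => Nat.beq (autPt k) j) ||
        (Nat.blt (autPar.get j).1 4 && (Nat.blt (autPar.get j).2 315 &&
          (Nat.blt (autRank.get (autPar.get j).2) (autRank.get j) &&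
            Nat.beq (autConj (autPar.get j).1 (autPar.get j).2) j))))))))

/-- An element fixing the first two points. -/
def fixCheck (i : ℕ) : Bool :=
  let A := cmat (autFix.getD i (0, 0, false))
  cBound (autFix.getD i (0, 0, false)) && (conjOk A (autPt 0) (autPt 0) && (conjOk A (autPt 1) (autPt 1) &&
    (conjOk A (autPt 2) (autFixImage.getD i 0) && !(Nat.beq (autFixImage.getD i 0) (autPt 4)))))

/-- The fourth power of a class representative with exponent eight. -/
def eightCheck (k : ℕ) : Bool :=
  !(Nat.beq (classPow.get k) 8) ||
    (let z := sqr (sqr ((borel.get (k % 160)).mul (reps.get (classReps.getD (k / 160) 0))))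
     isPlusMinus z || (Nat.blt (eightTab.get k) 315 && pmEq z (reflMat.get (eightTab.get k))))

end Cfsg.Agent.Lie.J2Cert
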