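import Mathlib
import Cfsg.Prelude.Def_KGroupFacts
import Cfsg.Agent.Lib.Lie.Ico.SimpleAction
import Cfsg.Agent.Lib.Lie.Ico.AutChecks

/-!
The automorphism group of the Hall–Janko group is twice as large as the group itself.
-/

set_option autoImplicit false
set_option maxRecDepth 20000
set_option maxHeartbeats 1000000

noncomputable section

namespace Cfsg.Agent.Lie.J2Cert

open Cfsg.Agent.Lie Janko Cfsg.Spor

theorem proj_sgU {f : twoJ2} {z : twoJ2} {s : Bool} (h : Ico.beta f = sgU s * Ico.beta z) : proj f = proj z := by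
  rw [proj_eq_iff, h, show nU = sgU true from rfl, ← mul_assoc, sgU_mul]
  cases s
  · exact Or.inl (one_mul _)
  · exact Or.inr (one_mul _)

/-- The class representative of an element up to sign. -/
theorem exists_class {g : GL (Fin 7) (ZMod 11)} (hg : g ∈ K) : ∃ h ∈ K, ∃ t m : ℕ, t < 39 ∧ m < 160 ∧
    ∃ s : Bool, h * g * h⁻¹ = sgU s * (bU m * rU (classReps.getD t 0)) := by
  obtain ⟨i, k, f, hi, hk, rfl⟩ := inCosets_of_mem hg
  have hc := conj_fact hi
  simp only [conjCheck, Bool.and_eq_true, Nat.blt_eq] at hc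
  obtain ⟨he, ht, h1, h2⟩ := hc
  set t := (conjTab.get i).1
  set k1 := (conjTab.get i).2.1
  set k2 := (conjTab.get i).2.2.1
  set f1 := (conjTab.get i).2.2.2
  have hr : rU i = sgU f1 * (bU k1 * rU (classReps.getD t 0) * bU k2) :=
    (r_rep hi).eq (sgn_rep (((b_rep h1).mul (r_rep (classRep_lt t ht))).mul (b_rep h2)) f1)
      (by rw [M7.eq_of_beq he]; exact beq_self _)
  obtain ⟨m', hm', f2, e2⟩ := b_mul h2 k hk
  obtain ⟨m, hm, f3, e3⟩ := b_mul hm' k1 h1
  refine ⟨bU k2, b_mem k2, t, m, ht, hm, xor f (xor f1 (xor f2 f3)), ?_⟩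
  rw [← mul_assoc (bU k2) (sgU f), ← sgU_central f (b_mem k2), hr, ← mul_assoc (bU k) (sgU f1),
    ← sgU_central f1 (b_mem k), mul_assoc (sgU f1), ← mul_assoc (sgU f * bU k2), mul_assoc (sgU f) (bU k2) (sgU f1),
    ← sgU_central f1 (b_mem k2)]
  rw [← sgU_mul, ← sgU_mul, ← sgU_mul]
  simp only [mul_assoc, mul_inv_cancel, mul_one]
  rw [← mul_assoc (bU k2) (bU k), e2, mul_assoc (sgU f2) (bU m'), ← mul_assoc (bU m') (bU k1), e3, mul_assoc (sgU f3)]

theorem eight_fact {k : ℕ} (hk : k < 6240) : eightCheck k = true := by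
  rcases Nat.lt_or_ge k 3120 with h | h
  · exact List.all_eq_true.1 eight_ok0 k (List.mem_range.2 h)
  · rw [show k = 3120 + (k - 3120) by omega]
    exact List.all_eq_true.1 eight_ok1 _ (List.mem_range.2 (by omega))

/-- The fourth power of an element of order eight is a reflection. -/
theorem pow_four_of_order_eight {x : J2} (hx : orderOf x = 8) : ∃ j, x ^ 4 = tJ j := by
  obtain ⟨f, rfl⟩ := proj_surjective x
  obtain ⟨h, hh, t, m, ht, hm, s, e⟩ := exists_class (beta_mem f)
  obtain ⟨u, hu⟩ := exists_beta hh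
  obtain ⟨z, hz⟩ := exists_beta (mul_mem (b_mem m) (r_mem (classReps.getD t 0)))
  have hzr : Rep (Ico.beta z) ((borel.get m).mul (reps.get (classReps.getD t 0))) :=
    hz ▸ (b_rep hm).mul (r_rep (classRep_lt t ht))
  have hcj : proj u * proj f * (proj u)⁻¹ = proj z := by
    rw [← map_mul, ← map_inv, ← map_mul]
    exact proj_sgU (s := s) (by rw [map_mul, map_mul, map_inv, hu, hz, e])
  have hz8 : orderOf (proj z) = 8 := by
    rw [← hcj, ← MulAut.conj_apply, MulEquiv.orderOf_eq, hx]
  have hp := pow_fact (show t * 160 + m < 6240 by omega)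
  simp only [powCheck, Bool.and_eq_true, show (t * 160 + m) % 160 = m by omega,
    show (t * 160 + m) / 160 = t by omega] at hp
  have hn := List.contains_iff_mem.1 hp.1
  have hpow : proj z ^ classPow.get (t * 160 + m) = 1 := by
    rw [← map_pow, proj_eq_one, map_pow]
    exact (isPM_iff (fastPow_rep hzr hn)).1 hp.2
  have hd := orderOf_dvd_of_pow_eq_one hpow
  rw [hz8] at hd
  have h8 : classPow.get (t * 160 + m) = 8 := by
    have : ∀ n ∈ allowed, 8 ∣ n → n = 8 := by decide
    exact this _ hn hd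
  have he := eight_fact (show t * 160 + m < 6240 by omega)
  simp only [eightCheck, h8, show Nat.beq 8 8 = true from rfl, Bool.not_true, Bool.false_or, Bool.or_eq_true,
    Bool.and_eq_true, Nat.blt_eq, show (t * 160 + m) % 160 = m by omega,
    show (t * 160 + m) / 160 = t by omega] at he
  have hr4 : Rep (Ico.beta (z * z * (z * z))) (sqr (sqr ((borel.get m).mul (reps.get (classReps.getD t 0))))) := by
    rw [map_mul, map_mul]
    exact sqr_rep (sqr_rep hzr)
  have e4 : proj (z * z * (z * z)) = proj z ^ 4 := by simp [map_mul, pow_succ, mul_assoc]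
  rcases he with he | ⟨hlt, he⟩
  · exfalso
    have h1 : proj (z * z * (z * z)) = 1 := (proj_eq_one _).2 ((isPM_iff hr4).1 he)
    rw [e4] at h1
    have := orderOf_dvd_of_pow_eq_one h1
    rw [hz8] at this
    omega
  · have h1 : proj (z * z * (z * z)) = tJ ⟨_, hlt⟩ := by
      rw [tJ, proj_eq_iff, beta_reflElt]
      exact (pmEq_iff hr4 (RU_rep ⟨_, hlt⟩)).1 he
    rw [e4, ← hcj, conj_pow] at h1
    refine ⟨(proj u)⁻¹ • (⟨_, hlt⟩ : Fin 315), ?_⟩
    rw [← conj_tJ, ← h1]
    group

theorem exists_root_eight (j : Fin 315) : ∃ y : J2, orderOf y = 8 ∧ tJ j = y ^ 4 := by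
  obtain ⟨y, hy⟩ := exists_order (show 8 ∈ allowed by decide)
  obtain ⟨i, hi⟩ := pow_four_of_order_eight hy
  obtain ⟨a, ha⟩ := exists_to i
  obtain ⟨b, hb⟩ := exists_to j
  refine ⟨MulAut.conj (proj b * (proj a)⁻¹) y, by rw [MulEquiv.orderOf_eq, hy], ?_⟩
  rw [← map_pow, hi, MulAut.conj_apply, conj_tJ, mul_smul]
  congr 1
  rw [show (proj a)⁻¹ • i = (0 : Fin 315) from inv_smul_eq_iff.2 (by rw [smul_proj, ha]), smul_proj, hb]

theorem aut_refl (α : MulAut J2) (j : Fin 315) : ∃ i, α (tJ j) = tJ i := by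
  obtain ⟨y, hy, e⟩ := exists_root_eight j
  rw [e, map_pow]
  exact pow_four_of_order_eight (by rw [MulEquiv.orderOf_eq, hy])

/-- The permutation of the reflections induced by an automorphism. -/
def autImage (α : MulAut J2) (j : Fin 315) : Fin 315 := (aut_refl α j).choose

theorem autImage_spec (α : MulAut J2) (j : Fin 315) : α (tJ j) = tJ (autImage α j) := (aut_refl α j).choose_spec

theorem autImage_inj (α : MulAut J2) : Function.Injective (autImage α) := fun a b e =>
  tJ_injective (α.injective (by rw [autImage_spec, autImage_spec, e]))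

/-- The product of reflections along a word. -/
def wordEl (pts : List (Fin 315)) (w : List ℕ) : J2 := (w.map fun k => tJ (pts.getD k 0)).prod

theorem word_rep (pts : List (Fin 315)) (w : List ℕ) :
    ∃ f : twoJ2, Rep (Ico.beta f) (wordMat (pts.map Fin.val) w) ∧ proj f = wordEl pts w := by
  induction w with
  | nil => exact ⟨1, by rw [map_one]; exact Rep.one, map_one proj⟩
  | cons k w ih =>
    obtain ⟨f, hf, e⟩ := ih
    refine ⟨refl (pts.getD k 0) * f, ?_, ?_⟩
    · have hk : (pts.map Fin.val).getD k 0 = ((pts.getD k 0 : Fin 315) : ℕ) := by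
        simp [List.getD_eq_getElem?_getD, List.getElem?_map]
        cases pts[k]? <;> rfl
      show Rep _ ((reflMat.get ((pts.map Fin.val).getD k 0)).mul (wordMat (pts.map Fin.val) w))
      rw [map_mul, beta_reflElt, hk]
      exact (RU_rep _).mul hf
    · rw [map_mul, e]
      simp [wordEl, tJ]

theorem relOk_iff (R : List (List ℕ × ℕ)) (pts : List (Fin 315)) :
    relOk R (pts.map Fin.val) = true ↔ ∀ p ∈ R, wordEl pts p.1 ^ p.2 = 1 := by
  rw [relOk, List.all_eq_true]
  refine forall₂_congr fun p _ => ?_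
  obtain ⟨f, hf, e⟩ := word_rep pts p.1
  rw [← e, ← map_pow, proj_eq_one, map_pow]
  exact isPM_iff (hf.pow _)

theorem relOk_map (α : MulAut J2) {R : List (List ℕ × ℕ)} {pts : List (Fin 315)}
    (hb : ∀ p ∈ R, ∀ k ∈ p.1, k < pts.length) (h : relOk R (pts.map Fin.val) = true) :
    relOk R ((pts.map (autImage α)).map Fin.val) = true := by
  rw [relOk_iff] at h ⊢
  intro p hp
  have e : wordEl (pts.map (autImage α)) p.1 = α (wordEl pts p.1) := by
    rw [wordEl, wordEl, map_list_prod, List.map_map]
    refine congrArg List.prod (List.map_congr_left fun k hk => ?_)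
    have hk' := hb p hp k hk
    simp only [Function.comp_apply, List.getD_eq_getElem _ _ hk',
      List.getD_eq_getElem _ _ (show k < (pts.map (autImage α)).length by rwa [List.length_map]), List.getElem_map,
      autImage_spec]
  rw [e, ← map_pow, h p hp, map_one]

theorem three_iff (j : Fin 315) : threeOk j = true ↔ (tJ 0 * tJ j) ^ 3 = 1 := by
  rw [tJ, tJ, ← map_mul, ← map_pow, proj_eq_one, map_pow, map_mul, beta_reflElt, beta_reflElt, threeOk]
  exact isPM_iff (((RU_rep 0).mul (RU_rep j)).pow 3)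

/-- One of the five chosen reflections. -/
def five (k : Fin 5) : Fin 315 := ⟨autPt k, by revert k; decide +kernel⟩

theorem five_vals : five 0 = 0 ∧ five 1 = 2 ∧ five 2 = 4 ∧ five 3 = 5 ∧ five 4 = 67 := by
  obtain ⟨h0, h1, h2, h3, h4, -⟩ := autFive_ok
  exact ⟨Fin.ext h0, Fin.ext h1, Fin.ext h2, Fin.ext h3, Fin.ext h4⟩

theorem five_smul (k : Fin 5) (j : Fin 315) : ((tJ (five k) • j : Fin 315) : ℕ) = autConj k j := by
  have h := List.all_eq_true.1 outer_ok j (List.mem_range.2 j.2)
  simp only [outerCheck, Bool.and_eq_true, List.all_eq_true] at h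
  have hk := h.1.1 k.val (by fin_cases k <;> simp)
  obtain ⟨_, e⟩ := conjOk_spec (f := refl (five k)) (by rw [beta_reflElt]; exact RU_rep (five k)) j.2 hk
  rw [tJ, smul_proj, show (⟨(j : ℕ), j.2⟩ : Fin 315) = j from rfl] at *
  rw [e]

/-- The first four reflections generate. -/
theorem closure_four : Subgroup.closure (Set.range fun k : Fin 4 => tJ (five k.castSucc)) = ⊤ := by
  rw [eq_top_iff, ← closure_tJ, Subgroup.closure_le]
  rintro _ ⟨j, rfl⟩
  induction hr : autRank.get j using Nat.strong_induction_on generalizing j with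
  | _ n ih =>
    have h := List.all_eq_true.1 outer_ok j (List.mem_range.2 j.2)
    simp only [outerCheck, Bool.and_eq_true, Bool.or_eq_true, Nat.blt_eq, Nat.beq_eq, List.any_eq_true] at h
    obtain ⟨-, -, -, -, -, h⟩ := h
    rcases h with ⟨-, k, hk, e⟩ | ⟨hk, hx, hlt, e⟩
    · have hk4 : k < 4 := (show ∀ x ∈ [0, 1, 2, 3], x < 4 by decide) k hk
      exact Subgroup.subset_closure ⟨⟨k, hk4⟩, congrArg tJ (Fin.ext e)⟩
    · have hs : tJ (five (⟨(autPar.get j).1, hk⟩ : Fin 4).castSucc) ∈
          Subgroup.closure (Set.range fun k : Fin 4 => tJ (five k.castSucc)) := Subgroup.subset_closure ⟨_, rfl⟩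
      have hx' := ih _ (hr ▸ hlt) (⟨(autPar.get j).2, hx⟩ : Fin 315) rfl
      have ej : j = tJ (five (⟨(autPar.get j).1, hk⟩ : Fin 4).castSucc) • (⟨(autPar.get j).2, hx⟩ : Fin 315) :=
        Fin.ext (by rw [five_smul]; exact e.symm)
      rw [ej, ← conj_tJ]
      exact mul_mem (mul_mem hs hx') (inv_mem hs)

theorem aut_ext {α β : MulAut J2} (h : ∀ k : Fin 4, α (tJ (five k.castSucc)) = β (tJ (five k.castSucc))) : α = β := by
  have : α.toMonoidHom = β.toMonoidHom := MonoidHom.eq_of_eqOn_dense closure_four (by rintro _ ⟨k, rfl⟩; exact h k)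
  exact MulEquiv.ext fun x => DFunLike.congr_fun this x

/-- The points paired with the first one. -/
def secondSet : Finset (Fin 315) := Finset.univ.filter fun j => Nat.beq (orbitLabel.get j.val) 2 = true

theorem card_second : secondSet.card = 160 := by
  rw [secondSet, card_filter_eq 315 fun j => Nat.beq (orbitLabel.get j) 2]
  exact autFive_ok.2.2.2.2.2.2.2

theorem second_transitive : ∀ j ∈ secondSet, ∃ x : J2, x • (0 : Fin 315) = 0 ∧ x • (2 : Fin 315) = j := by
  intro j hj
  simp only [secondSet, Finset.mem_filter, Finset.mem_univ, true_and, Nat.beq_eq] at hj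
  induction hr : orbitRank.get j using Nat.strong_induction_on generalizing j with
  | _ n ih =>
    have h := List.all_eq_true.1 orbit_ok j (List.mem_range.2 j.2)
    simp only [orbitCheck, Bool.and_eq_true, Bool.or_eq_true, Nat.blt_eq, Nat.beq_eq] at h
    obtain ⟨-, -, -, h⟩ := h
    rcases h with ⟨-, he⟩ | ⟨hlt, hp, hact, hlab⟩
    · refine ⟨1, one_smul _ _, ?_⟩
      rw [one_smul]
      exact Fin.ext (by rw [he, hj, autFive_ok.2.2.2.2.2.2.1]; rfl)
    · obtain ⟨x, hx0, hx⟩ := ih _ (hr ▸ hlt) ⟨_, hp⟩ (by show orbitLabel.get (orbitPar.get j).1 = 2; rw [hlab, hj]) rfl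
      obtain ⟨f, hf0, hf⟩ := stab_exists (orbitPar.get j).2
      refine ⟨proj f * x, by rw [mul_smul, hx0, smul_proj, hf0], ?_⟩
      rw [mul_smul, hx, smul_proj]
      exact Fin.ext (by rw [hf]; exact hact)

theorem mem_second {j : Fin 315} (h0 : j ≠ 0) (h3 : (tJ 0 * tJ j) ^ 3 = 1) : j ∈ secondSet := by
  have h := List.all_eq_true.1 three_ok.1 j (List.mem_range.2 j.2)
  simp only [Bool.or_eq_true, Bool.not_eq_true', Nat.beq_eq] at h
  rcases h with h | h | h
  · exact absurd (Fin.ext h) h0
  · rw [(three_iff j).2 h3] at h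
    exact Bool.noConfusion h
  · simpa [secondSet, Nat.beq_eq] using h

/-- Ordered pairs of reflections with product of order three. -/
def pairSet : Finset (Fin 315 × Fin 315) :=
  @Finset.filter _ (fun p => p.2 ≠ p.1 ∧ (tJ p.1 * tJ p.2) ^ 3 = 1) (Classical.decPred _) Finset.univ

theorem three_move {a : J2} {p q : Fin 315} (ha : a • (0 : Fin 315) = p) (hne : q ≠ p) (h : (tJ p * tJ q) ^ 3 = 1) :
    a⁻¹ • q ∈ secondSet := by
  refine mem_second (fun e => hne ?_) ?_
  · rw [← ha, ← e, smul_inv_smul]
  · have e0 : tJ 0 = a⁻¹ * tJ p * a⁻¹⁻¹ := by rw [conj_tJ, ← ha, inv_smul_smul]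
    rw [← conj_tJ, e0, conj_mul, conj_pow, h, mul_one, mul_inv_cancel]

theorem pair_move {p : Fin 315 × Fin 315} (hp : p ∈ pairSet) :
    ∃ g : J2, g • (0 : Fin 315) = p.1 ∧ g • (2 : Fin 315) = p.2 := by
  simp only [pairSet, Finset.mem_filter, Finset.mem_univ, true_and] at hp
  obtain ⟨a, ha⟩ := MulAction.exists_smul_eq J2 (0 : Fin 315) p.1
  have hq : a⁻¹ • p.2 ∈ secondSet := three_move ha hp.1 hp.2
  obtain ⟨c, hc0, hc2⟩ := second_transitive _ hq
  exact ⟨a * c, by rw [mul_smul, hc0, ha], by rw [mul_smul, hc2, smul_inv_smul]⟩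

theorem card_pairs : pairSet.card ≤ 50400 := by
  classical
  choose g hg0 hg2 using fun j : Fin 315 => (⟨_, (MulAction.exists_smul_eq J2 (0 : Fin 315) j).choose_spec, trivial⟩ :
    ∃ g : J2, g • (0 : Fin 315) = j ∧ True)
  have h := Finset.card_le_card_of_injOn (s := pairSet) (t := (Finset.univ : Finset (Fin 315)) ×ˢ secondSet)
    (fun p => (p.1, (g p.1)⁻¹ • p.2)) (fun p hp => by
      simp only [pairSet, Finset.mem_coe, Finset.mem_filter, Finset.mem_univ, true_and] at hp
      simp only [Finset.mem_coe, Finset.mem_product, Finset.mem_univ, true_and]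
      exact three_move (hg0 p.1) hp.1 hp.2)
    (fun p _ q _ e => by
      have e1 : p.1 = q.1 := (congrArg Prod.fst e :)
      have e2 : (g p.1)⁻¹ • p.2 = (g q.1)⁻¹ • q.2 := (congrArg Prod.snd e :)
      rw [e1] at e2
      exact Prod.ext e1 (MulAction.injective _ e2))
  rwa [Finset.card_product, Finset.card_univ, Fintype.card_fin, card_second] at h

theorem five_pts : [five 0, five 1, five 2].map Fin.val = [autPt 0, autPt 1, autPt 2] ∧
    [five 0, five 1, five 2, five 3].map Fin.val = [autPt 0, autPt 1, autPt 2, autPt 3] :=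
  ⟨rfl, rfl⟩

attribute [local irreducible] relOk threeOk okThird okFourth autImage

instance : Finite (MulAut J2) :=
  Finite.of_injective (fun α : MulAut J2 => (α : J2 → J2)) fun _ _ e => DFunLike.coe_injective e

theorem card_fixing : Nat.card {α : MulAut J2 // autImage α (five 0) = five 0 ∧ autImage α (five 1) = five 1} ≤ 24 := by
  classical
  let S : Finset ((_ : Fin 315) × Fin 315) :=
    (Finset.univ.filter fun j : Fin 315 => okThird j.val = true).sigma
      fun j => Finset.univ.filter fun m : Fin 315 => okFourth j.val m.val = true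
  have hS : S.card ≤ 24 := by
    rw [Finset.card_sigma]
    refine (Finset.sum_le_card_nsmul _ _ 3 fun j hj => ?_).trans ?_
    · simp only [Finset.mem_filter, Finset.mem_univ, true_and] at hj
      have h := List.all_eq_true.1 fourth_ok j (List.mem_range.2 j.2)
      simp only [fourthCheck, hj, Bool.not_true, Bool.false_or, Nat.ble_eq] at h
      rwa [card_filter_eq 315 fun m => okFourth j m]
    · rw [card_filter_eq 315 okThird, smul_eq_mul]
      exact Nat.mul_le_mul_right 3 third_ok.1
  let F : {α : MulAut J2 // autImage α (five 0) = five 0 ∧ autImage α (five 1) = five 1} → S := fun α =>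
    ⟨⟨autImage α.1 (five 2), autImage α.1 (five 3)⟩, by
      obtain ⟨α, h0, h1⟩ := α
      simp only [S, Finset.mem_sigma, Finset.mem_filter, Finset.mem_univ, true_and]
      have b3 : ∀ p ∈ autRelThree, ∀ k ∈ p.1, k < 3 := by decide
      have b4 : ∀ p ∈ autRelFour, ∀ k ∈ p.1, k < 4 := by decide
      have r3 := relOk_map α (pts := [five 0, five 1, five 2]) b3 (by rw [five_pts.1]; simpa only [okThird] using third_ok.2.1)
      have r4 := relOk_map α (pts := [five 0, five 1, five 2, five 3]) b4 (by rw [five_pts.2]; simpa only [okFourth] using third_ok.2.2)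
      simp only [List.map_cons, List.map_nil, h0, h1] at r3 r4
      simp only [okThird, okFourth]
      exact ⟨r3, r4⟩⟩
  have hF : Function.Injective F := by
    rintro ⟨α, a0, a1⟩ ⟨β, b0, b1⟩ e
    have e' := congrArg Subtype.val e
    simp only [F, Sigma.mk.injEq, heq_eq_eq] at e'
    refine Subtype.ext (aut_ext fun k => ?_)
    rw [autImage_spec, autImage_spec]
    congr 1
    fin_cases k
    exacts [a0.trans b0.symm, a1.trans b1.symm, e'.1, e'.2]
  have := Nat.card_le_card_of_injective F hF
  rw [Nat.card_eq_fintype_card (α := ↥S), Fintype.card_coe] at this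
  exact this.trans hS

theorem autImage_conj (g : J2) (α : MulAut J2) (j : Fin 315) : autImage (MulAut.conj g * α) j = g • autImage α j :=
  tJ_injective (by
    rw [← autImage_spec, ← conj_tJ, ← autImage_spec]
    rfl)

theorem card_aut : Nat.card (MulAut J2) ≤ 1209600 := by
  classical
  have hmem : ∀ α : MulAut J2, (autImage α (five 0), autImage α (five 1)) ∈ pairSet := by
    intro α
    simp only [pairSet, Finset.mem_filter, Finset.mem_univ, true_and]
    obtain ⟨v0, v1, -⟩ := five_vals
    rw [v0, v1]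
    refine ⟨fun e => absurd (autImage_inj α e) (show (2 : Fin 315) ≠ 0 by decide), ?_⟩
    rw [← autImage_spec, ← autImage_spec, ← map_mul, ← map_pow]
    have h2 : (tJ 0 * tJ 2) ^ 3 = 1 := (three_iff 2).1 (by rw [show ((2 : Fin 315) : ℕ) = 2 from rfl]; exact three_ok.2)
    rw [h2, map_one]
  choose g hg0 hg2 using fun p : pairSet => pair_move p.2
  obtain ⟨v0, v1, -⟩ := five_vals
  let F : MulAut J2 → pairSet × {α : MulAut J2 // autImage α (five 0) = five 0 ∧ autImage α (five 1) = five 1} :=
    fun α => (⟨_, hmem α⟩, ⟨MulAut.conj (g ⟨_, hmem α⟩)⁻¹ * α, by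
      constructor
      · rw [autImage_conj, inv_smul_eq_iff]
        exact (((congrArg (g ⟨_, hmem α⟩ • ·) v0).trans (hg0 ⟨_, hmem α⟩)).symm :)
      · rw [autImage_conj, inv_smul_eq_iff]
        exact (((congrArg (g ⟨_, hmem α⟩ • ·) v1).trans (hg2 ⟨_, hmem α⟩)).symm :)⟩)
  have hF : Function.Injective F := by
    intro α β e
    have e1 : (⟨_, hmem α⟩ : pairSet) = ⟨_, hmem β⟩ := congrArg Prod.fst e
    have e2 := congrArg Subtype.val (congrArg Prod.snd e)
    simp only [F, e1] at e2
    exact mul_left_cancel e2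
  refine (Nat.card_le_card_of_injective F hF).trans ?_
  rw [Nat.card_prod, Nat.card_eq_fintype_card (α := pairSet), Fintype.card_coe]
  exact (Nat.mul_le_mul card_pairs card_fixing).trans (by norm_num)

/-- The outer permutation. -/
def outerPerm : Equiv.Perm (Fin 315) where
  toFun j := ⟨autPi.get j, by
    have h := List.all_eq_true.1 outer_ok j (List.mem_range.2 j.2)
    simp only [outerCheck, Bool.and_eq_true, Nat.blt_eq] at h
    exact h.2.1⟩
  invFun j := ⟨autPiInv.get j, by
    have h := List.all_eq_true.1 outer_ok j (List.mem_range.2 j.2)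
    simp only [outerCheck, Bool.and_eq_true, Nat.blt_eq] at h
    exact h.2.2.1⟩
  left_inv j := by
    have h := List.all_eq_true.1 outer_ok j (List.mem_range.2 j.2)
    simp only [outerCheck, Bool.and_eq_true, Nat.blt_eq, Nat.beq_eq] at h
    exact Fin.ext h.2.2.2.2.1
  right_inv j := by
    have h := List.all_eq_true.1 outer_ok j (List.mem_range.2 j.2)
    simp only [outerCheck, Bool.and_eq_true, Nat.blt_eq, Nat.beq_eq] at h
    exact Fin.ext h.2.2.2.1

/-- The target of one of the first four reflections. -/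
def target (k : Fin 4) : Fin 5 := ![0, 1, 4, 3] k

theorem outer_conj (k : Fin 4) :
    outerPerm * actHom (tJ (five k.castSucc)) * outerPerm⁻¹ = actHom (tJ (five (target k))) := by
  rw [mul_inv_eq_iff_eq_mul]
  refine Equiv.ext fun j => Fin.ext ?_
  have h := List.all_eq_true.1 outer_ok j (List.mem_range.2 j.2)
  simp only [outerCheck, Bool.and_eq_true, List.all_eq_true, Nat.beq_eq] at h
  have hk := h.1.2 k.val (by fin_cases k <;> simp)
  show autPi.get ((tJ (five k.castSucc) • j : Fin 315) : ℕ) = ((tJ (five (target k)) • outerPerm j : Fin 315) : ℕ)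
  rw [five_smul, five_smul, Fin.val_castSucc, hk]
  fin_cases k <;> rfl

theorem exists_outer : ∃ α : MulAut J2, ∀ k : Fin 4, α (tJ (five k.castSucc)) = tJ (five (target k)) := by
  let c : J2 →* Equiv.Perm (Fin 315) := (MulAut.conj outerPerm).toMonoidHom.comp actHom
  have hc : ∀ x, c x ∈ actHom.range := by
    intro x
    have hx : x ∈ actHom.range.comap c := by
      refine (Subgroup.closure_le _).2 ?_ (closure_four ▸ Subgroup.mem_top x)
      rintro _ ⟨k, rfl⟩
      exact ⟨_, (outer_conj k).symm⟩
    exact hx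
  let b : J2 →* J2 := (MonoidHom.ofInjective actHom_injective).symm.toMonoidHom.comp (c.codRestrict actHom.range hc)
  have hb : ∀ x, actHom (b x) = c x := fun x =>
    congrArg Subtype.val ((MonoidHom.ofInjective actHom_injective).apply_symm_apply ⟨c x, hc x⟩)
  have hinj : Function.Injective b := fun x y e => by
    have h := congrArg actHom e
    rw [hb, hb] at h
    exact actHom_injective ((MulAut.conj outerPerm).injective h)
  exact ⟨MulEquiv.ofBijective b (Finite.injective_iff_bijective.1 hinj), fun k =>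
    actHom_injective ((hb _).trans (outer_conj k))⟩

theorem fixing_list {g : J2} (h0 : g • five 0 = five 0) (h1 : g • five 1 = five 1) : g • five 2 ≠ five 4 := by
  classical
  obtain ⟨hfix, hnd, hlen⟩ := fix_ok
  have hex : ∀ i : Fin 12, ∃ f : twoJ2, proj f • five 0 = five 0 ∧ proj f • five 1 = five 1 ∧
      proj f • five 2 ≠ five 4 ∧ Rep (Ico.beta f) (cmat (autFix.getD i (0, 0, false))) := by
    intro i
    have h := List.all_eq_true.1 hfix i (List.mem_range.2 i.2)
    simp only [fixCheck, Bool.and_eq_true, Bool.not_eq_true', ← Bool.not_eq_true, Nat.beq_eq] at h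
    obtain ⟨hb, c0, c1, c2, c3⟩ := h
    obtain ⟨f, hf⟩ := exists_cmat hb
    refine ⟨f, ?_, ?_, ?_, hf⟩
    · obtain ⟨_, e⟩ := conjOk_spec hf (five 0).2 c0
      exact e
    · obtain ⟨_, e⟩ := conjOk_spec hf (five 1).2 c1
      exact e
    · obtain ⟨_, e⟩ := conjOk_spec hf (five 2).2 c2
      intro e'
      exact c3 (congrArg Fin.val (e.symm.trans e'))
  choose f hf0 hf1 hf2 hfr using hex
  let X := {x : J2 // x • five 0 = five 0 ∧ x • five 1 = five 1}
  let L : Fin 12 → X := fun i => ⟨proj (f i), hf0 i, hf1 i⟩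
  have hL : Function.Injective L := by
    intro i j e
    have e3 : proj (f i) = proj (f j) := congrArg Subtype.val e
    have hi : i.val < autFix.length := hlen.symm ▸ i.2
    have hj : j.val < autFix.length := hlen.symm ▸ j.2
    have bd : ∀ i : Fin 12, (autFix.getD i (0, 0, false)).1 < 160 ∧ (autFix.getD i (0, 0, false)).2.1 < 3780 := fun i => by
      have h := List.all_eq_true.1 hfix i (List.mem_range.2 i.2)
      simp only [fixCheck, cBound, Bool.and_eq_true, Nat.blt_eq] at h
      exact h.1
    obtain ⟨b1, b2⟩ := bd i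
    obtain ⟨c1, c2⟩ := bd j
    have e1 := (hfr i).unique (sgn_rep ((b_rep b1).mul (r_rep b2)) (autFix.getD i (0, 0, false)).2.2)
    have e2 := (hfr j).unique (sgn_rep ((b_rep c1).mul (r_rep c2)) (autFix.getD j (0, 0, false)).2.2)
    rw [proj_eq_iff, e1, e2, show nU = sgU true from rfl] at e3
    have key : (autFix.getD i (0, 0, false)).1 = (autFix.getD j (0, 0, false)).1 ∧
        (autFix.getD i (0, 0, false)).2.1 = (autFix.getD j (0, 0, false)).2.1 := by
      rcases e3 with e3 | e3
      on_goal 2 => rw [← mul_assoc, sgU_mul] at e3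
      all_goals obtain ⟨h2, h1, -⟩ := decomp_unique b2 c2 b1 c1 e3
      all_goals exact ⟨h1, h2⟩
    rw [List.getD_eq_getElem _ _ hi, List.getD_eq_getElem _ _ hj] at key
    refine Fin.ext ((hnd.getElem_inj_iff (hi := by simpa using hi) (hj := by simpa using hj)).1 ?_)
    simp only [List.getElem_map]
    exact Prod.ext key.1 key.2
  obtain ⟨v0, v1, -⟩ := five_vals
  choose c hc0 hc2 using fun j : secondSet => second_transitive j j.2
  let S0 := MulAction.stabilizer J2 (0 : Fin 315)
  have hS0 : Nat.card S0 = 1920 := by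
    have h := Subgroup.card_mul_index S0
    rw [MulAction.index_stabilizer_of_transitive, Nat.card_fin, card_J2] at h
    omega
  have hx0 : ∀ x : X, x.1 • (0 : Fin 315) = 0 ∧ x.1 • (2 : Fin 315) = 2 := fun x => by
    refine ⟨?_, ?_⟩
    · rw [← v0]; exact x.2.1
    · rw [← v1]; exact x.2.2
  let M : secondSet × X → S0 := fun p => ⟨c p.1 * p.2.1, by
    rw [MulAction.mem_stabilizer_iff, mul_smul, (hx0 p.2).1, hc0]⟩
  have hM : Function.Injective M := by
    rintro ⟨j, x⟩ ⟨k, y⟩ e
    have e' : c j * x.1 = c k * y.1 := congrArg Subtype.val e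
    have ej := congrArg (fun z => z • (2 : Fin 315)) e'
    simp only [mul_smul, (hx0 x).2, (hx0 y).2, hc2] at ej
    obtain rfl : j = k := Subtype.ext ej
    exact Prod.ext rfl (Subtype.ext (mul_left_cancel e'))
  have hXc : Nat.card X ≤ 12 := by
    have := Nat.card_le_card_of_injective M hM
    rw [Nat.card_prod, Nat.card_eq_fintype_card (α := secondSet), Fintype.card_coe, card_second, hS0] at this
    omega
  have hsurj := (hL.bijective_of_nat_card_le (by rwa [Nat.card_fin])).2
  obtain ⟨i, hi⟩ := hsurj ⟨g, h0, h1⟩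
  rw [← show proj (f i) = g from congrArg Subtype.val hi]
  exact hf2 i

theorem card_inn : Nat.card (Cfsg.Inn J2) = 604800 := by
  have hinj : Function.Injective (MulAut.conj : J2 →* MulAut J2) := (injective_iff_map_eq_one _).2 fun g hg => by
    refine actHom_injective ((Equiv.ext fun j => ?_).trans (map_one actHom).symm)
    refine tJ_injective ?_
    show tJ (g • j) = tJ j
    rw [← conj_tJ, ← MulAut.conj_apply, hg]
    rfl
  rw [← Nat.card_congr (MonoidHom.ofInjective hinj).toEquiv, card_J2]

/-- The outer automorphism group has order two. -/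
theorem card_out : Nat.card (Cfsg.Out J2) = 2 := by
  obtain ⟨α, hα⟩ := exists_outer
  have hne : (Cfsg.Inn J2) ≠ ⊤ := by
    intro htop
    obtain ⟨g, hg⟩ := htop ▸ Subgroup.mem_top α
    have key : ∀ k : Fin 4, g • five k.castSucc = five (target k) := fun k => tJ_injective (by
      rw [← conj_tJ, ← MulAut.conj_apply, hg, hα])
    exact fixing_list (key 0) (key 1) (key 2)
  have h := Subgroup.card_mul_index (Cfsg.Inn J2)
  rw [card_inn] at h
  have hle := card_aut
  have h2 : (Cfsg.Inn J2).index ≠ 1 := fun e => hne (Subgroup.index_eq_one.1 e)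
  have h0 : (Cfsg.Inn J2).index ≠ 0 := Subgroup.index_ne_zero_of_finite
  show Nat.card (MulAut J2 ⧸ Cfsg.Inn J2) = 2
  rw [← Subgroup.index_eq_card]
  omega

end Cfsg.Agent.Lie.J2Cert
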