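import Mathlib
import Cfsg.Agent.Lib.Lie.Ico.SimpleAction

/-!
The 37800 minimal vectors and the 315 reflections of the icosian lattice.
-/

set_option autoImplicit false
set_option maxRecDepth 20000
set_option maxHeartbeats 1000000

noncomputable section

namespace Cfsg.Agent.Lie.Ico

open Quaternion Cfsg.Spor SQ

theorem unit_list_ok : unitList.length = 120 ∧
    ((List.range 120).all fun i => (List.range i).all fun j =>
      !((unitList.getD i zeroSQ).beq (unitList.getD j zeroSQ))) = true := by
  decide +kernel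

theorem lineRefl_injective : Function.Injective lineRefl := fun i j e =>
  J2Cert.RU_injective (by
    rw [← J2Cert.beta_reflElt, ← J2Cert.beta_reflElt, show J2Cert.refl i = J2Cert.refl j from Subtype.ext e])

/-- A unit times a listed vector. -/
def unitVec (p : Fin 120 × Fin 315) : Fin 3 → ℍ[ℝ] :=
  fun t => (unitList.getD p.1 zeroSQ).val * valV (lineSQ p.2) t

theorem unit_mem (i : Fin 120) : unitList.getD i zeroSQ ∈ unitList := by
  rw [List.getD_eq_getElem _ _ (by rw [unit_list_ok.1]; exact i.2)]
  exact List.getElem_mem _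

theorem unitVec_injective : Function.Injective unitVec := by
  rintro ⟨i, a⟩ ⟨j, b⟩ e
  obtain ⟨-, -, hi, -, -⟩ := unit_facts (unit_mem i)
  obtain ⟨-, -, hj, -, -⟩ := unit_facts (unit_mem j)
  have hab : a = b := lineRefl_injective (Equiv.ext fun x => Subtype.ext (by
    show qrefl (valV (lineSQ a)) x = qrefl (valV (lineSQ b)) x
    rw [← qrefl_unit hi (valV (lineSQ a)), ← qrefl_unit hj (valV (lineSQ b))]
    exact congrArg (fun v => qrefl v x) e))
  subst hab
  obtain ⟨t, ht⟩ : ∃ t, valV (lineSQ a) t ≠ 0 := by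
    by_contra h
    push Not at h
    have h4 := (lineSQ_min a.2).2.1
    simp only [qip_three, h, zero_mul, add_zero] at h4
    rw [four_eq] at h4
    exact absurd (congrArg (fun z : ℍ[ℝ] => z.re) h4) (by simp)
  have hval := mul_right_cancel₀ ht (congrFun e t)
  have hij := val_injective hval
  refine Prod.ext (Fin.ext ?_) rfl
  by_contra hne
  have key : ∀ p q : Fin 120, q.val < p.val → unitList.getD p zeroSQ ≠ unitList.getD q zeroSQ := by
    intro p q hqp e'
    have h := List.all_eq_true.1 (List.all_eq_true.1 unit_list_ok.2 p (List.mem_range.2 p.2)) q (List.mem_range.2 hqp)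
    rw [e', beq_iff.2 rfl] at h
    exact Bool.noConfusion h
  rcases Nat.lt_or_gt_of_ne hne with h | h
  · exact key j i h hij.symm
  · exact key i j h hij

theorem minimal_ncard : {r : Fin 3 → ℍ[ℝ] | r ∈ icoLeech ∧ qip r r = 4}.ncard = 37800 := by
  have e : {r : Fin 3 → ℍ[ℝ] | r ∈ icoLeech ∧ qip r r = 4} = Set.range unitVec := by
    ext v
    constructor
    · rintro ⟨hv, hq⟩
      obtain ⟨l, hl, u, hu, rfl⟩ := minimal hv hq
      obtain ⟨j, hj⟩ := cover hl
      obtain ⟨k, hk, rfl⟩ := List.getElem_of_mem hu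
      refine ⟨(⟨k, unit_list_ok.1 ▸ hk⟩, j), ?_⟩
      unfold unitVec
      rw [← hj, List.getD_eq_getElem _ _ hk]
    · rintro ⟨⟨i, a⟩, rfl⟩
      obtain ⟨-, hi, -, -, hmem⟩ := unit_facts (unit_mem i)
      exact ⟨scale_mem hmem (lineSQ_min a.2).1, qip_smul_unit hi (lineSQ_min a.2).2.1⟩
  rw [e, Set.ncard_range_of_injective unitVec_injective, Nat.card_prod, Nat.card_fin, Nat.card_fin]

theorem reflection_ncard : {f : Equiv.Perm icoLeech | IsIcoReflection f}.ncard = 315 := by
  have e : {f : Equiv.Perm icoLeech | IsIcoReflection f} = Set.range lineRefl := by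
    ext f
    exact ⟨fun h => (eq_lineRefl h).imp fun _ h => h.symm, fun ⟨j, hj⟩ => hj ▸ isIco_reflPerm _ _⟩
  rw [e, Set.ncard_range_of_injective lineRefl_injective, Nat.card_fin]

end Cfsg.Agent.Lie.Ico
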