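import Cfsg.Agent.Lib.Lie.Ico.Ring
import Cfsg.Agent.Lib.Lie.Ico.EnumData

/-!
The searches that find all minimal vectors of the icosian lattice.
-/

set_option autoImplicit false
set_option maxRecDepth 100000
set_option maxHeartbeats 0

namespace Cfsg.Agent.Lie.Ico

/-- Integer equality test. -/
def zeq (a b : ℤ) : Bool :=
  match a, b with
  | Int.ofNat m, Int.ofNat n => Nat.beq m n
  | Int.negSucc m, Int.negSucc n => Nat.beq m n
  | _, _ => false

/-- Equality test. -/
def SQ.beq (p q : SQ) : Bool :=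
  zeq p.w q.w && (zeq p.w' q.w' && (zeq p.x q.x && (zeq p.x' q.x' && (zeq p.y q.y && (zeq p.y' q.y' &&
    (zeq p.z q.z && zeq p.z' q.z'))))))

/-- Four times the rational part of the norm. -/
def nA (p : SQ) : ℤ :=
  p.w * p.w + p.w' * p.w' + p.x * p.x + p.x' * p.x' + p.y * p.y + p.y' * p.y' + p.z * p.z + p.z' * p.z'

/-- Four times the irrational part of the norm. -/
def nB (p : SQ) : ℤ :=
  2 * (p.w * p.w') + p.w' * p.w' + 2 * (p.x * p.x') + p.x' * p.x' + 2 * (p.y * p.y') + p.y' * p.y' +
    2 * (p.z * p.z') + p.z' * p.z'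

/-- Small integers. -/
def smalls : List ℤ := [0, 1, -1, 2, -2, 3, -3, 4, -4]

/-- Small integers within a budget. -/
def within (n : ℤ) : List ℤ := smalls.filter fun a => decide (a * a ≤ n)

/-- Small integers within a budget with prescribed parity. -/
def withinPar (n s : ℤ) : List ℤ := (within n).filter fun a => zeq ((a + s) % 2) 0

/-- The class modulo `I h`, for kernel evaluation. -/
def clsHk (p : SQ) : ℤ :=
  ((-p.x' - p.y + p.z + p.z') / 2 + (p.w' - p.y + p.y' - p.z) / 2) % 2 +
    2 * (((p.w' - p.y - p.y' - p.z) / 2 + (p.x' + p.y - p.z + p.z') / 2) % 2) + 4 * ((p.z + -p.y) % 2) +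
    8 * (((p.w + p.w' + p.x' - p.z) / 2 + (-p.w' + p.x + p.x' + p.y) / 2 + p.z) % 2)

/-- The class modulo `I h̄`, for kernel evaluation. -/
def clsCk (p : SQ) : ℤ :=
  ((p.w + p.w' + p.x' - p.z) / 2 + (-p.w' + p.x + p.x' + p.y) / 2) % 2 +
    2 * (((-p.x' - p.y + p.z + p.z') / 2 + (p.w' - p.y - p.y' - p.z) / 2) % 2) +
    4 * (((-p.x' - p.y + p.z + p.z') / 2 + (p.w' - p.y + p.y' - p.z) / 2 + (p.x' + p.y - p.z + p.z') / 2) % 2) +
    8 * (((p.w + p.w' + p.x' - p.z) / 2 + (-p.x' - p.y + p.z + p.z') / 2 + p.z + -p.y) % 2)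

theorem clsHk_eq (p : SQ) : clsHk p = SQ.clsH p := rfl

theorem clsCk_eq (p : SQ) : clsCk p = SQ.clsC p := rfl

/-- Membership in the icosian ring, for kernel evaluation. -/
def inIk (p : SQ) : Bool :=
  zeq ((p.w + p.w' + p.x' + p.z) % 2) 0 && (zeq ((p.w' + p.x + p.x' + p.y) % 2) 0 &&
    (zeq ((p.x' + p.y + p.z + p.z') % 2) 0 && zeq ((p.w' + p.y + p.y' + p.z) % 2) 0))

/-- A bucket. -/
def bucket (k : ℤ × ℤ × ℤ) : List (SQ × ℕ × ℕ) :=
  match bucketTable.find? (fun e => zeq e.1.1 k.1 && (zeq e.1.2.1 k.2.1 && zeq e.1.2.2 k.2.2)) with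
  | some e => e.2
  | none => []

/-- A norm is one of the candidate norms of a coordinate of a minimal vector. -/
def wanted (k : ℤ × ℤ) : Bool := wantedKeys.any fun w => zeq w.1 k.1 && zeq w.2 k.2

/-- An icosian of small norm has a listed norm, and is in its bucket when that norm is a candidate. -/
def leafCheck (p : SQ) : Bool :=
  (normKeys.any fun w => zeq w.1 (nA p) && zeq w.2 (nB p)) &&
    (!wanted (nA p, nB p) || (bucket (nA p, nB p, clsHk p)).any fun e => e.1.beq p)

/-- Three norms adding up to the norm of a minimal vector are candidates. -/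
def keySum : Bool :=
  normKeys.all fun a => normKeys.all fun b => normKeys.all fun c =>
    !(zeq (a.1 + b.1 + c.1) 16 && zeq (a.2 + b.2 + c.2) 0) || (wanted a && (wanted b && wanted c))

/-- All icosians of norm at most 4 with given first two coordinates are in their buckets. -/
def sweepAt (a a' : ℤ) : Bool :=
  (within (16 - a * a - a' * a')).all fun b => (within (16 - a * a - a' * a' - b * b)).all fun b' =>
  (withinPar (16 - a * a - a' * a' - b * b - b' * b') (a' + b + b')).all fun c =>
  (withinPar (16 - a * a - a' * a' - b * b - b' * b' - c * c) (a + a' + b')).all fun d =>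
  (withinPar (16 - a * a - a' * a' - b * b - b' * b' - c * c - d * d) (b' + c + d)).all fun d' =>
  (withinPar (16 - a * a - a' * a' - b * b - b' * b' - c * c - d * d - d' * d') (a' + c + d)).all fun c' =>
    leafCheck ⟨a, a', b, b', c, c', d, d'⟩

/-- All icosians of norm at most 4 with given first coordinate are in their buckets. -/
def sweepRow (a : ℤ) : Bool := (within (16 - a * a)).all fun a' => sweepAt a a'

/-- Each bucket entry is zero or a unit multiple of its representative. -/
def entryCheck (e : SQ × ℕ × ℕ) : Bool :=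
  e.1.beq ⟨0, 0, 0, 0, 0, 0, 0, 0⟩ ||
    (Nat.blt e.2.1 51 && (Nat.blt e.2.2 120 &&
      ((unitList.getD e.2.2 e.1).mul (repList.getD e.2.1 e.1)).beq (e.1.smul 2)))

/-- The units. -/
def unitCheck (u : SQ) : Bool := inIk u && (zeq (nA u) 4 && zeq (nB u) 0)

/-- The representatives. -/
def repCheck (q : SQ) : Bool := inIk q

/-- A normalised triple that is a minimal vector lies in the line list. -/
def tripleCheck (p q r : SQ) : Bool :=
  !zeq (clsCk ((p.add q).add r)) 0 || lineList.any (fun l => l.1.beq p && (l.2.1.beq q && l.2.2.beq r))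

/-- Triples with first entry a representative. -/
def firstSearch (p : SQ) : Bool :=
  bucketTable.all fun e =>
    !zeq e.1.2.2 (clsHk p) || e.2.all fun q =>
      (bucket (16 - nA p - e.1.1, -(nB p + e.1.2.1), clsHk p)).all fun r => tripleCheck p q.1 r.1

/-- Triples with first entry zero and second entry a representative. -/
def secondSearch (q : SQ) : Bool :=
  !zeq (clsHk q) 0 ||
    (bucket (16 - nA q, -nB q, 0)).all fun r => tripleCheck ⟨0, 0, 0, 0, 0, 0, 0, 0⟩ q r.1

/-- Triples with two zero entries. -/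
def thirdSearch (r : SQ) : Bool :=
  !(zeq (nA r) 16 && (zeq (nB r) 0 && zeq (clsHk r) 0)) ||
    tripleCheck ⟨0, 0, 0, 0, 0, 0, 0, 0⟩ ⟨0, 0, 0, 0, 0, 0, 0, 0⟩ r

/-- A listed line is a minimal vector. -/
def lineCheckIco (l : SQ × SQ × SQ) : Bool :=
  (inIk l.1 && (inIk l.2.1 && inIk l.2.2)) && (zeq (clsHk l.1) (clsHk l.2.1) &&
    (zeq (clsHk l.2.1) (clsHk l.2.2) && (zeq (clsCk ((l.1.add l.2.1).add l.2.2)) 0 &&
      (zeq (nA l.1 + nA l.2.1 + nA l.2.2) 16 && zeq (nB l.1 + nB l.2.1 + nB l.2.2) 0))))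

end Cfsg.Agent.Lie.Ico
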