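import Cfsg.Agent.Lib.Lie.JankoPack

/-!
Certificate data for the Hall–Janko group modulo 11 (generated).
-/

set_option autoImplicit false
set_option maxRecDepth 100000
set_option maxHeartbeats 0

namespace Cfsg.Agent.Lie.J2Cert

open Cfsg.Agent.Lie.Janko (M7)

def schX0 : Janko.Tree (ℕ × ℕ × Bool) :=
  (.node (.node (.node (.node (.node (.node (.node (.node (.leaf (1, 0, false)) (.leaf (2768, 0, false))) (.node (.leaf (1560, 0, false)) (.leaf (2957, 84, false)))) (.node (.node (.leaf (838, 0, false)) (.leaf (869, 146, true))) (.node (.leaf (2212, 0, false)) (.leaf (2234, 69, false))))) (.node (.node (.node (.leaf (426, 0, false)) (.leaf (2816, 87, true))) (.node (.leaf (297, 0, false)) (.leaf (3240, 139, false)))) (.node (.node (.leaf (1219, 0, false)) (.leaf (1212, 117, false))) (.leaf (2506, 0, false))))) (.node (.node (.node (.node (.leaf (217, 0, false)) (.leaf (2791, 40, true))) (.node (.leaf (263, 0, false)) (.leaf (1447, 118, true)))) (.node (.node (.leaf (214, 125, false)) (.leaf (2650, 15, true))) (.node (.leaf (2348, 0, false)) (.leaf (3394, 51, true))))) (.node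 (.node (.node (.leaf (79, 0, false)) (.leaf (2955, 99, false))) (.node (.leaf (2061, 0, false)) (.leaf (3390, 139, false)))) (.node (.node (.leaf (1181, 5, true)) (.leaf (1823, 40, true))) (.leaf (2637, 0, false)))))) (.node (.node (.node (.node (.node (.leaf (110, 0, false)) (.leaf (2832, 0, false))) (.node (.leaf (245, 0, false)) (.leaf (3576, 0, false)))) (.node (.node (.leaf (941, 0, false)) (.leaf (3258, 0, false))) (.node (.leaf (2279, 0, false)) (.leaf (2199, 136, false))))) (.node (.node (.node (.leaf (534, 0, false)) (.leaf (695, 0, false))) (.node (.leaf (1982, 0, false)) (.leaf (3699, 0, false)))) (.node (.node (.leaf (1311, 0, false)) (.leaf (3129, 42, false))) (.leaf (477, 0, false))))) (.node (.node (.node (.node (.leaf (324, 0, false)) (.leaf (2940, 0, false))) (.node (.leaf (1819, 0, false)) (.leaf (2668, 36, false)))) (.node (.node (.leaf (1126, 0, false)) (.leaf (2034, 44, false))) (.node (.leaf (2430, 0, false)) (.leaf (3669, 138, false))))) (.node (.node (.node (.leaf (738, 0, false)) (.leaf (750, 0, false))) (.node (.leaf (1549, 159, false)) (.leaf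 (3518, 83, true)))) (.node (.node (.leaf (1009, 78, false)) (.leaf (3013, 140, true))) (.leaf (523, 0, false))))))) (.node (.node (.node (.node (.node (.node (.leaf (54, 0, false)) (.leaf (1332, 159, false))) (.node (.leaf (1604, 0, false)) (.leaf (1746, 40, false)))) (.node (.node (.leaf (890, 0, false)) (.leaf (2998, 49, true))) (.node (.leaf (690, 157, true)) (.leaf (3757, 63, false))))) (.node (.node (.node (.leaf (481, 0, false)) (.leaf (2688, 115, true))) (.node (.leaf (1940, 0, false)) (.leaf (3587, 63, false)))) (.node (.node (.leaf (968, 116, false)) (.leaf (3415, 0, false))) (.leaf (1170, 78, true))))) (.node (.node (.node (.node (.leaf (269, 0, false)) (.leaf (2912, 0, false))) (.node (.leaf (1775, 0, false)) (.leaf (1402, 120, true)))) (.node (.node (.leaf (1079, 0, false)) (.leaf (3326, 0, false))) (.node (.leaf (2088, 97, true)) (.leaf (3740, 137, true))))) (.node (.node (.node (.leaf (687, 0, false)) (.leaf (3124, 0, false))) (.node (.leaf (922, 48, false)) (.leaf (1944, 134, true)))) (.node (.node (.leaf (1446, 0, false)) (.leaf (3496, 0, false))) (.leaf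 (2673, 0, false)))))) (.node (.node (.node (.node (.node (.leaf (163, 0, false)) (.leaf (1153, 95, true))) (.node (.leaf (1692, 0, false)) (.leaf (1550, 5, false)))) (.node (.node (.leaf (991, 0, false)) (.leaf (3281, 0, false))) (.node (.leaf (933, 29, false)) (.leaf (3715, 26, true))))) (.node (.node (.node (.leaf (587, 0, false)) (.leaf (3064, 0, false))) (.node (.leaf (2022, 0, false)) (.leaf (3546, 69, false)))) (.node (.node (.leaf (1358, 0, false)) (.leaf (3457, 0, false))) (.leaf (2396, 129, false))))) (.node (.node (.node (.node (.leaf (45, 0, false)) (.leaf (2976, 0, false))) (.node (.leaf (1859, 0, false)) (.leaf (2324, 52, false)))) (.node (.node (.leaf (1167, 0, false)) (.leaf (1854, 49, true))) (.leaf (449, 0, false)))) (.node (.node (.node (.leaf (792, 0, false)) (.leaf (1465, 136, true))) (.node (.leaf (2172, 0, false)) (.leaf (3359, 71, true)))) (.node (.node (.leaf (216, 0, false)) (.leaf (1482, 1, false))) (.leaf (2732, 0, false)))))))) (.node (.node (.node (.node (.node (.node (.node (.leaf (27, 0, false)) (.leaf (831, 21, false))) (.node (.leaf (1584,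 0, false)) (.leaf (2319, 27, true)))) (.node (.node (.leaf (863, 0, false)) (.leaf (2987, 17, true))) (.node (.leaf (2226, 0, false)) (.leaf (3602, 134, false))))) (.node (.node (.node (.leaf (455, 0, false)) (.leaf (3005, 0, false))) (.node (.leaf (1916, 0, false)) (.leaf (3187, 59, true)))) (.node (.node (.leaf (983, 136, true)) (.leaf (937, 0, false))) (.leaf (2530, 0, false))))) (.node (.node (.node (.node (.leaf (242, 0, false)) (.leaf (2898, 0, false))) (.node (.leaf (1754, 0, false)) (.leaf (3613, 0, false)))) (.node (.node (.leaf (920, 0, false)) (.leaf (1978, 78, false))) (.node (.leaf (2368, 0, false)) (.leaf (2760, 143, false))))) (.node (.node (.node (.leaf (660, 0, false)) (.leaf (3110, 0, false))) (.node (.leaf (964, 150, true)) (.leaf (3057, 86, false)))) (.node (.node (.leaf (1427, 0, false)) (.leaf (1337, 134, true))) (.leaf (2654, 0, false)))))) (.node (.node (.node (.node (.node (.leaf (136, 0, false)) (.leaf (2847, 0, false))) (.node (.leaf (1670, 0, false)) (.leaf (2627, 25, true)))) (.node (.node (.leaf (967, 0, false)) (.leaf (1109, 25, true)))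 (.node (.leaf (2300, 0, false)) (.leaf (2063, 9, false))))) (.node (.node (.node (.leaf (562, 0, false)) (.leaf (3056, 0, false))) (.node (.leaf (1537, 131, false)) (.leaf (3686, 45, false)))) (.node (.node (.leaf (1336, 0, false)) (.leaf (1613, 105, true))) (.leaf (1790, 53, false))))) (.node (.node (.node (.node (.leaf (352, 0, false)) (.leaf (2961, 0, false))) (.node (.leaf (1838, 0, false)) (.leaf (2390, 19, true)))) (.node (.node (.leaf (597, 122, false)) (.leaf (3361, 0, false))) (.leaf (528, 126, true)))) (.node (.node (.node (.leaf (765, 0, false)) (.leaf (1601, 76, false))) (.node (.leaf (353, 0, false)) (.leaf (3445, 128, true)))) (.node (.node (.leaf (1498, 0, false)) (.leaf (1739, 158, false))) (.leaf (2718, 0, false))))))) (.node (.node (.node (.node (.node (.node (.leaf (84, 0, false)) (.leaf (2815, 0, false))) (.node (.leaf (1014, 31, false)) (.leaf (1544, 140, false)))) (.node (.node (.leaf (916, 0, false)) (.leaf (3246, 0, false))) (.node (.leaf (911, 43, true)) (.leaf (3303, 25, true))))) (.node (.node (.node (.leaf (62, 0, false)) (.leaf (3035, 0, false)))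 (.node (.leaf (1958, 0, false)) (.leaf (1698, 37, true)))) (.node (.node (.leaf (1288, 0, false)) (.leaf (3429, 0, false))) (.leaf (2149, 0, false))))) (.node (.node (.node (.node (.leaf (296, 0, false)) (.leaf (1857, 31, true))) (.node (.leaf (1795, 0, false)) (.leaf (3635, 0, false)))) (.node (.node (.leaf (1101, 0, false)) (.leaf (3340, 0, false))) (.node (.leaf (1717, 92, true)) (.leaf (3697, 151, false))))) (.node (.node (.node (.leaf (91, 0, false)) (.leaf (3144, 0, false))) (.node (.leaf (2112, 0, false)) (.leaf (3351, 73, false)))) (.node (.node (.leaf (1466, 0, false)) (.leaf (3505, 158, true))) (.leaf (1335, 52, false)))))) (.node (.node (.node (.node (.node (.leaf (191, 0, false)) (.leaf (2871, 0, false))) (.node (.leaf (1712, 0, false)) (.leaf (1756, 25, false)))) (.node (.node (.leaf (132, 0, false)) (.leaf (3289, 0, false))) (.node (.leaf (1086, 42, false)) (.leaf (3762, 132, false))))) (.node (.node (.node (.leaf (510, 90, false)) (.leaf (3080, 0, false))) (.node (.leaf (2043, 0, false)) (.leaf (3499, 154, false)))) (.node (.node (.leaf (1383, 0, false))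 (.leaf (2982, 92, false))) (.leaf (2619, 0, false))))) (.node (.node (.node (.node (.leaf (48, 0, false)) (.leaf (2983, 0, false))) (.node (.leaf (1878, 0, false)) (.leaf (3558, 107, true)))) (.node (.node (.leaf (162, 0, false)) (.leaf (1235, 0, false))) (.leaf (2488, 0, false)))) (.node (.node (.node (.leaf (104, 0, false)) (.leaf (2016, 74, false))) (.node (.leaf (1873, 13, false)) (.leaf (2823, 151, false)))) (.node (.node (.leaf (1448, 79, false)) (.leaf (1118, 0, false))) (.leaf (2585, 0, false)))))))))

def schX1 : Janko.Tree (ℕ × ℕ × Bool) :=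
  (.node (.node (.node (.node (.node (.node (.node (.node (.leaf (3, 0, false)) (.leaf (2770, 0, false))) (.node (.leaf (1562, 0, false)) (.leaf (2894, 59, false)))) (.node (.node (.leaf (107, 0, false)) (.leaf (915, 52, true))) (.node (.leaf (1478, 80, false)) (.leaf (3751, 0, false))))) (.node (.node (.node (.leaf (428, 0, false)) (.leaf (1315, 43, true))) (.node (.leaf (653, 112, false)) (.leaf (2140, 150, true)))) (.node (.node (.leaf (1221, 0, false)) (.leaf (2543, 66, true))) (.leaf (2508, 0, false))))) (.node (.node (.node (.node (.leaf (218, 0, false)) (.leaf (2883, 0, false))) (.node (.leaf (958, 126, true)) (.leaf (3551, 74, false)))) (.node (.node (.leaf (659, 97, false)) (.leaf (3304, 0, false))) (.node (.leaf (2223, 0, false)) (.leaf (2156, 0, false))))) (.node (.node (.node (.leaf (637, 0, false)) (.leaf (3100, 0, false))) (.node (.leaf (2062, 0, false)) (.leaf (1533, 0, false)))) (.node (.node (.leaf (1405, 0, false)) (.leaf (3476, 0, false))) (.leaf (2639, 0, false)))))) (.node (.node (.node (.node (.node (.leaf (111, 0, false)) (.leaf (2830, 87, true)))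 (.node (.leaf (1650, 0, false)) (.leaf (2265, 61, true)))) (.node (.node (.leaf (942, 0, false)) (.leaf (2659, 78, true))) (.node (.leaf (1463, 109, true)) (.leaf (3641, 18, true))))) (.node (.node (.node (.leaf (536, 0, false)) (.leaf (3044, 0, false))) (.node (.leaf (1984, 0, false)) (.leaf (2023, 84, true)))) (.node (.node (.leaf (1313, 0, false)) (.leaf (2009, 96, false))) (.leaf (1472, 159, false))))) (.node (.node (.node (.node (.leaf (325, 0, false)) (.leaf (2232, 96, true))) (.node (.leaf (278, 0, false)) (.leaf (3483, 12, true)))) (.node (.node (.leaf (1127, 0, false)) (.leaf (2165, 32, false))) (.node (.leaf (2432, 0, false)) (.leaf (3644, 47, false))))) (.node (.node (.node (.leaf (740, 0, false)) (.leaf (2952, 3, true))) (.node (.leaf (826, 65, true)) (.leaf (1974, 58, true)))) (.node (.node (.leaf (1486, 0, false)) (.leaf (3517, 0, false))) (.leaf (2700, 0, false))))))) (.node (.node (.node (.node (.node (.node (.leaf (56, 0, false)) (.leaf (2797, 0, false))) (.node (.leaf (1605, 0, false)) (.leaf (2578, 23, true)))) (.node (.node (.leaf (347, 112, false))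 (.leaf (1925, 74, true))) (.node (.leaf (385, 0, false)) (.leaf (3335, 26, true))))) (.node (.node (.node (.leaf (483, 0, false)) (.leaf (2203, 118, false))) (.node (.leaf (732, 31, false)) (.leaf (1396, 0, false)))) (.node (.node (.leaf (1264, 0, false)) (.leaf (3416, 0, false))) (.leaf (2544, 0, false))))) (.node (.node (.node (.node (.leaf (271, 0, false)) (.leaf (2913, 0, false))) (.node (.leaf (1777, 0, false)) (.leaf (1520, 92, true)))) (.node (.node (.leaf (1080, 0, false)) (.leaf (2423, 59, false))) (.node (.leaf (2135, 126, true)) (.leaf (2471, 0, false))))) (.node (.node (.node (.leaf (689, 0, false)) (.leaf (3125, 0, false))) (.node (.leaf (337, 0, false)) (.leaf (2502, 157, false)))) (.node (.node (.leaf (568, 157, false)) (.leaf (3498, 0, false))) (.leaf (1919, 37, true)))))) (.node (.node (.node (.node (.node (.leaf (165, 0, false)) (.leaf (2861, 0, false))) (.node (.leaf (1694, 0, false)) (.leaf (3169, 159, false)))) (.node (.node (.leaf (992, 0, false)) (.leaf (3205, 0, false))) (.node (.leaf (954, 119, true)) (.leaf (3651, 14, false))))) (.node (.node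 (.node (.leaf (589, 0, false)) (.leaf (708, 0, false))) (.node (.leaf (2024, 0, false)) (.leaf (3711, 0, false)))) (.node (.node (.leaf (1359, 0, false)) (.leaf (3458, 0, false))) (.leaf (2602, 0, false))))) (.node (.node (.node (.node (.leaf (379, 0, false)) (.leaf (2977, 0, false))) (.node (.leaf (1816, 93, true)) (.leaf (3653, 0, false)))) (.node (.node (.leaf (1169, 0, false)) (.leaf (2551, 158, true))) (.leaf (2467, 0, false)))) (.node (.node (.node (.leaf (794, 0, false)) (.leaf (2065, 15, true))) (.node (.leaf (2173, 0, false)) (.leaf (2427, 36, false)))) (.node (.node (.leaf (1519, 0, false)) (.leaf (3532, 0, false))) (.leaf (2734, 0, false)))))))) (.node (.node (.node (.node (.node (.node (.node (.leaf (29, 0, false)) (.leaf (2222, 55, false))) (.node (.leaf (1586, 0, false)) (.leaf (1143, 0, false)))) (.node (.node (.leaf (865, 0, false)) (.leaf (850, 133, false))) (.node (.leaf (1018, 50, false)) (.leaf (3070, 94, false))))) (.node (.node (.node (.leaf (457, 0, false)) (.leaf (3006, 0, false))) (.node (.leaf (1918, 0, false)) (.leaf (3678, 0, false)))) (.node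 (.node (.leaf (1244, 0, false)) (.leaf (1658, 14, false))) (.leaf (1157, 12, true))))) (.node (.node (.node (.node (.leaf (244, 0, false)) (.leaf (1637, 139, false))) (.node (.leaf (1755, 0, false)) (.leaf (3622, 0, false)))) (.node (.node (.leaf (1059, 0, false)) (.leaf (3319, 0, false))) (.node (.leaf (2369, 0, false)) (.leaf (2507, 103, false))))) (.node (.node (.node (.leaf (661, 0, false)) (.leaf (731, 0, false))) (.node (.leaf (1040, 158, true)) (.leaf (3725, 0, false)))) (.node (.node (.leaf (1428, 0, false)) (.leaf (1038, 0, false))) (.leaf (2655, 0, false)))))) (.node (.node (.node (.node (.node (.leaf (138, 0, false)) (.leaf (581, 0, false))) (.node (.leaf (1030, 157, true)) (.leaf (3492, 97, false)))) (.node (.node (.leaf (969, 0, false)) (.leaf (3267, 0, false))) (.node (.leaf (2099, 0, false)) (.leaf (3721, 79, true))))) (.node (.node (.node (.leaf (564, 0, false)) (.leaf (947, 154, false))) (.node (.leaf (2001, 0, false)) (.leaf (1467, 0, false)))) (.node (.node (.leaf (1338, 0, false)) (.leaf (3449, 0, false))) (.leaf (2588, 0, false))))) (.node (.node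 (.node (.node (.leaf (354, 0, false)) (.leaf (2132, 96, false))) (.node (.leaf (1840, 0, false)) (.leaf (1685, 94, false)))) (.node (.node (.leaf (1150, 0, false)) (.leaf (2777, 21, false))) (.leaf (2449, 0, false)))) (.node (.node (.node (.leaf (767, 0, false)) (.leaf (3176, 0, false))) (.node (.leaf (1691, 158, true)) (.leaf (3610, 22, true)))) (.node (.node (.leaf (1499, 0, false)) (.leaf (3524, 0, false))) (.leaf (2083, 158, false))))))) (.node (.node (.node (.node (.node (.node (.leaf (85, 0, false)) (.leaf (791, 61, true))) (.node (.leaf (1629, 0, false)) (.leaf (2701, 8, false)))) (.node (.node (.leaf (918, 0, false)) (.leaf (2353, 110, false))) (.node (.leaf (1500, 33, true)) (.leaf (3741, 11, false))))) (.node (.node (.node (.leaf (509, 0, false)) (.leaf (1276, 125, true))) (.node (.leaf (1693, 155, false)) (.leaf (1639, 13, true)))) (.node (.node (.leaf (1289, 0, false)) (.leaf (2154, 48, false))) (.leaf (2085, 0, false))))) (.node (.node (.node (.node (.leaf (298, 0, false)) (.leaf (1967, 64, false))) (.node (.leaf (757, 50, false)) (.leaf (2884, 78, true))))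 (.node (.node (.leaf (1103, 0, false)) (.leaf (987, 83, true))) (.node (.leaf (433, 0, false)) (.leaf (3778, 0, false))))) (.node (.node (.node (.leaf (712, 0, false)) (.leaf (746, 0, false))) (.node (.leaf (429, 127, false)) (.leaf (1688, 34, false)))) (.node (.node (.leaf (585, 129, false)) (.leaf (1398, 42, false))) (.leaf (2685, 0, false)))))) (.node (.node (.node (.node (.node (.leaf (193, 0, false)) (.leaf (2873, 0, false))) (.node (.leaf (1713, 0, false)) (.leaf (2000, 99, false)))) (.node (.node (.leaf (1016, 0, false)) (.leaf (3291, 0, false))) (.node (.leaf (2133, 112, true)) (.leaf (3773, 0, false))))) (.node (.node (.node (.leaf (613, 0, false)) (.leaf (3082, 0, false))) (.node (.leaf (1771, 0, false)) (.leaf (3436, 154, true)))) (.node (.node (.leaf (1384, 0, false)) (.leaf (3467, 0, false))) (.leaf (2621, 0, false))))) (.node (.node (.node (.node (.leaf (404, 0, false)) (.leaf (891, 27, true))) (.node (.leaf (1880, 0, false)) (.leaf (1969, 64, false)))) (.node (.node (.leaf (1194, 0, false)) (.leaf (3380, 0, false))) (.leaf (1185, 42, false)))) (.node (.node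 (.node (.leaf (497, 38, true)) (.leaf (1164, 62, false))) (.node (.leaf (1909, 133, false)) (.leaf (3395, 46, false)))) (.node (.node (.leaf (1539, 0, false)) (.leaf (3537, 0, false))) (.leaf (2664, 0, false)))))))))

def schX2 : Janko.Tree (ℕ × ℕ × Bool) :=
  (.node (.node (.node (.node (.node (.node (.node (.node (.leaf (5, 0, false)) (.leaf (2289, 62, false))) (.node (.leaf (227, 0, false)) (.leaf (3549, 0, false)))) (.node (.node (.leaf (440, 50, true)) (.leaf (1084, 24, false))) (.node (.leaf (2214, 0, false)) (.leaf (1781, 0, false))))) (.node (.node (.node (.leaf (430, 0, false)) (.leaf (664, 0, false))) (.node (.leaf (1902, 0, false)) (.leaf (3671, 0, false)))) (.node (.node (.leaf (166, 0, false)) (.leaf (3199, 159, false))) (.leaf (2271, 97, true))))) (.node (.node (.node (.node (.leaf (220, 0, false)) (.leaf (2885, 0, false))) (.node (.leaf (608, 50, false)) (.leaf (2742, 5, false)))) (.node (.node (.leaf (1035, 0, false)) (.leaf (2297, 140, true))) (.node (.leaf (2350, 0, false)) (.leaf (3768, 4, true))))) (.node (.node (.node (.leaf (590, 106, false)) (.leaf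 (722, 0, false))) (.node (.leaf (2064, 0, false)) (.leaf (1534, 0, false)))) (.node (.node (.leaf (1407, 0, false)) (.leaf (3478, 0, false))) (.leaf (503, 0, false)))))) (.node (.node (.node (.node (.node (.leaf (113, 0, false)) (.leaf (2835, 0, false))) (.node (.leaf (583, 109, false)) (.leaf (3410, 116, true)))) (.node (.node (.leaf (944, 0, false)) (.leaf (3130, 59, true))) (.node (.leaf (2281, 0, false)) (.leaf (3086, 91, false))))) (.node (.node (.node (.leaf (537, 0, false)) (.leaf (1413, 118, false))) (.node (.leaf (1986, 0, false)) (.leaf (2864, 38, true)))) (.node (.node (.leaf (1314, 0, false)) (.leaf (2563, 143, true))) (.leaf (635, 118, false))))) (.node (.node (.node (.node (.leaf (327, 0, false)) (.leaf (2942, 0, false))) (.node (.leaf (1821, 0, false)) (.leaf (2316, 58, true)))) (.node (.node (.leaf (1129, 0, false)) (.leaf (2641, 52, true))) (.node (.leaf (438, 0, false)) (.leaf (3769, 116, false))))) (.node (.node (.node (.leaf (741, 0, false)) (.leaf (1251, 36, false))) (.node (.leaf (2134, 0, false)) (.leaf (3736, 0, false)))) (.node (.node (.leaf (514,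 50, true)) (.leaf (2539, 0, false))) (.leaf (2593, 125, true))))))) (.node (.node (.node (.node (.node (.node (.leaf (58, 0, false)) (.leaf (558, 0, false))) (.node (.leaf (1606, 0, false)) (.leaf (1155, 0, false)))) (.node (.node (.leaf (892, 0, false)) (.leaf (2682, 17, false))) (.node (.leaf (554, 106, true)) (.leaf (3214, 49, true))))) (.node (.node (.node (.leaf (484, 0, false)) (.leaf (3023, 0, false))) (.node (.leaf (305, 0, false)) (.leaf (2278, 112, false)))) (.node (.node (.leaf (445, 31, true)) (.leaf (3417, 0, false))) (.leaf (2546, 0, false))))) (.node (.node (.node (.node (.leaf (273, 0, false)) (.leaf (1404, 130, false))) (.node (.leaf (1778, 0, false)) (.leaf (3305, 152, true)))) (.node (.node (.leaf (1082, 0, false)) (.leaf (1524, 98, true))) (.node (.leaf (2114, 155, true)) (.leaf (3107, 13, false))))) (.node (.node (.node (.leaf (691, 0, false)) (.leaf (1630, 129, false))) (.node (.leaf (2098, 0, false)) (.leaf (1989, 101, false)))) (.node (.node (.leaf (1449, 0, false)) (.leaf (1540, 116, true))) (.leaf (2674, 0, false)))))) (.node (.node (.node (.node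 (.node (.leaf (167, 0, false)) (.leaf (2862, 0, false))) (.node (.leaf (255, 0, false)) (.leaf (1538, 55, false)))) (.node (.node (.leaf (994, 0, false)) (.leaf (3282, 0, false))) (.node (.leaf (2315, 0, false)) (.leaf (2102, 62, true))))) (.node (.node (.node (.leaf (591, 0, false)) (.leaf (3066, 0, false))) (.node (.leaf (2026, 0, false)) (.leaf (1484, 0, false)))) (.node (.node (.leaf (1361, 0, false)) (.leaf (2504, 4, false))) (.leaf (2603, 0, false))))) (.node (.node (.node (.node (.leaf (381, 0, false)) (.leaf (2978, 0, false))) (.node (.leaf (1861, 0, false)) (.leaf (3552, 46, false)))) (.node (.node (.leaf (1171, 0, false)) (.leaf (3368, 0, false))) (.leaf (1949, 128, false)))) (.node (.node (.node (.leaf (796, 0, false)) (.leaf (762, 0, false))) (.node (.leaf (1339, 143, true)) (.leaf (2301, 118, false)))) (.node (.node (.leaf (1521, 0, false)) (.leaf (1512, 10, false))) (.leaf (2735, 0, false)))))))) (.node (.node (.node (.node (.node (.node (.node (.leaf (31, 0, false)) (.leaf (2786, 0, false))) (.node (.leaf (1588, 0, false)) (.leaf (2632, 22, false)))) (.node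 (.node (.leaf (867, 0, false)) (.leaf (3226, 0, false))) (.node (.leaf (2207, 40, false)) (.leaf (2517, 99, true))))) (.node (.node (.node (.leaf (55, 0, false)) (.leaf (2326, 38, false))) (.node (.leaf (1920, 0, false)) (.leaf (2174, 44, true)))) (.node (.node (.leaf (666, 36, false)) (.leaf (3105, 69, true))) (.leaf (463, 0, false))))) (.node (.node (.node (.node (.leaf (246, 0, false)) (.leaf (2119, 118, false))) (.node (.leaf (1757, 0, false)) (.leaf (3151, 106, true)))) (.node (.node (.leaf (1060, 0, false)) (.leaf (1600, 10, false))) (.node (.leaf (1980, 66, false)) (.leaf (2926, 77, false))))) (.node (.node (.node (.leaf (663, 0, false)) (.leaf (3113, 0, false))) (.node (.leaf (2081, 0, false)) (.leaf (3717, 25, true)))) (.node (.node (.leaf (1429, 0, false)) (.leaf (3328, 35, false))) (.leaf (508, 0, false)))))) (.node (.node (.node (.node (.node (.leaf (139, 0, false)) (.leaf (2444, 132, true))) (.node (.leaf (1673, 0, false)) (.leaf (3564, 0, false)))) (.node (.node (.leaf (971, 0, false)) (.leaf (3269, 0, false))) (.node (.leaf (402, 0, false)) (.leaf (2589,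 102, false))))) (.node (.node (.node (.leaf (565, 0, false)) (.leaf (1048, 9, true))) (.node (.leaf (2003, 0, false)) (.leaf (3706, 0, false)))) (.node (.node (.leaf (1340, 0, false)) (.leaf (2776, 46, true))) (.leaf (1597, 40, true))))) (.node (.node (.node (.node (.leaf (355, 0, false)) (.leaf (2963, 0, false))) (.node (.leaf (282, 0, false)) (.leaf (3646, 0, false)))) (.node (.node (.leaf (1151, 0, false)) (.leaf (1494, 128, false))) (.leaf (1734, 40, false)))) (.node (.node (.node (.leaf (769, 0, false)) (.leaf (3177, 0, false))) (.node (.leaf (2151, 0, false)) (.leaf (3259, 25, true)))) (.node (.node (.leaf (1501, 0, false)) (.leaf (1990, 10, true))) (.leaf (2141, 28, true))))))) (.node (.node (.node (.node (.node (.node (.leaf (87, 0, false)) (.leaf (2817, 0, false))) (.node (.leaf (900, 5, true)) (.leaf (3571, 0, false)))) (.node (.node (.leaf (919, 0, false)) (.leaf (3247, 0, false))) (.node (.leaf (2260, 0, false)) (.leaf (2649, 153, true))))) (.node (.node (.node (.leaf (511, 0, false)) (.leaf (3037, 0, false))) (.node (.leaf (1961, 0, false)) (.leaf (3690,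 0, false)))) (.node (.node (.leaf (1291, 0, false)) (.leaf (3430, 0, false))) (.leaf (2567, 0, false))))) (.node (.node (.node (.node (.leaf (300, 0, false)) (.leaf (2925, 0, false))) (.node (.leaf (275, 0, false)) (.leaf (2805, 99, true)))) (.node (.node (.leaf (1105, 0, false)) (.leaf (3341, 0, false))) (.node (.leaf (2410, 0, false)) (.leaf (3779, 0, false))))) (.node (.node (.node (.leaf (714, 0, false)) (.leaf (2889, 40, true))) (.node (.leaf (2113, 0, false)) (.leaf (3732, 0, false)))) (.node (.node (.leaf (1468, 0, false)) (.leaf (3507, 0, false))) (.leaf (2686, 0, false)))))) (.node (.node (.node (.node (.node (.leaf (195, 0, false)) (.leaf (2875, 0, false))) (.node (.leaf (1715, 0, false)) (.leaf (1205, 0, false)))) (.node (.node (.leaf (1017, 0, false)) (.leaf (3293, 0, false))) (.node (.leaf (2331, 0, false)) (.leaf (2519, 116, true))))) (.node (.node (.node (.leaf (614, 0, false)) (.leaf (3083, 0, false))) (.node (.leaf (1265, 87, true)) (.leaf (3469, 54, true)))) (.node (.node (.leaf (949, 5, false)) (.leaf (2409, 151, true))) (.leaf (1732, 38, true)))))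 (.node (.node (.node (.node (.leaf (406, 0, false)) (.leaf (2557, 58, true))) (.node (.leaf (1881, 0, false)) (.leaf (3371, 73, true)))) (.node (.node (.leaf (1196, 0, false)) (.leaf (1045, 0, false))) (.leaf (454, 0, false)))) (.node (.node (.node (.leaf (817, 0, false)) (.leaf (2972, 122, false))) (.node (.leaf (2175, 25, true)) (.leaf (1954, 151, true)))) (.node (.node (.leaf (1541, 0, false)) (.leaf (1995, 58, true))) (.leaf (2752, 0, false)))))))))

def schX3 : Janko.Tree (ℕ × ℕ × Bool) :=
  (.node (.node (.node (.node (.node (.node (.node (.node (.leaf (7, 0, false)) (.leaf (2772, 0, false))) (.node (.leaf (1565, 0, false)) (.leaf (2195, 39, false)))) (.node (.node (.leaf (841, 0, false)) (.leaf (3016, 158, true))) (.node (.leaf (2215, 0, false)) (.leaf (2303, 90, true))))) (.node (.node (.node (.leaf (432, 0, false)) (.leaf (2996, 0, false))) (.node (.leaf (1904, 0, false)) (.leaf (1912, 37, true)))) (.node (.node (.leaf (1224, 0, false)) (.leaf (2160, 126, true))) (.leaf (2511, 0, false))))) (.node (.node (.node (.node (.leaf (202, 106, true)) (.leaf (1408, 46,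 true))) (.node (.leaf (1735, 0, false)) (.leaf (3614, 0, false)))) (.node (.node (.leaf (1037, 0, false)) (.leaf (1506, 67, false))) (.node (.leaf (2352, 0, false)) (.leaf (3607, 131, true))))) (.node (.node (.node (.leaf (640, 0, false)) (.leaf (3102, 0, false))) (.node (.leaf (2066, 0, false)) (.leaf (3592, 87, true)))) (.node (.node (.leaf (1409, 0, false)) (.leaf (3480, 0, false))) (.leaf (2642, 0, false)))))) (.node (.node (.node (.node (.node (.leaf (13, 0, false)) (.leaf (1829, 23, false))) (.node (.leaf (1652, 0, false)) (.leaf (3578, 0, false)))) (.node (.node (.leaf (946, 0, false)) (.leaf (3261, 0, false))) (.node (.leaf (1006, 8, false)) (.leaf (3414, 132, false))))) (.node (.node (.node (.leaf (539, 0, false)) (.leaf (3030, 30, false))) (.node (.leaf (1988, 0, false)) (.leaf (3700, 0, false)))) (.node (.node (.leaf (1316, 0, false)) (.leaf (3327, 94, false))) (.leaf (2580, 0, false))))) (.node (.node (.node (.node (.leaf (329, 0, false)) (.leaf (2943, 0, false))) (.node (.leaf (768, 50, false)) (.leaf (3145, 111, true)))) (.node (.node (.leaf (153, 0, false))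 (.leaf (3352, 0, false))) (.node (.leaf (2434, 0, false)) (.leaf (3386, 90, true))))) (.node (.node (.node (.leaf (743, 0, false)) (.leaf (2411, 90, true))) (.node (.leaf (774, 5, true)) (.leaf (3737, 0, false)))) (.node (.node (.leaf (1488, 0, false)) (.leaf (1642, 51, false))) (.leaf (2702, 0, false))))))) (.node (.node (.node (.node (.node (.node (.leaf (60, 0, false)) (.leaf (866, 43, false))) (.node (.leaf (1608, 0, false)) (.leaf (3165, 30, false)))) (.node (.node (.leaf (894, 0, false)) (.leaf (2762, 3, true))) (.node (.leaf (1032, 48, false)) (.leaf (3158, 83, true))))) (.node (.node (.node (.leaf (485, 0, false)) (.leaf (3024, 0, false))) (.node (.leaf (1943, 0, false)) (.leaf (2931, 15, false)))) (.node (.node (.leaf (1165, 116, false)) (.leaf (3009, 20, true))) (.leaf (683, 45, false))))) (.node (.node (.node (.node (.leaf (274, 0, false)) (.leaf (1371, 130, true))) (.node (.leaf (1780, 0, false)) (.leaf (1729, 73, false)))) (.node (.node (.leaf (145, 0, false)) (.leaf (1818, 89, true))) (.node (.leaf (2391, 0, false)) (.leaf (2937, 29, true))))) (.node (.node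 (.node (.leaf (693, 0, false)) (.leaf (749, 36, false))) (.node (.leaf (1753, 87, true)) (.leaf (3067, 92, false)))) (.node (.node (.leaf (1450, 0, false)) (.leaf (1307, 115, false))) (.leaf (928, 91, true)))))) (.node (.node (.node (.node (.node (.leaf (169, 0, false)) (.leaf (2863, 0, false))) (.node (.leaf (1695, 0, false)) (.leaf (3486, 12, true)))) (.node (.node (.leaf (996, 0, false)) (.leaf (2625, 26, true))) (.node (.leaf (855, 4, true)) (.leaf (3140, 132, true))))) (.node (.node (.node (.leaf (72, 0, false)) (.leaf (2045, 84, false))) (.node (.leaf (878, 44, false)) (.leaf (3322, 107, true)))) (.node (.node (.leaf (1363, 0, false)) (.leaf (3170, 15, true))) (.leaf (2385, 109, false))))) (.node (.node (.node (.node (.leaf (383, 0, false)) (.leaf (1260, 40, true))) (.node (.leaf (1190, 36, false)) (.leaf (2225, 148, true)))) (.node (.node (.leaf (840, 159, false)) (.leaf (1200, 85, true))) (.leaf (2470, 0, false)))) (.node (.node (.node (.leaf (798, 0, false)) (.leaf (2899, 134, false))) (.node (.leaf (2176, 0, false)) (.leaf (3746, 0, false)))) (.node (.node (.leaf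 (1522, 0, false)) (.leaf (3533, 0, false))) (.leaf (2736, 0, false)))))))) (.node (.node (.node (.node (.node (.node (.node (.leaf (2, 0, false)) (.leaf (2197, 40, true))) (.node (.leaf (1589, 0, false)) (.leaf (1145, 0, false)))) (.node (.node (.leaf (868, 0, false)) (.leaf (3227, 0, false))) (.node (.leaf (2228, 0, false)) (.leaf (3559, 77, true))))) (.node (.node (.node (.leaf (460, 0, false)) (.leaf (674, 0, false))) (.node (.leaf (1921, 0, false)) (.leaf (2897, 8, false)))) (.node (.node (.leaf (1246, 0, false)) (.leaf (3376, 0, false))) (.leaf (2532, 0, false))))) (.node (.node (.node (.node (.leaf (248, 0, false)) (.leaf (2901, 0, false))) (.node (.leaf (268, 0, false)) (.leaf (1236, 0, false)))) (.node (.node (.leaf (641, 13, true)) (.leaf (3320, 0, false))) (.node (.leaf (2372, 0, false)) (.leaf (2285, 0, false))))) (.node (.node (.node (.leaf (665, 0, false)) (.leaf (3115, 0, false))) (.node (.leaf (2082, 0, false)) (.leaf (3726, 0, false)))) (.node (.node (.leaf (1382, 52, true)) (.leaf (2909, 118, false))) (.leaf (2657, 0, false)))))) (.node (.node (.node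 (.node (.node (.leaf (141, 0, false)) (.leaf (2848, 0, false))) (.node (.leaf (1675, 0, false)) (.leaf (3586, 0, false)))) (.node (.node (.leaf (845, 106, false)) (.leaf (2334, 36, false))) (.node (.leaf (2302, 0, false)) (.leaf (2694, 74, true))))) (.node (.node (.node (.leaf (567, 0, false)) (.leaf (3058, 0, false))) (.node (.leaf (2004, 0, false)) (.leaf (3175, 85, false)))) (.node (.node (.leaf (975, 39, true)) (.leaf (1590, 25, false))) (.leaf (2340, 34, false))))) (.node (.node (.node (.node (.leaf (357, 0, false)) (.leaf (1662, 63, false))) (.node (.leaf (1841, 0, false)) (.leaf (1351, 32, true)))) (.node (.node (.leaf (1152, 0, false)) (.leaf (3184, 106, false))) (.leaf (2452, 0, false)))) (.node (.node (.node (.leaf (770, 0, false)) (.leaf (1471, 85, false))) (.node (.leaf (2153, 0, false)) (.leaf (3707, 34, false)))) (.node (.node (.leaf (1503, 0, false)) (.leaf (2342, 40, false))) (.leaf (2606, 139, false))))))) (.node (.node (.node (.node (.node (.node (.leaf (89, 0, false)) (.leaf (1547, 50, true))) (.node (.leaf (1631, 0, false)) (.leaf (3510, 156, false))))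 (.node (.node (.leaf (921, 0, false)) (.leaf (3248, 0, false))) (.node (.leaf (2262, 0, false)) (.leaf (3318, 14, true))))) (.node (.node (.node (.leaf (512, 0, false)) (.leaf (3038, 0, false))) (.node (.leaf (310, 0, false)) (.leaf (1773, 74, true)))) (.node (.node (.leaf (382, 96, true)) (.leaf (3431, 0, false))) (.leaf (2568, 0, false))))) (.node (.node (.node (.node (.leaf (301, 0, false)) (.leaf (2553, 30, true))) (.node (.leaf (1799, 0, false)) (.leaf (1278, 0, false)))) (.node (.node (.leaf (148, 0, false)) (.leaf (876, 0, false))) (.node (.leaf (2412, 0, false)) (.leaf (3153, 31, false))))) (.node (.node (.node (.leaf (716, 0, false)) (.leaf (3146, 0, false))) (.node (.leaf (1343, 64, false)) (.leaf (3652, 81, true)))) (.node (.node (.leaf (1274, 115, false)) (.leaf (3508, 0, false))) (.leaf (2687, 0, false)))))) (.node (.node (.node (.node (.node (.leaf (196, 0, false)) (.leaf (1036, 159, false))) (.node (.leaf (1406, 128, false)) (.leaf (3603, 0, false)))) (.node (.node (.leaf (1019, 0, false)) (.leaf (2969, 52, false))) (.node (.leaf (2333, 0, false)) (.leaf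 (2096, 0, false))))) (.node (.node (.node (.leaf (616, 0, false)) (.leaf (3084, 0, false))) (.node (.leaf (326, 0, false)) (.leaf (3673, 12, true)))) (.node (.node (.leaf (1386, 0, false)) (.leaf (2051, 55, true))) (.leaf (2624, 0, false))))) (.node (.node (.node (.node (.leaf (408, 0, false)) (.leaf (2291, 35, false))) (.node (.leaf (1883, 0, false)) (.leaf (3221, 46, true)))) (.node (.node (.leaf (1198, 0, false)) (.leaf (1203, 116, true))) (.leaf (2491, 0, false)))) (.node (.node (.node (.leaf (819, 0, false)) (.leaf (1532, 70, false))) (.node (.leaf (367, 0, false)) (.leaf (3617, 159, true)))) (.node (.node (.leaf (1543, 0, false)) (.leaf (3539, 0, false))) (.leaf (540, 0, false)))))))))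

def schX4 : Janko.Tree (ℕ × ℕ × Bool) :=
  (.node (.node (.node (.node (.node (.node (.node (.node (.leaf (9, 0, false)) (.leaf (1901, 8, true))) (.node (.leaf (1247, 96, false)) (.leaf (3353, 52, true)))) (.node (.node (.leaf (843, 0, false)) (.leaf (3215, 0, false))) (.node (.leaf (1596, 97, false)) (.leaf (3752, 0, false))))) (.node (.node (.node (.leaf (434, 0, false)) (.leaf (2997, 0, false))) (.node (.leaf (678, 31, true)) (.leaf (3662, 159, false)))) (.node (.node (.leaf (1226, 0, false)) (.leaf (2259, 77, true))) (.leaf (2513, 0, false))))) (.node (.node (.node (.node (.leaf (223, 0, false)) (.leaf (2719, 111, true))) (.node (.leaf (1736, 0, false)) (.leaf (1998, 23, false)))) (.node (.node (.leaf (1039, 0, false)) (.leaf (2859, 0, false))) (.node (.leaf (417, 0, false)) (.leaf (3771, 117, true))))) (.node (.node (.node (.leaf (642, 0, false)) (.leaf (1285, 51, true))) (.node (.leaf (2068, 0, false)) (.leaf (3260, 66, false)))) (.node (.node (.leaf (405, 128, false)) (.leaf (3195, 56, false))) (.leaf (2644, 0, false)))))) (.node (.node (.node (.node (.node (.leaf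 (116, 0, false)) (.leaf (2365, 71, false))) (.node (.leaf (1653, 0, false)) (.leaf (3446, 155, true)))) (.node (.node (.leaf (948, 0, false)) (.leaf (2025, 128, false))) (.node (.leaf (2284, 0, false)) (.leaf (3159, 52, true))))) (.node (.node (.node (.leaf (541, 0, false)) (.leaf (1001, 2, true))) (.node (.leaf (314, 0, false)) (.leaf (3682, 27, false)))) (.node (.node (.leaf (182, 0, false)) (.leaf (3443, 0, false))) (.leaf (2189, 86, false))))) (.node (.node (.node (.node (.leaf (331, 0, false)) (.leaf (2945, 0, false))) (.node (.leaf (1824, 0, false)) (.leaf (3642, 0, false)))) (.node (.node (.leaf (1132, 0, false)) (.leaf (926, 52, true))) (.leaf (2436, 0, false)))) (.node (.node (.node (.leaf (745, 0, false)) (.leaf (1786, 42, false))) (.node (.leaf (2136, 0, false)) (.leaf (3212, 31, false)))) (.node (.node (.leaf (1490, 0, false)) (.leaf (3519, 0, false))) (.leaf (1635, 133, false))))))) (.node (.node (.node (.node (.node (.node (.leaf (61, 0, false)) (.leaf (2799, 0, false))) (.node (.leaf (238, 0, false)) (.leaf (3272, 7, false)))) (.node (.node (.leaf (896,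 0, false)) (.leaf (2638, 155, true))) (.node (.leaf (2248, 0, false)) (.leaf (2473, 66, false))))) (.node (.node (.node (.leaf (59, 0, false)) (.leaf (799, 53, false))) (.node (.leaf (1945, 0, false)) (.leaf (2923, 95, true)))) (.node (.node (.leaf (1267, 0, false)) (.leaf (2579, 102, true))) (.leaf (2548, 0, false))))) (.node (.node (.node (.node (.leaf (276, 0, false)) (.leaf (1603, 107, true))) (.node (.leaf (1761, 36, false)) (.leaf (2490, 74, true)))) (.node (.node (.leaf (1085, 0, false)) (.leaf (3329, 0, false))) (.node (.leaf (2393, 0, false)) (.leaf (2431, 0, false))))) (.node (.node (.node (.leaf (88, 0, false)) (.leaf (3127, 0, false))) (.node (.leaf (2101, 0, false)) (.leaf (3628, 10, true)))) (.node (.node (.leaf (1452, 0, false)) (.leaf (1195, 153, false))) (.leaf (739, 45, false)))))) (.node (.node (.node (.node (.node (.leaf (20, 0, false)) (.leaf (1051, 43, false))) (.node (.leaf (1697, 0, false)) (.leaf (3594, 0, false)))) (.node (.node (.leaf (997, 0, false)) (.leaf (1776, 52, true))) (.node (.leaf (407, 0, false)) (.leaf (2094, 122, false))))) (.node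 (.node (.node (.leaf (594, 0, false)) (.leaf (3069, 0, false))) (.node (.leaf (2028, 0, false)) (.leaf (1485, 0, false)))) (.node (.node (.leaf (189, 0, false)) (.leaf (2038, 15, true))) (.leaf (2604, 0, false))))) (.node (.node (.node (.node (.leaf (384, 0, false)) (.leaf (2075, 37, false))) (.node (.leaf (1863, 0, false)) (.leaf (3313, 148, true)))) (.node (.node (.leaf (1173, 0, false)) (.leaf (3370, 0, false))) (.leaf (2472, 0, false)))) (.node (.node (.node (.leaf (101, 0, false)) (.leaf (1811, 50, false))) (.node (.leaf (2177, 0, false)) (.leaf (2900, 0, false)))) (.node (.node (.leaf (1523, 0, false)) (.leaf (3397, 13, true))) (.leaf (801, 45, false)))))))) (.node (.node (.node (.node (.node (.node (.node (.leaf (34, 0, false)) (.leaf (1866, 45, false))) (.node (.leaf (234, 0, false)) (.leaf (3354, 36, false)))) (.node (.node (.leaf (870, 0, false)) (.leaf (1023, 56, false))) (.node (.leaf (2230, 0, false)) (.leaf (2227, 41, false))))) (.node (.node (.node (.leaf (462, 0, false)) (.leaf (1962, 52, false))) (.node (.leaf (1922, 0, false)) (.leaf (3606, 103, false))))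 (.node (.node (.leaf (170, 0, false)) (.leaf (2525, 65, false))) (.leaf (2304, 49, false))))) (.node (.node (.node (.node (.leaf (249, 0, false)) (.leaf (612, 0, false))) (.node (.leaf (1759, 0, false)) (.leaf (3623, 0, false)))) (.node (.node (.leaf (1063, 0, false)) (.leaf (3321, 0, false))) (.node (.leaf (422, 0, false)) (.leaf (2392, 46, false))))) (.node (.node (.node (.leaf (566, 0, false)) (.leaf (2545, 27, true))) (.node (.leaf (2084, 0, false)) (.leaf (2484, 45, true)))) (.node (.node (.leaf (1431, 0, false)) (.leaf (2287, 100, false))) (.leaf (2435, 97, true)))))) (.node (.node (.node (.node (.node (.leaf (143, 0, false)) (.leaf (2849, 0, false))) (.node (.leaf (979, 118, false)) (.leaf (1240, 141, false)))) (.node (.node (.leaf (972, 0, false)) (.leaf (3270, 0, false))) (.node (.leaf (771, 43, true)) (.leaf (3526, 108, false))))) (.node (.node (.node (.leaf (569, 0, false)) (.leaf (701, 0, false))) (.node (.leaf (2006, 0, false)) (.leaf (3703, 29, true)))) (.node (.node (.leaf (1342, 0, false)) (.leaf (3451, 0, false))) (.leaf (2590, 0, false))))) (.node (.node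 (.node (.node (.leaf (359, 0, false)) (.leaf (645, 0, false))) (.node (.leaf (1843, 0, false)) (.leaf (1385, 0, false)))) (.node (.node (.leaf (1125, 46, false)) (.leaf (3363, 0, false))) (.leaf (2217, 118, true)))) (.node (.node (.node (.leaf (772, 0, false)) (.leaf (3178, 0, false))) (.node (.leaf (2150, 106, false)) (.leaf (1702, 0, false)))) (.node (.node (.leaf (1218, 19, false)) (.leaf (1813, 85, true))) (.leaf (530, 0, false))))))) (.node (.node (.node (.node (.node (.node (.leaf (10, 0, false)) (.leaf (2819, 0, false))) (.node (.leaf (633, 57, false)) (.leaf (1674, 31, true)))) (.node (.node (.leaf (923, 0, false)) (.leaf (3250, 0, false))) (.node (.leaf (2264, 0, false)) (.leaf (3530, 53, false))))) (.node (.node (.node (.leaf (513, 0, false)) (.leaf (3039, 0, false))) (.node (.leaf (1917, 27, true)) (.leaf (3677, 148, false)))) (.node (.node (.leaf (178, 0, false)) (.leaf (1075, 0, false))) (.leaf (472, 0, false))))) (.node (.node (.node (.node (.leaf (303, 0, false)) (.leaf (627, 0, false))) (.node (.leaf (1801, 0, false)) (.leaf (3637, 0, false)))) (.node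 (.node (.leaf (1107, 0, false)) (.leaf (970, 24, false))) (.node (.leaf (2414, 0, false)) (.leaf (3132, 60, true))))) (.node (.node (.node (.leaf (717, 0, false)) (.leaf (2244, 159, true))) (.node (.leaf (2116, 0, false)) (.leaf (2184, 59, false)))) (.node (.node (.leaf (545, 127, true)) (.leaf (2398, 94, false))) (.leaf (2255, 99, false)))))) (.node (.node (.node (.node (.node (.leaf (198, 0, false)) (.leaf (2877, 0, false))) (.node (.leaf (260, 0, false)) (.leaf (3605, 0, false)))) (.node (.node (.leaf (1020, 0, false)) (.leaf (1578, 128, true))) (.node (.leaf (1997, 126, false)) (.leaf (3117, 47, false))))) (.node (.node (.node (.leaf (372, 38, true)) (.leaf (3085, 0, false))) (.node (.leaf (2048, 0, false)) (.leaf (1983, 0, false)))) (.node (.node (.leaf (192, 0, false)) (.leaf (3470, 0, false))) (.leaf (2015, 76, false))))) (.node (.node (.node (.node (.leaf (409, 0, false)) (.leaf (2985, 0, false))) (.node (.leaf (1885, 0, false)) (.leaf (3639, 86, false)))) (.node (.node (.leaf (1199, 0, false)) (.leaf (3383, 0, false))) (.leaf (1131, 141, false)))) (.node (.node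 (.node (.leaf (820, 0, false)) (.leaf (1210, 109, false))) (.node (.leaf (1364, 131, false)) (.leaf (1910, 139, false)))) (.node (.node (.leaf (1545, 0, false)) (.leaf (3369, 87, false))) (.leaf (2753, 0, false)))))))))

def schX5 : Janko.Tree (ℕ × ℕ × Bool) :=
  (.node (.node (.node (.node (.node (.node (.node (.node (.leaf (11, 0, false)) (.leaf (2775, 0, false))) (.node (.leaf (1434, 106, false)) (.leaf (1138, 0, false)))) (.node (.node (.leaf (844, 0, false)) (.leaf (3216, 0, false))) (.node (.leaf (535, 15, true)) (.leaf (3160, 153, false))))) (.node (.node (.node (.leaf (436, 0, false)) (.leaf (1064, 29, false))) (.node (.leaf (1906, 0, false)) (.leaf (3573, 159, true)))) (.node (.node (.leaf (1228, 0, false)) (.leaf (2709, 156, false))) (.leaf (2514, 0, false))))) (.node (.node (.node (.node (.leaf (224, 0, false)) (.leaf (2887, 0, false))) (.node (.leaf (1738, 0, false)) (.leaf (3615, 0, false)))) (.node (.node (.leaf (1041, 0, false)) (.leaf (3307, 0, false))) (.node (.leaf (2354, 0, false)) (.leaf (2240, 73, true))))) (.node (.node (.node (.leaf (644, 0, false))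 (.leaf (2821, 0, false))) (.node (.leaf (1242, 19, false)) (.leaf (1741, 85, true)))) (.node (.node (.leaf (1353, 25, true)) (.leaf (3481, 0, false))) (.leaf (1346, 58, false)))))) (.node (.node (.node (.node (.node (.leaf (118, 0, false)) (.leaf (576, 0, false))) (.node (.leaf (1487, 0, false)) (.leaf (1426, 0, true)))) (.node (.node (.leaf (950, 0, false)) (.leaf (3262, 0, false))) (.node (.leaf (2286, 0, false)) (.leaf (1963, 0, false))))) (.node (.node (.node (.leaf (66, 0, false)) (.leaf (3045, 0, false))) (.node (.leaf (1991, 0, false)) (.leaf (1681, 92, false)))) (.node (.node (.leaf (1319, 0, false)) (.leaf (2989, 158, false))) (.leaf (479, 0, false))))) (.node (.node (.node (.node (.leaf (333, 0, false)) (.leaf (2946, 0, false))) (.node (.leaf (1192, 159, false)) (.leaf (1301, 0, false)))) (.node (.node (.leaf (1134, 0, false)) (.leaf (3271, 125, true))) (.leaf (2437, 0, false)))) (.node (.node (.node (.leaf (95, 0, false)) (.leaf (3163, 0, false))) (.node (.leaf (349, 0, false)) (.leaf (2867, 103, true)))) (.node (.node (.leaf (229, 122, true)) (.leaf (3520,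 0, false))) (.leaf (2261, 117, true))))))) (.node (.node (.node (.node (.node (.node (.leaf (63, 0, false)) (.leaf (2800, 0, false))) (.node (.leaf (1611, 0, false)) (.leaf (3462, 144, true)))) (.node (.node (.leaf (114, 0, false)) (.leaf (804, 0, false))) (.node (.leaf (1788, 101, false)) (.leaf (2584, 39, true))))) (.node (.node (.node (.leaf (488, 0, false)) (.leaf (3026, 0, false))) (.node (.leaf (1947, 0, false)) (.leaf (3601, 5, true)))) (.node (.node (.leaf (1269, 0, false)) (.leaf (3419, 0, false))) (.leaf (2550, 0, false))))) (.node (.node (.node (.node (.leaf (33, 0, false)) (.leaf (736, 10, false))) (.node (.leaf (1783, 0, false)) (.leaf (3562, 123, false)))) (.node (.node (.leaf (931, 0, false)) (.leaf (2833, 25, false))) (.node (.leaf (2395, 0, false)) (.leaf (3764, 150, false))))) (.node (.node (.node (.leaf (252, 40, false)) (.leaf (3128, 0, false))) (.node (.leaf (339, 0, false)) (.leaf (3137, 140, true)))) (.node (.node (.leaf (1453, 0, false)) (.leaf (3500, 0, false))) (.leaf (2676, 0, false)))))) (.node (.node (.node (.node (.node (.leaf (172, 0, false))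 (.leaf (776, 0, false))) (.node (.leaf (1454, 47, false)) (.leaf (3595, 0, false)))) (.node (.node (.leaf (885, 90, false)) (.leaf (3046, 28, false))) (.node (.leaf (2193, 68, true)) (.leaf (3453, 57, false))))) (.node (.node (.node (.leaf (596, 0, false)) (.leaf (2837, 118, false))) (.node (.leaf (2029, 0, false)) (.leaf (3712, 0, false)))) (.node (.node (.leaf (1365, 0, false)) (.leaf (2941, 118, true))) (.leaf (2605, 0, false))))) (.node (.node (.node (.node (.leaf (386, 0, false)) (.leaf (1559, 57, false))) (.node (.leaf (1865, 0, false)) (.leaf (2999, 25, false)))) (.node (.node (.leaf (160, 0, false)) (.leaf (3372, 0, false))) (.leaf (451, 0, false)))) (.node (.node (.node (.leaf (236, 31, true)) (.leaf (3193, 0, false))) (.node (.leaf (2178, 0, false)) (.leaf (2745, 56, false)))) (.node (.node (.leaf (1525, 0, false)) (.leaf (2313, 116, false))) (.leaf (2737, 0, false)))))))) (.node (.node (.node (.node (.node (.node (.node (.leaf (36, 0, false)) (.leaf (552, 0, false))) (.node (.leaf (1591, 0, false)) (.leaf (3560, 0, false)))) (.node (.node (.leaf (872, 0, false))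 (.leaf (3229, 0, false))) (.node (.leaf (2231, 0, false)) (.leaf (2860, 141, true))))) (.node (.node (.node (.leaf (464, 0, false)) (.leaf (676, 0, false))) (.node (.leaf (1923, 0, false)) (.leaf (3679, 0, false)))) (.node (.node (.leaf (1053, 93, true)) (.leaf (1133, 96, false))) (.leaf (2534, 0, false))))) (.node (.node (.node (.node (.leaf (251, 0, false)) (.leaf (2902, 0, false))) (.node (.leaf (1760, 0, false)) (.leaf (1987, 47, true)))) (.node (.node (.leaf (142, 0, false)) (.leaf (1733, 39, true))) (.node (.leaf (2375, 0, false)) (.leaf (2592, 49, true))))) (.node (.node (.node (.leaf (668, 0, false)) (.leaf (3116, 0, false))) (.node (.leaf (2086, 0, false)) (.leaf (2121, 145, false)))) (.node (.node (.leaf (1433, 0, false)) (.leaf (3490, 0, false))) (.leaf (2031, 52, true)))))) (.node (.node (.node (.node (.node (.leaf (17, 0, false)) (.leaf (2850, 0, false))) (.node (.leaf (1677, 0, false)) (.leaf (2856, 129, false)))) (.node (.node (.leaf (974, 0, false)) (.leaf (2769, 80, false))) (.node (.leaf (2305, 0, false)) (.leaf (3767, 0, false))))) (.node (.node (.node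 (.leaf (571, 0, false)) (.leaf (2466, 109, true))) (.node (.leaf (2008, 0, false)) (.leaf (1469, 0, false)))) (.node (.node (.leaf (1344, 0, false)) (.leaf (2413, 51, false))) (.leaf (2591, 0, false))))) (.node (.node (.node (.node (.leaf (361, 0, false)) (.leaf (2965, 0, false))) (.node (.leaf (1844, 0, false)) (.leaf (3648, 0, false)))) (.node (.node (.leaf (962, 0, false)) (.leaf (3147, 116, false))) (.leaf (2179, 0, false)))) (.node (.node (.node (.leaf (98, 0, false)) (.leaf (3179, 0, false))) (.node (.leaf (2155, 0, false)) (.leaf (3192, 117, false)))) (.node (.node (.leaf (1505, 0, false)) (.leaf (1097, 0, false))) (.leaf (643, 99, false))))))) (.node (.node (.node (.node (.node (.node (.leaf (92, 0, false)) (.leaf (2756, 52, true))) (.node (.leaf (1634, 0, false)) (.leaf (1172, 0, false)))) (.node (.node (.leaf (117, 0, false)) (.leaf (3251, 0, false))) (.node (.leaf (2266, 0, false)) (.leaf (1899, 0, false))))) (.node (.node (.node (.leaf (515, 0, false)) (.leaf (3040, 0, false))) (.node (.leaf (1964, 0, false)) (.leaf (3692, 0, false)))) (.node (.node (.leaf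 (1293, 0, false)) (.leaf (973, 0, false))) (.leaf (1238, 40, false))))) (.node (.node (.node (.node (.leaf (304, 0, false)) (.leaf (2928, 0, false))) (.node (.leaf (1803, 0, false)) (.leaf (3638, 0, false)))) (.node (.node (.leaf (696, 45, false)) (.leaf (3065, 61, true))) (.node (.leaf (710, 13, false)) (.leaf (2629, 0, false))))) (.node (.node (.node (.leaf (719, 0, false)) (.leaf (3148, 0, false))) (.node (.leaf (2117, 0, false)) (.leaf (3733, 0, false)))) (.node (.node (.leaf (1253, 115, true)) (.leaf (1071, 0, false))) (.leaf (520, 0, false)))))) (.node (.node (.node (.node (.node (.leaf (200, 0, false)) (.leaf (2684, 3, false))) (.node (.leaf (1719, 0, false)) (.leaf (2828, 112, false)))) (.node (.node (.leaf (1021, 0, false)) (.leaf (2111, 95, true))) (.node (.leaf (413, 0, false)) (.leaf (3385, 157, true))))) (.node (.node (.node (.leaf (618, 0, false)) (.leaf (715, 0, false))) (.node (.leaf (2050, 0, false)) (.leaf (2378, 5, false)))) (.node (.node (.leaf (1388, 0, false)) (.leaf (3471, 0, false))) (.leaf (610, 4, true))))) (.node (.node (.node (.node (.leaf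 (411, 0, false)) (.leaf (2986, 0, false))) (.node (.leaf (1886, 0, false)) (.leaf (3654, 0, false)))) (.node (.node (.leaf (1201, 0, false)) (.leaf (1897, 134, false))) (.leaf (2493, 0, false)))) (.node (.node (.node (.leaf (822, 0, false)) (.leaf (3206, 0, false))) (.node (.leaf (2196, 0, false)) (.leaf (2595, 78, false)))) (.node (.node (.leaf (222, 0, false)) (.leaf (3506, 47, false))) (.leaf (1268, 50, true)))))))))

def schX6 : Janko.Tree (ℕ × ℕ × Bool) :=
  (.node (.node (.node (.node (.node (.node (.node (.node (.leaf (6, 159, false)) (.leaf (2610, 129, false))) (.node (.leaf (1568, 0, false)) (.leaf (3306, 58, true)))) (.node (.node (.leaf (846, 0, false)) (.leaf (2566, 35, false))) (.node (.leaf (2218, 0, false)) (.leaf (3753, 0, false))))) (.node (.node (.node (.leaf (53, 0, false)) (.leaf (1628, 157, false))) (.node (.leaf (1517, 103, false)) (.leaf (3557, 101, false)))) (.node (.node (.leaf (1229, 0, false)) (.leaf (3396, 0, false))) (.leaf (2516, 0, false))))) (.node (.node (.node (.node (.leaf (226, 0, false)) (.leaf (2888, 0, false))) (.node (.leaf (1740,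 0, false)) (.leaf (3616, 0, false)))) (.node (.node (.leaf (619, 118, false)) (.leaf (3308, 0, false))) (.node (.leaf (2356, 0, false)) (.leaf (3092, 79, true))))) (.node (.node (.node (.leaf (81, 0, false)) (.leaf (3104, 0, false))) (.node (.leaf (2069, 0, false)) (.leaf (3714, 109, true)))) (.node (.node (.leaf (1412, 0, false)) (.leaf (3482, 0, false))) (.leaf (505, 0, false)))))) (.node (.node (.node (.node (.node (.leaf (120, 0, false)) (.leaf (2838, 0, false))) (.node (.leaf (247, 0, false)) (.leaf (2967, 42, false)))) (.node (.node (.leaf (951, 0, false)) (.leaf (2726, 155, true))) (.node (.leaf (2288, 0, false)) (.leaf (2143, 85, true))))) (.node (.node (.node (.leaf (544, 0, false)) (.leaf (880, 134, true))) (.node (.leaf (1993, 0, false)) (.leaf (2180, 127, true)))) (.node (.node (.leaf (1321, 0, false)) (.leaf (3444, 0, false))) (.leaf (2486, 124, false))))) (.node (.node (.node (.node (.leaf (334, 0, false)) (.leaf (2947, 0, false))) (.node (.leaf (1826, 0, false)) (.leaf (3547, 61, true)))) (.node (.node (.leaf (1136, 0, false)) (.leaf (3190, 136, false)))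 (.leaf (2438, 0, false)))) (.node (.node (.node (.leaf (748, 0, false)) (.leaf (2675, 8, true))) (.node (.leaf (2138, 0, false)) (.leaf (3427, 69, true)))) (.node (.node (.leaf (209, 0, false)) (.leaf (3521, 0, false))) (.leaf (1656, 109, false))))))) (.node (.node (.node (.node (.node (.node (.leaf (65, 0, false)) (.leaf (559, 0, false))) (.node (.leaf (1612, 0, false)) (.leaf (1160, 0, false)))) (.node (.node (.leaf (899, 0, false)) (.leaf (2482, 38, true))) (.node (.leaf (2249, 0, false)) (.leaf (2419, 123, false))))) (.node (.node (.node (.leaf (490, 0, false)) (.leaf (3027, 0, false))) (.node (.leaf (1948, 0, false)) (.leaf (3561, 126, true)))) (.node (.node (.leaf (175, 0, false)) (.leaf (3420, 0, false))) (.leaf (1015, 31, true))))) (.node (.node (.node (.node (.leaf (279, 0, false)) (.leaf (2915, 0, false))) (.node (.leaf (1785, 0, false)) (.leaf (1262, 0, false)))) (.node (.node (.leaf (495, 31, true)) (.leaf (3331, 0, false))) (.node (.leaf (2397, 0, false)) (.leaf (2521, 0, false))))) (.node (.node (.node (.leaf (697, 0, false)) (.leaf (742, 0, false))) (.node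 (.leaf (1324, 135, false)) (.leaf (1720, 0, false)))) (.node (.node (.leaf (795, 113, true)) (.leaf (3455, 41, true))) (.leaf (655, 116, false)))))) (.node (.node (.node (.node (.node (.leaf (174, 0, false)) (.leaf (2811, 122, true))) (.node (.leaf (1699, 0, false)) (.leaf (2537, 83, false)))) (.node (.node (.leaf (1000, 0, false)) (.leaf (2959, 99, false))) (.node (.leaf (2318, 0, false)) (.leaf (2622, 140, true))))) (.node (.node (.node (.leaf (598, 0, false)) (.leaf (1564, 84, false))) (.node (.leaf (1900, 52, false)) (.leaf (3713, 0, false)))) (.node (.node (.leaf (1367, 0, false)) (.leaf (2774, 4, true))) (.leaf (2607, 0, false))))) (.node (.node (.node (.node (.leaf (46, 0, false)) (.leaf (2457, 141, true))) (.node (.leaf (793, 36, false)) (.leaf (3656, 0, false)))) (.node (.node (.leaf (1175, 0, false)) (.leaf (3266, 40, true))) (.leaf (2475, 0, false)))) (.node (.node (.node (.leaf (802, 0, false)) (.leaf (3194, 0, false))) (.node (.leaf (374, 131, false)) (.leaf (1985, 8, false)))) (.node (.node (.leaf (1527, 0, false)) (.leaf (3534, 0, false))) (.leaf (2739,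 0, false)))))))) (.node (.node (.node (.node (.node (.node (.node (.leaf (38, 0, false)) (.leaf (2790, 0, false))) (.node (.leaf (1593, 0, false)) (.leaf (3382, 94, false)))) (.node (.node (.leaf (874, 0, false)) (.leaf (3230, 0, false))) (.node (.leaf (2233, 0, false)) (.leaf (3758, 0, false))))) (.node (.node (.node (.leaf (465, 0, false)) (.leaf (3011, 0, false))) (.node (.leaf (952, 20, true)) (.leaf (3511, 13, false)))) (.node (.node (.leaf (1250, 0, false)) (.leaf (3405, 0, false))) (.leaf (2535, 0, false))))) (.node (.node (.node (.node (.leaf (30, 0, false)) (.leaf (1526, 49, false))) (.node (.leaf (1762, 0, false)) (.leaf (3625, 0, false)))) (.node (.node (.leaf (1065, 0, false)) (.leaf (3283, 54, true))) (.node (.leaf (2377, 0, false)) (.leaf (2314, 0, false))))) (.node (.node (.node (.leaf (669, 0, false)) (.leaf (734, 0, false))) (.node (.leaf (1820, 45, false)) (.leaf (1567, 0, false)))) (.node (.node (.leaf (800, 31, true)) (.leaf (3491, 0, false))) (.leaf (2661, 0, false)))))) (.node (.node (.node (.node (.node (.leaf (146, 0, false)) (.leaf (1341, 65,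 true))) (.node (.leaf (1678, 0, false)) (.leaf (2581, 18, false)))) (.node (.node (.leaf (527, 107, true)) (.leaf (2788, 73, true))) (.node (.leaf (2306, 0, false)) (.leaf (3738, 79, true))))) (.node (.node (.node (.leaf (573, 0, false)) (.leaf (2027, 88, false))) (.node (.leaf (2010, 0, false)) (.leaf (3709, 0, false)))) (.node (.node (.leaf (1345, 0, false)) (.leaf (1758, 105, true))) (.leaf (2020, 159, false))))) (.node (.node (.node (.node (.leaf (363, 0, false)) (.leaf (1587, 36, false))) (.node (.leaf (1845, 0, false)) (.leaf (2874, 29, false)))) (.node (.node (.leaf (157, 0, false)) (.leaf (1542, 133, false))) (.leaf (2454, 0, false)))) (.node (.node (.node (.leaf (775, 0, false)) (.leaf (2803, 97, false))) (.node (.leaf (2157, 0, false)) (.leaf (3434, 26, true)))) (.node (.node (.leaf (213, 0, false)) (.leaf (3330, 31, false))) (.leaf (2722, 0, false))))))) (.node (.node (.node (.node (.node (.node (.leaf (94, 0, false)) (.leaf (2822, 0, false))) (.node (.leaf (1636, 0, false)) (.leaf (3366, 122, true)))) (.node (.node (.leaf (925, 0, false)) (.leaf (2962, 129,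 true))) (.node (.leaf (2267, 0, false)) (.leaf (3650, 74, false))))) (.node (.node (.node (.leaf (517, 0, false)) (.leaf (3041, 0, false))) (.node (.leaf (1966, 0, false)) (.leaf (3693, 0, false)))) (.node (.node (.leaf (1295, 0, false)) (.leaf (3432, 0, false))) (.leaf (1672, 157, true))))) (.node (.node (.node (.node (.leaf (306, 0, false)) (.leaf (2929, 0, false))) (.node (.leaf (1804, 0, false)) (.leaf (1283, 0, false)))) (.node (.node (.leaf (1110, 0, false)) (.leaf (3345, 0, false))) (.node (.leaf (2416, 0, false)) (.leaf (3775, 97, true))))) (.node (.node (.node (.leaf (721, 0, false)) (.leaf (3150, 0, false))) (.node (.leaf (2118, 0, false)) (.leaf (3180, 47, true)))) (.node (.node (.leaf (1470, 0, false)) (.leaf (3509, 0, false))) (.leaf (2330, 29, false)))))) (.node (.node (.node (.node (.node (.leaf (201, 0, false)) (.leaf (2078, 39, true))) (.node (.leaf (1721, 0, false)) (.leaf (2128, 9, false)))) (.node (.node (.leaf (134, 0, false)) (.leaf (3294, 0, false))) (.node (.leaf (2337, 0, false)) (.leaf (3055, 71, true))))) (.node (.node (.node (.leaf (620, 0,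 false)) (.leaf (3087, 0, false))) (.node (.leaf (1619, 42, false)) (.leaf (3437, 10, true)))) (.node (.node (.leaf (1389, 0, false)) (.leaf (2277, 138, true))) (.leaf (2626, 0, false))))) (.node (.node (.node (.node (.leaf (412, 0, false)) (.leaf (1318, 132, false))) (.node (.leaf (1887, 0, false)) (.leaf (2611, 88, false)))) (.node (.node (.leaf (1202, 0, false)) (.leaf (3207, 114, true))) (.leaf (2494, 0, false)))) (.node (.node (.node (.leaf (105, 0, false)) (.leaf (2363, 40, false))) (.node (.leaf (2198, 0, false)) (.leaf (3749, 0, false)))) (.node (.node (.leaf (1546, 0, false)) (.leaf (2765, 88, false))) (.leaf (2755, 0, false)))))))))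

def schX7 : Janko.Tree (ℕ × ℕ × Bool) :=
  (.node (.node (.node (.node (.node (.node (.node (.node (.leaf (0, 0, false)) (.leaf (547, 0, false))) (.node (.leaf (1569, 0, false)) (.leaf (3099, 36, false)))) (.node (.node (.leaf (847, 0, false)) (.leaf (3218, 0, false))) (.node (.leaf (2219, 0, false)) (.leaf (3742, 36, true))))) (.node (.node (.node (.leaf (439, 0, false)) (.leaf (3000, 0, false))) (.node (.leaf (1907, 0, false)) (.leaf (3122, 62, true)))) (.node (.node (.leaf (1231, 0, false)) (.leaf (2678, 33, false))) (.leaf (2518, 0, false))))) (.node (.node (.node (.node (.leaf (228, 0, false)) (.leaf (1607, 3, true))) (.node (.leaf (265, 0, false)) (.leaf (3618, 0, false)))) (.node (.node (.leaf (1044, 0, false)) (.leaf (3309, 0, false))) (.node (.leaf (2358, 0, false)) (.leaf (3556, 0, false))))) (.node (.node (.node (.leaf (646, 0, false)) (.leaf (3106, 0, false))) (.node (.leaf (2071, 0, false)) (.leaf (2779, 126, true)))) (.node (.node (.leaf (1414, 0, false)) (.leaf (3484, 0, false))) (.leaf (2002, 18, false)))))) (.node (.node (.node (.node (.node (.leaf (121,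 0, false)) (.leaf (2839, 0, false))) (.node (.leaf (1657, 0, false)) (.leaf (2258, 95, false)))) (.node (.node (.leaf (953, 0, false)) (.leaf (818, 0, false))) (.node (.leaf (988, 113, true)) (.leaf (2402, 81, true))))) (.node (.node (.node (.leaf (546, 0, false)) (.leaf (2656, 136, false))) (.node (.leaf (1994, 0, false)) (.leaf (3198, 39, true)))) (.node (.node (.leaf (1323, 0, false)) (.leaf (3042, 109, true))) (.leaf (2097, 140, true))))) (.node (.node (.node (.node (.leaf (336, 0, false)) (.leaf (2948, 0, false))) (.node (.leaf (1828, 0, false)) (.leaf (1390, 110, false)))) (.node (.node (.leaf (811, 97, true)) (.leaf (3355, 0, false))) (.leaf (2439, 0, false)))) (.node (.node (.node (.leaf (272, 49, false)) (.leaf (2980, 33, true))) (.node (.leaf (2139, 0, false)) (.leaf (2917, 10, true)))) (.node (.node (.leaf (773, 31, false)) (.leaf (3497, 0, false))) (.leaf (525, 0, false))))))) (.node (.node (.node (.node (.node (.node (.leaf (67, 0, false)) (.leaf (2802, 0, false))) (.node (.leaf (1197, 13, true)) (.leaf (2131, 58, false)))) (.node (.node (.leaf (901, 0, false))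 (.leaf (3241, 0, false))) (.node (.leaf (2251, 0, false)) (.leaf (3727, 67, false))))) (.node (.node (.node (.leaf (491, 0, false)) (.leaf (2725, 126, false))) (.node (.leaf (1832, 0, false)) (.leaf (3664, 108, true)))) (.node (.node (.leaf (720, 47, true)) (.leaf (956, 0, false))) (.leaf (468, 0, false))))) (.node (.node (.node (.node (.leaf (281, 0, false)) (.leaf (960, 17, true))) (.node (.leaf (1178, 97, false)) (.leaf (3298, 101, false)))) (.node (.node (.leaf (1088, 0, false)) (.leaf (3332, 0, false))) (.node (.leaf (2280, 105, false)) (.leaf (3378, 85, false))))) (.node (.node (.node (.leaf (698, 0, false)) (.leaf (3131, 0, false))) (.node (.leaf (2104, 0, false)) (.leaf (3274, 73, false)))) (.node (.node (.leaf (1455, 0, false)) (.leaf (1058, 0, false))) (.leaf (2046, 80, false)))))) (.node (.node (.node (.node (.node (.leaf (176, 0, false)) (.leaf (1424, 60, false))) (.node (.leaf (257, 0, false)) (.leaf (2126, 7, true)))) (.node (.node (.leaf (1002, 0, false)) (.leaf (835, 0, false))) (.node (.leaf (2320, 0, false)) (.leaf (3348, 19, true))))) (.node (.node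 (.node (.leaf (599, 0, false)) (.leaf (2974, 128, false))) (.node (.leaf (1855, 0, false)) (.leaf (3423, 102, true)))) (.node (.node (.leaf (1369, 0, false)) (.leaf (2636, 45, false))) (.leaf (2609, 0, false))))) (.node (.node (.node (.node (.leaf (388, 0, false)) (.leaf (1992, 109, true))) (.node (.leaf (572, 3, true)) (.leaf (2666, 151, true)))) (.node (.node (.leaf (1177, 0, false)) (.leaf (3022, 147, false))) (.leaf (2476, 0, false)))) (.node (.node (.node (.leaf (342, 159, false)) (.leaf (764, 0, false))) (.node (.leaf (362, 0, false)) (.leaf (3344, 118, true)))) (.node (.node (.leaf (1528, 0, false)) (.leaf (3535, 0, false))) (.leaf (2741, 0, false)))))))) (.node (.node (.node (.node (.node (.node (.node (.leaf (39, 0, false)) (.leaf (2792, 0, false))) (.node (.leaf (1595, 0, false)) (.leaf (3422, 99, true)))) (.node (.node (.leaf (621, 55, false)) (.leaf (2932, 118, false))) (.node (.leaf (2235, 0, false)) (.leaf (3759, 0, false))))) (.node (.node (.node (.leaf (467, 0, false)) (.leaf (2376, 153, false))) (.node (.leaf (1926, 0, false)) (.leaf (2299, 25, false))))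 (.node (.node (.leaf (1252, 0, false)) (.leaf (3406, 0, false))) (.leaf (2536, 0, false))))) (.node (.node (.node (.node (.leaf (254, 0, false)) (.leaf (2904, 0, false))) (.node (.leaf (1763, 0, false)) (.leaf (1496, 26, true)))) (.node (.node (.leaf (1067, 0, false)) (.leaf (3323, 0, false))) (.node (.leaf (2379, 0, false)) (.leaf (3772, 101, false))))) (.node (.node (.node (.leaf (671, 0, false)) (.leaf (1320, 116, true))) (.node (.leaf (335, 0, false)) (.leaf (1787, 41, true)))) (.node (.node (.leaf (199, 0, false)) (.leaf (1770, 42, false))) (.leaf (1621, 158, true)))))) (.node (.node (.node (.node (.node (.leaf (50, 42, false)) (.leaf (703, 95, true))) (.node (.leaf (1680, 0, false)) (.leaf (2994, 25, true)))) (.node (.node (.leaf (124, 0, false)) (.leaf (1903, 32, true))) (.node (.leaf (2030, 36, false)) (.leaf (2371, 2, true))))) (.node (.node (.node (.leaf (574, 0, false)) (.leaf (704, 0, false))) (.node (.leaf (2011, 0, false)) (.leaf (3111, 29, true)))) (.node (.node (.leaf (1347, 0, false)) (.leaf (2338, 103, false))) (.leaf (2355, 110, false))))) (.node (.node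 (.node (.node (.leaf (364, 0, false)) (.leaf (657, 105, true))) (.node (.leaf (873, 74, false)) (.leaf (3346, 32, true)))) (.node (.node (.leaf (729, 47, false)) (.leaf (2964, 136, true))) (.leaf (1008, 116, true)))) (.node (.node (.node (.leaf (777, 0, false)) (.leaf (3181, 0, false))) (.node (.leaf (2159, 0, false)) (.leaf (3655, 22, false)))) (.node (.node (.leaf (1354, 92, false)) (.leaf (3338, 126, false))) (.leaf (2724, 0, false))))))) (.node (.node (.node (.node (.node (.node (.leaf (96, 0, false)) (.leaf (2058, 72, false))) (.node (.leaf (1638, 0, false)) (.leaf (3468, 47, true)))) (.node (.node (.leaf (927, 0, false)) (.leaf (3252, 0, false))) (.node (.leaf (2087, 0, false)) (.leaf (3316, 114, true))))) (.node (.node (.node (.leaf (519, 0, false)) (.leaf (1676, 134, false))) (.node (.leaf (1968, 0, false)) (.leaf (1696, 116, false)))) (.node (.node (.leaf (1297, 0, false)) (.leaf (2100, 95, true))) (.leaf (2571, 0, false))))) (.node (.node (.node (.node (.leaf (308, 0, false)) (.leaf (628, 0, false))) (.node (.leaf (1806, 0, false)) (.leaf (3228, 2, true))))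 (.node (.node (.leaf (1111, 0, false)) (.leaf (877, 0, false))) (.node (.leaf (2418, 0, false)) (.leaf (3739, 57, true))))) (.node (.node (.node (.leaf (723, 0, false)) (.leaf (747, 0, false))) (.node (.leaf (2120, 0, false)) (.leaf (3705, 38, true)))) (.node (.node (.leaf (206, 0, false)) (.leaf (1971, 73, false))) (.leaf (2691, 0, false)))))) (.node (.node (.node (.node (.node (.leaf (203, 0, false)) (.leaf (600, 0, false))) (.node (.leaf (1723, 0, false)) (.leaf (1417, 141, false)))) (.node (.node (.leaf (685, 145, false)) (.leaf (3295, 0, false))) (.node (.leaf (2339, 0, false)) (.leaf (3242, 53, false))))) (.node (.node (.node (.leaf (151, 96, false)) (.leaf (3088, 0, false))) (.node (.leaf (2052, 0, false)) (.leaf (1722, 0, false)))) (.node (.node (.leaf (1391, 0, false)) (.leaf (2733, 140, true))) (.leaf (2628, 0, false))))) (.node (.node (.node (.node (.leaf (414, 0, false)) (.leaf (2988, 0, false))) (.node (.leaf (424, 96, false)) (.leaf (3456, 116, false)))) (.node (.node (.leaf (1204, 0, false)) (.leaf (3384, 0, false))) (.leaf (2496, 0, false)))) (.node (.node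 (.node (.leaf (825, 0, false)) (.leaf (2785, 38, false))) (.node (.leaf (2200, 0, false)) (.leaf (3750, 0, false)))) (.node (.node (.leaf (1548, 0, false)) (.leaf (3540, 0, false))) (.leaf (542, 0, false)))))))))

def schX8 : Janko.Tree (ℕ × ℕ × Bool) :=
  (.node (.node (.node (.node (.node (.node (.node (.node (.leaf (14, 0, false)) (.leaf (2587, 6, true))) (.node (.leaf (1571, 0, false)) (.leaf (3048, 13, false)))) (.node (.node (.leaf (849, 0, false)) (.leaf (3219, 0, false))) (.node (.leaf (2221, 0, false)) (.leaf (3754, 0, false))))) (.node (.node (.node (.leaf (441, 0, false)) (.leaf (2389, 158, false))) (.node (.leaf (1908, 0, false)) (.leaf (2205, 57, true)))) (.node (.node (.leaf (1233, 0, false)) (.leaf (3182, 7, false))) (.leaf (2520, 0, false))))) (.node (.node (.node (.node (.leaf (230, 0, false)) (.leaf (2441, 139, true))) (.node (.leaf (1743, 0, false)) (.leaf (3604, 66, false)))) (.node (.node (.leaf (1046, 0, false)) (.leaf (1651, 115, false))) (.node (.leaf (2359, 0, false)) (.leaf (3292, 135, false))))) (.node (.node (.node (.leaf (647, 0, false)) (.leaf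 (1216, 78, true))) (.node (.leaf (1570, 122, false)) (.leaf (3010, 104, true)))) (.node (.node (.leaf (1317, 52, true)) (.leaf (2497, 131, false))) (.leaf (2074, 64, false)))))) (.node (.node (.node (.node (.node (.leaf (123, 0, false)) (.leaf (2512, 6, false))) (.node (.leaf (1659, 0, false)) (.leaf (1393, 0, false)))) (.node (.node (.leaf (955, 0, false)) (.leaf (3263, 0, false))) (.node (.leaf (2263, 119, false)) (.leaf (3766, 0, false))))) (.node (.node (.node (.leaf (548, 0, false)) (.leaf (1130, 80, true))) (.node (.leaf (1099, 99, true)) (.leaf (3566, 39, false)))) (.node (.node (.leaf (1325, 0, false)) (.leaf (1249, 94, true))) (.leaf (2583, 0, false))))) (.node (.node (.node (.node (.leaf (338, 0, false)) (.leaf (2949, 0, false))) (.node (.leaf (1068, 158, true)) (.leaf (1742, 85, true)))) (.node (.node (.leaf (1137, 0, false)) (.leaf (2954, 67, true))) (.leaf (442, 0, false)))) (.node (.node (.node (.leaf (751, 0, false)) (.leaf (3166, 0, false))) (.node (.leaf (713, 132, true)) (.leaf (1800, 97, false)))) (.node (.node (.leaf (561, 109, false)) (.leaf (3515,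 140, false))) (.leaf (2706, 0, false))))))) (.node (.node (.node (.node (.node (.node (.leaf (69, 0, false)) (.leaf (2804, 0, false))) (.node (.leaf (1614, 0, false)) (.leaf (3114, 47, false)))) (.node (.node (.leaf (903, 0, false)) (.leaf (2714, 101, true))) (.node (.leaf (1415, 45, false)) (.leaf (3373, 30, true))))) (.node (.node (.node (.leaf (492, 0, false)) (.leaf (1894, 151, false))) (.node (.leaf (1950, 0, false)) (.leaf (1411, 0, false)))) (.node (.node (.leaf (1273, 0, false)) (.leaf (1782, 87, false))) (.leaf (2554, 0, false))))) (.node (.node (.node (.node (.leaf (283, 0, false)) (.leaf (2220, 94, true))) (.node (.leaf (466, 45, false)) (.leaf (2614, 115, true)))) (.node (.node (.leaf (860, 53, true)) (.leaf (1497, 0, false))) (.node (.leaf (2399, 0, false)) (.leaf (3777, 0, false))))) (.node (.node (.node (.leaf (700, 0, false)) (.leaf (3133, 0, false))) (.node (.leaf (2105, 0, false)) (.leaf (1594, 0, false)))) (.node (.node (.leaf (487, 45, false)) (.leaf (3501, 0, false))) (.leaf (2474, 52, false)))))) (.node (.node (.node (.node (.node (.leaf (177, 0,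 false)) (.leaf (2293, 29, false))) (.node (.leaf (1701, 0, false)) (.leaf (2478, 64, true)))) (.node (.node (.leaf (1003, 0, false)) (.leaf (3284, 0, false))) (.node (.leaf (2321, 0, false)) (.leaf (3659, 108, true))))) (.node (.node (.node (.leaf (601, 0, false)) (.leaf (2854, 128, false))) (.node (.leaf (323, 0, false)) (.leaf (3633, 115, true)))) (.node (.node (.leaf (1370, 0, false)) (.leaf (1380, 90, false))) (.leaf (493, 0, false))))) (.node (.node (.node (.node (.leaf (287, 38, false)) (.leaf (1207, 78, true))) (.node (.leaf (1868, 0, false)) (.leaf (3658, 0, false)))) (.node (.node (.leaf (1179, 0, false)) (.leaf (1576, 159, false))) (.leaf (2477, 0, false)))) (.node (.node (.node (.leaf (225, 50, false)) (.leaf (1815, 36, false))) (.node (.leaf (2181, 0, false)) (.leaf (1726, 0, false)))) (.node (.node (.leaf (1263, 92, true)) (.leaf (1718, 92, true))) (.leaf (2743, 0, false)))))))) (.node (.node (.node (.node (.node (.node (.node (.leaf (41, 0, false)) (.leaf (2793, 0, false))) (.node (.leaf (1120, 108, false)) (.leaf (3399, 32, true)))) (.node (.node (.leaf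 (207, 128, false)) (.leaf (2559, 156, false))) (.node (.leaf (2236, 0, false)) (.leaf (3126, 0, false))))) (.node (.node (.node (.leaf (437, 74, false)) (.leaf (2171, 5, true))) (.node (.leaf (1654, 158, false)) (.leaf (2916, 55, false)))) (.node (.node (.leaf (232, 51, false)) (.leaf (3185, 155, true))) (.leaf (2182, 60, false))))) (.node (.node (.node (.node (.leaf (256, 0, false)) (.leaf (2905, 0, false))) (.node (.leaf (759, 29, false)) (.leaf (1623, 36, false)))) (.node (.node (.leaf (1069, 0, false)) (.leaf (2387, 29, false))) (.node (.leaf (2381, 0, false)) (.leaf (3311, 139, false))))) (.node (.node (.node (.leaf (673, 0, false)) (.leaf (3118, 0, false))) (.node (.leaf (2089, 0, false)) (.leaf (2620, 41, false)))) (.node (.node (.leaf (1437, 0, false)) (.leaf (3493, 0, false))) (.leaf (2662, 0, false)))))) (.node (.node (.node (.node (.node (.leaf (149, 0, false)) (.leaf (1633, 105, false))) (.node (.leaf (1682, 0, false)) (.leaf (3465, 98, true)))) (.node (.node (.leaf (978, 0, false)) (.leaf (2979, 93, false))) (.node (.leaf (403, 0, false)) (.leaf (3626, 151,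 true))))) (.node (.node (.node (.leaf (356, 124, false)) (.leaf (3061, 0, false))) (.node (.leaf (2012, 0, false)) (.leaf (2257, 118, false)))) (.node (.node (.leaf (1348, 0, false)) (.leaf (3285, 94, false))) (.leaf (889, 129, true))))) (.node (.node (.node (.node (.leaf (366, 0, false)) (.leaf (1784, 0, false))) (.node (.leaf (1848, 0, false)) (.leaf (3002, 50, false)))) (.node (.node (.leaf (1156, 0, false)) (.leaf (1867, 139, false))) (.leaf (2213, 109, true)))) (.node (.node (.node (.leaf (779, 0, false)) (.leaf (3098, 0, false))) (.node (.leaf (2161, 0, false)) (.leaf (3743, 0, false)))) (.node (.node (.leaf (302, 0, false)) (.leaf (3527, 0, false))) (.leaf (2560, 68, false))))))) (.node (.node (.node (.node (.node (.node (.leaf (97, 0, false)) (.leaf (2541, 96, true))) (.node (.leaf (243, 0, false)) (.leaf (3565, 35, false)))) (.node (.node (.leaf (929, 0, false)) (.leaf (813, 0, false))) (.node (.leaf (2269, 0, false)) (.leaf (3765, 0, false))))) (.node (.node (.node (.leaf (521, 0, false)) (.leaf (1492, 155, true))) (.node (.leaf (1970, 0, false)) (.leaf (1435,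 0, false)))) (.node (.node (.leaf (1298, 0, false)) (.leaf (3435, 0, false))) (.leaf (2573, 0, false))))) (.node (.node (.node (.node (.leaf (37, 0, false)) (.leaf (2406, 109, true))) (.node (.leaf (688, 13, true)) (.leaf (3408, 63, true)))) (.node (.node (.leaf (250, 159, false)) (.leaf (3280, 21, false))) (.node (.leaf (2420, 0, false)) (.leaf (3109, 97, false))))) (.node (.node (.node (.leaf (725, 0, false)) (.leaf (3081, 0, false))) (.node (.leaf (556, 51, true)) (.leaf (2671, 50, false)))) (.node (.node (.leaf (1473, 0, false)) (.leaf (1073, 0, false))) (.leaf (2577, 4, true)))))) (.node (.node (.node (.node (.node (.leaf (205, 0, false)) (.leaf (1504, 15, false))) (.node (.leaf (1724, 0, false)) (.leaf (2651, 136, false)))) (.node (.node (.leaf (499, 118, true)) (.leaf (3296, 0, false))) (.node (.leaf (2341, 0, false)) (.leaf (2738, 89, true))))) (.node (.node (.node (.leaf (623, 0, false)) (.leaf (3089, 0, false))) (.node (.leaf (2054, 0, false)) (.leaf (3718, 0, false)))) (.node (.node (.leaf (1392, 0, false)) (.leaf (3461, 127, true))) (.leaf (2630, 0, false)))))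 (.node (.node (.node (.node (.leaf (416, 0, false)) (.leaf (2309, 58, true))) (.node (.leaf (1889, 0, false)) (.leaf (3666, 0, false)))) (.node (.node (.leaf (1206, 0, false)) (.leaf (2460, 78, false))) (.leaf (1042, 0, false)))) (.node (.node (.node (.leaf (604, 0, false)) (.leaf (1272, 37, false))) (.node (.leaf (2201, 0, false)) (.leaf (1960, 52, false)))) (.node (.node (.leaf (625, 50, false)) (.leaf (3542, 0, false))) (.leaf (2757, 0, false)))))))))

def schX9 : Janko.Tree (ℕ × ℕ × Bool) :=
  (.node (.node (.node (.node (.node (.node (.node (.node (.leaf (16, 0, false)) (.leaf (2108, 150, true))) (.node (.leaf (1573, 0, false)) (.leaf (2660, 52, true)))) (.node (.node (.leaf (851, 0, false)) (.leaf (1112, 159, false))) (.node (.leaf (1704, 134, false)) (.leaf (2914, 133, true))))) (.node (.node (.node (.leaf (443, 0, false)) (.leaf (3003, 0, false))) (.node (.leaf (299, 0, false)) (.leaf (3675, 0, false)))) (.node (.node (.leaf (1234, 0, false)) (.leaf (2903, 141, true))) (.leaf (1176, 58, true))))) (.node (.node (.node (.node (.leaf (137, 153, false)) (.leaf (2891,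 0, false))) (.node (.leaf (1745, 0, false)) (.leaf (3620, 0, false)))) (.node (.node (.leaf (1047, 0, false)) (.leaf (853, 0, false))) (.node (.leaf (2032, 53, true)) (.leaf (3735, 94, false))))) (.node (.node (.node (.leaf (649, 0, false)) (.leaf (2995, 0, false))) (.node (.leaf (2072, 0, false)) (.leaf (3161, 122, false)))) (.node (.node (.leaf (1416, 0, false)) (.leaf (1034, 0, false))) (.leaf (2645, 0, false)))))) (.node (.node (.node (.node (.node (.leaf (125, 0, false)) (.leaf (2693, 15, false))) (.node (.leaf (1660, 0, false)) (.leaf (2754, 133, true)))) (.node (.node (.leaf (957, 0, false)) (.leaf (2495, 53, false))) (.node (.leaf (2290, 0, false)) (.leaf (3663, 74, true))))) (.node (.node (.node (.leaf (549, 0, false)) (.leaf (3047, 0, false))) (.node (.leaf (330, 73, true)) (.leaf (3702, 0, false)))) (.node (.node (.leaf (1326, 0, false)) (.leaf (1884, 45, false))) (.leaf (882, 44, true))))) (.node (.node (.node (.node (.leaf (40, 0, false)) (.leaf (2951, 0, false))) (.node (.leaf (1830, 0, false)) (.leaf (2851, 40, true)))) (.node (.node (.leaf (1139, 0, false))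 (.leaf (3356, 0, false))) (.leaf (2442, 0, false)))) (.node (.node (.node (.leaf (752, 0, false)) (.leaf (3168, 0, false))) (.node (.leaf (945, 87, false)) (.leaf (1669, 0, false)))) (.node (.node (.leaf (1491, 0, false)) (.leaf (2696, 93, false))) (.leaf (2708, 0, false))))))) (.node (.node (.node (.node (.node (.node (.leaf (71, 0, false)) (.leaf (651, 0, false))) (.node (.leaf (1615, 0, false)) (.leaf (3442, 139, false)))) (.node (.node (.leaf (115, 0, false)) (.leaf (864, 123, false))) (.node (.leaf (1530, 118, false)) (.leaf (1847, 0, false))))) (.node (.node (.node (.leaf (494, 0, false)) (.leaf (3029, 0, false))) (.node (.leaf (307, 0, false)) (.leaf (1934, 25, false)))) (.node (.node (.leaf (1275, 0, false)) (.leaf (2908, 50, false))) (.leaf (2556, 0, false))))) (.node (.node (.node (.node (.leaf (284, 0, false)) (.leaf (803, 138, true))) (.node (.leaf (563, 111, true)) (.leaf (2599, 49, false)))) (.node (.node (.leaf (1090, 0, false)) (.leaf (3334, 0, false))) (.node (.leaf (1187, 63, true)) (.leaf (3590, 42, false))))) (.node (.node (.node (.leaf (702, 0, false))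 (.leaf (3135, 0, false))) (.node (.leaf (340, 0, false)) (.leaf (3503, 25, true)))) (.node (.node (.leaf (1456, 0, false)) (.leaf (1061, 0, false))) (.leaf (2679, 0, false)))))) (.node (.node (.node (.node (.node (.leaf (179, 0, false)) (.leaf (593, 0, false))) (.node (.leaf (1457, 112, true)) (.leaf (3051, 147, true)))) (.node (.node (.leaf (1004, 0, false)) (.leaf (3286, 0, false))) (.node (.leaf (1081, 42, false)) (.leaf (3350, 85, false))))) (.node (.node (.node (.leaf (603, 0, false)) (.leaf (3073, 0, false))) (.node (.leaf (2033, 0, false)) (.leaf (2984, 138, true)))) (.node (.node (.leaf (1372, 0, false)) (.leaf (3275, 27, true))) (.leaf (2612, 0, false))))) (.node (.node (.node (.node (.leaf (390, 0, false)) (.leaf (654, 0, false))) (.node (.leaf (1870, 0, false)) (.leaf (3597, 116, false)))) (.node (.node (.leaf (1180, 0, false)) (.leaf (3191, 63, true))) (.leaf (2455, 38, true)))) (.node (.node (.node (.leaf (805, 0, false)) (.leaf (3196, 0, false))) (.node (.leaf (2183, 0, false)) (.leaf (3608, 27, true)))) (.node (.node (.leaf (1113, 152, true)) (.leaf (3536,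 0, false))) (.leaf (1290, 5, true)))))))) (.node (.node (.node (.node (.node (.node (.node (.leaf (42, 0, false)) (.leaf (2794, 0, false))) (.node (.leaf (458, 155, true)) (.leaf (3563, 0, false)))) (.node (.node (.leaf (112, 0, false)) (.leaf (1106, 34, true))) (.node (.leaf (2237, 0, false)) (.leaf (3760, 0, false))))) (.node (.node (.node (.leaf (469, 0, false)) (.leaf (852, 110, false))) (.node (.leaf (1928, 0, false)) (.leaf (2499, 7, true)))) (.node (.node (.leaf (1254, 0, false)) (.leaf (2528, 94, true))) (.leaf (1215, 50, false))))) (.node (.node (.node (.node (.leaf (258, 0, false)) (.leaf (2906, 0, false))) (.node (.leaf (1765, 0, false)) (.leaf (2880, 109, false)))) (.node (.node (.leaf (1070, 0, false)) (.leaf (862, 0, false))) (.node (.leaf (2382, 0, false)) (.leaf (3523, 52, false))))) (.node (.node (.node (.leaf (675, 0, false)) (.leaf (3119, 0, false))) (.node (.leaf (617, 66, true)) (.leaf (1572, 0, false)))) (.node (.node (.leaf (1439, 0, false)) (.leaf (3489, 106, false))) (.leaf (2663, 0, false)))))) (.node (.node (.node (.node (.node (.leaf (150,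 0, false)) (.leaf (2853, 0, false))) (.node (.leaf (1683, 0, false)) (.leaf (3589, 0, false)))) (.node (.node (.leaf (575, 159, false)) (.leaf (2608, 33, false))) (.node (.leaf (2307, 0, false)) (.leaf (3249, 63, false))))) (.node (.node (.node (.leaf (577, 0, false)) (.leaf (2895, 18, true))) (.node (.leaf (2014, 0, false)) (.leaf (1649, 127, false)))) (.node (.node (.leaf (351, 0, false)) (.leaf (998, 0, false))) (.leaf (2594, 0, false))))) (.node (.node (.node (.node (.leaf (368, 0, false)) (.leaf (2968, 0, false))) (.node (.leaf (1849, 0, false)) (.leaf (2878, 8, false)))) (.node (.node (.leaf (1158, 0, false)) (.leaf (1929, 0, false))) (.leaf (2458, 0, false)))) (.node (.node (.node (.leaf (780, 0, false)) (.leaf (3183, 0, false))) (.node (.leaf (1368, 0, false)) (.leaf (2966, 13, true)))) (.node (.node (.leaf (1510, 0, false)) (.leaf (3381, 28, true))) (.leaf (2351, 29, false))))))) (.node (.node (.node (.node (.node (.node (.leaf (99, 0, false)) (.leaf (1751, 58, false))) (.node (.leaf (1641, 0, false)) (.leaf (2574, 13, false)))) (.node (.node (.leaf (930, 0,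 false)) (.leaf (3188, 116, false))) (.node (.leaf (2270, 0, false)) (.leaf (3649, 73, true))))) (.node (.node (.node (.leaf (522, 0, false)) (.leaf (2464, 31, true))) (.node (.leaf (1972, 0, false)) (.leaf (3695, 0, false)))) (.node (.node (.leaf (1300, 0, false)) (.leaf (3223, 74, false))) (.leaf (474, 0, false))))) (.node (.node (.node (.node (.leaf (311, 0, false)) (.leaf (2723, 129, false))) (.node (.leaf (1808, 0, false)) (.leaf (2336, 158, false)))) (.node (.node (.leaf (1114, 0, false)) (.leaf (2729, 3, true))) (.node (.leaf (2421, 0, false)) (.leaf (3612, 97, true))))) (.node (.node (.node (.leaf (726, 0, false)) (.leaf (1834, 36, false))) (.node (.leaf (2122, 0, false)) (.leaf (3734, 0, false)))) (.node (.node (.leaf (681, 10, true)) (.leaf (1941, 43, false))) (.leaf (1474, 20, true)))))) (.node (.node (.node (.node (.node (.leaf (24, 0, false)) (.leaf (2881, 0, false))) (.node (.leaf (1725, 0, false)) (.leaf (3197, 67, true)))) (.node (.node (.leaf (1025, 0, false)) (.leaf (3297, 0, false))) (.node (.leaf (2253, 0, false)) (.leaf (3689, 32, false))))) (.node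 (.node (.node (.leaf (624, 0, false)) (.leaf (3090, 0, false))) (.node (.leaf (2055, 0, false)) (.leaf (2747, 107, true)))) (.node (.node (.leaf (1394, 0, false)) (.leaf (3473, 0, false))) (.leaf (2631, 0, false))))) (.node (.node (.node (.node (.leaf (418, 0, false)) (.leaf (2690, 58, true))) (.node (.leaf (295, 0, false)) (.leaf (1350, 0, false)))) (.node (.node (.leaf (164, 0, false)) (.leaf (2462, 10, true))) (.leaf (2498, 0, false)))) (.node (.node (.node (.leaf (827, 0, false)) (.leaf (3208, 0, false))) (.node (.leaf (2202, 0, false)) (.leaf (3025, 95, true)))) (.node (.node (.leaf (1551, 0, false)) (.leaf (3393, 128, false))) (.leaf (766, 159, false)))))))))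

def schX10 : Janko.Tree (ℕ × ℕ × Bool) :=
  (.node (.node (.node (.node (.node (.node (.node (.node (.leaf (18, 0, false)) (.leaf (1378, 5, true))) (.node (.leaf (1575, 0, false)) (.leaf (3553, 0, false)))) (.node (.node (.leaf (109, 0, false)) (.leaf (2720, 36, false))) (.node (.leaf (667, 31, false)) (.leaf (3034, 129, true))))) (.node (.node (.node (.leaf (444, 0, false)) (.leaf (3004, 0, false))) (.node (.leaf (1911, 0, false)) (.leaf (2572, 65, true)))) (.node (.node (.leaf (431, 38, false)) (.leaf (1420, 51, true))) (.leaf (2522, 0, false))))) (.node (.node (.node (.node (.leaf (233, 0, false)) (.leaf (2892, 0, false))) (.node (.leaf (380, 37, true)) (.leaf (2047, 149, true)))) (.node (.node (.leaf (140, 0, false)) (.leaf (2886, 0, false))) (.node (.leaf (2361, 0, false)) (.leaf (3774, 106, true))))) (.node (.node (.node (.leaf (650, 0, false)) (.leaf (2238, 40, false))) (.node (.leaf (1083, 42, true)) (.leaf (3149, 122, true)))) (.node (.node (.leaf (1418, 0, false)) (.leaf (3485, 0, false))) (.leaf (1965, 47, true)))))) (.node (.node (.node (.node (.node (.leaf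 (127, 0, false)) (.leaf (2841, 0, false))) (.node (.leaf (1661, 0, false)) (.leaf (3379, 26, false)))) (.node (.node (.leaf (959, 0, false)) (.leaf (2469, 5, true))) (.node (.leaf (2137, 0, false)) (.leaf (3643, 35, false))))) (.node (.node (.node (.leaf (551, 0, false)) (.leaf (3049, 0, false))) (.node (.leaf (475, 45, false)) (.leaf (3531, 42, false)))) (.node (.node (.leaf (1328, 0, false)) (.leaf (2073, 142, true))) (.leaf (902, 159, false))))) (.node (.node (.node (.node (.leaf (341, 0, false)) (.leaf (2092, 87, false))) (.node (.leaf (1831, 0, false)) (.leaf (2268, 25, false)))) (.node (.node (.leaf (1140, 0, false)) (.leaf (3333, 97, false))) (.leaf (2443, 0, false)))) (.node (.node (.node (.leaf (754, 0, false)) (.leaf (755, 0, false))) (.node (.leaf (2142, 0, false)) (.leaf (3400, 97, false)))) (.node (.node (.leaf (1493, 0, false)) (.leaf (3522, 0, false))) (.leaf (2710, 0, false))))))) (.node (.node (.node (.node (.node (.node (.leaf (73, 0, false)) (.leaf (1640, 13, true))) (.node (.leaf (1617, 0, false)) (.leaf (2433, 31, true)))) (.node (.node (.leaf (905,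 0, false)) (.leaf (2552, 155, false))) (.node (.leaf (2252, 0, false)) (.leaf (3672, 63, true))))) (.node (.node (.node (.leaf (496, 0, false)) (.leaf (2820, 125, true))) (.node (.leaf (1952, 0, false)) (.leaf (3674, 19, false)))) (.node (.node (.leaf (1277, 0, false)) (.leaf (1927, 109, false))) (.leaf (2558, 0, false))))) (.node (.node (.node (.node (.leaf (286, 0, false)) (.leaf (2918, 0, false))) (.node (.leaf (1779, 36, false)) (.leaf (2845, 60, false)))) (.node (.node (.leaf (1092, 0, false)) (.leaf (871, 0, false))) (.node (.leaf (1057, 129, true)) (.leaf (2927, 47, true))))) (.node (.node (.node (.leaf (90, 0, false)) (.leaf (3136, 0, false))) (.node (.leaf (410, 0, false)) (.leaf (3516, 145, true)))) (.node (.node (.leaf (1458, 0, false)) (.leaf (3357, 126, false))) (.leaf (2680, 0, false)))))) (.node (.node (.node (.node (.node (.leaf (181, 0, false)) (.leaf (2865, 0, false))) (.node (.leaf (1647, 19, true)) (.leaf (3598, 0, false)))) (.node (.node (.leaf (130, 0, false)) (.leaf (3245, 102, false))) (.node (.leaf (2322, 0, false)) (.leaf (3585, 7, true)))))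 (.node (.node (.node (.leaf (605, 0, false)) (.leaf (3074, 0, false))) (.node (.leaf (2035, 0, false)) (.leaf (2400, 74, false)))) (.node (.node (.leaf (190, 0, false)) (.leaf (3120, 61, false))) (.leaf (2613, 0, false))))) (.node (.node (.node (.node (.leaf (392, 0, false)) (.leaf (2367, 122, false))) (.node (.leaf (1872, 0, false)) (.leaf (1766, 29, false)))) (.node (.node (.leaf (1182, 0, false)) (.leaf (3374, 0, false))) (.leaf (2479, 0, false)))) (.node (.node (.node (.leaf (806, 0, false)) (.leaf (2440, 17, false))) (.node (.leaf (365, 0, false)) (.leaf (3237, 6, true)))) (.node (.node (.leaf (1531, 0, false)) (.leaf (1116, 0, false))) (.leaf (2103, 4, false)))))))) (.node (.node (.node (.node (.node (.node (.node (.leaf (44, 0, false)) (.leaf (1148, 65, true))) (.node (.leaf (1432, 0, false)) (.leaf (3528, 116, true)))) (.node (.node (.leaf (879, 0, false)) (.leaf (1937, 41, true))) (.node (.leaf (1076, 138, true)) (.leaf (3472, 19, false))))) (.node (.node (.node (.leaf (471, 0, false)) (.leaf (3014, 0, false))) (.node (.leaf (1930, 0, false)) (.leaf (3448, 146,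 true)))) (.node (.node (.leaf (171, 0, false)) (.leaf (2044, 66, false))) (.leaf (1558, 37, true))))) (.node (.node (.node (.node (.leaf (259, 0, false)) (.leaf (2907, 0, false))) (.node (.leaf (456, 116, true)) (.leaf (2834, 47, true)))) (.node (.node (.leaf (786, 159, false)) (.leaf (1270, 117, false))) (.node (.leaf (2384, 0, false)) (.leaf (3722, 85, true))))) (.node (.node (.node (.leaf (677, 0, false)) (.leaf (924, 129, true))) (.node (.leaf (427, 119, true)) (.leaf (2950, 36, false)))) (.node (.node (.leaf (1440, 0, false)) (.leaf (1043, 0, false))) (.leaf (2665, 0, false)))))) (.node (.node (.node (.node (.node (.leaf (152, 0, false)) (.leaf (1360, 65, true))) (.node (.leaf (1684, 0, false)) (.leaf (3548, 39, false)))) (.node (.node (.leaf (981, 0, false)) (.leaf (3257, 11, false))) (.node (.leaf (2308, 0, false)) (.leaf (2646, 159, false))))) (.node (.node (.node (.leaf (70, 0, false)) (.leaf (2247, 92, false))) (.node (.leaf (319, 0, false)) (.leaf (3710, 0, false)))) (.node (.node (.leaf (1349, 0, false)) (.leaf (999, 0, false))) (.leaf (2596, 0, false)))))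 (.node (.node (.node (.node (.leaf (43, 0, false)) (.leaf (2970, 0, false))) (.node (.leaf (1850, 0, false)) (.leaf (3624, 151, true)))) (.node (.node (.leaf (1159, 0, false)) (.leaf (1737, 147, true))) (.leaf (595, 109, true)))) (.node (.node (.node (.leaf (782, 0, false)) (.leaf (1805, 58, true))) (.node (.leaf (2162, 0, false)) (.leaf (2692, 144, true)))) (.node (.node (.leaf (1511, 0, false)) (.leaf (3278, 98, true))) (.leaf (2711, 25, true))))))) (.node (.node (.node (.node (.node (.node (.leaf (100, 0, false)) (.leaf (570, 0, false))) (.node (.leaf (1643, 0, false)) (.leaf (3572, 0, false)))) (.node (.node (.leaf (932, 0, false)) (.leaf (1931, 54, true))) (.node (.leaf (2272, 0, false)) (.leaf (3268, 52, false))))) (.node (.node (.node (.leaf (524, 0, false)) (.leaf (692, 0, false))) (.node (.leaf (1973, 0, false)) (.leaf (3696, 0, false)))) (.node (.node (.leaf (1302, 0, false)) (.leaf (1946, 58, true))) (.leaf (2370, 123, false))))) (.node (.node (.node (.node (.leaf (313, 0, false)) (.leaf (2933, 0, false))) (.node (.leaf (1223, 10, true)) (.leaf (1287, 0, false))))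 (.node (.node (.leaf (1115, 0, false)) (.leaf (2920, 132, true))) (.node (.leaf (2422, 0, false)) (.leaf (2801, 64, true))))) (.node (.node (.node (.leaf (728, 0, false)) (.leaf (1876, 26, false))) (.node (.leaf (2123, 0, false)) (.leaf (3231, 8, false)))) (.node (.node (.leaf (1476, 0, false)) (.leaf (3512, 0, false))) (.leaf (2695, 0, false)))))) (.node (.node (.node (.node (.node (.leaf (208, 0, false)) (.leaf (1108, 96, false))) (.node (.leaf (1727, 0, false)) (.leaf (3028, 7, false)))) (.node (.node (.leaf (1026, 0, false)) (.leaf (1266, 78, true))) (.node (.leaf (2343, 0, false)) (.leaf (3691, 87, false))))) (.node (.node (.node (.leaf (626, 0, false)) (.leaf (3091, 0, false))) (.node (.leaf (2056, 0, false)) (.leaf (3450, 43, true)))) (.node (.node (.leaf (1395, 0, false)) (.leaf (3220, 26, false))) (.leaf (2576, 30, false))))) (.node (.node (.node (.node (.leaf (419, 0, false)) (.leaf (662, 0, false))) (.node (.leaf (1891, 0, false)) (.leaf (3668, 0, false)))) (.node (.node (.leaf (1209, 0, false)) (.leaf (3388, 0, false))) (.leaf (2500, 0, false)))) (.node (.node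 (.node (.leaf (828, 0, false)) (.leaf (837, 0, false))) (.node (.leaf (2163, 106, false)) (.leaf (1767, 0, false)))) (.node (.node (.leaf (1553, 0, false)) (.leaf (3543, 0, false))) (.leaf (2759, 0, false)))))))))

def schX11 : Janko.Tree (ℕ × ℕ × Bool) :=
  (.node (.node (.node (.node (.node (.node (.node (.node (.leaf (19, 0, false)) (.leaf (2780, 0, false))) (.node (.leaf (231, 0, false)) (.leaf (1141, 0, false)))) (.node (.node (.leaf (854, 0, false)) (.leaf (3222, 0, false))) (.node (.leaf (1066, 50, true)) (.leaf (3755, 0, false))))) (.node (.node (.node (.leaf (446, 0, false)) (.leaf (670, 0, false))) (.node (.leaf (1913, 0, false)) (.leaf (3342, 145, true)))) (.node (.node (.leaf (1237, 0, false)) (.leaf (3398, 0, false))) (.leaf (2523, 0, false))))) (.node (.node (.node (.node (.leaf (28, 0, false)) (.leaf (2893, 0, false))) (.node (.leaf (833, 31, false)) (.leaf (1227, 0, false)))) (.node (.node (.leaf (1050, 0, false)) (.leaf (2317, 97, false))) (.node (.leaf (2362, 0, false)) (.leaf (2468, 46, true))))) (.node (.node (.node (.leaf (652, 0, false)) (.leaf (1809,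 103, false))) (.node (.leaf (332, 0, false)) (.leaf (1556, 0, false)))) (.node (.node (.leaf (1419, 0, false)) (.leaf (3235, 97, false))) (.leaf (2647, 0, false)))))) (.node (.node (.node (.node (.node (.leaf (129, 0, false)) (.leaf (578, 0, false))) (.node (.leaf (680, 128, false)) (.leaf (1592, 7, true)))) (.node (.node (.leaf (122, 0, false)) (.leaf (823, 0, false))) (.node (.leaf (2292, 0, false)) (.leaf (3402, 10, false))))) (.node (.node (.node (.leaf (553, 0, false)) (.leaf (3050, 0, false))) (.node (.leaf (1996, 0, false)) (.leaf (3704, 0, false)))) (.node (.node (.leaf (1329, 0, false)) (.leaf (1430, 150, true))) (.leaf (2192, 66, true))))) (.node (.node (.node (.node (.leaf (343, 0, false)) (.leaf (2953, 0, false))) (.node (.leaf (1833, 0, false)) (.leaf (2216, 27, false)))) (.node (.node (.leaf (1142, 0, false)) (.leaf (1708, 16, true))) (.leaf (1655, 43, false)))) (.node (.node (.node (.leaf (756, 0, false)) (.leaf (3171, 0, false))) (.node (.leaf (2144, 0, false)) (.leaf (3688, 41, false)))) (.node (.node (.leaf (344, 102, true)) (.leaf (2283, 27, false)))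 (.leaf (2712, 0, false))))))) (.node (.node (.node (.node (.node (.node (.leaf (75, 0, false)) (.leaf (2807, 0, false))) (.node (.leaf (1618, 0, false)) (.leaf (3336, 139, false)))) (.node (.node (.leaf (907, 0, false)) (.leaf (2824, 60, true))) (.node (.leaf (2005, 134, true)) (.leaf (2852, 124, false))))) (.node (.node (.node (.leaf (498, 0, false)) (.leaf (3031, 0, false))) (.node (.leaf (1953, 0, false)) (.leaf (3121, 68, true)))) (.node (.node (.leaf (1279, 0, false)) (.leaf (3424, 0, false))) (.leaf (1475, 128, false))))) (.node (.node (.node (.node (.leaf (288, 0, false)) (.leaf (622, 0, false))) (.node (.leaf (1789, 0, false)) (.leaf (3631, 0, false)))) (.node (.node (.leaf (1093, 0, false)) (.leaf (1689, 21, false))) (.node (.leaf (2401, 0, false)) (.leaf (2510, 0, false))))) (.node (.node (.node (.leaf (636, 47, false)) (.leaf (3078, 0, false))) (.node (.leaf (1334, 64, false)) (.leaf (3730, 0, false)))) (.node (.node (.leaf (360, 45, false)) (.leaf (3502, 0, false))) (.leaf (2681, 0, false)))))) (.node (.node (.node (.node (.node (.leaf (183, 0, false)) (.leaf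 (2740, 72, false))) (.node (.leaf (1705, 0, false)) (.leaf (3600, 0, false)))) (.node (.node (.leaf (1007, 0, false)) (.leaf (904, 52, true))) (.node (.leaf (2323, 0, false)) (.leaf (3138, 159, true))))) (.node (.node (.node (.leaf (387, 110, true)) (.leaf (3076, 0, false))) (.node (.leaf (2037, 0, false)) (.leaf (2716, 96, true)))) (.node (.node (.leaf (267, 62, true)) (.leaf (3463, 0, false))) (.leaf (2615, 0, false))))) (.node (.node (.node (.node (.leaf (394, 0, false)) (.leaf (2643, 57, true))) (.node (.leaf (289, 0, false)) (.leaf (3477, 100, true)))) (.node (.node (.leaf (1184, 0, false)) (.leaf (3375, 0, false))) (.leaf (2480, 0, false)))) (.node (.node (.node (.leaf (808, 0, false)) (.leaf (2924, 123, false))) (.node (.leaf (2186, 0, false)) (.leaf (3748, 0, false)))) (.node (.node (.leaf (219, 0, false)) (.leaf (1797, 66, false))) (.leaf (2744, 0, false)))))))) (.node (.node (.node (.node (.node (.node (.node (.leaf (4, 0, false)) (.leaf (2795, 0, false))) (.node (.leaf (1123, 158, false)) (.leaf (2190, 141, false)))) (.node (.node (.leaf (881, 0, false)) (.leaf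 (3232, 0, false))) (.node (.leaf (2239, 0, false)) (.leaf (3096, 50, true))))) (.node (.node (.node (.leaf (473, 0, false)) (.leaf (1853, 52, false))) (.node (.leaf (1932, 0, false)) (.leaf (3343, 84, false)))) (.node (.node (.leaf (1255, 0, false)) (.leaf (3409, 0, false))) (.leaf (2538, 0, false))))) (.node (.node (.node (.node (.leaf (261, 0, false)) (.leaf (1304, 105, false))) (.node (.leaf (1768, 0, false)) (.leaf (3627, 0, false)))) (.node (.node (.leaf (1072, 0, false)) (.leaf (1091, 95, false))) (.node (.leaf (1005, 67, false)) (.leaf (3776, 0, false))))) (.node (.node (.node (.leaf (679, 0, false)) (.leaf (1882, 139, false))) (.node (.leaf (2091, 0, false)) (.leaf (2295, 147, false)))) (.node (.node (.leaf (1441, 0, false)) (.leaf (3495, 0, false))) (.leaf (2667, 0, false)))))) (.node (.node (.node (.node (.node (.leaf (154, 0, false)) (.leaf (2855, 0, false))) (.node (.leaf (253, 0, false)) (.leaf (3479, 41, true)))) (.node (.node (.leaf (982, 0, false)) (.leaf (3276, 0, false))) (.node (.leaf (1128, 100, false)) (.leaf (2935, 61, true))))) (.node (.node (.node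 (.leaf (580, 0, false)) (.leaf (1627, 11, true))) (.node (.leaf (2017, 0, false)) (.leaf (1610, 0, false)))) (.node (.node (.leaf (187, 0, false)) (.leaf (2509, 155, true))) (.leaf (2597, 0, false))))) (.node (.node (.node (.node (.leaf (371, 0, false)) (.leaf (2531, 116, false))) (.node (.leaf (1852, 0, false)) (.leaf (1322, 0, false)))) (.node (.node (.leaf (1161, 0, false)) (.leaf (3364, 0, false))) (.leaf (447, 0, false)))) (.node (.node (.node (.leaf (784, 0, false)) (.leaf (3186, 0, false))) (.node (.leaf (2164, 0, false)) (.leaf (1924, 140, true)))) (.node (.node (.leaf (1375, 18, false)) (.leaf (1102, 0, false))) (.leaf (532, 0, false))))))) (.node (.node (.node (.node (.node (.node (.leaf (102, 0, false)) (.leaf (2826, 0, false))) (.node (.leaf (1644, 0, false)) (.leaf (3550, 0, false)))) (.node (.node (.leaf (131, 122, false)) (.leaf (3254, 0, false))) (.node (.leaf (393, 0, false)) (.leaf (2689, 154, false))))) (.node (.node (.node (.leaf (526, 0, false)) (.leaf (2115, 84, false))) (.node (.leaf (1975, 0, false)) (.leaf (3660, 18, false)))) (.node (.node (.leaf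 (1303, 0, false)) (.leaf (976, 0, false))) (.leaf (2575, 0, false))))) (.node (.node (.node (.node (.leaf (315, 0, false)) (.leaf (2934, 0, false))) (.node (.leaf (1810, 0, false)) (.leaf (3596, 116, true)))) (.node (.node (.leaf (1117, 0, false)) (.leaf (3347, 0, false))) (.node (.leaf (2424, 0, false)) (.leaf (3724, 146, false))))) (.node (.node (.node (.leaf (730, 0, false)) (.leaf (753, 36, false))) (.node (.leaf (2124, 0, false)) (.leaf (2882, 92, false)))) (.node (.node (.leaf (1477, 0, false)) (.leaf (2373, 97, true))) (.leaf (2329, 125, true)))))) (.node (.node (.node (.node (.node (.leaf (210, 0, false)) (.leaf (2328, 13, false))) (.node (.leaf (1728, 0, false)) (.leaf (2394, 87, true)))) (.node (.node (.leaf (1028, 0, false)) (.leaf (3299, 0, false))) (.node (.leaf (631, 71, true)) (.leaf (3407, 157, true))))) (.node (.node (.node (.leaf (293, 50, false)) (.leaf (2417, 36, false))) (.node (.leaf (2057, 0, false)) (.leaf (3719, 0, false)))) (.node (.node (.leaf (1397, 0, false)) (.leaf (1146, 0, false))) (.leaf (2633, 0, false))))) (.node (.node (.node (.node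 (.leaf (420, 0, false)) (.leaf (2990, 0, false))) (.node (.leaf (1893, 0, false)) (.leaf (1366, 73, true)))) (.node (.node (.leaf (1211, 0, false)) (.leaf (2360, 37, true))) (.leaf (2501, 0, false)))) (.node (.node (.node (.leaf (830, 0, false)) (.leaf (3210, 0, false))) (.node (.leaf (2204, 0, false)) (.leaf (3174, 50, true)))) (.node (.node (.leaf (1555, 0, false)) (.leaf (3545, 0, false))) (.leaf (543, 0, false)))))))))

def schX12 : Janko.Tree (ℕ × ℕ × Bool) :=
  (.node (.node (.node (.node (.node (.node (.node (.node (.leaf (21, 0, false)) (.leaf (1022, 50, false))) (.node (.leaf (1577, 0, false)) (.leaf (3217, 104, true)))) (.node (.node (.leaf (856, 0, false)) (.leaf (2347, 2, true))) (.node (.leaf (1225, 31, true)) (.leaf (3756, 0, false))))) (.node (.node (.node (.leaf (448, 0, false)) (.leaf (2070, 144, true))) (.node (.leaf (1915, 0, false)) (.leaf (1373, 0, false)))) (.node (.node (.leaf (168, 0, false)) (.leaf (2836, 87, true))) (.leaf (461, 0, false))))) (.node (.node (.node (.node (.leaf (235, 0, false)) (.leaf (815, 12, true))) (.node (.leaf (1747, 0,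 false)) (.leaf (3577, 130, false)))) (.node (.node (.leaf (1052, 0, false)) (.leaf (3312, 0, false))) (.node (.leaf (1846, 107, false)) (.leaf (3438, 118, false))))) (.node (.node (.node (.leaf (291, 31, true)) (.leaf (2515, 50, false))) (.node (.leaf (2076, 0, false)) (.leaf (3723, 0, false)))) (.node (.node (.leaf (1421, 0, false)) (.leaf (1095, 0, false))) (.leaf (2648, 0, false)))))) (.node (.node (.node (.node (.node (.leaf (15, 0, false)) (.leaf (2843, 0, false))) (.node (.leaf (1664, 0, false)) (.leaf (1183, 0, false)))) (.node (.node (.leaf (961, 0, false)) (.leaf (3264, 0, false))) (.node (.leaf (821, 57, true)) (.leaf (3404, 148, true))))) (.node (.node (.node (.leaf (555, 0, false)) (.leaf (3052, 0, false))) (.node (.leaf (1744, 95, true)) (.leaf (3103, 54, false)))) (.node (.node (.leaf (1331, 0, false)) (.leaf (990, 0, false))) (.leaf (482, 0, false))))) (.node (.node (.node (.node (.leaf (345, 0, false)) (.leaf (1957, 5, false))) (.node (.leaf (592, 31, false)) (.leaf (3541, 147, true)))) (.node (.node (.leaf (1144, 0, false)) (.leaf (3358, 0, false))) (.leaf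 (727, 46, false)))) (.node (.node (.node (.leaf (758, 0, false)) (.leaf (1793, 41, true))) (.node (.leaf (2145, 0, false)) (.leaf (1671, 0, false)))) (.node (.node (.leaf (211, 0, false)) (.leaf (3514, 66, true))) (.leaf (2713, 0, false))))))) (.node (.node (.node (.node (.node (.node (.leaf (76, 0, false)) (.leaf (2809, 0, false))) (.node (.leaf (1620, 0, false)) (.leaf (3349, 27, true)))) (.node (.node (.leaf (909, 0, false)) (.leaf (1422, 46, false))) (.node (.leaf (2254, 0, false)) (.leaf (3763, 0, false))))) (.node (.node (.node (.leaf (500, 0, false)) (.leaf (2876, 51, true))) (.node (.leaf (1955, 0, false)) (.leaf (3441, 147, false)))) (.node (.node (.leaf (1280, 0, false)) (.leaf (2617, 130, false))) (.leaf (470, 0, false))))) (.node (.node (.node (.node (.leaf (290, 0, false)) (.leaf (2921, 0, false))) (.node (.leaf (1049, 37, true)) (.leaf (1362, 59, true)))) (.node (.node (.leaf (1094, 0, false)) (.leaf (1825, 26, true))) (.node (.leaf (2403, 0, false)) (.leaf (3538, 134, false))))) (.node (.node (.node (.leaf (705, 0, false)) (.leaf (3139, 0, false))) (.node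 (.leaf (2106, 0, false)) (.leaf (3731, 0, false)))) (.node (.node (.leaf (1460, 0, false)) (.leaf (3265, 119, true))) (.leaf (518, 0, false)))))) (.node (.node (.node (.node (.node (.leaf (184, 0, false)) (.leaf (2866, 0, false))) (.node (.leaf (1707, 0, false)) (.leaf (2463, 51, true)))) (.node (.node (.leaf (985, 98, true)) (.leaf (2919, 49, false))) (.node (.leaf (906, 42, true)) (.leaf (2349, 76, false))))) (.node (.node (.node (.leaf (74, 0, false)) (.leaf (3077, 0, false))) (.node (.leaf (369, 132, true)) (.leaf (2789, 58, true)))) (.node (.node (.leaf (1376, 0, false)) (.leaf (3464, 0, false))) (.leaf (2561, 52, false))))) (.node (.node (.node (.node (.leaf (396, 0, false)) (.leaf (2383, 34, false))) (.node (.leaf (1874, 0, false)) (.leaf (3567, 61, true)))) (.node (.node (.leaf (1186, 0, false)) (.leaf (908, 0, false))) (.leaf (2481, 0, false)))) (.node (.node (.node (.leaf (103, 0, false)) (.leaf (980, 79, true))) (.node (.leaf (1154, 50, false)) (.leaf (3134, 112, true)))) (.node (.node (.leaf (917, 147, false)) (.leaf (1665, 52, false))) (.leaf (2746, 0, false))))))))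 (.node (.node (.node (.node (.node (.node (.node (.leaf (47, 0, false)) (.leaf (2107, 38, true))) (.node (.leaf (1598, 0, false)) (.leaf (3112, 47, false)))) (.node (.node (.leaf (883, 0, false)) (.leaf (3233, 0, false))) (.node (.leaf (2241, 0, false)) (.leaf (3761, 0, false))))) (.node (.node (.node (.leaf (57, 0, false)) (.leaf (3015, 0, false))) (.node (.leaf (1933, 0, false)) (.leaf (2842, 147, true)))) (.node (.node (.leaf (1256, 0, false)) (.leaf (3411, 0, false))) (.leaf (2185, 83, true))))) (.node (.node (.node (.node (.leaf (262, 0, false)) (.leaf (615, 0, false))) (.node (.leaf (270, 0, false)) (.leaf (1905, 152, true)))) (.node (.node (.leaf (1074, 0, false)) (.leaf (3324, 0, false))) (.node (.leaf (2386, 0, false)) (.leaf (3162, 79, false))))) (.node (.node (.node (.leaf (86, 0, false)) (.leaf (2808, 26, false))) (.node (.leaf (2093, 0, false)) (.leaf (1574, 0, false)))) (.node (.node (.leaf (1443, 0, false)) (.leaf (1222, 106, true))) (.leaf (2669, 0, false)))))) (.node (.node (.node (.node (.node (.leaf (156, 0, false)) (.leaf (2007, 60, false))) (.node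 (.leaf (1687, 0, false)) (.leaf (3591, 0, false)))) (.node (.node (.leaf (984, 0, false)) (.leaf (3277, 0, false))) (.node (.leaf (2310, 0, false)) (.leaf (2857, 90, false))))) (.node (.node (.node (.leaf (582, 0, false)) (.leaf (1888, 100, true))) (.node (.leaf (781, 26, true)) (.leaf (1711, 5, true)))) (.node (.node (.leaf (1352, 0, false)) (.leaf (3454, 0, false))) (.leaf (2598, 0, false))))) (.node (.node (.node (.node (.leaf (373, 0, false)) (.leaf (2971, 0, false))) (.node (.leaf (285, 0, false)) (.leaf (3310, 17, false)))) (.node (.node (.leaf (1163, 0, false)) (.leaf (897, 0, false))) (.leaf (2461, 0, false)))) (.node (.node (.node (.leaf (785, 0, false)) (.leaf (3060, 139, true))) (.node (.leaf (2166, 0, false)) (.leaf (3744, 0, false)))) (.node (.node (.leaf (1513, 0, false)) (.leaf (2565, 5, true))) (.leaf (2728, 0, false))))))) (.node (.node (.node (.node (.node (.node (.leaf (35, 50, false)) (.leaf (895, 60, false))) (.node (.leaf (1232, 72, false)) (.leaf (3574, 0, false)))) (.node (.node (.leaf (934, 0, false)) (.leaf (2246, 41, false))) (.node (.leaf (2274,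 0, false)) (.leaf (3588, 46, false))))) (.node (.node (.node (.leaf (64, 0, false)) (.leaf (2640, 73, true))) (.node (.leaf (1976, 0, false)) (.leaf (1436, 0, false)))) (.node (.node (.leaf (180, 0, false)) (.leaf (1100, 38, true))) (.leaf (1423, 79, true))))) (.node (.node (.node (.node (.leaf (316, 0, false)) (.leaf (1837, 19, false))) (.node (.leaf (1812, 0, false)) (.leaf (3460, 138, false)))) (.node (.node (.leaf (1119, 0, false)) (.leaf (1716, 4, false))) (.node (.leaf (435, 0, false)) (.leaf (3665, 159, true))))) (.node (.node (.node (.leaf (93, 0, false)) (.leaf (3154, 0, false))) (.node (.leaf (2125, 0, false)) (.leaf (2273, 71, false)))) (.node (.node (.leaf (1479, 0, false)) (.leaf (3513, 0, false))) (.leaf (2569, 141, true)))))) (.node (.node (.node (.node (.node (.leaf (212, 0, false)) (.leaf (1502, 55, true))) (.node (.leaf (1305, 119, true)) (.leaf (3579, 147, false)))) (.node (.node (.leaf (1029, 0, false)) (.leaf (2036, 114, false))) (.node (.leaf (2345, 0, false)) (.leaf (3701, 62, false))))) (.node (.node (.node (.leaf (629, 0, false)) (.leaf (3093,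 0, false))) (.node (.leaf (1296, 113, true)) (.leaf (1839, 68, true)))) (.node (.node (.leaf (194, 0, false)) (.leaf (3474, 0, false))) (.leaf (2210, 25, true))))) (.node (.node (.node (.node (.leaf (421, 0, false)) (.leaf (2991, 0, false))) (.node (.leaf (1895, 0, false)) (.leaf (2872, 118, true)))) (.node (.node (.leaf (1213, 0, false)) (.leaf (3389, 0, false))) (.leaf (639, 117, true)))) (.node (.node (.node (.leaf (832, 0, false)) (.leaf (3211, 0, false))) (.node (.leaf (2206, 0, false)) (.leaf (3164, 97, false)))) (.node (.node (.leaf (1557, 0, false)) (.leaf (1609, 17, true))) (.leaf (2761, 0, false)))))))))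

def schX13 : Janko.Tree (ℕ × ℕ × Bool) :=
  (.node (.node (.node (.node (.node (.node (.node (.node (.leaf (23, 0, false)) (.leaf (1749, 47, true))) (.node (.leaf (1579, 0, false)) (.leaf (3494, 0, false)))) (.node (.node (.leaf (858, 0, false)) (.leaf (3156, 63, true))) (.node (.leaf (2224, 0, false)) (.leaf (2973, 107, false))))) (.node (.node (.node (.leaf (450, 0, false)) (.leaf (1561, 72, false))) (.node (.leaf (1062, 138, false)) (.leaf (3403, 114, false)))) (.node (.node (.leaf (1239, 0, false)) (.leaf (935, 0, false))) (.leaf (2526, 0, false))))) (.node (.node (.node (.node (.leaf (237, 0, false)) (.leaf (2896, 0, false))) (.node (.leaf (1748, 0, false)) (.leaf (3621, 0, false)))) (.node (.node (.leaf (1054, 0, false)) (.leaf (3314, 0, false))) (.node (.leaf (2364, 0, false)) (.leaf (3747, 58, false))))) (.node (.node (.node (.leaf (83, 0, false)) (.leaf (3071, 144, true))) (.node (.leaf (2077, 0, false)) (.leaf (2450, 61, true)))) (.node (.node (.leaf (943, 38, true)) (.leaf (3487, 0, false))) (.leaf (507, 0, false)))))) (.node (.node (.node (.node (.node (.leaf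 (77, 39, true)) (.leaf (579, 0, false))) (.node (.leaf (1583, 0, false)) (.leaf (3466, 108, false)))) (.node (.node (.leaf (963, 0, false)) (.leaf (824, 0, false))) (.node (.leaf (1860, 83, false)) (.leaf (3720, 132, false))))) (.node (.node (.node (.leaf (557, 0, false)) (.leaf (2992, 47, false))) (.node (.leaf (1281, 53, false)) (.leaf (1462, 0, false)))) (.node (.node (.leaf (1168, 64, false)) (.leaf (2944, 37, true))) (.leaf (1879, 133, false))))) (.node (.node (.node (.node (.leaf (346, 0, false)) (.leaf (2956, 0, false))) (.node (.leaf (1835, 0, false)) (.leaf (1309, 0, false)))) (.node (.node (.leaf (155, 0, false)) (.leaf (1851, 8, false))) (.leaf (2446, 0, false)))) (.node (.node (.node (.leaf (760, 0, false)) (.leaf (1529, 37, true))) (.node (.leaf (2147, 0, false)) (.leaf (2282, 106, true)))) (.node (.node (.leaf (1495, 0, false)) (.leaf (1299, 31, true))) (.leaf (2715, 0, false))))))) (.node (.node (.node (.node (.node (.node (.leaf (78, 0, false)) (.leaf (2810, 0, false))) (.node (.leaf (1622, 0, false)) (.leaf (3569, 0, false)))) (.node (.node (.leaf (910,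 0, false)) (.leaf (809, 0, false))) (.node (.leaf (2256, 0, false)) (.leaf (3694, 25, false))))) (.node (.node (.node (.leaf (502, 0, false)) (.leaf (3033, 0, false))) (.node (.leaf (1956, 0, false)) (.leaf (3167, 89, true)))) (.node (.node (.leaf (1282, 0, false)) (.leaf (3426, 0, false))) (.leaf (1024, 79, true))))) (.node (.node (.node (.node (.leaf (173, 47, true)) (.leaf (2922, 0, false))) (.node (.leaf (400, 92, false)) (.leaf (3632, 0, false)))) (.node (.node (.leaf (1096, 0, false)) (.leaf (3337, 0, false))) (.node (.leaf (2405, 0, false)) (.leaf (2549, 141, true))))) (.node (.node (.node (.leaf (706, 0, false)) (.leaf (744, 0, false))) (.node (.leaf (1645, 38, true)) (.leaf (3582, 133, true)))) (.node (.node (.leaf (1461, 0, false)) (.leaf (1509, 43, false))) (.leaf (829, 46, true)))))) (.node (.node (.node (.node (.node (.leaf (186, 0, false)) (.leaf (2049, 5, true))) (.node (.leaf (1709, 0, false)) (.leaf (3391, 97, false)))) (.node (.node (.leaf (1010, 0, false)) (.leaf (2294, 90, true))) (.node (.leaf (1632, 72, false)) (.leaf (2911, 129, false))))) (.node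 (.node (.node (.leaf (607, 0, false)) (.leaf (3075, 47, true))) (.node (.leaf (2039, 0, false)) (.leaf (3683, 27, false)))) (.node (.node (.leaf (1377, 0, false)) (.leaf (2623, 143, true))) (.leaf (893, 107, false))))) (.node (.node (.node (.node (.leaf (397, 0, false)) (.leaf (2981, 0, false))) (.node (.leaf (1875, 0, false)) (.leaf (2704, 17, true)))) (.node (.node (.leaf (1188, 0, false)) (.leaf (3141, 0, true))) (.leaf (2483, 0, false)))) (.node (.node (.node (.leaf (810, 0, false)) (.leaf (3200, 0, false))) (.node (.leaf (2188, 0, false)) (.leaf (2634, 127, false)))) (.node (.node (.leaf (1535, 0, false)) (.leaf (1794, 117, true))) (.leaf (538, 0, false)))))))) (.node (.node (.node (.node (.node (.node (.node (.leaf (49, 0, false)) (.leaf (2796, 0, false))) (.node (.leaf (1599, 0, false)) (.leaf (2344, 13, true)))) (.node (.node (.leaf (884, 0, false)) (.leaf (2707, 124, true))) (.node (.leaf (2243, 0, false)) (.leaf (3036, 128, false))))) (.node (.node (.node (.leaf (476, 0, false)) (.leaf (3017, 0, false))) (.node (.leaf (1935, 0, false)) (.leaf (2152, 133, false))))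 (.node (.node (.leaf (1258, 0, false)) (.leaf (3412, 0, false))) (.leaf (2540, 0, false))))) (.node (.node (.node (.node (.leaf (264, 0, false)) (.leaf (2451, 155, true))) (.node (.leaf (328, 128, false)) (.leaf (3619, 0, false)))) (.node (.node (.leaf (144, 0, false)) (.leaf (3325, 0, false))) (.node (.leaf (516, 37, false)) (.leaf (2870, 147, false))))) (.node (.node (.node (.leaf (682, 0, false)) (.leaf (2771, 27, false))) (.node (.leaf (398, 0, false)) (.leaf (3728, 0, false)))) (.node (.node (.leaf (241, 0, false)) (.leaf (3234, 81, true))) (.leaf (2670, 0, false)))))) (.node (.node (.node (.node (.node (.leaf (158, 0, false)) (.leaf (2858, 0, false))) (.node (.leaf (993, 128, true)) (.leaf (3555, 116, true)))) (.node (.node (.leaf (986, 0, false)) (.leaf (1616, 50, true))) (.node (.leaf (2311, 0, false)) (.leaf (3770, 0, false))))) (.node (.node (.node (.leaf (584, 0, false)) (.leaf (3063, 0, false))) (.node (.leaf (2019, 0, false)) (.leaf (3581, 65, false)))) (.node (.node (.leaf (358, 8, false)) (.leaf (3143, 39, false))) (.leaf (1387, 50, true))))) (.node (.node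 (.node (.node (.leaf (375, 0, false)) (.leaf (2773, 27, true))) (.node (.leaf (1580, 99, false)) (.leaf (3570, 77, false)))) (.node (.node (.leaf (486, 31, true)) (.leaf (3365, 0, false))) (.leaf (1220, 17, false)))) (.node (.node (.node (.leaf (787, 0, false)) (.leaf (3189, 0, false))) (.node (.leaf (2167, 0, false)) (.leaf (1714, 0, false)))) (.node (.node (.leaf (1514, 0, false)) (.leaf (3529, 0, false))) (.leaf (2080, 0, false))))))) (.node (.node (.node (.node (.node (.node (.leaf (12, 0, false)) (.leaf (724, 0, false))) (.node (.leaf (1646, 0, false)) (.leaf (2751, 133, true)))) (.node (.node (.leaf (936, 0, false)) (.leaf (3255, 0, false))) (.node (.leaf (2275, 0, false)) (.leaf (1936, 0, false))))) (.node (.node (.node (.leaf (529, 0, false)) (.leaf (940, 145, true))) (.node (.leaf (1977, 0, false)) (.leaf (3684, 106, true)))) (.node (.node (.leaf (1306, 0, false)) (.leaf (977, 0, false))) (.leaf (1089, 52, false))))) (.node (.node (.node (.node (.leaf (318, 0, false)) (.leaf (2699, 94, true))) (.node (.leaf (1814, 0, false)) (.leaf (3599, 59, true)))) (.node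 (.node (.leaf (1121, 0, false)) (.leaf (3224, 0, false))) (.node (.leaf (2426, 0, false)) (.leaf (3609, 77, true))))) (.node (.node (.node (.leaf (733, 0, false)) (.leaf (3155, 0, false))) (.node (.leaf (2127, 0, false)) (.leaf (3273, 58, true)))) (.node (.node (.leaf (1481, 0, false)) (.leaf (3377, 92, false))) (.leaf (1087, 107, true)))))) (.node (.node (.node (.node (.node (.leaf (25, 0, false)) (.leaf (602, 0, false))) (.node (.leaf (280, 26, true)) (.leaf (2527, 138, true)))) (.node (.node (.leaf (1031, 0, false)) (.leaf (3300, 0, false))) (.node (.leaf (415, 0, false)) (.leaf (3681, 23, false))))) (.node (.node (.node (.leaf (630, 0, false)) (.leaf (2939, 0, false))) (.node (.leaf (2059, 0, false)) (.leaf (3243, 143, false)))) (.node (.node (.leaf (1399, 0, false)) (.leaf (3032, 16, false))) (.leaf (2013, 64, true))))) (.node (.node (.node (.node (.leaf (423, 0, false)) (.leaf (2582, 30, false))) (.node (.leaf (1896, 0, false)) (.leaf (3204, 70, true)))) (.node (.node (.leaf (1214, 0, false)) (.leaf (1566, 77, true))) (.leaf (2503, 0, false)))) (.node (.node (.node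 (.leaf (834, 0, false)) (.leaf (3068, 38, false))) (.node (.leaf (2208, 0, false)) (.leaf (3421, 30, true)))) (.node (.node (.leaf (1162, 155, true)) (.leaf (3095, 84, false))) (.leaf (2763, 0, false)))))))))

def schX14 : Janko.Tree (ℕ × ℕ × Bool) :=
  (.node (.node (.node (.node (.node (.node (.node (.node (.leaf (8, 50, false)) (.leaf (550, 0, false))) (.node (.leaf (1581, 0, false)) (.leaf (3253, 97, true)))) (.node (.node (.leaf (859, 0, false)) (.leaf (3225, 0, false))) (.node (.leaf (1791, 128, true)) (.leaf (1798, 0, false))))) (.node (.node (.node (.leaf (452, 0, false)) (.leaf (672, 0, false))) (.node (.leaf (1294, 155, true)) (.leaf (2018, 71, false)))) (.node (.node (.leaf (1241, 0, false)) (.leaf (938, 129, true))) (.leaf (1703, 94, true))))) (.node (.node (.node (.node (.leaf (239, 0, false)) (.leaf (2415, 72, false))) (.node (.leaf (1750, 0, false)) (.leaf (2806, 104, true)))) (.node (.node (.leaf (1055, 0, false)) (.leaf (3315, 0, false))) (.node (.leaf (2366, 0, false)) (.leaf (2242, 0, false))))) (.node (.node (.node (.leaf (656, 0, false)) (.leaf (2936,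 37, true))) (.node (.leaf (2079, 0, false)) (.leaf (1864, 96, false)))) (.node (.node (.leaf (197, 0, false)) (.leaf (1245, 134, true))) (.leaf (2524, 46, true)))))) (.node (.node (.node (.node (.node (.leaf (133, 0, false)) (.leaf (2844, 0, false))) (.node (.leaf (1667, 0, false)) (.leaf (3583, 0, false)))) (.node (.node (.leaf (965, 0, false)) (.leaf (2459, 63, true))) (.node (.leaf (2296, 0, false)) (.leaf (2191, 73, true))))) (.node (.node (.node (.leaf (68, 0, false)) (.leaf (3054, 0, false))) (.node (.leaf (1999, 0, false)) (.leaf (2194, 96, false)))) (.node (.node (.leaf (1333, 0, false)) (.leaf (2930, 51, true))) (.leaf (1257, 41, true))))) (.node (.node (.node (.node (.leaf (348, 0, false)) (.leaf (2958, 0, false))) (.node (.leaf (789, 22, false)) (.leaf (3172, 46, true)))) (.node (.node (.leaf (1147, 0, false)) (.leaf (2555, 75, true))) (.leaf (2447, 0, false)))) (.node (.node (.node (.leaf (761, 0, false)) (.leaf (3173, 0, false))) (.node (.leaf (1327, 5, false)) (.leaf (1942, 76, true)))) (.node (.node (.leaf (807, 95, false)) (.leaf (1507, 84, false))) (.leaf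 (2717, 0, false))))))) (.node (.node (.node (.node (.node (.node (.leaf (80, 0, false)) (.leaf (2812, 0, false))) (.node (.leaf (1624, 0, false)) (.leaf (3012, 38, false)))) (.node (.node (.leaf (912, 0, false)) (.leaf (3244, 0, false))) (.node (.leaf (389, 0, false)) (.leaf (2658, 110, false))))) (.node (.node (.node (.leaf (504, 0, false)) (.leaf (1666, 157, false))) (.node (.leaf (309, 0, false)) (.leaf (2890, 82, false)))) (.node (.node (.leaf (1284, 0, false)) (.leaf (2784, 5, true))) (.leaf (2562, 0, false))))) (.node (.node (.node (.node (.leaf (292, 0, false)) (.leaf (1807, 0, false))) (.node (.leaf (1792, 0, false)) (.leaf (3634, 0, false)))) (.node (.node (.leaf (1098, 0, false)) (.leaf (2211, 111, false))) (.node (.leaf (2407, 0, false)) (.leaf (3687, 139, false))))) (.node (.node (.node (.leaf (707, 0, false)) (.leaf (1796, 148, false))) (.node (.leaf (2109, 0, false)) (.leaf (1914, 94, false)))) (.node (.node (.leaf (204, 0, false)) (.leaf (3504, 0, false))) (.leaf (1518, 6, true)))))) (.node (.node (.node (.node (.node (.leaf (188, 0, false)) (.leaf (2868,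 0, false))) (.node (.leaf (778, 51, false)) (.leaf (1890, 68, false)))) (.node (.node (.leaf (1011, 0, false)) (.leaf (1174, 5, true))) (.node (.leaf (2325, 0, false)) (.leaf (3544, 49, true))))) (.node (.node (.node (.leaf (609, 0, false)) (.leaf (2798, 0, true))) (.node (.leaf (2040, 0, false)) (.leaf (3716, 0, false)))) (.node (.node (.leaf (1379, 0, false)) (.leaf (3440, 25, true))) (.leaf (2616, 0, false))))) (.node (.node (.node (.node (.leaf (399, 0, false)) (.leaf (1706, 87, true))) (.node (.leaf (1877, 0, false)) (.leaf (3661, 0, false)))) (.node (.node (.leaf (1189, 0, false)) (.leaf (2748, 133, false))) (.leaf (2485, 0, false)))) (.node (.node (.node (.leaf (812, 0, false)) (.leaf (3201, 0, false))) (.node (.leaf (1451, 105, false)) (.leaf (3636, 115, true)))) (.node (.node (.leaf (1536, 0, false)) (.leaf (2731, 80, false))) (.leaf (2749, 0, false)))))))) (.node (.node (.node (.node (.node (.node (.node (.leaf (51, 0, false)) (.leaf (1585, 157, true))) (.node (.leaf (1357, 126, true)) (.leaf (1312, 116, false)))) (.node (.node (.leaf (886, 0, false)) (.leaf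 (3236, 0, false))) (.node (.leaf (1438, 151, false)) (.leaf (3203, 42, false))))) (.node (.node (.node (.leaf (478, 0, false)) (.leaf (3019, 0, false))) (.node (.leaf (1410, 80, false)) (.leaf (1959, 21, false)))) (.node (.node (.leaf (1259, 0, false)) (.leaf (3413, 0, false))) (.leaf (2542, 0, false))))) (.node (.node (.node (.node (.leaf (266, 0, false)) (.leaf (2910, 0, false))) (.node (.leaf (1772, 0, false)) (.leaf (3554, 128, false)))) (.node (.node (.leaf (1077, 0, false)) (.leaf (2840, 136, false))) (.node (.leaf (2388, 0, false)) (.leaf (3580, 136, false))))) (.node (.node (.node (.leaf (684, 0, false)) (.leaf (2250, 43, true))) (.node (.leaf (2095, 0, false)) (.leaf (3729, 0, false)))) (.node (.node (.leaf (1444, 0, false)) (.leaf (1135, 5, true))) (.leaf (1769, 103, false)))))) (.node (.node (.node (.node (.node (.leaf (159, 0, false)) (.leaf (2357, 137, false))) (.node (.leaf (1690, 0, false)) (.leaf (3593, 0, false)))) (.node (.node (.leaf (459, 31, true)) (.leaf (3279, 0, false))) (.node (.leaf (2312, 0, false)) (.leaf (3202, 128, true))))) (.node (.node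 (.node (.leaf (321, 5, true)) (.leaf (1625, 136, false))) (.node (.leaf (501, 63, false)) (.leaf (2404, 92, false)))) (.node (.node (.leaf (1355, 0, false)) (.leaf (2547, 23, true))) (.leaf (489, 0, false))))) (.node (.node (.node (.node (.leaf (376, 0, false)) (.leaf (648, 0, false))) (.node (.leaf (1856, 0, false)) (.leaf (3568, 75, false)))) (.node (.node (.leaf (1166, 0, false)) (.leaf (3287, 51, false))) (.leaf (2067, 128, false)))) (.node (.node (.node (.leaf (788, 0, false)) (.leaf (1802, 29, false))) (.node (.leaf (2168, 0, false)) (.leaf (3745, 0, false)))) (.node (.node (.leaf (1515, 0, false)) (.leaf (1869, 46, true))) (.leaf (2730, 0, false))))))) (.node (.node (.node (.node (.node (.node (.leaf (106, 0, false)) (.leaf (2829, 0, false))) (.node (.leaf (1648, 0, false)) (.leaf (2492, 127, false)))) (.node (.node (.leaf (119, 0, false)) (.leaf (3256, 0, false))) (.node (.leaf (395, 0, false)) (.leaf (3630, 125, true))))) (.node (.node (.node (.leaf (531, 0, false)) (.leaf (694, 0, false))) (.node (.leaf (1979, 0, false)) (.leaf (2705, 116, false)))) (.node (.node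 (.leaf (1308, 0, false)) (.leaf (1951, 107, true))) (.leaf (2146, 136, true))))) (.node (.node (.node (.node (.leaf (320, 0, false)) (.leaf (2778, 61, true))) (.node (.leaf (277, 0, false)) (.leaf (3640, 0, false)))) (.node (.node (.leaf (1122, 0, false)) (.leaf (3001, 50, false))) (.node (.leaf (2428, 0, false)) (.leaf (3670, 54, false))))) (.node (.node (.node (.leaf (735, 0, false)) (.leaf (3157, 0, false))) (.node (.leaf (2129, 0, false)) (.leaf (3008, 31, false)))) (.node (.node (.leaf (1483, 0, false)) (.leaf (2090, 92, false))) (.leaf (2697, 0, false)))))) (.node (.node (.node (.node (.node (.leaf (126, 32, true)) (.leaf (2782, 49, false))) (.node (.leaf (1730, 0, false)) (.leaf (3611, 0, false)))) (.node (.node (.leaf (711, 132, true)) (.leaf (848, 0, false))) (.node (.leaf (2346, 0, false)) (.leaf (3418, 48, false))))) (.node (.node (.node (.leaf (632, 0, false)) (.leaf (718, 0, false))) (.node (.leaf (1480, 150, true)) (.leaf (3676, 116, false)))) (.node (.node (.leaf (1401, 0, false)) (.leaf (3475, 0, false))) (.leaf (2635, 0, false))))) (.node (.node (.node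 (.node (.leaf (221, 118, false)) (.leaf (2993, 0, false))) (.node (.leaf (1898, 0, false)) (.leaf (3007, 38, false)))) (.node (.node (.leaf (887, 45, false)) (.leaf (2489, 58, true))) (.leaf (797, 34, false)))) (.node (.node (.node (.leaf (128, 132, true)) (.leaf (2814, 18, true))) (.node (.leaf (2209, 0, false)) (.leaf (3433, 7, true)))) (.node (.node (.leaf (898, 50, false)) (.leaf (2781, 84, true))) (.leaf (2764, 0, false)))))))))

def schX15 : Janko.Tree (ℕ × ℕ × Bool) :=
  (.node (.node (.node (.node (.node (.node (.node (.node (.leaf (26, 0, false)) (.leaf (2783, 0, false))) (.node (.leaf (1582, 0, false)) (.leaf (3447, 0, false)))) (.node (.node (.leaf (861, 0, false)) (.leaf (3062, 37, false))) (.node (.leaf (378, 0, false)) (.leaf (3152, 46, false))))) (.node (.node (.node (.leaf (453, 0, false)) (.leaf (2721, 159, true))) (.node (.leaf (1374, 141, true)) (.leaf (2042, 16, true)))) (.node (.node (.leaf (1243, 0, false)) (.leaf (3401, 0, false))) (.leaf (2529, 0, false))))) (.node (.node (.node (.node (.leaf (240, 0, false)) (.leaf (2727, 19, false))) (.node (.leaf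 (1752, 0, false)) (.leaf (3452, 146, false)))) (.node (.node (.leaf (842, 97, true)) (.leaf (3317, 0, false))) (.node (.leaf (995, 0, false)) (.leaf (2938, 52, false))))) (.node (.node (.node (.leaf (658, 0, false)) (.leaf (3108, 0, false))) (.node (.leaf (783, 19, false)) (.leaf (3584, 144, true)))) (.node (.node (.leaf (1425, 0, false)) (.leaf (3488, 0, false))) (.leaf (2652, 0, false)))))) (.node (.node (.node (.node (.node (.leaf (135, 0, false)) (.leaf (2846, 0, false))) (.node (.leaf (1668, 0, false)) (.leaf (1842, 122, false)))) (.node (.node (.leaf (966, 0, false)) (.leaf (3021, 31, true))) (.node (.leaf (2298, 0, false)) (.leaf (3657, 16, true))))) (.node (.node (.node (.leaf (560, 0, false)) (.leaf (1056, 53, false))) (.node (.leaf (317, 0, false)) (.leaf (3059, 40, false)))) (.node (.node (.leaf (185, 0, false)) (.leaf (1663, 52, true))) (.leaf (2586, 0, false))))) (.node (.node (.node (.node (.leaf (350, 0, false)) (.leaf (2960, 0, false))) (.node (.leaf (1836, 0, false)) (.leaf (3645, 0, false)))) (.node (.node (.leaf (1149, 0, false)) (.leaf (3360, 0, false)))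 (.leaf (2448, 0, false)))) (.node (.node (.node (.leaf (763, 0, false)) (.leaf (2787, 7, false))) (.node (.leaf (1827, 159, false)) (.leaf (1686, 0, false)))) (.node (.node (.leaf (312, 156, false)) (.leaf (2825, 17, false))) (.leaf (2601, 104, true))))))) (.node (.node (.node (.node (.node (.node (.leaf (82, 0, false)) (.leaf (2813, 0, false))) (.node (.leaf (1626, 0, false)) (.leaf (3362, 27, false)))) (.node (.node (.leaf (914, 0, false)) (.leaf (3101, 131, true))) (.node (.leaf (1208, 92, false)) (.leaf (3685, 38, true))))) (.node (.node (.node (.leaf (506, 0, false)) (.leaf (2169, 17, true))) (.node (.leaf (588, 128, true)) (.leaf (2276, 155, false)))) (.node (.node (.leaf (1286, 0, false)) (.leaf (3428, 0, false))) (.leaf (2564, 0, false))))) (.node (.node (.node (.node (.leaf (294, 0, false)) (.leaf (2380, 52, false))) (.node (.leaf (606, 31, true)) (.leaf (1400, 87, false)))) (.node (.node (.leaf (147, 0, false)) (.leaf (3339, 0, false))) (.node (.leaf (2408, 0, false)) (.leaf (3680, 134, false))))) (.node (.node (.node (.leaf (709, 0, false)) (.leaf (3142, 0,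 false))) (.node (.leaf (2110, 0, false)) (.leaf (2332, 73, true)))) (.node (.node (.leaf (1464, 0, false)) (.leaf (2653, 50, true))) (.leaf (2683, 0, false)))))) (.node (.node (.node (.node (.node (.leaf (22, 0, false)) (.leaf (2869, 0, false))) (.node (.leaf (1710, 0, false)) (.leaf (3575, 0, false)))) (.node (.node (.leaf (1013, 0, false)) (.leaf (3288, 0, false))) (.node (.leaf (2327, 0, false)) (.leaf (3708, 24, true))))) (.node (.node (.node (.leaf (611, 0, false)) (.leaf (3079, 0, false))) (.node (.leaf (2041, 0, false)) (.leaf (2879, 44, false)))) (.node (.node (.leaf (1381, 0, false)) (.leaf (3459, 131, false))) (.leaf (2618, 0, false))))) (.node (.node (.node (.node (.leaf (401, 0, false)) (.leaf (2053, 155, true))) (.node (.leaf (370, 13, false)) (.leaf (3018, 59, true)))) (.node (.node (.leaf (1191, 0, false)) (.leaf (913, 0, false))) (.leaf (2487, 0, false)))) (.node (.node (.node (.leaf (814, 0, false)) (.leaf (1442, 147, false))) (.node (.leaf (699, 5, false)) (.leaf (3667, 12, false)))) (.node (.node (.leaf (391, 96, false)) (.leaf (2831, 145, false)))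 (.leaf (2750, 0, false)))))))) (.node (.node (.node (.node (.node (.node (.node (.leaf (52, 0, false)) (.leaf (1892, 47, false))) (.node (.leaf (1602, 0, false)) (.leaf (3387, 101, true)))) (.node (.node (.leaf (888, 0, false)) (.leaf (3238, 0, false))) (.node (.leaf (2245, 0, false)) (.leaf (1939, 0, false))))) (.node (.node (.node (.leaf (480, 0, false)) (.leaf (3020, 0, false))) (.node (.leaf (1938, 0, false)) (.leaf (3239, 87, false)))) (.node (.node (.leaf (1261, 0, false)) (.leaf (2758, 23, false))) (.leaf (2187, 47, true))))) (.node (.node (.node (.node (.leaf (32, 0, false)) (.leaf (2818, 138, false))) (.node (.leaf (1774, 0, false)) (.leaf (2335, 63, true)))) (.node (.node (.leaf (1078, 0, false)) (.leaf (2827, 158, true))) (.node (.leaf (2148, 0, false)) (.leaf (3629, 84, false))))) (.node (.node (.node (.leaf (686, 0, false)) (.leaf (3123, 0, false))) (.node (.leaf (1193, 130, false)) (.leaf (3647, 5, true)))) (.node (.node (.leaf (1445, 0, false)) (.leaf (3053, 34, false))) (.leaf (2672, 0, false)))))) (.node (.node (.node (.node (.node (.leaf (161, 0, false))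 (.leaf (2703, 7, false))) (.node (.leaf (1271, 118, false)) (.leaf (3290, 52, false)))) (.node (.node (.leaf (989, 0, false)) (.leaf (1871, 41, true))) (.node (.leaf (2158, 0, false)) (.leaf (2453, 62, false))))) (.node (.node (.node (.leaf (586, 0, false)) (.leaf (1012, 99, true))) (.node (.leaf (2021, 0, false)) (.leaf (3525, 55, true)))) (.node (.node (.leaf (1356, 0, false)) (.leaf (3094, 36, false))) (.leaf (2600, 0, false))))) (.node (.node (.node (.node (.leaf (377, 0, false)) (.leaf (2975, 0, false))) (.node (.leaf (1858, 0, false)) (.leaf (1330, 0, false)))) (.node (.node (.leaf (875, 27, false)) (.leaf (3367, 0, false))) (.leaf (2465, 0, false)))) (.node (.node (.node (.leaf (790, 0, false)) (.leaf (2533, 51, true))) (.node (.leaf (2170, 0, false)) (.leaf (1822, 26, true)))) (.node (.node (.leaf (1516, 0, false)) (.leaf (1104, 0, false))) (.leaf (816, 28, true))))))) (.node (.node (.node (.node (.node (.node (.leaf (108, 0, false)) (.leaf (2445, 28, true))) (.node (.leaf (1459, 107, false)) (.leaf (3209, 147, true)))) (.node (.node (.leaf (939, 0, false)) (.leaf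 (1552, 67, false))) (.node (.leaf (1230, 147, true)) (.leaf (3072, 94, true))))) (.node (.node (.node (.leaf (533, 0, false)) (.leaf (3043, 0, false))) (.node (.leaf (1981, 0, false)) (.leaf (3698, 0, false)))) (.node (.node (.leaf (1310, 0, false)) (.leaf (3439, 0, false))) (.leaf (2374, 99, false))))) (.node (.node (.node (.node (.leaf (322, 0, false)) (.leaf (1563, 40, false))) (.node (.leaf (1817, 0, false)) (.leaf (2425, 81, true)))) (.node (.node (.leaf (1124, 0, false)) (.leaf (1764, 4, false))) (.node (.leaf (2429, 0, false)) (.leaf (3302, 116, false))))) (.node (.node (.node (.leaf (737, 0, false)) (.leaf (1292, 34, false))) (.node (.leaf (2130, 0, false)) (.leaf (2456, 51, false)))) (.node (.node (.leaf (857, 0, false)) (.leaf (2570, 153, false))) (.leaf (2698, 0, false)))))) (.node (.node (.node (.node (.node (.leaf (215, 0, false)) (.leaf (1679, 73, true))) (.node (.leaf (1731, 0, false)) (.leaf (1554, 63, false)))) (.node (.node (.leaf (1033, 0, false)) (.leaf (3301, 0, false))) (.node (.leaf (1700, 80, true)) (.leaf (3425, 42, false))))) (.node (.node (.node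 (.leaf (634, 0, false)) (.leaf (3097, 0, false))) (.node (.leaf (2060, 0, false)) (.leaf (2229, 131, false)))) (.node (.node (.leaf (1403, 0, false)) (.leaf (1027, 0, false))) (.leaf (839, 155, true))))) (.node (.node (.node (.node (.leaf (425, 0, false)) (.leaf (2767, 101, false))) (.node (.leaf (638, 50, false)) (.leaf (1508, 136, false)))) (.node (.node (.leaf (1217, 0, false)) (.leaf (3392, 0, false))) (.leaf (2505, 0, false)))) (.node (.node (.node (.leaf (836, 0, false)) (.leaf (3213, 0, false))) (.node (.leaf (1489, 147, false)) (.leaf (1862, 102, true)))) (.node (.node (.leaf (1248, 30, true)) (.leaf (2677, 34, true))) (.leaf (2766, 0, false)))))))))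

def schX : Janko.Tree (ℕ × ℕ × Bool) :=
  (.node (.node (.node (.node schX0 schX8) (.node schX4 schX12)) (.node (.node schX2 schX10) (.node schX6 schX14))) (.node (.node (.node schX1 schX9) (.node schX5 schX13)) (.node (.node schX3 schX11) (.node schX7 schX15))))

def schY0 : Janko.Tree (ℕ × ℕ × Bool) :=
  (.node (.node (.node (.node (.node (.node (.node (.node (.leaf (2, 0, false)) (.leaf (2769, 0, false))) (.node (.leaf (1561, 0, false)) (.leaf (2575, 0, false)))) (.node (.node (.leaf (839, 0, false)) (.leaf (3214, 0, false))) (.node (.leaf (2213, 0, false)) (.leaf (2487, 0, false))))) (.node (.node (.node (.leaf (427, 0, false)) (.leaf (2181, 128, true))) (.node (.leaf (1677, 52, false)) (.leaf (2006, 0, false)))) (.node (.node (.leaf (1220, 0, false)) (.leaf (1439, 0, false))) (.leaf (2507, 0, false))))) (.node (.node (.node (.node (.leaf (42, 0, false)) (.leaf (2602, 96, false))) (.node (.leaf (1732, 0, false)) (.leaf (2341, 29, false)))) (.node (.node (.leaf (894, 116, true)) (.leaf (3303, 0, false))) (.node (.leaf (2349, 0, false)) (.leaf (3678, 22, true)))))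 (.node (.node (.node (.leaf (636, 0, false)) (.leaf (3099, 0, false))) (.node (.leaf (549, 0, false)) (.leaf (2206, 0, false)))) (.node (.node (.leaf (1404, 0, false)) (.leaf (2775, 86, false))) (.leaf (2638, 0, false)))))) (.node (.node (.node (.node (.node (.leaf (21, 0, false)) (.leaf (2833, 0, false))) (.node (.leaf (1649, 0, false)) (.leaf (2352, 13, true)))) (.node (.node (.leaf (203, 0, false)) (.leaf (3259, 0, false))) (.node (.leaf (652, 0, false)) (.leaf (3040, 113, true))))) (.node (.node (.node (.leaf (535, 0, false)) (.leaf (1644, 24, false))) (.node (.leaf (1983, 0, false)) (.leaf (2485, 116, false)))) (.node (.node (.leaf (1312, 0, false)) (.leaf (3440, 0, false))) (.leaf (836, 113, false))))) (.node (.node (.node (.node (.leaf (65, 0, false)) (.leaf (1025, 0, false))) (.node (.leaf (464, 0, false)) (.leaf (2397, 146, false)))) (.node (.node (.leaf (256, 0, false)) (.leaf (2421, 137, true))) (.node (.leaf (2431, 0, false)) (.leaf (3770, 151, false))))) (.node (.node (.node (.leaf (739, 0, false)) (.leaf (3159, 0, false))) (.node (.leaf (2132, 0, false))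 (.leaf (3733, 72, false)))) (.node (.node (.leaf (1485, 0, false)) (.leaf (2583, 38, false))) (.leaf (2434, 107, true))))))) (.node (.node (.node (.node (.node (.node (.leaf (55, 0, false)) (.leaf (910, 0, false))) (.node (.leaf (396, 0, false)) (.leaf (2010, 122, true)))) (.node (.node (.leaf (891, 0, false)) (.leaf (3041, 10, false))) (.node (.leaf (1923, 71, false)) (.leaf (3762, 0, false))))) (.node (.node (.node (.leaf (482, 0, false)) (.leaf (3022, 0, false))) (.node (.leaf (819, 43, true)) (.leaf (3684, 0, false)))) (.node (.node (.leaf (1263, 0, false)) (.leaf (2003, 7, false))) (.leaf (1712, 51, false))))) (.node (.node (.node (.node (.leaf (270, 0, false)) (.leaf (2757, 30, true))) (.node (.leaf (1776, 0, false)) (.leaf (2052, 34, true)))) (.node (.node (.leaf (242, 0, false)) (.leaf (1361, 0, false))) (.node (.leaf (702, 0, false)) (.leaf (3753, 50, false))))) (.node (.node (.node (.leaf (688, 0, false)) (.leaf (1171, 0, false))) (.node (.leaf (2097, 0, false)) (.leaf (3314, 16, true)))) (.node (.node (.leaf (1447, 0, false)) (.leaf (3497, 0, false))) (.leaf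 (2384, 149, true)))))) (.node (.node (.node (.node (.node (.leaf (164, 0, false)) (.leaf (2860, 0, false))) (.node (.leaf (1693, 0, false)) (.leaf (3463, 111, true)))) (.node (.node (.leaf (215, 0, false)) (.leaf (1310, 0, false))) (.node (.leaf (668, 0, false)) (.leaf (2750, 0, false))))) (.node (.node (.node (.leaf (588, 0, false)) (.leaf (3065, 0, false))) (.node (.leaf (2023, 0, false)) (.leaf (2613, 97, true)))) (.node (.node (.leaf (316, 0, false)) (.leaf (3050, 103, false))) (.leaf (805, 0, false))))) (.node (.node (.node (.node (.leaf (378, 0, false)) (.leaf (1701, 77, false))) (.node (.leaf (1860, 0, false)) (.leaf (3006, 133, true)))) (.node (.node (.leaf (1168, 0, false)) (.leaf (1409, 0, false))) (.leaf (2466, 0, false)))) (.node (.node (.node (.leaf (793, 0, false)) (.leaf (3191, 0, false))) (.node (.leaf (601, 0, false)) (.leaf (2412, 0, false)))) (.node (.node (.leaf (1518, 0, false)) (.leaf (3473, 107, false))) (.leaf (2733, 0, false)))))))) (.node (.node (.node (.node (.node (.node (.node (.leaf (28, 0, false)) (.leaf (2785, 0, false))) (.node (.leaf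 (1585, 0, false)) (.leaf (3556, 0, false)))) (.node (.node (.leaf (864, 0, false)) (.leaf (1243, 0, false))) (.node (.leaf (2227, 0, false)) (.leaf (3082, 61, false))))) (.node (.node (.node (.leaf (456, 0, false)) (.leaf (1152, 92, false))) (.node (.leaf (1917, 0, false)) (.leaf (3035, 96, true)))) (.node (.node (.leaf (965, 52, false)) (.leaf (1723, 42, true))) (.leaf (1440, 76, true))))) (.node (.node (.node (.node (.leaf (243, 0, false)) (.leaf (2899, 0, false))) (.node (.leaf (446, 0, false)) (.leaf (2105, 95, false)))) (.node (.node (.leaf (1058, 0, false)) (.leaf (1347, 0, false))) (.node (.leaf (1072, 129, true)) (.leaf (3542, 144, false))))) (.node (.node (.node (.leaf (141, 0, false)) (.leaf (3111, 0, false))) (.node (.leaf (2080, 0, false)) (.leaf (2235, 0, false)))) (.node (.node (.leaf (896, 71, false)) (.leaf (1595, 33, true))) (.leaf (830, 0, false)))))) (.node (.node (.node (.node (.node (.leaf (137, 0, false)) (.leaf (946, 0, false))) (.node (.leaf (1671, 0, false)) (.leaf (3584, 0, false)))) (.node (.node (.leaf (968, 0, false)) (.leaf (3215, 145, false)))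 (.node (.leaf (2301, 0, false)) (.leaf (2913, 125, true))))) (.node (.node (.node (.leaf (563, 0, false)) (.leaf (3057, 0, false))) (.node (.leaf (1885, 134, true)) (.leaf (2122, 0, false)))) (.node (.node (.leaf (1337, 0, false)) (.leaf (3448, 0, false))) (.leaf (2587, 0, false))))) (.node (.node (.node (.node (.leaf (353, 0, false)) (.leaf (2734, 126, false))) (.node (.leaf (1839, 0, false)) (.leaf (2366, 52, false)))) (.node (.node (.leaf (261, 0, false)) (.leaf (3362, 0, false))) (.leaf (730, 0, false)))) (.node (.node (.node (.leaf (766, 0, false)) (.leaf (3175, 0, false))) (.node (.leaf (2149, 0, false)) (.leaf (3700, 122, false)))) (.node (.node (.leaf (1258, 5, true)) (.leaf (3061, 52, true))) (.leaf (2719, 0, false))))))) (.node (.node (.node (.node (.node (.node (.leaf (16, 0, false)) (.leaf (2816, 0, false))) (.node (.leaf (1628, 0, false)) (.leaf (1752, 0, false)))) (.node (.node (.leaf (917, 0, false)) (.leaf (1275, 0, false))) (.node (.leaf (2259, 0, false)) (.leaf (2855, 50, false))))) (.node (.node (.node (.leaf (508, 0, false)) (.leaf (3036, 0, false)))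 (.node (.leaf (1959, 0, false)) (.leaf (3689, 0, false)))) (.node (.node (.leaf (298, 0, false)) (.leaf (1488, 0, false))) (.leaf (2565, 0, false))))) (.node (.node (.node (.node (.leaf (297, 0, false)) (.leaf (2008, 64, false))) (.node (.leaf (1796, 0, false)) (.leaf (2616, 132, false)))) (.node (.node (.leaf (1102, 0, false)) (.leaf (2910, 156, false))) (.node (.leaf (2409, 0, false)) (.leaf (3256, 18, true))))) (.node (.node (.node (.leaf (711, 0, false)) (.leaf (2676, 141, false))) (.node (.leaf (1977, 19, false)) (.leaf (2603, 148, false)))) (.node (.node (.leaf (1467, 0, false)) (.leaf (3506, 0, false))) (.leaf (2684, 0, false)))))) (.node (.node (.node (.node (.node (.leaf (192, 0, false)) (.leaf (2872, 0, false))) (.node (.leaf (820, 159, false)) (.leaf (1801, 0, false)))) (.node (.node (.leaf (1015, 0, false)) (.leaf (3290, 0, false))) (.node (.leaf (2329, 0, false)) (.leaf (3637, 119, true))))) (.node (.node (.node (.leaf (612, 0, false)) (.leaf (3081, 0, false))) (.node (.leaf (2044, 0, false)) (.leaf (2168, 0, false)))) (.node (.node (.leaf (322, 0, false))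 (.leaf (3466, 0, false))) (.leaf (2620, 0, false))))) (.node (.node (.node (.node (.leaf (403, 0, false)) (.leaf (1069, 92, false))) (.node (.leaf (1879, 0, false)) (.leaf (3662, 0, false)))) (.node (.node (.leaf (1193, 0, false)) (.leaf (1940, 21, false))) (.leaf (2489, 0, false)))) (.node (.node (.node (.leaf (815, 0, false)) (.leaf (3203, 0, false))) (.node (.leaf (609, 0, false)) (.leaf (2804, 139, false)))) (.node (.node (.leaf (373, 0, false)) (.leaf (2630, 100, true))) (.leaf (2751, 0, false)))))))))

def schY1 : Janko.Tree (ℕ × ℕ × Bool) :=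
  (.node (.node (.node (.node (.node (.node (.node (.node (.leaf (4, 0, false)) (.leaf (890, 0, false))) (.node (.leaf (1563, 0, false)) (.leaf (3548, 0, false)))) (.node (.node (.leaf (233, 128, true)) (.leaf (1231, 0, false))) (.node (.leaf (618, 0, false)) (.leaf (2488, 0, false))))) (.node (.node (.node (.leaf (429, 0, false)) (.leaf (1683, 92, false))) (.node (.leaf (1901, 0, false)) (.leaf (2691, 52, true)))) (.node (.node (.leaf (1222, 0, false)) (.leaf (3394, 0, false))) (.leaf (2509, 0, false))))) (.node (.node (.node (.node (.leaf (219, 0, false)) (.leaf (2884, 0, false))) (.node (.leaf (1733, 0, false)) (.leaf (3613, 0, false)))) (.node (.node (.leaf (230, 0, false)) (.leaf (1690, 20, false))) (.node (.leaf (687, 0, false)) (.leaf (3702, 41, false))))) (.node (.node (.node (.leaf (638, 0, false)) (.leaf (1149, 0, false))) (.node (.leaf (2063, 0, false)) (.leaf (3193, 150, true)))) (.node (.node (.leaf (1406, 0, false)) (.leaf (3477, 0, false))) (.leaf (2640, 0, false)))))) (.node (.node (.node (.node (.node (.leaf (112, 0, false)) (.leaf (2834, 0, false)))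 (.node (.leaf (411, 0, false)) (.leaf (1765, 0, false)))) (.node (.node (.leaf (943, 0, false)) (.leaf (2853, 25, true))) (.node (.leaf (2280, 0, false)) (.leaf (3219, 140, true))))) (.node (.node (.node (.leaf (111, 0, false)) (.leaf (2215, 101, true))) (.node (.leaf (1985, 0, false)) (.leaf (3490, 10, true)))) (.node (.node (.leaf (304, 0, false)) (.leaf (3441, 0, false))) (.leaf (2578, 0, false))))) (.node (.node (.node (.node (.leaf (326, 0, false)) (.leaf (2941, 0, false))) (.node (.leaf (1820, 0, false)) (.leaf (2424, 52, true)))) (.node (.node (.leaf (1128, 0, false)) (.leaf (2290, 142, false))) (.node (.leaf (2433, 0, false)) (.leaf (3767, 58, false))))) (.node (.node (.node (.leaf (159, 0, false)) (.leaf (3160, 0, false))) (.node (.leaf (2133, 0, false)) (.leaf (3263, 58, true)))) (.node (.node (.leaf (1487, 0, false)) (.leaf (2958, 115, false))) (.leaf (2701, 0, false))))))) (.node (.node (.node (.node (.node (.node (.leaf (57, 0, false)) (.leaf (2798, 0, false))) (.node (.leaf (397, 0, false)) (.leaf (3565, 0, false)))) (.node (.node (.leaf (193, 0, false))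 (.leaf (1264, 0, false))) (.node (.leaf (2247, 0, false)) (.leaf (2743, 5, true))))) (.node (.node (.node (.leaf (100, 0, false)) (.leaf (2940, 36, true))) (.node (.leaf (1941, 0, false)) (.leaf (2965, 67, true)))) (.node (.node (.leaf (1265, 0, false)) (.leaf (1850, 76, false))) (.leaf (2545, 0, false))))) (.node (.node (.node (.node (.leaf (272, 0, false)) (.leaf (2914, 0, false))) (.node (.leaf (453, 0, false)) (.leaf (3628, 0, false)))) (.node (.node (.leaf (1081, 0, false)) (.leaf (2848, 85, true))) (.node (.leaf (2390, 0, false)) (.leaf (3432, 151, true))))) (.node (.node (.node (.leaf (690, 0, false)) (.leaf (2883, 119, false))) (.node (.leaf (1510, 78, false)) (.leaf (2254, 0, false)))) (.node (.node (.leaf (1448, 0, false)) (.leaf (3444, 123, true))) (.leaf (1079, 59, true)))))) (.node (.node (.node (.node (.node (.leaf (166, 0, false)) (.leaf (2056, 46, true))) (.node (.leaf (605, 66, true)) (.leaf (3213, 149, false)))) (.node (.node (.leaf (993, 0, false)) (.leaf (3093, 132, true))) (.node (.leaf (669, 0, false)) (.leaf (3319, 45, false))))) (.node (.node (.node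 (.leaf (590, 0, false)) (.leaf (2670, 30, true))) (.node (.leaf (2025, 0, false)) (.leaf (2142, 0, false)))) (.node (.node (.leaf (1360, 0, false)) (.leaf (3315, 110, false))) (.leaf (1505, 38, false))))) (.node (.node (.node (.node (.leaf (380, 0, false)) (.leaf (2960, 153, false))) (.node (.leaf (478, 0, false)) (.leaf (3654, 0, false)))) (.node (.node (.leaf (1170, 0, false)) (.leaf (3052, 149, true))) (.leaf (2468, 0, false)))) (.node (.node (.node (.leaf (795, 0, false)) (.leaf (2369, 115, false))) (.node (.leaf (2174, 0, false)) (.leaf (3623, 21, true)))) (.node (.node (.leaf (1520, 0, false)) (.leaf (1878, 109, true))) (.leaf (2652, 130, false)))))))) (.node (.node (.node (.node (.node (.node (.node (.leaf (30, 0, false)) (.leaf (899, 0, false))) (.node (.leaf (1587, 0, false)) (.leaf (3557, 0, false)))) (.node (.node (.leaf (866, 0, false)) (.leaf (1244, 0, false))) (.node (.leaf (1828, 10, true)) (.leaf (2518, 0, false))))) (.node (.node (.node (.leaf (458, 0, false)) (.leaf (3007, 0, false))) (.node (.leaf (1919, 0, false)) (.leaf (3176, 152, true)))) (.node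 (.node (.leaf (1245, 0, false)) (.leaf (3402, 0, false))) (.leaf (2531, 0, false))))) (.node (.node (.node (.node (.leaf (245, 0, false)) (.leaf (1624, 110, true))) (.node (.leaf (1756, 0, false)) (.leaf (1840, 0, false)))) (.node (.node (.leaf (237, 0, false)) (.leaf (2118, 0, false))) (.node (.leaf (2370, 0, false)) (.leaf (3026, 29, true))))) (.node (.node (.node (.leaf (662, 0, false)) (.leaf (3112, 0, false))) (.node (.leaf (1611, 24, false)) (.leaf (3648, 35, false)))) (.node (.node (.leaf (333, 0, false)) (.leaf (3248, 49, true))) (.leaf (2656, 0, false)))))) (.node (.node (.node (.node (.node (.leaf (27, 0, false)) (.leaf (1593, 95, true))) (.node (.leaf (1672, 0, false)) (.leaf (3585, 0, false)))) (.node (.node (.leaf (970, 0, false)) (.leaf (3268, 0, false))) (.node (.leaf (798, 0, true)) (.leaf (3500, 134, true))))) (.node (.node (.node (.leaf (116, 0, false)) (.leaf (1119, 0, false))) (.node (.leaf (2002, 0, false)) (.leaf (3598, 65, false)))) (.node (.node (.leaf (1339, 0, false)) (.leaf (1519, 0, false))) (.leaf (1852, 30, false))))) (.node (.node (.node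 (.node (.leaf (71, 0, false)) (.leaf (2962, 0, false))) (.node (.leaf (784, 117, true)) (.leaf (2196, 79, true)))) (.node (.node (.leaf (1044, 13, true)) (.leaf (2307, 55, true))) (.leaf (2450, 0, false)))) (.node (.node (.node (.leaf (768, 0, false)) (.leaf (2990, 129, true))) (.node (.leaf (2150, 0, false)) (.leaf (3621, 62, true)))) (.node (.node (.leaf (1500, 0, false)) (.leaf (3183, 157, false))) (.leaf (1660, 58, false))))))) (.node (.node (.node (.node (.node (.node (.leaf (86, 0, false)) (.leaf (1808, 28, false))) (.node (.leaf (404, 0, false)) (.leaf (1907, 121, false)))) (.node (.node (.leaf (198, 0, false)) (.leaf (1336, 59, true))) (.node (.leaf (644, 0, false)) (.leaf (2607, 0, false))))) (.node (.node (.node (.leaf (510, 0, false)) (.leaf (1355, 118, true))) (.node (.leaf (1960, 0, false)) (.leaf (2679, 109, true)))) (.node (.node (.leaf (1290, 0, false)) (.leaf (1638, 13, true))) (.leaf (2566, 0, false))))) (.node (.node (.node (.node (.leaf (299, 0, false)) (.leaf (1016, 0, false))) (.node (.leaf (1797, 0, false)) (.leaf (1896, 0, false)))) (.node (.node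 (.leaf (1104, 0, false)) (.leaf (1865, 158, true))) (.node (.leaf (1738, 132, false)) (.leaf (3241, 1, false))))) (.node (.node (.node (.leaf (713, 0, false)) (.leaf (3145, 0, false))) (.node (.leaf (573, 0, false)) (.leaf (2513, 87, true)))) (.node (.node (.leaf (345, 0, false)) (.leaf (2970, 62, true))) (.leaf (847, 0, false)))))) (.node (.node (.node (.node (.node (.leaf (194, 0, false)) (.leaf (2874, 0, false))) (.node (.leaf (1714, 0, false)) (.leaf (3602, 0, false)))) (.node (.node (.leaf (290, 40, false)) (.leaf (3292, 0, false))) (.node (.leaf (2330, 0, false)) (.leaf (3774, 0, false))))) (.node (.node (.node (.leaf (223, 106, true)) (.leaf (1140, 0, false))) (.node (.leaf (2045, 0, false)) (.leaf (3717, 0, false)))) (.node (.node (.leaf (1385, 0, false)) (.leaf (3468, 0, false))) (.leaf (2622, 0, false))))) (.node (.node (.node (.node (.leaf (405, 0, false)) (.leaf (2984, 0, false))) (.node (.leaf (485, 0, false)) (.leaf (3663, 0, false)))) (.node (.node (.leaf (1195, 0, false)) (.leaf (3381, 0, false))) (.leaf (2490, 0, false)))) (.node (.node (.node (.leaf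 (816, 0, false)) (.leaf (1221, 0, false))) (.node (.leaf (2192, 0, false)) (.leaf (2511, 40, false)))) (.node (.node (.leaf (1540, 0, false)) (.leaf (1952, 75, true))) (.leaf (1604, 39, true)))))))))

def schY2 : Janko.Tree (ℕ × ℕ × Bool) :=
  (.node (.node (.node (.node (.node (.node (.node (.node (.leaf (6, 0, false)) (.leaf (2771, 0, false))) (.node (.leaf (1564, 0, false)) (.leaf (3550, 0, false)))) (.node (.node (.leaf (840, 0, false)) (.leaf (1445, 118, true))) (.node (.leaf (932, 76, true)) (.leaf (3698, 46, false))))) (.node (.node (.node (.leaf (431, 0, false)) (.leaf (2995, 0, false))) (.node (.leaf (1903, 0, false)) (.leaf (3672, 0, false)))) (.node (.node (.leaf (1223, 0, false)) (.leaf (3118, 159, true))) (.leaf (2510, 0, false))))) (.node (.node (.node (.node (.leaf (221, 0, false)) (.leaf (2886, 0, false))) (.node (.leaf (1734, 0, false)) (.leaf (2231, 56, true)))) (.node (.node (.leaf (1036, 0, false)) (.leaf (1338, 0, false))) (.node (.leaf (2351, 0, false)) (.leaf (3745, 77, false))))) (.node (.node (.node (.leaf (639, 0, false)) (.leaf (3101, 0, false)))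 (.node (.leaf (2065, 0, false)) (.leaf (3398, 5, false)))) (.node (.node (.leaf (1408, 0, false)) (.leaf (3479, 0, false))) (.leaf (2641, 0, false)))))) (.node (.node (.node (.node (.node (.leaf (114, 0, false)) (.leaf (1021, 37, true))) (.node (.leaf (1651, 0, false)) (.leaf (3577, 0, false)))) (.node (.node (.leaf (945, 0, false)) (.leaf (3260, 0, false))) (.node (.leaf (2282, 0, false)) (.leaf (2715, 129, true))))) (.node (.node (.node (.leaf (538, 0, false)) (.leaf (1111, 0, false))) (.node (.leaf (1987, 0, false)) (.leaf (3583, 133, true)))) (.node (.node (.leaf (1315, 0, false)) (.leaf (3442, 0, false))) (.leaf (2579, 0, false))))) (.node (.node (.node (.node (.leaf (328, 0, false)) (.leaf (1026, 0, false))) (.node (.leaf (1822, 0, false)) (.leaf (1920, 0, false)))) (.node (.node (.leaf (1130, 0, false)) (.leaf (1386, 0, false))) (.node (.leaf (1241, 10, false)) (.leaf (3776, 41, true))))) (.node (.node (.node (.leaf (742, 0, false)) (.leaf (3161, 0, false))) (.node (.leaf (582, 0, false)) (.leaf (3634, 18, false)))) (.node (.node (.leaf (352, 0, false)) (.leaf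 (3518, 0, false))) (.leaf (1631, 124, false))))))) (.node (.node (.node (.node (.node (.node (.leaf (59, 0, false)) (.leaf (2645, 19, true))) (.node (.leaf (1607, 0, false)) (.leaf (2968, 94, true)))) (.node (.node (.leaf (893, 0, false)) (.leaf (3186, 150, false))) (.node (.leaf (925, 31, false)) (.leaf (2986, 117, false))))) (.node (.node (.node (.leaf (377, 40, false)) (.leaf (1092, 0, false))) (.node (.leaf (1942, 0, false)) (.leaf (3668, 155, false)))) (.node (.node (.leaf (1266, 0, false)) (.leaf (3418, 0, false))) (.leaf (2547, 0, false))))) (.node (.node (.node (.node (.leaf (54, 0, false)) (.leaf (1004, 0, false))) (.node (.leaf (1779, 0, false)) (.leaf (3629, 0, false)))) (.node (.node (.leaf (1083, 0, false)) (.leaf (3327, 0, false))) (.node (.leaf (2061, 39, false)) (.leaf (3097, 97, false))))) (.node (.node (.node (.leaf (692, 0, false)) (.leaf (3126, 0, false))) (.node (.leaf (2099, 0, false)) (.leaf (2815, 109, false)))) (.node (.node (.leaf (1323, 32, false)) (.leaf (3499, 0, false))) (.leaf (930, 54, false)))))) (.node (.node (.node (.node (.node (.leaf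 (168, 0, false)) (.leaf (959, 0, false))) (.node (.leaf (574, 102, false)) (.leaf (2035, 12, false)))) (.node (.node (.leaf (995, 0, false)) (.leaf (1311, 0, false))) (.node (.leaf (929, 29, true)) (.leaf (3539, 95, false))))) (.node (.node (.node (.leaf (592, 0, false)) (.leaf (3067, 0, false))) (.node (.leaf (536, 0, false)) (.leaf (3449, 69, false)))) (.node (.node (.leaf (1362, 0, false)) (.leaf (3255, 76, false))) (.leaf (892, 54, true))))) (.node (.node (.node (.node (.leaf (382, 0, false)) (.leaf (2188, 102, false))) (.node (.leaf (772, 55, false)) (.leaf (3655, 0, false)))) (.node (.node (.leaf (1019, 41, true)) (.leaf (3369, 0, false))) (.leaf (2469, 0, false)))) (.node (.node (.node (.leaf (797, 0, false)) (.leaf (3192, 0, false))) (.node (.leaf (2175, 0, false)) (.leaf (3600, 140, false)))) (.node (.node (.leaf (717, 0, false)) (.leaf (2350, 17, false))) (.leaf (872, 0, false)))))))) (.node (.node (.node (.node (.node (.node (.node (.leaf (32, 0, false)) (.leaf (2787, 0, false))) (.node (.leaf (390, 0, false)) (.leaf (3558, 0, false)))) (.node (.node (.leaf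 (188, 0, false)) (.leaf (1246, 0, false))) (.node (.leaf (626, 0, false)) (.leaf (2522, 0, false))))) (.node (.node (.node (.leaf (459, 0, false)) (.leaf (3008, 0, false))) (.node (.leaf (1156, 50, true)) (.leaf (2695, 20, false)))) (.node (.node (.leaf (671, 97, false)) (.leaf (3125, 44, false))) (.leaf (1503, 122, true))))) (.node (.node (.node (.node (.leaf (247, 0, false)) (.leaf (2900, 0, false))) (.node (.leaf (883, 156, false)) (.leaf (2722, 22, true)))) (.node (.node (.leaf (1061, 0, false)) (.leaf (2407, 96, false))) (.node (.leaf (2371, 0, false)) (.leaf (3297, 125, true))))) (.node (.node (.node (.leaf (664, 0, false)) (.leaf (3114, 0, false))) (.node (.leaf (557, 0, false)) (.leaf (3725, 46, true)))) (.node (.node (.leaf (1430, 0, false)) (.leaf (1581, 0, false))) (.leaf (2448, 97, true)))))) (.node (.node (.node (.node (.node (.leaf (140, 0, false)) (.leaf (1059, 86, false))) (.node (.leaf (1674, 0, false)) (.leaf (3119, 64, true)))) (.node (.node (.leaf (719, 126, true)) (.leaf (3014, 29, false))) (.node (.leaf (1461, 53, true)) (.leaf (3331, 5, true)))))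 (.node (.node (.node (.leaf (566, 0, false)) (.leaf (1643, 13, true))) (.node (.leaf (529, 0, false)) (.leaf (3578, 90, true)))) (.node (.node (.leaf (311, 0, false)) (.leaf (3450, 0, false))) (.leaf (2589, 0, false))))) (.node (.node (.node (.node (.leaf (356, 0, false)) (.leaf (1039, 0, false))) (.node (.leaf (1136, 16, true)) (.leaf (3464, 106, true)))) (.node (.node (.leaf (262, 0, false)) (.leaf (3005, 136, false))) (.leaf (2451, 0, false)))) (.node (.node (.node (.leaf (165, 0, false)) (.leaf (2501, 152, true))) (.node (.leaf (2152, 0, false)) (.leaf (3711, 58, true)))) (.node (.node (.leaf (1502, 0, false)) (.leaf (3525, 0, false))) (.leaf (2720, 0, false))))))) (.node (.node (.node (.node (.node (.node (.leaf (88, 0, false)) (.leaf (2818, 0, false))) (.node (.leaf (1630, 0, false)) (.leaf (2580, 137, false)))) (.node (.node (.leaf (920, 0, false)) (.leaf (2076, 50, false))) (.node (.leaf (2261, 0, false)) (.leaf (3731, 128, true))))) (.node (.node (.node (.leaf (379, 3, true)) (.leaf (2838, 134, false))) (.node (.leaf (1962, 0, false)) (.leaf (2081, 0, false))))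 (.node (.node (.leaf (1292, 0, false)) (.leaf (2432, 151, true))) (.leaf (777, 0, false))))) (.node (.node (.node (.node (.leaf (60, 0, false)) (.leaf (2926, 0, false))) (.node (.leaf (1798, 0, false)) (.leaf (3636, 0, false)))) (.node (.node (.leaf (248, 0, false)) (.leaf (3342, 0, false))) (.node (.leaf (2411, 0, false)) (.leaf (3595, 109, false))))) (.node (.node (.node (.leaf (715, 0, false)) (.leaf (1575, 132, false))) (.node (.leaf (2114, 0, false)) (.leaf (2300, 0, false)))) (.node (.node (.leaf (1469, 0, false)) (.leaf (2452, 69, true))) (.leaf (2014, 32, true)))))) (.node (.node (.node (.node (.node (.leaf (38, 0, false)) (.leaf (2876, 0, false))) (.node (.leaf (1716, 0, false)) (.leaf (2138, 42, false)))) (.node (.node (.leaf (1018, 0, false)) (.leaf (1516, 13, true))) (.node (.leaf (2332, 0, false)) (.leaf (3661, 139, true))))) (.node (.node (.node (.leaf (615, 0, false)) (.leaf (2813, 97, false))) (.node (.leaf (2046, 0, false)) (.leaf (2173, 0, false)))) (.node (.node (.leaf (989, 8, true)) (.leaf (3469, 0, false))) (.leaf (2623, 0, false))))) (.node (.node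 (.node (.node (.leaf (407, 0, false)) (.leaf (2685, 73, true))) (.node (.leaf (1882, 0, false)) (.leaf (3227, 75, false)))) (.node (.node (.leaf (1197, 0, false)) (.leaf (3382, 0, false))) (.leaf (1859, 147, false)))) (.node (.node (.node (.leaf (818, 0, false)) (.leaf (3204, 0, false))) (.node (.leaf (2193, 0, false)) (.leaf (3154, 148, false)))) (.node (.node (.leaf (1542, 0, false)) (.leaf (3538, 0, false))) (.leaf (881, 0, false)))))))))

def schY3 : Janko.Tree (ℕ × ℕ × Bool) :=
  (.node (.node (.node (.node (.node (.node (.node (.node (.leaf (8, 0, false)) (.leaf (2773, 0, false))) (.node (.leaf (1566, 0, false)) (.leaf (3491, 84, false)))) (.node (.node (.leaf (842, 0, false)) (.leaf (2166, 15, true))) (.node (.leaf (2216, 0, false)) (.leaf (2493, 0, false))))) (.node (.node (.node (.leaf (433, 0, false)) (.leaf (2048, 15, false))) (.node (.leaf (494, 0, false)) (.leaf (3673, 0, false)))) (.node (.node (.leaf (1225, 0, false)) (.leaf (3395, 0, false))) (.leaf (2512, 0, false))))) (.node (.node (.node (.node (.leaf (222, 0, false)) (.leaf (1441, 17, true))) (.node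 (.leaf (441, 0, false)) (.leaf (3211, 74, false)))) (.node (.node (.leaf (1038, 0, false)) (.leaf (3305, 0, false))) (.node (.leaf (1699, 92, false)) (.leaf (2871, 0, false))))) (.node (.node (.node (.leaf (641, 0, false)) (.leaf (3031, 0, true))) (.node (.leaf (2067, 0, false)) (.leaf (2901, 144, false)))) (.node (.node (.leaf (1410, 0, false)) (.leaf (3133, 101, false))) (.leaf (2643, 0, false)))))) (.node (.node (.node (.node (.node (.leaf (115, 0, false)) (.leaf (939, 0, false))) (.node (.leaf (412, 0, false)) (.leaf (2546, 133, false)))) (.node (.node (.leaf (947, 0, false)) (.leaf (1289, 0, false))) (.node (.leaf (2283, 0, false)) (.leaf (3251, 109, true))))) (.node (.node (.node (.leaf (540, 0, false)) (.leaf (2359, 158, true))) (.node (.leaf (1989, 0, false)) (.leaf (3083, 96, false)))) (.node (.node (.leaf (1317, 0, false)) (.leaf (3428, 16, true))) (.leaf (2581, 0, false))))) (.node (.node (.node (.node (.leaf (330, 0, false)) (.leaf (2944, 0, false))) (.node (.leaf (1823, 0, false)) (.leaf (2667, 52, true)))) (.node (.node (.leaf (1131, 0, false)) (.leaf (3282,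 126, false))) (.node (.leaf (2435, 0, false)) (.leaf (3777, 47, true))))) (.node (.node (.node (.leaf (744, 0, false)) (.leaf (2554, 0, false))) (.node (.leaf (2135, 0, false)) (.leaf (3738, 0, false)))) (.node (.node (.leaf (1489, 0, false)) (.leaf (3439, 148, false))) (.leaf (854, 0, false))))))) (.node (.node (.node (.node (.node (.node (.leaf (11, 0, false)) (.leaf (1151, 87, true))) (.node (.leaf (1609, 0, false)) (.leaf (1735, 0, false)))) (.node (.node (.leaf (895, 0, false)) (.leaf (3240, 0, false))) (.node (.leaf (1314, 36, false)) (.leaf (2847, 151, true))))) (.node (.node (.node (.leaf (486, 0, false)) (.leaf (3025, 0, false))) (.node (.leaf (1944, 0, false)) (.leaf (3685, 0, false)))) (.node (.node (.leaf (292, 0, false)) (.leaf (1473, 0, false))) (.leaf (769, 0, false))))) (.node (.node (.node (.node (.leaf (275, 0, false)) (.leaf (1450, 87, false))) (.node (.leaf (1781, 0, false)) (.leaf (1874, 0, false)))) (.node (.node (.leaf (1084, 0, false)) (.leaf (3328, 0, false))) (.node (.leaf (2392, 0, false)) (.leaf (3090, 0, false))))) (.node (.node (.node (.leaf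 (694, 0, false)) (.leaf (3116, 40, false))) (.node (.leaf (2100, 0, false)) (.leaf (2410, 16, true)))) (.node (.node (.leaf (1451, 0, false)) (.leaf (1598, 0, false))) (.leaf (982, 39, true)))))) (.node (.node (.node (.node (.node (.leaf (170, 0, false)) (.leaf (2674, 128, false))) (.node (.leaf (1696, 0, false)) (.leaf (3412, 137, false)))) (.node (.node (.leaf (861, 40, false)) (.leaf (2800, 80, false))) (.node (.leaf (2316, 0, false)) (.leaf (2766, 0, false))))) (.node (.node (.node (.leaf (593, 0, false)) (.leaf (3068, 0, false))) (.node (.leaf (2027, 0, false)) (.leaf (2885, 109, false)))) (.node (.node (.leaf (1364, 0, false)) (.leaf (3459, 0, false))) (.leaf (1363, 118, true))))) (.node (.node (.node (.node (.leaf (78, 0, false)) (.leaf (2040, 61, false))) (.node (.leaf (1862, 0, false)) (.leaf (3502, 148, true)))) (.node (.node (.leaf (1172, 0, false)) (.leaf (2868, 40, false))) (.leaf (2471, 0, false)))) (.node (.node (.node (.leaf (799, 0, false)) (.leaf (1209, 0, false))) (.node (.leaf (1955, 156, false)) (.leaf (3576, 152, false)))) (.node (.node (.leaf (366,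 0, false)) (.leaf (2218, 13, true))) (.leaf (1755, 0, false)))))))) (.node (.node (.node (.node (.node (.node (.node (.leaf (33, 0, false)) (.leaf (901, 0, false))) (.node (.leaf (1147, 5, false)) (.leaf (3559, 0, false)))) (.node (.node (.leaf (869, 0, false)) (.leaf (3228, 0, false))) (.node (.leaf (2229, 0, false)) (.leaf (3752, 9, false))))) (.node (.node (.node (.leaf (461, 0, false)) (.leaf (3009, 0, false))) (.node (.leaf (502, 0, false)) (.leaf (3356, 140, true)))) (.node (.node (.leaf (1247, 0, false)) (.leaf (3200, 71, false))) (.leaf (903, 122, true))))) (.node (.node (.node (.node (.leaf (49, 0, false)) (.leaf (996, 0, false))) (.node (.leaf (1758, 0, false)) (.leaf (3286, 61, true)))) (.node (.node (.leaf (1062, 0, false)) (.leaf (1349, 0, false))) (.node (.leaf (2373, 0, false)) (.leaf (3522, 115, false))))) (.node (.node (.node (.leaf (666, 0, false)) (.leaf (1161, 0, false))) (.node (.leaf (2083, 0, false)) (.leaf (3631, 65, true)))) (.node (.node (.leaf (334, 0, false)) (.leaf (3480, 47, false))) (.leaf (2658, 0, false)))))) (.node (.node (.node (.node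 (.node (.leaf (142, 0, false)) (.leaf (950, 0, false))) (.node (.leaf (1676, 0, false)) (.leaf (2718, 57, false)))) (.node (.node (.leaf (210, 0, false)) (.leaf (1568, 145, true))) (.node (.leaf (2303, 0, false)) (.leaf (3150, 7, false))))) (.node (.node (.node (.leaf (568, 0, false)) (.leaf (3059, 0, false))) (.node (.leaf (2005, 0, false)) (.leaf (2648, 65, true)))) (.node (.node (.leaf (1341, 0, false)) (.leaf (1521, 0, false))) (.leaf (2381, 146, true))))) (.node (.node (.node (.node (.leaf (358, 0, false)) (.leaf (2964, 0, false))) (.node (.leaf (1842, 0, false)) (.leaf (3647, 0, false)))) (.node (.node (.leaf (1153, 0, false)) (.leaf (2477, 133, true))) (.leaf (2453, 0, false)))) (.node (.node (.node (.leaf (771, 0, false)) (.leaf (1201, 0, false))) (.node (.leaf (1094, 144, false)) (.leaf (3358, 126, false)))) (.node (.node (.leaf (359, 0, false)) (.leaf (3267, 69, true))) (.leaf (2721, 0, false))))))) (.node (.node (.node (.node (.node (.node (.leaf (90, 0, false)) (.leaf (923, 0, false))) (.node (.leaf (1632, 0, false)) (.leaf (3074, 38, true)))) (.node (.node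 (.leaf (922, 0, false)) (.leaf (3249, 0, false))) (.node (.leaf (2263, 0, false)) (.leaf (3108, 46, false))))) (.node (.node (.node (.leaf (106, 0, false)) (.leaf (1103, 0, false))) (.node (.leaf (564, 25, true)) (.leaf (3337, 74, false)))) (.node (.node (.leaf (832, 158, true)) (.leaf (1493, 0, false))) (.leaf (2569, 0, false))))) (.node (.node (.node (.node (.leaf (302, 0, false)) (.leaf (1017, 0, false))) (.node (.leaf (1800, 0, false)) (.leaf (3291, 10, false)))) (.node (.node (.leaf (1106, 0, false)) (.leaf (3343, 0, false))) (.node (.leaf (2413, 0, false)) (.leaf (3603, 79, true))))) (.node (.node (.node (.leaf (154, 0, false)) (.leaf (3147, 0, false))) (.node (.leaf (2115, 0, false)) (.leaf (3493, 84, false)))) (.node (.node (.leaf (346, 0, false)) (.leaf (3495, 13, true))) (.leaf (2609, 139, false)))))) (.node (.node (.node (.node (.node (.leaf (197, 0, false)) (.leaf (2615, 51, true))) (.node (.leaf (1717, 0, false)) (.leaf (3604, 0, false)))) (.node (.node (.leaf (224, 0, false)) (.leaf (1759, 153, true))) (.node (.leaf (2334, 0, false)) (.leaf (2946, 154, true)))))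 (.node (.node (.node (.leaf (617, 0, false)) (.leaf (2516, 15, true))) (.node (.leaf (2047, 0, false)) (.leaf (3079, 50, true)))) (.node (.node (.leaf (737, 39, true)) (.leaf (1557, 0, false))) (.leaf (2458, 86, false))))) (.node (.node (.node (.node (.leaf (84, 0, false)) (.leaf (1060, 0, false))) (.node (.leaf (1884, 0, false)) (.leaf (3664, 0, false)))) (.node (.node (.leaf (273, 0, false)) (.leaf (1429, 0, false))) (.leaf (2492, 0, false)))) (.node (.node (.node (.leaf (177, 0, false)) (.leaf (2794, 31, true))) (.node (.leaf (2194, 0, false)) (.leaf (3478, 35, false)))) (.node (.node (.leaf (1544, 0, false)) (.leaf (1692, 0, false))) (.leaf (2506, 103, true)))))))))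

def schY4 : Janko.Tree (ℕ × ℕ × Bool) :=
  (.node (.node (.node (.node (.node (.node (.node (.node (.leaf (10, 0, false)) (.leaf (2774, 0, false))) (.node (.leaf (1011, 97, false)) (.leaf (1993, 133, true)))) (.node (.node (.leaf (183, 0, false)) (.leaf (1303, 146, false))) (.node (.leaf (620, 0, false)) (.leaf (3355, 85, false))))) (.node (.node (.node (.leaf (435, 0, false)) (.leaf (2998, 0, false))) (.node (.leaf (1905, 0, false)) (.leaf (3307, 130, true)))) (.node (.node (.leaf (1227, 0, false)) (.leaf (1443, 0, false))) (.leaf (756, 0, false))))) (.node (.node (.node (.node (.leaf (44, 0, false)) (.leaf (2796, 85, true))) (.node (.leaf (1737, 0, false)) (.leaf (3139, 4, true)))) (.node (.node (.leaf (1040, 0, false)) (.leaf (3306, 0, false))) (.node (.leaf (2353, 0, false)) (.leaf (3748, 89, true))))) (.node (.node (.node (.leaf (643, 0, false)) (.leaf (1996, 133, true))) (.node (.leaf (1958, 109, false)) (.leaf (2214, 0, false)))) (.node (.node (.leaf (329, 0, false)) (.leaf (2596, 158, false))) (.leaf (825, 0, false)))))) (.node (.node (.node (.node (.node (.leaf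 (117, 0, false)) (.leaf (2836, 0, false))) (.node (.leaf (1654, 0, false)) (.leaf (3135, 24, false)))) (.node (.node (.leaf (949, 0, false)) (.leaf (1721, 110, false))) (.node (.leaf (2285, 0, false)) (.leaf (2673, 0, false))))) (.node (.node (.node (.leaf (542, 0, false)) (.leaf (2069, 119, false))) (.node (.leaf (1990, 0, false)) (.leaf (3701, 0, false)))) (.node (.node (.leaf (1318, 0, false)) (.leaf (3246, 96, false))) (.leaf (788, 0, false))))) (.node (.node (.node (.node (.leaf (332, 0, false)) (.leaf (1295, 125, false))) (.node (.leaf (465, 0, false)) (.leaf (1922, 0, false)))) (.node (.node (.leaf (1133, 0, false)) (.leaf (3353, 0, false))) (.leaf (2320, 13, true)))) (.node (.node (.node (.leaf (746, 0, false)) (.leaf (3162, 0, false))) (.node (.leaf (1213, 159, false)) (.leaf (3635, 66, false)))) (.node (.node (.leaf (921, 39, true)) (.leaf (1646, 0, false))) (.leaf (2703, 0, false))))))) (.node (.node (.node (.node (.node (.node (.leaf (62, 0, false)) (.leaf (1010, 140, true))) (.node (.leaf (1610, 0, false)) (.leaf (3524, 139, false)))) (.node (.node (.leaf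 (897, 0, false)) (.leaf (2399, 58, true))) (.node (.leaf (637, 0, false)) (.leaf (3341, 84, false))))) (.node (.node (.node (.leaf (487, 0, false)) (.leaf (1093, 0, false))) (.node (.leaf (1946, 0, false)) (.leaf (2236, 47, true)))) (.node (.node (.leaf (1268, 0, false)) (.leaf (2071, 130, true))) (.leaf (2549, 0, false))))) (.node (.node (.node (.node (.leaf (277, 0, false)) (.leaf (2902, 98, true))) (.node (.leaf (1782, 0, false)) (.leaf (3622, 48, false)))) (.node (.node (.leaf (1086, 0, false)) (.leaf (3330, 0, false))) (.node (.leaf (2394, 0, false)) (.leaf (3589, 11, true))))) (.node (.node (.node (.leaf (695, 0, false)) (.leaf (1173, 0, false))) (.node (.leaf (1204, 29, false)) (.leaf (2264, 0, false)))) (.node (.node (.leaf (1007, 28, false)) (.leaf (3320, 99, true))) (.leaf (2675, 0, false)))))) (.node (.node (.node (.node (.node (.leaf (171, 0, false)) (.leaf (961, 0, false))) (.node (.leaf (1698, 0, false)) (.leaf (1792, 0, false)))) (.node (.node (.leaf (998, 0, false)) (.leaf (1313, 0, false))) (.node (.leaf (1675, 8, false)) (.leaf (3772, 0, false))))) (.node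 (.node (.node (.leaf (595, 0, false)) (.leaf (1132, 0, false))) (.node (.leaf (537, 0, false)) (.leaf (2465, 129, false)))) (.node (.node (.leaf (955, 25, true)) (.leaf (3460, 0, false))) (.leaf (808, 0, false))))) (.node (.node (.node (.node (.leaf (385, 0, false)) (.leaf (1050, 0, false))) (.node (.leaf (1864, 0, false)) (.leaf (2481, 4, true)))) (.node (.node (.leaf (1174, 0, false)) (.leaf (3371, 0, false))) (.leaf (2473, 0, false)))) (.node (.node (.node (.leaf (800, 0, false)) (.leaf (2862, 105, true))) (.node (.leaf (603, 0, false)) (.leaf (3015, 13, true)))) (.node (.node (.leaf (1524, 0, false)) (.leaf (1804, 45, false))) (.leaf (874, 0, false)))))))) (.node (.node (.node (.node (.node (.node (.node (.leaf (35, 0, false)) (.leaf (2788, 0, false))) (.node (.leaf (1590, 0, false)) (.leaf (1725, 0, false)))) (.node (.node (.leaf (871, 0, false)) (.leaf (2461, 1, false))) (.node (.leaf (738, 41, true)) (.leaf (2523, 0, false))))) (.node (.node (.node (.leaf (463, 0, false)) (.leaf (2368, 72, false))) (.node (.leaf (1367, 32, true)) (.leaf (2028, 0, false)))) (.node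 (.node (.leaf (1248, 0, false)) (.leaf (3403, 0, false))) (.leaf (2533, 0, false))))) (.node (.node (.node (.node (.leaf (250, 0, false)) (.leaf (2877, 90, false))) (.node (.leaf (448, 0, false)) (.leaf (3624, 0, false)))) (.node (.node (.leaf (1064, 0, false)) (.leaf (2749, 4, true))) (.node (.leaf (2374, 0, false)) (.leaf (3236, 158, false))))) (.node (.node (.node (.leaf (667, 0, false)) (.leaf (2302, 144, false))) (.node (.leaf (2085, 0, false)) (.leaf (3727, 0, false)))) (.node (.node (.leaf (1432, 0, false)) (.leaf (1584, 0, false))) (.leaf (2659, 0, false)))))) (.node (.node (.node (.node (.node (.leaf (144, 0, false)) (.leaf (951, 0, false))) (.node (.leaf (418, 0, false)) (.leaf (3587, 0, false)))) (.node (.node (.leaf (973, 0, false)) (.leaf (3271, 0, false))) (.node (.leaf (2304, 0, false)) (.leaf (2768, 37, false))))) (.node (.node (.node (.leaf (570, 0, false)) (.leaf (2672, 46, true))) (.node (.leaf (2007, 0, false)) (.leaf (3707, 0, false)))) (.node (.node (.leaf (1343, 0, false)) (.leaf (1523, 0, false))) (.leaf (1819, 109, false))))) (.node (.node (.node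 (.node (.leaf (360, 0, false)) (.leaf (2893, 116, true))) (.node (.leaf (471, 0, false)) (.leaf (3368, 68, true)))) (.node (.node (.leaf (294, 156, false)) (.leaf (2420, 94, true))) (.leaf (2017, 128, false)))) (.node (.node (.node (.leaf (773, 0, false)) (.leaf (1719, 55, false))) (.node (.leaf (2154, 0, false)) (.leaf (3741, 0, false)))) (.node (.node (.leaf (1504, 0, false)) (.leaf (1657, 0, false))) (.leaf (1835, 81, false))))))) (.node (.node (.node (.node (.node (.node (.leaf (91, 0, false)) (.leaf (2820, 0, false))) (.node (.leaf (1633, 0, false)) (.leaf (2011, 141, true)))) (.node (.node (.leaf (924, 0, false)) (.leaf (3037, 47, true))) (.node (.leaf (2265, 0, false)) (.leaf (3374, 3, true))))) (.node (.node (.node (.leaf (514, 0, false)) (.leaf (2447, 158, false))) (.node (.leaf (1963, 0, false)) (.leaf (3691, 0, false)))) (.node (.node (.leaf (1234, 2, false)) (.leaf (2066, 40, false))) (.leaf (2570, 0, false))))) (.node (.node (.node (.node (.leaf (61, 0, false)) (.leaf (2927, 0, false))) (.node (.leaf (1802, 0, false)) (.leaf (3299, 14, true)))) (.node (.node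 (.leaf (1108, 0, false)) (.leaf (2981, 138, false))) (.node (.leaf (712, 0, false)) (.leaf (3475, 20, true))))) (.node (.node (.node (.leaf (718, 0, false)) (.leaf (1182, 0, false))) (.node (.leaf (1821, 72, true)) (.leaf (2558, 40, false)))) (.node (.node (.leaf (1449, 38, true)) (.leaf (2454, 42, false))) (.leaf (2688, 0, false)))))) (.node (.node (.node (.node (.node (.leaf (199, 0, false)) (.leaf (2878, 0, false))) (.node (.leaf (1718, 0, false)) (.leaf (1803, 0, false)))) (.node (.node (.leaf (306, 113, true)) (.leaf (1948, 63, true))) (.node (.leaf (2335, 0, false)) (.leaf (3210, 130, false))))) (.node (.node (.node (.leaf (129, 0, false)) (.leaf (2125, 118, false))) (.node (.leaf (2049, 0, false)) (.leaf (2918, 51, true)))) (.node (.node (.leaf (1387, 0, false)) (.leaf (3384, 37, false))) (.leaf (2625, 0, false))))) (.node (.node (.node (.node (.leaf (410, 0, false)) (.leaf (2628, 66, false))) (.node (.leaf (488, 0, false)) (.leaf (3656, 57, true)))) (.node (.node (.leaf (1200, 0, false)) (.leaf (3115, 59, true))) (.leaf (752, 97, false)))) (.node (.node (.node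 (.leaf (821, 0, false)) (.leaf (3205, 0, false))) (.node (.leaf (2195, 0, false)) (.leaf (3177, 148, false)))) (.node (.node (.leaf (375, 0, false)) (.leaf (1697, 0, false))) (.leaf (2754, 0, false)))))))))

def schY5 : Janko.Tree (ℕ × ℕ × Bool) :=
  (.node (.node (.node (.node (.node (.node (.node (.node (.leaf (12, 0, false)) (.leaf (1880, 106, true))) (.node (.leaf (1567, 0, false)) (.leaf (3551, 0, false)))) (.node (.node (.leaf (845, 0, false)) (.leaf (3217, 0, false))) (.node (.leaf (2217, 0, false)) (.leaf (3716, 52, true))))) (.node (.node (.node (.leaf (437, 0, false)) (.leaf (2999, 0, false))) (.node (.leaf (1416, 38, true)) (.leaf (3674, 0, false)))) (.node (.node (.leaf (279, 0, false)) (.leaf (1950, 116, true))) (.leaf (2515, 0, false))))) (.node (.node (.node (.node (.leaf (225, 0, false)) (.leaf (1620, 5, false))) (.node (.leaf (1739, 0, false)) (.leaf (1848, 149, false)))) (.node (.node (.leaf (1042, 0, false)) (.leaf (2661, 44, true))) (.node (.leaf (2355, 0, false)) (.leaf (2881, 0, false))))) (.node (.node (.node (.leaf (136, 0, false)) (.leaf (3103,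 0, false))) (.node (.leaf (551, 0, false)) (.leaf (3383, 105, true)))) (.node (.node (.leaf (1411, 0, false)) (.leaf (3269, 79, true))) (.leaf (1466, 17, true)))))) (.node (.node (.node (.node (.node (.leaf (119, 0, false)) (.leaf (2837, 0, false))) (.node (.leaf (1655, 0, false)) (.leaf (1768, 0, false)))) (.node (.node (.leaf (205, 0, false)) (.leaf (2633, 72, false))) (.node (.leaf (2287, 0, false)) (.leaf (3077, 141, false))))) (.node (.node (.node (.leaf (543, 0, false)) (.leaf (2305, 13, true))) (.node (.leaf (1992, 0, false)) (.leaf (2104, 0, false)))) (.node (.node (.leaf (1320, 0, false)) (.leaf (2861, 10, true))) (.leaf (2312, 52, false))))) (.node (.node (.node (.node (.leaf (67, 0, false)) (.leaf (1288, 152, false))) (.node (.leaf (1825, 0, false)) (.leaf (2600, 15, true)))) (.node (.node (.leaf (1135, 0, false)) (.leaf (3354, 0, false))) (.leaf (723, 0, false)))) (.node (.node (.node (.leaf (747, 0, false)) (.leaf (3164, 0, false))) (.node (.leaf (2137, 0, false)) (.leaf (3729, 58, false)))) (.node (.node (.leaf (1233, 107, false)) (.leaf (1648, 0, false)))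 (.leaf (2704, 0, false))))))) (.node (.node (.node (.node (.node (.node (.leaf (64, 0, false)) (.leaf (2618, 129, false))) (.node (.leaf (1407, 128, true)) (.leaf (2356, 43, false)))) (.node (.node (.leaf (898, 0, false)) (.leaf (1812, 0, false))) (.node (.leaf (914, 145, false)) (.leaf (3658, 139, false))))) (.node (.node (.node (.leaf (489, 0, false)) (.leaf (2835, 155, true))) (.node (.leaf (509, 0, false)) (.leaf (2963, 16, false)))) (.node (.node (.leaf (1270, 0, false)) (.leaf (1908, 73, true))) (.leaf (2551, 0, false))))) (.node (.node (.node (.node (.leaf (278, 0, false)) (.leaf (1286, 89, false))) (.node (.leaf (1784, 0, false)) (.leaf (3484, 124, false)))) (.node (.node (.leaf (1087, 0, false)) (.leaf (2224, 148, true))) (.node (.leaf (2396, 0, false)) (.leaf (3591, 97, false))))) (.node (.node (.node (.leaf (696, 0, false)) (.leaf (3129, 0, false))) (.node (.leaf (2102, 0, false)) (.leaf (3527, 92, true)))) (.node (.node (.leaf (1454, 0, false)) (.leaf (2022, 57, true))) (.leaf (841, 0, false)))))) (.node (.node (.node (.node (.node (.leaf (173, 0, false))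 (.leaf (2864, 0, false))) (.node (.leaf (426, 0, false)) (.leaf (3596, 0, false)))) (.node (.node (.leaf (999, 0, false)) (.leaf (1976, 44, true))) (.node (.leaf (2317, 0, false)) (.leaf (3429, 55, true))))) (.node (.node (.node (.leaf (597, 0, false)) (.leaf (3070, 0, false))) (.node (.leaf (1618, 158, true)) (.leaf (3363, 15, false)))) (.node (.node (.leaf (1366, 0, false)) (.leaf (1539, 0, false))) (.leaf (2606, 0, false))))) (.node (.node (.node (.node (.leaf (363, 8, true)) (.leaf (2979, 0, false))) (.node (.leaf (1866, 0, false)) (.leaf (3029, 58, false)))) (.node (.node (.leaf (392, 95, false)) (.leaf (2372, 105, true))) (.leaf (2474, 0, false)))) (.node (.node (.node (.leaf (801, 0, false)) (.leaf (2597, 0, false))) (.node (.leaf (1501, 10, true)) (.leaf (3726, 46, false)))) (.node (.node (.leaf (1526, 0, false)) (.leaf (3347, 104, false))) (.leaf (2738, 0, false)))))))) (.node (.node (.node (.node (.node (.node (.node (.leaf (37, 0, false)) (.leaf (2789, 0, false))) (.node (.leaf (1592, 0, false)) (.leaf (3561, 0, false)))) (.node (.node (.leaf (873, 0, false))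 (.leaf (1778, 66, true))) (.node (.leaf (2232, 0, false)) (.leaf (3645, 41, true))))) (.node (.node (.node (.leaf (96, 0, false)) (.leaf (3010, 0, false))) (.node (.leaf (1924, 0, false)) (.leaf (2029, 0, false)))) (.node (.node (.leaf (1249, 0, false)) (.leaf (3404, 0, false))) (.leaf (763, 0, false))))) (.node (.node (.node (.node (.leaf (252, 0, false)) (.leaf (2903, 0, false))) (.node (.leaf (1761, 0, false)) (.leaf (1843, 0, false)))) (.node (.node (.leaf (787, 119, false)) (.leaf (3076, 4, false))) (.node (.leaf (2376, 0, false)) (.leaf (3737, 36, true))))) (.node (.node (.node (.leaf (143, 0, false)) (.leaf (3117, 0, false))) (.node (.leaf (2087, 0, false)) (.leaf (3710, 106, true)))) (.node (.node (.leaf (1434, 0, false)) (.leaf (3295, 55, false))) (.leaf (2660, 0, false)))))) (.node (.node (.node (.node (.node (.leaf (145, 0, false)) (.leaf (2851, 0, false))) (.node (.leaf (1340, 120, true)) (.leaf (3588, 0, false)))) (.node (.node (.leaf (975, 0, false)) (.leaf (3272, 0, false))) (.node (.leaf (663, 0, false)) (.leaf (3768, 0, false))))) (.node (.node (.node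 (.leaf (572, 0, false)) (.leaf (1486, 43, false))) (.node (.leaf (2009, 0, false)) (.leaf (3708, 0, false)))) (.node (.node (.leaf (1237, 107, false)) (.leaf (2915, 69, true))) (.leaf (2422, 47, true))))) (.node (.node (.node (.node (.leaf (362, 0, false)) (.leaf (2966, 0, false))) (.node (.leaf (522, 8, true)) (.leaf (1945, 0, false)))) (.node (.node (.leaf (594, 12, false)) (.leaf (1397, 0, false))) (.leaf (733, 0, false)))) (.node (.node (.node (.leaf (774, 0, false)) (.leaf (1202, 0, false))) (.node (.leaf (2156, 0, false)) (.leaf (2680, 110, false)))) (.node (.node (.leaf (1506, 0, false)) (.leaf (3487, 148, true))) (.leaf (1891, 96, true))))))) (.node (.node (.node (.node (.node (.node (.leaf (93, 0, false)) (.leaf (2821, 0, false))) (.node (.leaf (1635, 0, false)) (.leaf (2113, 44, false)))) (.node (.node (.leaf (761, 99, true)) (.leaf (3247, 124, false))) (.node (.leaf (1883, 97, false)) (.leaf (3754, 0, true))))) (.node (.node (.node (.leaf (516, 0, false)) (.leaf (2621, 28, false))) (.node (.leaf (1965, 0, false)) (.leaf (2086, 0, false)))) (.node (.node (.leaf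 (1294, 0, false)) (.leaf (1994, 55, false))) (.leaf (2331, 147, true))))) (.node (.node (.node (.node (.leaf (305, 0, false)) (.leaf (2298, 151, false))) (.node (.leaf (460, 0, false)) (.leaf (1902, 0, false)))) (.node (.node (.leaf (1109, 0, false)) (.leaf (3344, 0, false))) (.node (.leaf (2415, 0, false)) (.leaf (3759, 96, false))))) (.node (.node (.node (.leaf (720, 0, false)) (.leaf (3149, 0, false))) (.node (.leaf (1381, 46, true)) (.leaf (3426, 57, false)))) (.node (.node (.leaf (504, 7, false)) (.leaf (3481, 158, false))) (.leaf (2689, 0, false)))))) (.node (.node (.node (.node (.node (.leaf (39, 0, false)) (.leaf (2879, 0, false))) (.node (.leaf (1720, 0, false)) (.leaf (3606, 0, false)))) (.node (.node (.leaf (909, 145, false)) (.leaf (1328, 0, false))) (.node (.leaf (2336, 0, false)) (.leaf (3736, 3, true))))) (.node (.node (.node (.leaf (619, 0, false)) (.leaf (3086, 0, false))) (.node (.leaf (2051, 0, false)) (.leaf (3023, 103, false)))) (.node (.node (.leaf (425, 128, true)) (.leaf (1736, 151, false))) (.leaf (2245, 2, false))))) (.node (.node (.node (.node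 (.leaf (85, 0, false)) (.leaf (1425, 72, false))) (.node (.leaf (1383, 31, false)) (.leaf (3665, 0, false)))) (.node (.node (.leaf (274, 0, false)) (.leaf (1431, 0, false))) (.leaf (748, 0, false)))) (.node (.node (.node (.leaf (823, 0, false)) (.leaf (1553, 109, false))) (.node (.leaf (2197, 0, false)) (.leaf (2826, 76, true)))) (.node (.node (.leaf (517, 156, false)) (.leaf (2717, 152, false))) (.leaf (1930, 103, false)))))))))

def schY6 : Janko.Tree (ℕ × ℕ × Bool) :=
  (.node (.node (.node (.node (.node (.node (.node (.node (.leaf (0, 0, false)) (.leaf (2776, 0, false))) (.node (.leaf (384, 0, false)) (.leaf (3552, 0, false)))) (.node (.node (.leaf (184, 0, false)) (.leaf (2683, 148, false))) (.node (.leaf (2084, 61, true)) (.leaf (2498, 0, false))))) (.node (.node (.node (.leaf (438, 0, false)) (.leaf (2996, 71, false))) (.node (.leaf (1536, 114, true)) (.leaf (3496, 39, true)))) (.node (.node (.leaf (1230, 0, false)) (.leaf (3166, 134, true))) (.leaf (2517, 0, false))))) (.node (.node (.node (.node (.leaf (227, 0, false)) (.leaf (986, 0, false))) (.node (.leaf (1741,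 0, false)) (.leaf (3617, 0, false)))) (.node (.node (.leaf (1043, 0, false)) (.leaf (1456, 79, true))) (.node (.leaf (2357, 0, false)) (.leaf (3144, 63, true))))) (.node (.node (.node (.leaf (645, 0, false)) (.leaf (3105, 0, false))) (.node (.leaf (2070, 0, false)) (.leaf (3417, 9, false)))) (.node (.node (.leaf (1413, 0, false)) (.leaf (3483, 0, false))) (.leaf (1641, 59, true)))))) (.node (.node (.node (.node (.node (.leaf (23, 0, false)) (.leaf (1991, 0, false))) (.node (.leaf (1656, 0, false)) (.leaf (3579, 0, false)))) (.node (.node (.leaf (952, 0, false)) (.leaf (2647, 135, true))) (.node (.leaf (1777, 126, false)) (.leaf (3730, 110, false))))) (.node (.node (.node (.leaf (545, 0, false)) (.leaf (2793, 45, false))) (.node (.leaf (1437, 45, false)) (.leaf (2985, 120, true)))) (.node (.node (.leaf (1322, 0, false)) (.leaf (2439, 10, false))) (.leaf (790, 0, false))))) (.node (.node (.node (.node (.leaf (335, 0, false)) (.leaf (1029, 0, false))) (.node (.leaf (1827, 0, false)) (.leaf (3482, 158, false)))) (.node (.node (.leaf (258, 0, false)) (.leaf (1622, 105, true)))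 (.leaf (726, 0, false)))) (.node (.node (.node (.leaf (749, 0, false)) (.leaf (1194, 0, false))) (.node (.leaf (868, 73, true)) (.leaf (2345, 0, false)))) (.node (.node (.leaf (838, 31, false)) (.leaf (3004, 93, true))) (.leaf (2281, 107, true))))))) (.node (.node (.node (.node (.node (.node (.leaf (66, 0, false)) (.leaf (2801, 0, false))) (.node (.leaf (399, 0, false)) (.leaf (3566, 0, false)))) (.node (.node (.leaf (900, 0, false)) (.leaf (1898, 45, false))) (.node (.leaf (2250, 0, false)) (.leaf (3732, 54, true))))) (.node (.node (.node (.leaf (439, 39, true)) (.leaf (3028, 0, false))) (.node (.leaf (1856, 3, false)) (.leaf (2059, 0, false)))) (.node (.node (.leaf (1271, 0, false)) (.leaf (1477, 0, false))) (.leaf (2552, 0, false))))) (.node (.node (.node (.node (.leaf (280, 0, false)) (.leaf (2916, 0, false))) (.node (.leaf (455, 0, false)) (.leaf (2626, 31, true)))) (.node (.node (.leaf (244, 0, false)) (.leaf (3104, 106, false))) (.node (.leaf (705, 0, false)) (.leaf (3535, 124, true))))) (.node (.node (.node (.leaf (149, 0, false)) (.leaf (3130, 0, false))) (.node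 (.leaf (2103, 0, false)) (.leaf (2993, 27, false)))) (.node (.node (.leaf (383, 71, true)) (.leaf (1605, 0, false))) (.leaf (2200, 2, false)))))) (.node (.node (.node (.node (.node (.leaf (175, 0, false)) (.leaf (963, 0, false))) (.node (.leaf (607, 79, true)) (.leaf (3569, 40, false)))) (.node (.node (.leaf (1001, 0, false)) (.leaf (3283, 0, false))) (.node (.leaf (2319, 0, false)) (.leaf (2988, 119, false))))) (.node (.node (.node (.leaf (123, 0, false)) (.leaf (2951, 13, true))) (.node (.leaf (2030, 0, false)) (.leaf (3618, 113, true)))) (.node (.node (.leaf (1368, 0, false)) (.leaf (2977, 95, true))) (.leaf (2608, 0, false))))) (.node (.node (.node (.node (.leaf (387, 0, false)) (.leaf (1326, 33, false))) (.node (.leaf (1867, 0, false)) (.leaf (3657, 0, false)))) (.node (.node (.leaf (1176, 0, false)) (.leaf (1418, 33, false))) (.leaf (780, 101, true)))) (.node (.node (.node (.leaf (172, 0, false)) (.leaf (3087, 116, true))) (.node (.leaf (2179, 0, false)) (.leaf (3747, 0, false)))) (.node (.node (.leaf (368, 0, false)) (.leaf (2746, 79, false))) (.leaf (2740, 0,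 false)))))))) (.node (.node (.node (.node (.node (.node (.node (.leaf (5, 0, false)) (.leaf (2791, 0, false))) (.node (.leaf (1594, 0, false)) (.leaf (3562, 0, false)))) (.node (.node (.leaf (875, 0, false)) (.leaf (3231, 0, false))) (.node (.leaf (2234, 0, false)) (.leaf (3293, 19, false))))) (.node (.node (.node (.leaf (466, 0, false)) (.leaf (3012, 0, false))) (.node (.leaf (1925, 0, false)) (.leaf (2708, 133, false)))) (.node (.node (.leaf (1251, 0, false)) (.leaf (2906, 157, false))) (.leaf (1926, 136, false))))) (.node (.node (.node (.node (.leaf (253, 0, false)) (.leaf (1105, 105, false))) (.node (.leaf (1724, 72, false)) (.leaf (2697, 133, true)))) (.node (.node (.leaf (1066, 0, false)) (.leaf (3322, 0, false))) (.node (.leaf (2378, 0, false)) (.leaf (3146, 74, true))))) (.node (.node (.node (.leaf (670, 0, false)) (.leaf (2310, 17, true))) (.node (.leaf (1573, 71, true)) (.leaf (3226, 52, false)))) (.node (.node (.leaf (1435, 0, false)) (.leaf (1586, 0, false))) (.leaf (1571, 36, false)))))) (.node (.node (.node (.node (.node (.leaf (147, 0, false)) (.leaf (2429,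 5, false))) (.node (.leaf (1679, 0, false)) (.leaf (3127, 79, true)))) (.node (.node (.leaf (976, 0, false)) (.leaf (2037, 12, true))) (.node (.leaf (2041, 119, false)) (.leaf (3642, 4, true))))) (.node (.node (.node (.leaf (118, 0, false)) (.leaf (3060, 0, false))) (.node (.leaf (531, 0, false)) (.leaf (3574, 28, false)))) (.node (.node (.leaf (1346, 0, false)) (.leaf (3452, 0, false))) (.leaf (2592, 0, false))))) (.node (.node (.node (.node (.leaf (73, 0, false)) (.leaf (1180, 97, false))) (.node (.leaf (1846, 0, false)) (.leaf (3649, 0, false)))) (.node (.node (.leaf (1154, 0, false)) (.leaf (3232, 53, true))) (.leaf (2455, 0, false)))) (.node (.node (.node (.leaf (776, 0, false)) (.leaf (3180, 0, false))) (.node (.leaf (2158, 0, false)) (.leaf (3719, 8, true)))) (.node (.node (.leaf (1507, 0, false)) (.leaf (3526, 0, false))) (.leaf (2723, 0, false))))))) (.node (.node (.node (.node (.node (.node (.leaf (95, 0, false)) (.leaf (2562, 96, true))) (.node (.leaf (1637, 0, false)) (.leaf (1760, 0, false)))) (.node (.node (.leaf (926, 0, false)) (.leaf (2598, 159, false)))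 (.node (.leaf (721, 92, false)) (.leaf (3474, 129, false))))) (.node (.node (.node (.leaf (518, 0, false)) (.leaf (1282, 87, true))) (.node (.leaf (1967, 0, false)) (.leaf (3694, 0, false)))) (.node (.node (.leaf (1296, 0, false)) (.leaf (3433, 0, false))) (.leaf (779, 0, false))))) (.node (.node (.node (.node (.leaf (307, 0, false)) (.leaf (2930, 0, false))) (.node (.leaf (1805, 0, false)) (.leaf (2896, 109, false)))) (.node (.node (.leaf (927, 118, true)) (.leaf (1376, 0, false))) (.node (.leaf (2417, 0, false)) (.leaf (3773, 25, true))))) (.node (.node (.node (.leaf (722, 0, false)) (.leaf (3151, 0, false))) (.node (.leaf (2119, 0, false)) (.leaf (2991, 29, false)))) (.node (.node (.leaf (1471, 0, false)) (.leaf (1727, 116, true))) (.leaf (2690, 0, false)))))) (.node (.node (.node (.node (.node (.leaf (202, 0, false)) (.leaf (1838, 55, false))) (.node (.leaf (1722, 0, false)) (.leaf (2892, 50, false)))) (.node (.node (.leaf (1022, 0, false)) (.leaf (1329, 0, false))) (.node (.leaf (2338, 0, false)) (.leaf (3723, 19, true))))) (.node (.node (.node (.leaf (621, 0, false))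 (.leaf (2732, 159, false))) (.node (.leaf (544, 0, false)) (.leaf (2183, 0, false)))) (.node (.node (.leaf (1390, 0, false)) (.leaf (1740, 40, false))) (.leaf (2627, 0, false))))) (.node (.node (.node (.node (.leaf (413, 0, false)) (.leaf (2987, 0, false))) (.node (.leaf (1888, 0, false)) (.leaf (1988, 0, false)))) (.node (.node (.leaf (1203, 0, false)) (.leaf (1433, 0, false))) (.leaf (2495, 0, false)))) (.node (.node (.node (.leaf (824, 0, false)) (.leaf (3207, 0, false))) (.node (.leaf (2199, 0, false)) (.leaf (2846, 76, true)))) (.node (.node (.leaf (1547, 0, false)) (.leaf (1961, 149, true))) (.leaf (884, 0, false)))))))))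

def schY7 : Janko.Tree (ℕ × ℕ × Bool) :=
  (.node (.node (.node (.node (.node (.node (.node (.node (.leaf (13, 0, false)) (.leaf (1687, 94, false))) (.node (.leaf (1570, 0, false)) (.leaf (3100, 21, true)))) (.node (.node (.leaf (848, 0, false)) (.leaf (1279, 25, true))) (.node (.leaf (2220, 0, false)) (.leaf (3563, 116, true))))) (.node (.node (.node (.leaf (440, 0, false)) (.leaf (3001, 0, false))) (.node (.leaf (496, 0, false)) (.leaf (2012, 0, false)))) (.node (.node (.leaf (1232, 0, false)) (.leaf (1446, 0, false))) (.leaf (2519, 0, false))))) (.node (.node (.node (.node (.leaf (229, 0, false)) (.leaf (2889, 0, false))) (.node (.leaf (1742, 0, false)) (.leaf (2157, 87, false)))) (.node (.node (.leaf (1045, 0, false)) (.leaf (2744, 65, false))) (.node (.leaf (689, 0, false)) (.leaf (3728, 13, true))))) (.node (.node (.node (.leaf (513, 5, false)) (.leaf (2178, 109, true))) (.node (.leaf (553, 0, false)) (.leaf (3244, 66, true)))) (.node (.node (.leaf (1211, 106, false)) (.leaf (1709, 92, false))) (.leaf (2564, 68, true)))))) (.node (.node (.node (.node (.node (.leaf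 (122, 0, false)) (.leaf (941, 0, false))) (.node (.leaf (1658, 0, false)) (.leaf (2604, 13, true)))) (.node (.node (.leaf (954, 0, false)) (.leaf (2730, 39, true))) (.node (.leaf (656, 0, false)) (.leaf (2681, 0, false))))) (.node (.node (.node (.leaf (547, 0, false)) (.leaf (3046, 0, false))) (.node (.leaf (1995, 0, false)) (.leaf (2943, 138, false)))) (.node (.node (.leaf (1324, 0, false)) (.leaf (3445, 0, false))) (.leaf (2582, 0, false))))) (.node (.node (.node (.node (.leaf (337, 0, false)) (.leaf (2362, 9, false))) (.node (.leaf (735, 31, false)) (.leaf (3643, 0, false)))) (.node (.node (.leaf (1047, 97, false)) (.leaf (2186, 7, true))) (.leaf (2440, 0, false)))) (.node (.node (.node (.leaf (750, 0, false)) (.leaf (3165, 0, false))) (.node (.leaf (2140, 0, false)) (.leaf (3507, 5, false)))) (.node (.node (.leaf (1096, 142, true)) (.leaf (3088, 92, false))) (.leaf (2705, 0, false))))))) (.node (.node (.node (.node (.node (.node (.leaf (68, 0, false)) (.leaf (2803, 0, false))) (.node (.leaf (1613, 0, false)) (.leaf (1938, 116, false)))) (.node (.node (.leaf (902,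 0, false)) (.leaf (1267, 0, false))) (.node (.leaf (1772, 90, true)) (.leaf (3756, 92, false))))) (.node (.node (.node (.leaf (102, 0, false)) (.leaf (1979, 45, false))) (.node (.leaf (1949, 0, false)) (.leaf (2221, 47, true)))) (.node (.node (.leaf (1272, 0, false)) (.leaf (3421, 0, false))) (.leaf (2553, 0, false))))) (.node (.node (.node (.node (.leaf (282, 0, false)) (.leaf (2529, 51, true))) (.node (.leaf (1786, 0, false)) (.leaf (3276, 155, true)))) (.node (.node (.leaf (1070, 43, true)) (.leaf (3124, 63, false))) (.node (.leaf (2398, 0, false)) (.leaf (3765, 151, true))))) (.node (.node (.node (.leaf (699, 0, false)) (.leaf (3132, 0, false))) (.node (.leaf (567, 0, false)) (.leaf (2306, 92, false)))) (.node (.node (.leaf (341, 0, false)) (.leaf (2249, 0, false))) (.leaf (2677, 0, false)))))) (.node (.node (.node (.node (.node (.leaf (34, 0, false)) (.leaf (1514, 66, false))) (.node (.leaf (1700, 0, false)) (.leaf (1795, 0, false)))) (.node (.node (.leaf (218, 0, false)) (.leaf (1844, 26, true))) (.node (.leaf (1953, 139, false)) (.leaf (2792, 0, false))))) (.node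 (.node (.node (.leaf (600, 0, false)) (.leaf (3071, 0, false))) (.node (.leaf (2031, 0, false)) (.leaf (3498, 10, false)))) (.node (.node (.leaf (318, 0, false)) (.leaf (3043, 92, false))) (.leaf (2610, 0, false))))) (.node (.node (.node (.node (.leaf (389, 0, false)) (.leaf (2980, 0, false))) (.node (.leaf (1388, 99, true)) (.leaf (1972, 0, false)))) (.node (.node (.leaf (1178, 0, false)) (.leaf (1414, 0, false))) (.leaf (743, 0, false)))) (.node (.node (.node (.leaf (803, 0, false)) (.leaf (2534, 38, true))) (.node (.leaf (2180, 0, false)) (.leaf (3640, 107, false)))) (.node (.node (.leaf (1529, 0, false)) (.leaf (1715, 133, false))) (.leaf (2742, 0, false)))))))) (.node (.node (.node (.node (.node (.node (.node (.leaf (40, 0, false)) (.leaf (2136, 111, false))) (.node (.leaf (432, 116, true)) (.leaf (2134, 128, true)))) (.node (.node (.leaf (876, 0, false)) (.leaf (2322, 51, false))) (.node (.leaf (630, 0, false)) (.leaf (2530, 0, false))))) (.node (.node (.node (.leaf (468, 0, false)) (.leaf (2176, 71, true))) (.node (.leaf (1927, 0, false)) (.leaf (3680, 0, false))))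 (.node (.node (.leaf (286, 0, false)) (.leaf (2759, 90, false))) (.leaf (1476, 45, false))))) (.node (.node (.node (.node (.leaf (255, 0, false)) (.leaf (997, 0, false))) (.node (.leaf (1764, 0, false)) (.leaf (3626, 0, false)))) (.node (.node (.leaf (1068, 0, false)) (.leaf (2869, 15, true))) (.node (.leaf (2380, 0, false)) (.leaf (3758, 101, false))))) (.node (.node (.node (.leaf (672, 0, false)) (.leaf (1943, 50, true))) (.node (.leaf (2088, 0, false)) (.leaf (3699, 35, true)))) (.node (.node (.leaf (1436, 0, false)) (.leaf (3492, 0, false))) (.leaf (1750, 50, true)))))) (.node (.node (.node (.node (.node (.leaf (148, 0, false)) (.leaf (953, 0, false))) (.node (.leaf (1681, 0, false)) (.leaf (3406, 53, true)))) (.node (.node (.leaf (977, 0, false)) (.leaf (3056, 41, true))) (.node (.leaf (2288, 13, true)) (.leaf (2978, 37, true))))) (.node (.node (.node (.leaf (575, 0, false)) (.leaf (1196, 116, true))) (.node (.leaf (1082, 138, true)) (.leaf (3233, 113, false)))) (.node (.node (.leaf (313, 0, false)) (.leaf (1525, 0, false))) (.leaf (2593, 0, false))))) (.node (.node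 (.node (.node (.leaf (365, 0, false)) (.leaf (1041, 0, false))) (.node (.leaf (1847, 0, false)) (.leaf (1947, 0, false)))) (.node (.node (.leaf (1155, 0, false)) (.leaf (2243, 121, false))) (.leaf (2456, 0, false)))) (.node (.node (.node (.leaf (778, 0, false)) (.leaf (3182, 0, false))) (.node (.leaf (2160, 0, false)) (.leaf (3742, 0, false)))) (.node (.node (.leaf (1508, 0, false)) (.leaf (1731, 0, true))) (.leaf (867, 0, false))))))) (.node (.node (.node (.node (.node (.node (.leaf (18, 0, false)) (.leaf (2823, 0, false))) (.node (.leaf (1639, 0, false)) (.leaf (2494, 19, false)))) (.node (.node (.leaf (928, 0, false)) (.leaf (1498, 38, true))) (.node (.leaf (2268, 0, false)) (.leaf (3760, 83, false))))) (.node (.node (.node (.leaf (520, 0, false)) (.leaf (1682, 43, true))) (.node (.leaf (1969, 0, false)) (.leaf (2921, 119, false)))) (.node (.node (.leaf (300, 0, false)) (.leaf (3434, 0, false))) (.leaf (2572, 0, false))))) (.node (.node (.node (.node (.leaf (309, 0, false)) (.leaf (2542, 30, false))) (.node (.leaf (1807, 0, false)) (.leaf (2209, 28, true)))) (.node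 (.node (.leaf (1112, 0, false)) (.leaf (3206, 128, false))) (.node (.leaf (2419, 0, false)) (.leaf (3779, 16, true))))) (.node (.node (.node (.leaf (724, 0, false)) (.leaf (3152, 0, false))) (.node (.leaf (2121, 0, false)) (.leaf (2311, 0, false)))) (.node (.node (.leaf (1472, 0, false)) (.leaf (1626, 0, false))) (.leaf (2692, 0, false)))))) (.node (.node (.node (.node (.node (.leaf (204, 0, false)) (.leaf (1321, 152, true))) (.node (.leaf (434, 0, false)) (.leaf (1806, 0, false)))) (.node (.node (.leaf (1023, 0, false)) (.leaf (2797, 10, false))) (.node (.leaf (2340, 0, false)) (.leaf (3309, 109, false))))) (.node (.node (.node (.leaf (622, 0, false)) (.leaf (1142, 0, false))) (.node (.leaf (2053, 0, false)) (.leaf (2260, 97, false)))) (.node (.node (.leaf (324, 0, false)) (.leaf (3472, 0, false))) (.leaf (2629, 0, false))))) (.node (.node (.node (.node (.leaf (415, 0, false)) (.leaf (1063, 0, false))) (.node (.leaf (1470, 39, true)) (.leaf (3352, 159, false)))) (.node (.node (.leaf (1205, 0, false)) (.leaf (3385, 0, false))) (.leaf (2497, 0, false)))) (.node (.node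 (.node (.leaf (826, 0, false)) (.leaf (1224, 0, false))) (.node (.leaf (944, 89, true)) (.leaf (2947, 117, true)))) (.node (.node (.leaf (1549, 0, false)) (.leaf (3541, 0, false))) (.leaf (2756, 0, false)))))))))

def schY8 : Janko.Tree (ℕ × ℕ × Bool) :=
  (.node (.node (.node (.node (.node (.node (.node (.node (.leaf (15, 0, false)) (.leaf (2777, 0, false))) (.node (.leaf (1572, 0, false)) (.leaf (2764, 156, false)))) (.node (.node (.leaf (850, 0, false)) (.leaf (3220, 0, false))) (.node (.leaf (1028, 116, true)) (.leaf (2503, 0, false))))) (.node (.node (.node (.leaf (442, 0, false)) (.leaf (3002, 0, false))) (.node (.leaf (1909, 0, false)) (.leaf (2631, 156, false)))) (.node (.node (.leaf (281, 0, false)) (.leaf (3397, 0, false))) (.leaf (758, 0, false))))) (.node (.node (.node (.node (.leaf (231, 0, false)) (.leaf (2890, 0, false))) (.node (.leaf (1744, 0, false)) (.leaf (3619, 0, false)))) (.node (.node (.leaf (741, 126, false)) (.leaf (2619, 127, true))) (.node (.leaf (2198, 119, true)) (.leaf (3325, 7, false))))) (.node (.node (.node (.leaf (648, 0, false)) (.leaf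 (3107, 0, false))) (.node (.leaf (814, 51, true)) (.leaf (2755, 46, true)))) (.node (.node (.leaf (1415, 0, false)) (.leaf (2983, 0, false))) (.leaf (886, 87, true)))))) (.node (.node (.node (.node (.node (.leaf (124, 0, false)) (.leaf (2840, 0, false))) (.node (.leaf (1134, 40, false)) (.leaf (3580, 0, false)))) (.node (.node (.leaf (956, 0, false)) (.leaf (1291, 0, false))) (.node (.leaf (2289, 0, false)) (.leaf (2702, 138, false))))) (.node (.node (.node (.leaf (113, 0, false)) (.leaf (1114, 0, false))) (.node (.leaf (1968, 7, false)) (.leaf (2110, 0, false)))) (.node (.node (.leaf (308, 0, false)) (.leaf (2875, 3, true))) (.leaf (1405, 79, false))))) (.node (.node (.node (.node (.leaf (339, 0, false)) (.leaf (2950, 0, false))) (.node (.leaf (1829, 0, false)) (.leaf (2082, 79, false)))) (.node (.node (.leaf (1138, 0, false)) (.leaf (1391, 0, false))) (.leaf (2441, 0, false)))) (.node (.node (.node (.leaf (161, 0, false)) (.leaf (3167, 0, false))) (.node (.leaf (584, 0, false)) (.leaf (2348, 0, false)))) (.node (.node (.leaf (354, 0, false)) (.leaf (1650, 0, false)))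 (.leaf (2707, 0, false))))))) (.node (.node (.node (.node (.node (.node (.leaf (70, 0, false)) (.leaf (2805, 0, false))) (.node (.leaf (1150, 7, true)) (.leaf (3567, 0, false)))) (.node (.node (.leaf (195, 0, false)) (.leaf (2949, 154, false))) (.node (.leaf (1999, 126, false)) (.leaf (2568, 0, false))))) (.node (.node (.node (.leaf (493, 0, false)) (.leaf (1358, 152, true))) (.node (.leaf (511, 0, false)) (.leaf (3627, 100, false)))) (.node (.node (.leaf (1274, 0, false)) (.leaf (3422, 0, false))) (.leaf (2555, 0, false))))) (.node (.node (.node (.node (.leaf (56, 0, false)) (.leaf (2917, 0, false))) (.node (.leaf (1787, 0, false)) (.leaf (1881, 0, false)))) (.node (.node (.leaf (1089, 0, false)) (.leaf (3333, 0, false))) (.node (.leaf (706, 0, false)) (.leaf (3763, 1, false))))) (.node (.node (.node (.leaf (701, 0, false)) (.leaf (3134, 0, false))) (.node (.leaf (1634, 58, false)) (.leaf (3470, 4, true)))) (.node (.node (.leaf (1080, 42, true)) (.leaf (1608, 0, false))) (.leaf (2678, 0, false)))))) (.node (.node (.node (.node (.node (.leaf (178, 0, false)) (.leaf (2605,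 156, false))) (.node (.leaf (1702, 0, false)) (.leaf (3597, 0, false)))) (.node (.node (.leaf (480, 97, false)) (.leaf (3285, 0, false))) (.node (.leaf (936, 42, true)) (.leaf (3279, 144, true))))) (.node (.node (.node (.leaf (602, 0, false)) (.leaf (3072, 0, false))) (.node (.leaf (2032, 0, false)) (.leaf (3714, 0, false)))) (.node (.node (.leaf (1371, 0, false)) (.leaf (2844, 9, false))) (.leaf (2611, 0, false))))) (.node (.node (.node (.node (.leaf (80, 0, false)) (.leaf (1054, 0, false))) (.node (.leaf (1869, 0, false)) (.leaf (3419, 25, true)))) (.node (.node (.leaf (269, 0, false)) (.leaf (3373, 0, false))) (.leaf (2478, 0, false)))) (.node (.node (.node (.leaf (804, 0, false)) (.leaf (3195, 0, false))) (.node (.leaf (2182, 0, false)) (.leaf (2500, 116, true)))) (.node (.node (.leaf (1530, 0, false)) (.leaf (3467, 112, true))) (.leaf (1541, 120, false)))))))) (.node (.node (.node (.node (.node (.node (.node (.leaf (7, 0, false)) (.leaf (2001, 19, false))) (.node (.leaf (1596, 0, false)) (.leaf (2905, 79, true)))) (.node (.node (.leaf (877, 0, false)) (.leaf (1254,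 0, false))) (.node (.leaf (2204, 50, false)) (.leaf (3457, 60, false))))) (.node (.node (.node (.leaf (97, 0, false)) (.leaf (1085, 0, false))) (.node (.leaf (1678, 109, false)) (.leaf (3681, 0, false)))) (.node (.node (.leaf (1253, 0, false)) (.leaf (3407, 0, false))) (.leaf (2106, 87, true))))) (.node (.node (.node (.node (.leaf (257, 0, false)) (.leaf (1412, 92, false))) (.node (.leaf (450, 0, false)) (.leaf (3064, 39, true)))) (.node (.node (.leaf (239, 0, false)) (.leaf (2997, 117, false))) (.node (.leaf (698, 0, false)) (.leaf (3396, 113, true))))) (.node (.node (.node (.leaf (674, 0, false)) (.leaf (1166, 0, false))) (.node (.leaf (1483, 126, true)) (.leaf (3365, 58, false)))) (.node (.node (.leaf (1438, 0, false)) (.leaf (3163, 4, true))) (.leaf (834, 0, false)))))) (.node (.node (.node (.node (.node (.leaf (29, 0, false)) (.leaf (2852, 0, false))) (.node (.leaf (420, 0, false)) (.leaf (1783, 0, false)))) (.node (.node (.leaf (979, 0, false)) (.leaf (3273, 0, false))) (.node (.leaf (1522, 125, false)) (.leaf (2724, 0, false))))) (.node (.node (.node (.leaf (576,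 0, false)) (.leaf (1667, 13, true))) (.node (.leaf (2013, 0, false)) (.leaf (3258, 80, false)))) (.node (.node (.leaf (849, 55, false)) (.leaf (1845, 97, true))) (.leaf (1399, 122, false))))) (.node (.node (.node (.node (.leaf (367, 0, false)) (.leaf (2967, 0, false))) (.node (.leaf (473, 0, false)) (.leaf (3113, 122, false)))) (.node (.node (.leaf (1157, 0, false)) (.leaf (1464, 27, false))) (.leaf (2457, 0, false)))) (.node (.node (.node (.leaf (167, 0, false)) (.leaf (1673, 128, true))) (.node (.leaf (596, 0, false)) (.leaf (3709, 30, true)))) (.node (.node (.leaf (1509, 0, false)) (.leaf (3528, 0, false))) (.leaf (2725, 0, false))))))) (.node (.node (.node (.node (.node (.node (.leaf (98, 0, false)) (.leaf (2824, 0, false))) (.node (.leaf (1640, 0, false)) (.leaf (3540, 87, true)))) (.node (.node (.leaf (200, 0, false)) (.leaf (2961, 110, false))) (.node (.leaf (647, 0, false)) (.leaf (3091, 8, true))))) (.node (.node (.node (.leaf (108, 0, false)) (.leaf (2520, 5, false))) (.node (.leaf (1971, 0, false)) (.leaf (2233, 155, false)))) (.node (.node (.leaf (1299, 0,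 false)) (.leaf (1495, 0, false))) (.leaf (2548, 75, false))))) (.node (.node (.node (.node (.leaf (310, 0, false)) (.leaf (2931, 0, false))) (.node (.leaf (565, 134, false)) (.leaf (3639, 0, false)))) (.node (.node (.leaf (1113, 0, false)) (.leaf (3346, 0, false))) (.node (.leaf (714, 0, false)) (.leaf (3324, 0, false))))) (.node (.node (.node (.leaf (156, 0, false)) (.leaf (3153, 0, false))) (.node (.leaf (2054, 62, true)) (.leaf (2416, 94, true)))) (.node (.node (.leaf (1474, 0, false)) (.leaf (3510, 0, false))) (.leaf (2693, 0, false)))))) (.node (.node (.node (.node (.node (.leaf (206, 0, false)) (.leaf (2880, 0, false))) (.node (.leaf (1615, 97, false)) (.leaf (3607, 0, false)))) (.node (.node (.leaf (1024, 0, false)) (.leaf (3063, 125, true))) (.node (.leaf (1491, 69, true)) (.leaf (3679, 45, true))))) (.node (.node (.node (.leaf (491, 125, true)) (.leaf (2637, 52, true))) (.node (.leaf (546, 0, false)) (.leaf (3254, 10, true)))) (.node (.node (.leaf (1393, 0, false)) (.leaf (3364, 46, true))) (.leaf (817, 0, false))))) (.node (.node (.node (.node (.leaf (417, 0,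 false)) (.leaf (2989, 0, false))) (.node (.leaf (490, 0, false)) (.leaf (2279, 134, false)))) (.node (.node (.leaf (1207, 0, false)) (.leaf (3386, 0, false))) (.leaf (1528, 0, false)))) (.node (.node (.node (.leaf (580, 85, true)) (.leaf (2735, 10, false))) (.node (.leaf (1189, 0, false)) (.leaf (3084, 2, false)))) (.node (.node (.leaf (1550, 0, false)) (.leaf (2573, 156, false))) (.leaf (1918, 114, true)))))))))

def schY9 : Janko.Tree (ℕ × ℕ × Bool) :=
  (.node (.node (.node (.node (.node (.node (.node (.node (.leaf (17, 0, false)) (.leaf (2778, 0, false))) (.node (.leaf (1574, 0, false)) (.leaf (3512, 136, true)))) (.node (.node (.leaf (852, 0, false)) (.leaf (3221, 0, false))) (.node (.leaf (2222, 0, false)) (.leaf (3069, 16, false))))) (.node (.node (.node (.leaf (92, 0, false)) (.leaf (1074, 0, false))) (.node (.leaf (1910, 0, false)) (.leaf (2799, 26, true)))) (.node (.node (.leaf (1235, 0, false)) (.leaf (3216, 126, false))) (.leaf (2521, 0, false))))) (.node (.node (.node (.node (.leaf (232, 0, false)) (.leaf (2151, 147, true))) (.node (.leaf (1746, 0, false))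 (.leaf (1831, 0, false)))) (.node (.node (.leaf (1048, 0, false)) (.leaf (3310, 0, false))) (.node (.leaf (2360, 0, false)) (.leaf (2907, 0, false))))) (.node (.node (.node (.leaf (139, 0, false)) (.leaf (2933, 77, true))) (.node (.leaf (2073, 0, false)) (.leaf (2228, 0, false)))) (.node (.node (.leaf (1417, 0, false)) (.leaf (3389, 147, true))) (.leaf (828, 0, false)))))) (.node (.node (.node (.node (.node (.leaf (126, 0, false)) (.leaf (942, 0, false))) (.node (.leaf (414, 0, false)) (.leaf (3300, 133, false)))) (.node (.node (.leaf (958, 0, false)) (.leaf (1911, 24, false))) (.node (.leaf (2130, 121, false)) (.leaf (2687, 0, false))))) (.node (.node (.node (.leaf (550, 0, false)) (.leaf (3048, 0, false))) (.node (.leaf (526, 0, false)) (.leaf (3703, 0, false)))) (.node (.node (.leaf (1327, 0, false)) (.leaf (3446, 0, false))) (.leaf (2026, 49, true))))) (.node (.node (.node (.node (.leaf (340, 0, false)) (.leaf (2952, 0, false))) (.node (.leaf (467, 0, false)) (.leaf (3411, 20, true)))) (.node (.node (.leaf (259, 0, false)) (.leaf (3357, 0, false))) (.leaf (1298, 50,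 true)))) (.node (.node (.node (.leaf (753, 0, false)) (.leaf (3169, 0, false))) (.node (.leaf (2141, 0, false)) (.leaf (2809, 31, true)))) (.node (.node (.leaf (1492, 0, false)) (.leaf (2057, 109, false))) (.leaf (2709, 0, false))))))) (.node (.node (.node (.node (.node (.node (.leaf (72, 0, false)) (.leaf (1277, 40, true))) (.node (.leaf (1616, 0, false)) (.leaf (3261, 124, true)))) (.node (.node (.leaf (904, 0, false)) (.leaf (3242, 0, false))) (.node (.leaf (1915, 41, false)) (.leaf (3173, 109, false))))) (.node (.node (.node (.leaf (495, 0, false)) (.leaf (3030, 0, false))) (.node (.leaf (1951, 0, false)) (.leaf (3294, 3, true)))) (.node (.node (.leaf (1276, 0, false)) (.leaf (1479, 0, false))) (.leaf (2557, 0, false))))) (.node (.node (.node (.node (.leaf (285, 0, false)) (.leaf (2024, 6, false))) (.node (.leaf (1780, 116, true)) (.leaf (3630, 0, false)))) (.node (.node (.leaf (1091, 0, false)) (.leaf (3335, 0, false))) (.node (.leaf (2400, 0, false)) (.leaf (3693, 26, true))))) (.node (.node (.node (.leaf (541, 5, false)) (.leaf (1175, 0, false))) (.node (.leaf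 (1582, 42, true)) (.leaf (3706, 4, true)))) (.node (.node (.leaf (1457, 0, false)) (.leaf (3458, 39, false))) (.leaf (2395, 75, true)))))) (.node (.node (.node (.node (.node (.leaf (180, 0, false)) (.leaf (1107, 123, false))) (.node (.leaf (1703, 0, false)) (.leaf (3519, 145, false)))) (.node (.node (.leaf (1005, 0, false)) (.leaf (1614, 117, false))) (.node (.leaf (1814, 2, false)) (.leaf (2795, 0, false))))) (.node (.node (.node (.leaf (604, 0, false)) (.leaf (1824, 38, false))) (.node (.leaf (2034, 0, false)) (.leaf (2159, 0, false)))) (.node (.node (.leaf (1373, 0, false)) (.leaf (3461, 0, false))) (.leaf (2089, 40, true))))) (.node (.node (.node (.node (.leaf (391, 0, false)) (.leaf (1348, 8, false))) (.node (.leaf (1871, 0, false)) (.leaf (3329, 52, true)))) (.node (.node (.leaf (1181, 0, false)) (.leaf (1684, 159, false))) (.leaf (2127, 20, false)))) (.node (.node (.node (.leaf (174, 0, false)) (.leaf (3197, 0, false))) (.node (.leaf (2184, 0, false)) (.leaf (2657, 90, false)))) (.node (.node (.leaf (591, 105, false)) (.leaf (2472, 112, true))) (.leaf (2556, 114,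 false)))))))) (.node (.node (.node (.node (.node (.node (.node (.leaf (43, 0, false)) (.leaf (905, 0, false))) (.node (.leaf (1372, 156, false)) (.leaf (3564, 0, false)))) (.node (.node (.leaf (878, 0, false)) (.leaf (1256, 0, false))) (.node (.leaf (632, 0, false)) (.leaf (2536, 0, false))))) (.node (.node (.node (.leaf (470, 0, false)) (.leaf (3013, 0, false))) (.node (.leaf (1929, 0, false)) (.leaf (2039, 0, false)))) (.node (.node (.leaf (616, 116, true)) (.leaf (2164, 45, false))) (.leaf (2537, 0, false))))) (.node (.node (.node (.node (.leaf (51, 0, false)) (.leaf (1589, 136, true))) (.node (.leaf (1766, 0, false)) (.leaf (2252, 20, false)))) (.node (.node (.leaf (1071, 0, false)) (.leaf (1602, 138, false))) (.node (.leaf (2383, 0, false)) (.leaf (3520, 141, true))))) (.node (.node (.node (.leaf (676, 0, false)) (.leaf (3120, 0, false))) (.node (.leaf (2090, 0, false)) (.leaf (2712, 86, true)))) (.node (.node (.leaf (589, 156, false)) (.leaf (1588, 0, false))) (.leaf (2664, 0, false)))))) (.node (.node (.node (.node (.node (.leaf (151, 0, false)) (.leaf (2854, 0,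 false))) (.node (.leaf (421, 0, false)) (.leaf (3590, 0, false)))) (.node (.node (.leaf (980, 0, false)) (.leaf (3274, 0, false))) (.node (.leaf (679, 158, true)) (.leaf (3666, 128, false))))) (.node (.node (.node (.leaf (578, 0, false)) (.leaf (2361, 128, true))) (.node (.leaf (2015, 0, false)) (.leaf (2922, 108, true)))) (.node (.node (.leaf (428, 159, false)) (.leaf (2430, 19, false))) (.leaf (2595, 0, false))))) (.node (.node (.node (.node (.leaf (369, 0, false)) (.leaf (2969, 0, false))) (.node (.leaf (1163, 78, false)) (.leaf (3650, 0, false)))) (.node (.node (.leaf (264, 0, false)) (.leaf (2145, 47, true))) (.leaf (1401, 87, true)))) (.node (.node (.node (.leaf (781, 0, false)) (.leaf (3184, 0, false))) (.node (.leaf (1293, 32, false)) (.leaf (3704, 30, true)))) (.node (.node (.leaf (361, 0, false)) (.leaf (2405, 141, false))) (.leaf (2654, 19, true))))))) (.node (.node (.node (.node (.node (.node (.leaf (19, 0, false)) (.leaf (2825, 0, false))) (.node (.leaf (1642, 0, false)) (.leaf (1762, 0, false)))) (.node (.node (.leaf (931, 0, false)) (.leaf (3253, 0, false)))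 (.node (.leaf (2271, 0, false)) (.leaf (3521, 29, false))))) (.node (.node (.node (.leaf (523, 0, false)) (.leaf (2172, 159, false))) (.node (.leaf (519, 0, false)) (.leaf (3181, 78, false)))) (.node (.node (.leaf (1301, 0, false)) (.leaf (3431, 79, true))) (.leaf (2062, 5, true))))) (.node (.node (.node (.node (.leaf (312, 0, false)) (.leaf (2932, 0, false))) (.node (.leaf (1809, 0, false)) (.leaf (1906, 0, false)))) (.node (.node (.leaf (481, 125, true)) (.leaf (1379, 0, false))) (.node (.leaf (2292, 97, false)) (.leaf (3340, 0, false))))) (.node (.node (.node (.leaf (727, 0, false)) (.leaf (1184, 0, false))) (.node (.leaf (577, 0, false)) (.leaf (3435, 26, true)))) (.node (.node (.leaf (1475, 0, false)) (.leaf (3511, 0, false))) (.leaf (2694, 0, false)))))) (.node (.node (.node (.node (.node (.leaf (207, 0, false)) (.leaf (978, 0, false))) (.node (.leaf (1726, 0, false)) (.leaf (3608, 0, false)))) (.node (.node (.leaf (226, 0, false)) (.leaf (3298, 0, false))) (.node (.leaf (2342, 0, false)) (.leaf (3743, 158, false))))) (.node (.node (.node (.leaf (625, 0, false))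 (.leaf (2832, 42, true))) (.node (.leaf (1167, 129, true)) (.leaf (3509, 130, false)))) (.node (.node (.leaf (325, 0, false)) (.leaf (2956, 0, false))) (.leaf (1904, 152, false))))) (.node (.node (.node (.node (.leaf (284, 45, false)) (.leaf (2665, 101, true))) (.node (.leaf (1890, 0, false)) (.leaf (3667, 0, false)))) (.node (.node (.leaf (1208, 0, false)) (.leaf (3387, 0, false))) (.leaf (2499, 0, false)))) (.node (.node (.node (.leaf (179, 0, false)) (.leaf (3209, 0, false))) (.node (.leaf (613, 0, false)) (.leaf (2475, 0, false)))) (.node (.node (.leaf (1552, 0, false)) (.leaf (1705, 0, false))) (.leaf (2758, 0, false)))))))))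

def schY10 : Janko.Tree (ℕ × ℕ × Bool) :=
  (.node (.node (.node (.node (.node (.node (.node (.node (.leaf (1, 0, false)) (.leaf (2779, 0, false))) (.node (.leaf (386, 0, false)) (.leaf (3554, 0, false)))) (.node (.node (.leaf (853, 0, false)) (.leaf (2663, 74, false))) (.node (.leaf (2223, 0, false)) (.leaf (3543, 50, false))))) (.node (.node (.node (.leaf (445, 0, false)) (.leaf (1986, 102, true))) (.node (.leaf (1912, 0, false)) (.leaf (2256, 95, false)))) (.node (.node (.leaf (1236, 0, false)) (.leaf (3131, 28, false))) (.leaf (1444, 58, true))))) (.node (.node (.node (.node (.leaf (150, 92, false)) (.leaf (2839, 50, false))) (.node (.leaf (443, 0, false)) (.leaf (3536, 149, true)))) (.node (.node (.leaf (1049, 0, false)) (.leaf (3311, 0, false))) (.node (.leaf (691, 0, false)) (.leaf (3775, 0, false))))) (.node (.node (.node (.leaf (651, 0, false)) (.leaf (1545, 67, true))) (.node (.leaf (2074, 0, false)) (.leaf (2891, 51, true)))) (.node (.node (.leaf (331, 0, false)) (.leaf (3486, 0, false))) (.leaf (2646, 0, false)))))) (.node (.node (.node (.node (.node (.leaf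 (128, 0, false)) (.leaf (2842, 0, false))) (.node (.leaf (1662, 0, false)) (.leaf (3581, 0, false)))) (.node (.node (.leaf (376, 109, false)) (.leaf (2284, 17, false))) (.node (.leaf (2291, 0, false)) (.leaf (3537, 45, true))))) (.node (.node (.node (.leaf (552, 0, false)) (.leaf (1115, 0, false))) (.node (.leaf (611, 40, false)) (.leaf (2112, 0, false)))) (.node (.node (.leaf (1325, 130, true)) (.leaf (1513, 0, false))) (.leaf (792, 0, false))))) (.node (.node (.node (.node (.leaf (342, 0, false)) (.leaf (1033, 0, false))) (.node (.leaf (1832, 0, false)) (.leaf (1932, 0, false)))) (.node (.node (.leaf (1141, 0, false)) (.leaf (1392, 0, false))) (.leaf (2444, 0, false)))) (.node (.node (.node (.leaf (755, 0, false)) (.leaf (3170, 0, false))) (.node (.leaf (2143, 0, false)) (.leaf (2612, 46, true)))) (.node (.node (.leaf (355, 0, false)) (.leaf (2318, 92, false))) (.leaf (2711, 0, false))))))) (.node (.node (.node (.node (.node (.node (.leaf (74, 0, false)) (.leaf (2806, 0, false))) (.node (.leaf (401, 0, false)) (.leaf (1745, 0, false)))) (.node (.node (.leaf (906, 0,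 false)) (.leaf (2327, 106, false))) (.node (.leaf (642, 0, false)) (.leaf (2571, 0, false))))) (.node (.node (.node (.leaf (497, 0, false)) (.leaf (1893, 30, true))) (.node (.leaf (966, 31, false)) (.leaf (2382, 125, false)))) (.node (.node (.leaf (1278, 0, false)) (.leaf (3423, 0, false))) (.leaf (1629, 36, false))))) (.node (.node (.node (.node (.leaf (287, 0, false)) (.leaf (2919, 0, false))) (.node (.leaf (1788, 0, false)) (.leaf (1887, 0, false)))) (.node (.node (.leaf (677, 134, false)) (.leaf (3336, 0, false))) (.node (.leaf (707, 0, false)) (.leaf (3696, 105, true))))) (.node (.node (.node (.leaf (703, 0, false)) (.leaf (3137, 0, false))) (.node (.leaf (1535, 129, false)) (.leaf (2873, 57, false)))) (.node (.node (.leaf (1122, 124, true)) (.leaf (3430, 139, false))) (.leaf (843, 0, false)))))) (.node (.node (.node (.node (.node (.leaf (182, 0, false)) (.leaf (969, 0, false))) (.node (.leaf (1704, 0, false)) (.leaf (3599, 0, false)))) (.node (.node (.leaf (1006, 0, false)) (.leaf (1316, 0, false))) (.node (.leaf (673, 0, false)) (.leaf (3201, 101, false))))) (.node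 (.node (.node (.leaf (125, 0, false)) (.leaf (3075, 0, false))) (.node (.leaf (2036, 0, false)) (.leaf (3715, 0, false)))) (.node (.node (.leaf (1374, 0, false)) (.leaf (3462, 0, false))) (.leaf (2614, 0, false))))) (.node (.node (.node (.node (.leaf (393, 0, false)) (.leaf (2713, 57, true))) (.node (.leaf (598, 128, false)) (.leaf (1975, 0, false)))) (.node (.node (.leaf (1183, 0, false)) (.leaf (1826, 31, true))) (.leaf (2262, 116, true)))) (.node (.node (.node (.leaf (807, 0, false)) (.leaf (3198, 0, false))) (.node (.leaf (2185, 0, false)) (.leaf (2428, 0, false)))) (.node (.node (.leaf (1532, 0, false)) (.leaf (2446, 85, false))) (.leaf (2737, 38, true)))))))) (.node (.node (.node (.node (.node (.node (.node (.leaf (45, 0, false)) (.leaf (2790, 153, true))) (.node (.leaf (1597, 0, false)) (.leaf (1728, 0, false)))) (.node (.node (.leaf (880, 0, false)) (.leaf (2239, 0, false))) (.node (.leaf (2238, 0, false)) (.leaf (3471, 27, false))))) (.node (.node (.node (.leaf (472, 0, false)) (.leaf (1088, 0, false))) (.node (.leaf (1931, 0, false)) (.leaf (2208, 56, false))))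 (.node (.node (.leaf (1003, 133, false)) (.leaf (3408, 0, false))) (.leaf (765, 0, false))))) (.node (.node (.node (.node (.leaf (260, 0, false)) (.leaf (2908, 0, false))) (.node (.leaf (1767, 0, false)) (.leaf (3571, 32, false)))) (.node (.node (.leaf (240, 0, false)) (.leaf (2436, 4, false))) (.node (.leaf (1973, 65, false)) (.leaf (3019, 0, false))))) (.node (.node (.node (.leaf (678, 0, false)) (.leaf (3121, 0, false))) (.node (.leaf (560, 0, false)) (.leaf (3534, 139, false)))) (.node (.node (.leaf (336, 0, false)) (.leaf (3494, 0, false))) (.leaf (2666, 0, false)))))) (.node (.node (.node (.node (.node (.leaf (153, 0, false)) (.leaf (2594, 80, false))) (.node (.leaf (1685, 0, false)) (.leaf (3560, 97, false)))) (.node (.node (.leaf (212, 0, false)) (.leaf (3275, 0, false))) (.node (.leaf (2309, 0, false)) (.leaf (2728, 0, false))))) (.node (.node (.node (.leaf (579, 0, false)) (.leaf (1127, 0, false))) (.node (.leaf (2016, 0, false)) (.leaf (2763, 40, true)))) (.node (.node (.leaf (1350, 0, false)) (.leaf (2354, 92, true))) (.leaf (802, 0, false))))) (.node (.node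 (.node (.node (.leaf (370, 0, false)) (.leaf (2467, 158, true))) (.node (.leaf (1851, 0, false)) (.leaf (2388, 47, true)))) (.node (.node (.leaf (1160, 0, false)) (.leaf (3017, 10, true))) (.leaf (2459, 0, false)))) (.node (.node (.node (.leaf (783, 0, false)) (.leaf (3185, 0, false))) (.node (.leaf (2163, 0, false)) (.leaf (2403, 0, false)))) (.node (.node (.leaf (1512, 0, false)) (.leaf (1664, 0, false))) (.leaf (2726, 0, false))))))) (.node (.node (.node (.node (.node (.node (.leaf (101, 0, false)) (.leaf (1214, 129, true))) (.node (.leaf (1300, 58, true)) (.leaf (3020, 17, true)))) (.node (.node (.leaf (201, 0, false)) (.leaf (1428, 87, false))) (.node (.leaf (1964, 156, false)) (.leaf (3326, 133, false))))) (.node (.node (.node (.leaf (525, 0, false)) (.leaf (1569, 108, true))) (.node (.leaf (1974, 0, false)) (.leaf (2091, 0, false)))) (.node (.node (.leaf (301, 0, false)) (.leaf (3436, 0, false))) (.leaf (2574, 0, false))))) (.node (.node (.node (.node (.leaf (314, 0, false)) (.leaf (1020, 0, false))) (.node (.leaf (462, 0, false)) (.leaf (3339, 155, true)))) (.node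 (.node (.leaf (1116, 0, false)) (.leaf (2375, 19, true))) (.node (.leaf (2423, 0, false)) (.leaf (3778, 64, false))))) (.node (.node (.node (.leaf (729, 0, false)) (.leaf (1606, 95, false))) (.node (.leaf (1302, 78, false)) (.leaf (2770, 94, false)))) (.node (.node (.leaf (348, 0, false)) (.leaf (1861, 52, false))) (.leaf (851, 0, false)))))) (.node (.node (.node (.node (.node (.leaf (209, 0, false)) (.leaf (1453, 29, false))) (.node (.leaf (994, 0, false)) (.leaf (2532, 60, false)))) (.node (.node (.leaf (1027, 0, false)) (.leaf (1333, 0, false))) (.node (.leaf (684, 0, false)) (.leaf (2976, 133, false))))) (.node (.node (.node (.leaf (627, 0, false)) (.leaf (2437, 106, true))) (.node (.leaf (640, 97, false)) (.leaf (3102, 36, false)))) (.node (.node (.leaf (1396, 0, false)) (.leaf (1562, 0, false))) (.leaf (2632, 0, false))))) (.node (.node (.node (.node (.leaf (87, 0, false)) (.leaf (1555, 77, true))) (.node (.leaf (1892, 0, false)) (.leaf (3501, 110, false)))) (.node (.node (.leaf (1210, 0, false)) (.leaf (3142, 133, true))) (.leaf (1775, 45, false)))) (.node (.node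 (.node (.leaf (829, 0, false)) (.leaf (1785, 0, false))) (.node (.leaf (2203, 0, false)) (.leaf (2843, 132, false)))) (.node (.node (.leaf (1554, 0, false)) (.leaf (3544, 0, false))) (.leaf (2760, 0, false)))))))))

def schY11 : Janko.Tree (ℕ × ℕ × Bool) :=
  (.node (.node (.node (.node (.node (.node (.node (.node (.leaf (20, 0, false)) (.leaf (2781, 0, false))) (.node (.leaf (1576, 0, false)) (.leaf (2819, 118, false)))) (.node (.node (.leaf (855, 0, false)) (.leaf (3223, 0, false))) (.node (.leaf (623, 0, false)) (.leaf (3616, 10, true))))) (.node (.node (.node (.leaf (447, 0, false)) (.leaf (2109, 112, true))) (.node (.leaf (1914, 0, false)) (.leaf (3416, 20, true)))) (.node (.node (.leaf (1238, 0, false)) (.leaf (1452, 0, false))) (.leaf (2524, 0, false))))) (.node (.node (.node (.node (.leaf (234, 0, false)) (.leaf (2894, 0, false))) (.node (.leaf (1730, 78, false)) (.leaf (2544, 26, true)))) (.node (.node (.leaf (1051, 0, false)) (.leaf (1344, 0, false))) (.node (.leaf (2363, 0, false)) (.leaf (3713, 84, false))))) (.node (.node (.node (.leaf (653, 0, false)) (.leaf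 (3073, 144, false))) (.node (.leaf (2075, 0, false)) (.leaf (2377, 127, false)))) (.node (.node (.leaf (1420, 0, false)) (.leaf (3225, 65, false))) (.leaf (1661, 109, false)))))) (.node (.node (.node (.node (.node (.leaf (130, 0, false)) (.leaf (1577, 157, true))) (.node (.leaf (1663, 0, false)) (.leaf (1982, 89, false)))) (.node (.node (.leaf (960, 0, false)) (.leaf (1421, 54, false))) (.node (.leaf (2293, 0, false)) (.leaf (3332, 111, false))))) (.node (.node (.node (.leaf (554, 0, false)) (.leaf (3051, 0, false))) (.node (.leaf (1668, 96, true)) (.leaf (2116, 0, false)))) (.node (.node (.leaf (1330, 0, false)) (.leaf (2928, 38, true))) (.leaf (2584, 0, false))))) (.node (.node (.node (.node (.leaf (344, 0, false)) (.leaf (2954, 0, false))) (.node (.leaf (1250, 15, true)) (.leaf (1933, 0, false)))) (.node (.node (.leaf (1143, 0, false)) (.leaf (2850, 40, true))) (.leaf (728, 0, false)))) (.node (.node (.node (.leaf (757, 0, false)) (.leaf (3172, 0, false))) (.node (.leaf (916, 95, true)) (.leaf (3739, 0, false)))) (.node (.node (.leaf (1494, 0, false)) (.leaf (3523,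 0, false))) (.leaf (859, 0, false))))))) (.node (.node (.node (.node (.node (.node (.leaf (14, 0, false)) (.leaf (2808, 0, false))) (.node (.leaf (1619, 0, false)) (.leaf (3568, 0, false)))) (.node (.node (.leaf (908, 0, false)) (.leaf (3243, 0, false))) (.node (.leaf (2253, 0, false)) (.leaf (3284, 103, false))))) (.node (.node (.node (.leaf (499, 0, false)) (.leaf (1098, 0, false))) (.node (.leaf (1954, 0, false)) (.leaf (2068, 0, false)))) (.node (.node (.leaf (296, 0, false)) (.leaf (3425, 0, false))) (.leaf (2559, 0, false))))) (.node (.node (.node (.node (.leaf (289, 0, false)) (.leaf (2920, 0, false))) (.node (.leaf (457, 0, false)) (.leaf (3504, 64, true)))) (.node (.node (.leaf (246, 0, false)) (.leaf (1970, 54, true))) (.node (.leaf (2402, 0, false)) (.leaf (3766, 114, false))))) (.node (.node (.node (.leaf (704, 0, false)) (.leaf (3138, 0, false))) (.node (.leaf (569, 0, false)) (.leaf (3671, 155, true)))) (.node (.node (.leaf (1459, 0, false)) (.leaf (1612, 0, false))) (.leaf (844, 0, false)))))) (.node (.node (.node (.node (.node (.leaf (36, 0, false)) (.leaf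 (2226, 32, true))) (.node (.leaf (1706, 0, false)) (.leaf (2095, 117, false)))) (.node (.node (.leaf (1008, 0, false)) (.leaf (3027, 147, false))) (.node (.leaf (1966, 81, true)) (.leaf (3549, 50, false))))) (.node (.node (.node (.leaf (135, 107, false)) (.leaf (1137, 0, false))) (.node (.leaf (2038, 0, false)) (.leaf (3054, 153, true)))) (.node (.node (.leaf (1375, 0, false)) (.leaf (3367, 46, true))) (.leaf (810, 0, false))))) (.node (.node (.node (.node (.leaf (395, 0, false)) (.leaf (1055, 0, false))) (.node (.leaf (1873, 0, false)) (.leaf (3659, 0, false)))) (.node (.node (.leaf (1185, 0, false)) (.leaf (3376, 0, false))) (.leaf (745, 0, false)))) (.node (.node (.node (.leaf (586, 47, true)) (.leaf (1217, 0, false))) (.node (.leaf (2187, 0, false)) (.leaf (3749, 0, false)))) (.node (.node (.leaf (1533, 0, false)) (.leaf (2079, 57, true))) (.leaf (2745, 0, false)))))))) (.node (.node (.node (.node (.node (.node (.node (.leaf (46, 0, false)) (.leaf (972, 132, false))) (.node (.leaf (394, 0, false)) (.leaf (2866, 77, false)))) (.node (.node (.leaf (882, 0, false)) (.leaf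 (1743, 112, true))) (.node (.leaf (2240, 0, false)) (.leaf (3304, 109, false))))) (.node (.node (.node (.leaf (474, 0, false)) (.leaf (2904, 143, true))) (.node (.leaf (506, 0, false)) (.leaf (3157, 7, true)))) (.node (.node (.leaf (697, 110, false)) (.leaf (3410, 0, false))) (.leaf (1261, 10, true))))) (.node (.node (.node (.node (.leaf (52, 0, false)) (.leaf (1000, 0, false))) (.node (.leaf (1769, 0, false)) (.leaf (3488, 36, false)))) (.node (.node (.leaf (1073, 0, false)) (.leaf (3289, 87, true))) (.node (.leaf (2385, 0, false)) (.leaf (3039, 0, false))))) (.node (.node (.node (.leaf (680, 0, false)) (.leaf (1229, 148, true))) (.node (.leaf (2092, 0, false)) (.leaf (2248, 0, false)))) (.node (.node (.leaf (1442, 0, false)) (.leaf (2269, 61, true))) (.leaf (2668, 0, false)))))) (.node (.node (.node (.node (.node (.leaf (155, 0, false)) (.leaf (2856, 0, false))) (.node (.leaf (1686, 0, false)) (.leaf (3106, 79, false)))) (.node (.node (.leaf (983, 0, false)) (.leaf (1308, 0, false))) (.node (.leaf (665, 0, false)) (.leaf (3409, 32, false))))) (.node (.node (.node (.leaf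 (581, 0, false)) (.leaf (3062, 0, false))) (.node (.leaf (2018, 0, false)) (.leaf (3611, 143, true)))) (.node (.node (.leaf (1351, 0, false)) (.leaf (3453, 0, false))) (.leaf (2201, 36, false))))) (.node (.node (.node (.node (.leaf (372, 0, false)) (.leaf (2270, 25, true))) (.node (.leaf (1853, 0, false)) (.leaf (3651, 0, false)))) (.node (.node (.leaf (1162, 0, false)) (.leaf (1403, 0, false))) (.leaf (2460, 0, false)))) (.node (.node (.node (.leaf (249, 159, false)) (.leaf (3187, 0, false))) (.node (.leaf (2165, 0, false)) (.leaf (3593, 84, true)))) (.node (.node (.leaf (1121, 147, false)) (.leaf (2741, 118, true))) (.leaf (2727, 0, false))))))) (.node (.node (.node (.node (.node (.node (.leaf (103, 0, false)) (.leaf (2827, 0, false))) (.node (.leaf (408, 0, false)) (.leaf (3573, 0, false)))) (.node (.node (.leaf (933, 0, false)) (.leaf (1981, 112, false))) (.node (.leaf (2273, 0, false)) (.leaf (2644, 0, false))))) (.node (.node (.node (.leaf (527, 0, false)) (.leaf (1636, 107, true))) (.node (.leaf (856, 15, true)) (.leaf (3529, 31, true)))) (.node (.node (.leaf (1304,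 0, false)) (.leaf (3437, 0, false))) (.leaf (782, 0, false))))) (.node (.node (.node (.node (.leaf (63, 0, false)) (.leaf (2935, 0, false))) (.node (.leaf (1811, 0, false)) (.leaf (2286, 147, true)))) (.node (.node (.leaf (1118, 0, false)) (.leaf (3348, 0, false))) (.node (.leaf (2425, 0, false)) (.leaf (3712, 81, false))))) (.node (.node (.node (.leaf (731, 0, false)) (.leaf (2241, 72, false))) (.node (.leaf (1527, 114, false)) (.leaf (3296, 4, false)))) (.node (.node (.leaf (1478, 0, false)) (.leaf (3264, 84, true))) (.leaf (1694, 16, false)))))) (.node (.node (.node (.node (.node (.leaf (211, 0, false)) (.leaf (1810, 106, false))) (.node (.leaf (646, 128, true)) (.leaf (3609, 0, false)))) (.node (.node (.leaf (934, 145, false)) (.leaf (1841, 64, true))) (.node (.leaf (2344, 0, false)) (.leaf (3171, 1, false))))) (.node (.node (.node (.leaf (628, 0, false)) (.leaf (3092, 0, false))) (.node (.leaf (2058, 0, false)) (.leaf (3720, 0, false)))) (.node (.node (.leaf (1398, 0, false)) (.leaf (2586, 0, false))) (.leaf (2123, 31, true))))) (.node (.node (.node (.node (.leaf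 (406, 43, true)) (.leaf (1144, 116, true))) (.node (.leaf (1894, 0, false)) (.leaf (3080, 11, false)))) (.node (.node (.leaf (1212, 0, false)) (.leaf (1886, 156, false))) (.leaf (751, 0, false)))) (.node (.node (.node (.leaf (831, 0, false)) (.leaf (1226, 0, false))) (.node (.leaf (2205, 0, false)) (.leaf (2810, 4, false)))) (.node (.node (.leaf (1556, 0, false)) (.leaf (1707, 0, false))) (.leaf (1369, 25, true)))))))))

def schY12 : Janko.Tree (ℕ × ℕ × Bool) :=
  (.node (.node (.node (.node (.node (.node (.node (.node (.leaf (22, 0, false)) (.leaf (1481, 132, false))) (.node (.leaf (1578, 0, false)) (.leaf (3555, 0, false)))) (.node (.node (.leaf (857, 0, false)) (.leaf (1239, 0, false))) (.node (.leaf (907, 156, false)) (.leaf (3625, 10, true))))) (.node (.node (.node (.leaf (449, 0, false)) (.leaf (1077, 0, false))) (.node (.leaf (498, 0, false)) (.leaf (3676, 0, false)))) (.node (.node (.leaf (1177, 117, false)) (.leaf (2315, 127, false))) (.leaf (2525, 0, false))))) (.node (.node (.node (.node (.leaf (236, 0, false)) (.leaf (2895, 0, false))) (.node (.leaf (444,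 0, false)) (.leaf (3508, 40, false)))) (.node (.node (.leaf (1053, 0, false)) (.leaf (3313, 0, false))) (.node (.leaf (2153, 104, true)) (.leaf (2929, 0, false))))) (.node (.node (.node (.leaf (654, 0, false)) (.leaf (1713, 90, true))) (.node (.leaf (1548, 39, true)) (.leaf (3724, 0, false)))) (.node (.node (.leaf (1422, 0, false)) (.leaf (2237, 0, false))) (.leaf (2649, 0, false)))))) (.node (.node (.node (.node (.node (.leaf (131, 0, false)) (.leaf (1560, 0, false))) (.node (.leaf (1665, 0, false)) (.leaf (3582, 0, false)))) (.node (.node (.leaf (962, 0, false)) (.leaf (1297, 0, false))) (.node (.leaf (2294, 0, false)) (.leaf (3615, 140, false))))) (.node (.node (.node (.leaf (556, 0, false)) (.leaf (2055, 136, false))) (.node (.leaf (1997, 0, false)) (.leaf (2117, 0, false)))) (.node (.node (.leaf (1332, 0, false)) (.leaf (2526, 50, false))) (.leaf (1342, 124, true))))) (.node (.node (.node (.node (.leaf (69, 0, false)) (.leaf (2955, 0, false))) (.node (.leaf (1834, 0, false)) (.leaf (2591, 37, true)))) (.node (.node (.leaf (1145, 0, false)) (.leaf (3323, 110, true)))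 (.leaf (2445, 0, false)))) (.node (.node (.node (.leaf (759, 0, false)) (.leaf (2975, 16, false))) (.node (.leaf (2146, 0, false)) (.leaf (3312, 97, false)))) (.node (.node (.leaf (1419, 90, true)) (.leaf (2470, 78, false))) (.leaf (2714, 0, false))))))) (.node (.node (.node (.node (.node (.node (.leaf (77, 0, false)) (.leaf (918, 0, false))) (.node (.leaf (1621, 0, false)) (.leaf (2266, 36, false)))) (.node (.node (.leaf (196, 0, false)) (.leaf (2479, 92, false))) (.node (.leaf (2255, 0, false)) (.leaf (3415, 3, false))))) (.node (.node (.node (.leaf (501, 0, false)) (.leaf (3032, 0, false))) (.node (.leaf (512, 0, false)) (.leaf (3686, 0, false)))) (.node (.node (.leaf (1281, 0, false)) (.leaf (2639, 109, false))) (.leaf (2560, 0, false))))) (.node (.node (.node (.node (.leaf (291, 0, false)) (.leaf (2077, 50, false))) (.node (.leaf (1790, 0, false)) (.leaf (3168, 85, true)))) (.node (.node (.leaf (1095, 0, false)) (.leaf (1877, 32, true))) (.node (.leaf (2404, 0, false)) (.leaf (3553, 137, true))))) (.node (.node (.node (.leaf (524, 45, false)) (.leaf (3140, 0, false)))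 (.node (.leaf (2107, 0, false)) (.leaf (3317, 99, false)))) (.node (.node (.leaf (343, 0, false)) (.leaf (3372, 105, true))) (.leaf (1046, 39, true)))))) (.node (.node (.node (.node (.node (.leaf (185, 0, false)) (.leaf (2867, 0, false))) (.node (.leaf (1708, 0, false)) (.leaf (3601, 0, false)))) (.node (.node (.leaf (1009, 0, false)) (.leaf (3287, 0, false))) (.node (.leaf (2324, 0, false)) (.leaf (3277, 47, false))))) (.node (.node (.node (.leaf (606, 0, false)) (.leaf (3078, 0, false))) (.node (.leaf (1389, 12, false)) (.leaf (2161, 0, false)))) (.node (.node (.leaf (320, 0, false)) (.leaf (1546, 0, false))) (.leaf (2567, 73, true))))) (.node (.node (.node (.node (.leaf (82, 0, false)) (.leaf (1916, 78, true))) (.node (.leaf (1617, 0, true)) (.leaf (3660, 0, false)))) (.node (.node (.leaf (1187, 0, false)) (.leaf (1511, 7, false))) (.leaf (2482, 0, false)))) (.node (.node (.node (.leaf (809, 0, false)) (.leaf (3199, 0, false))) (.node (.leaf (2147, 16, true)) (.leaf (3746, 116, true)))) (.node (.node (.leaf (1534, 0, false)) (.leaf (2064, 75, true))) (.leaf (2747,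 0, false)))))))) (.node (.node (.node (.node (.node (.node (.node (.leaf (48, 0, false)) (.leaf (1895, 50, false))) (.node (.leaf (1158, 47, false)) (.leaf (3443, 76, false)))) (.node (.node (.leaf (191, 0, false)) (.leaf (3234, 0, false))) (.node (.leaf (2242, 0, false)) (.leaf (2538, 0, false))))) (.node (.node (.node (.leaf (475, 0, false)) (.leaf (3016, 0, false))) (.node (.leaf (1934, 0, false)) (.leaf (3045, 19, false)))) (.node (.node (.leaf (1257, 0, false)) (.leaf (2219, 108, true))) (.leaf (2539, 0, false))))) (.node (.node (.node (.node (.leaf (263, 0, false)) (.leaf (2124, 50, false))) (.node (.leaf (1770, 0, false)) (.leaf (1858, 0, false)))) (.node (.node (.leaf (1075, 0, false)) (.leaf (1356, 0, false))) (.node (.leaf (2387, 0, false)) (.leaf (3750, 102, false))))) (.node (.node (.node (.leaf (681, 0, false)) (.leaf (2019, 0, false))) (.node (.leaf (2094, 0, false)) (.leaf (2590, 102, true)))) (.node (.node (.leaf (1331, 73, true)) (.leaf (1591, 0, false))) (.leaf (2480, 0, false)))))) (.node (.node (.node (.node (.node (.leaf (157, 0, false)) (.leaf (2857,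 0, false))) (.node (.leaf (1688, 0, false)) (.leaf (2514, 2, true)))) (.node (.node (.leaf (985, 0, false)) (.leaf (1748, 148, true))) (.node (.leaf (1680, 87, true)) (.leaf (3769, 0, false))))) (.node (.node (.node (.leaf (583, 0, false)) (.leaf (2272, 151, true))) (.node (.leaf (650, 39, true)) (.leaf (2761, 25, true)))) (.node (.node (.leaf (1353, 0, false)) (.leaf (3455, 0, false))) (.leaf (2599, 0, false))))) (.node (.node (.node (.node (.leaf (374, 0, false)) (.leaf (2972, 0, false))) (.node (.leaf (1854, 0, false)) (.leaf (3652, 0, false)))) (.node (.node (.leaf (1164, 0, false)) (.leaf (2508, 0, false))) (.leaf (2462, 0, false)))) (.node (.node (.node (.leaf (786, 0, false)) (.leaf (3188, 0, false))) (.node (.leaf (599, 0, false)) (.leaf (2443, 69, true)))) (.node (.node (.leaf (364, 0, false)) (.leaf (3136, 92, false))) (.leaf (2729, 0, false))))))) (.node (.node (.node (.node (.node (.node (.leaf (104, 0, false)) (.leaf (2170, 58, true))) (.node (.leaf (1645, 0, false)) (.leaf (1763, 0, false)))) (.node (.node (.leaf (935, 0, false)) (.leaf (1913, 2, false)))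 (.node (.leaf (649, 0, false)) (.leaf (3692, 46, false))))) (.node (.node (.node (.leaf (528, 0, false)) (.leaf (3042, 0, false))) (.node (.leaf (693, 6, true)) (.leaf (3697, 0, false)))) (.node (.node (.leaf (1305, 0, false)) (.leaf (3438, 0, false))) (.leaf (1259, 56, true))))) (.node (.node (.node (.node (.leaf (317, 0, false)) (.leaf (2936, 0, false))) (.node (.leaf (1813, 0, false)) (.leaf (3238, 31, true)))) (.node (.node (.leaf (1120, 0, false)) (.leaf (3349, 0, false))) (.node (.leaf (740, 24, false)) (.leaf (3360, 0, false))))) (.node (.node (.node (.leaf (732, 0, false)) (.leaf (1186, 0, false))) (.node (.leaf (2126, 0, false)) (.leaf (2321, 0, false)))) (.node (.node (.leaf (1480, 0, false)) (.leaf (2642, 22, false))) (.leaf (1868, 102, false)))))) (.node (.node (.node (.node (.node (.leaf (41, 0, false)) (.leaf (2393, 89, false))) (.node (.leaf (436, 0, false)) (.leaf (3610, 0, false)))) (.node (.node (.leaf (1030, 0, false)) (.leaf (1352, 85, true))) (.node (.leaf (2072, 49, false)) (.leaf (3646, 23, true))))) (.node (.node (.node (.leaf (133, 0, false))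 (.leaf (3094, 0, false))) (.node (.leaf (912, 145, true)) (.leaf (2212, 131, false)))) (.node (.node (.leaf (1273, 32, true)) (.leaf (1870, 155, false))) (.leaf (2634, 0, false))))) (.node (.node (.node (.node (.leaf (422, 0, false)) (.leaf (2992, 0, false))) (.node (.leaf (492, 0, false)) (.leaf (3669, 0, false)))) (.node (.node (.leaf (276, 0, false)) (.leaf (3390, 0, false))) (.leaf (2502, 0, false)))) (.node (.node (.node (.leaf (833, 0, false)) (.leaf (1377, 89, true))) (.node (.leaf (2207, 0, false)) (.leaf (3718, 141, false)))) (.node (.node (.leaf (1558, 0, false)) (.leaf (3546, 0, false))) (.leaf (2762, 0, false)))))))))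

def schY13 : Janko.Tree (ℕ × ℕ × Bool) :=
  (.node (.node (.node (.node (.node (.node (.node (.node (.leaf (24, 0, false)) (.leaf (1124, 156, true))) (.node (.leaf (1580, 0, false)) (.leaf (3148, 49, true)))) (.node (.node (.leaf (186, 0, false)) (.leaf (3224, 0, false))) (.node (.leaf (624, 0, false)) (.leaf (3345, 2, true))))) (.node (.node (.node (.leaf (451, 0, false)) (.leaf (1078, 0, false))) (.node (.leaf (974, 54, false)) (.leaf (3485, 4, false)))) (.node (.node (.leaf (1240, 0, false)) (.leaf (3399, 0, false))) (.leaf (2527, 0, false))))) (.node (.node (.node (.node (.leaf (238, 0, false)) (.leaf (991, 0, false))) (.node (.leaf (1749, 0, false)) (.leaf (2505, 75, false)))) (.node (.node (.leaf (235, 0, false)) (.leaf (1345, 0, false))) (.node (.leaf (2365, 0, false)) (.leaf (3638, 85, false))))) (.node (.node (.node (.leaf (655, 0, false)) (.leaf (2934, 40, false))) (.node (.leaf (2078, 0, false)) (.leaf (2230, 0, false)))) (.node (.node (.leaf (1423, 0, false)) (.leaf (1579, 0, false))) (.leaf (2650, 0, false)))))) (.node (.node (.node (.node (.node (.leaf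 (132, 0, false)) (.leaf (2772, 46, true))) (.node (.leaf (1666, 0, false)) (.leaf (3392, 97, true)))) (.node (.node (.leaf (964, 0, false)) (.leaf (3265, 0, false))) (.node (.leaf (2295, 0, false)) (.leaf (3586, 66, true))))) (.node (.node (.node (.leaf (558, 0, false)) (.leaf (3053, 0, false))) (.node (.leaf (1998, 0, false)) (.leaf (3705, 0, false)))) (.node (.node (.leaf (1013, 39, true)) (.leaf (3447, 0, false))) (.leaf (2585, 0, false))))) (.node (.node (.node (.node (.leaf (347, 0, false)) (.leaf (2957, 0, false))) (.node (.leaf (1754, 64, false)) (.leaf (3644, 0, false)))) (.node (.node (.leaf (1146, 0, false)) (.leaf (1394, 0, false))) (.leaf (1052, 46, false)))) (.node (.node (.node (.leaf (163, 0, false)) (.leaf (1198, 0, false))) (.node (.leaf (587, 0, false)) (.leaf (3011, 105, true)))) (.node (.node (.leaf (1496, 0, false)) (.leaf (1652, 0, false))) (.leaf (2716, 0, false))))))) (.node (.node (.node (.node (.node (.node (.leaf (79, 0, false)) (.leaf (2811, 0, false))) (.node (.leaf (1623, 0, false)) (.leaf (1747, 0, false)))) (.node (.node (.leaf (911, 0,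 false)) (.leaf (1490, 39, true))) (.node (.leaf (2257, 0, false)) (.leaf (2588, 0, false))))) (.node (.node (.node (.leaf (503, 0, false)) (.leaf (3034, 0, false))) (.node (.leaf (515, 111, false)) (.leaf (3687, 0, false)))) (.node (.node (.leaf (1283, 0, false)) (.leaf (3427, 0, false))) (.leaf (2561, 0, false))))) (.node (.node (.node (.node (.leaf (58, 0, false)) (.leaf (2923, 0, false))) (.node (.leaf (1791, 0, false)) (.leaf (3633, 0, false)))) (.node (.node (.leaf (1097, 0, false)) (.leaf (1370, 0, false))) (.node (.leaf (2406, 0, false)) (.leaf (3178, 0, false))))) (.node (.node (.node (.leaf (152, 0, false)) (.leaf (2050, 4, false))) (.node (.leaf (2108, 0, false)) (.leaf (2710, 125, true)))) (.node (.node (.leaf (1462, 0, false)) (.leaf (3503, 0, false))) (.leaf (2682, 0, false)))))) (.node (.node (.node (.node (.node (.leaf (187, 0, false)) (.leaf (2550, 129, false))) (.node (.leaf (430, 0, false)) (.leaf (2807, 17, true)))) (.node (.node (.leaf (220, 0, false)) (.leaf (2812, 25, true))) (.node (.leaf (675, 0, false)) (.leaf (3744, 1, true))))) (.node (.node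 (.node (.leaf (608, 0, false)) (.leaf (3047, 4, true))) (.node (.leaf (1255, 50, true)) (.leaf (2888, 113, true)))) (.node (.node (.leaf (1378, 0, false)) (.leaf (1757, 156, true))) (.leaf (812, 0, false))))) (.node (.node (.node (.node (.leaf (398, 0, false)) (.leaf (2033, 156, false))) (.node (.leaf (1876, 0, false)) (.leaf (3401, 10, true)))) (.node (.node (.leaf (271, 0, false)) (.leaf (3377, 0, false))) (.leaf (2484, 0, false)))) (.node (.node (.node (.leaf (811, 0, false)) (.leaf (1460, 24, true))) (.node (.leaf (2189, 0, false)) (.leaf (2438, 0, false)))) (.node (.node (.leaf (371, 0, false)) (.leaf (1875, 68, false))) (.leaf (2748, 0, false)))))))) (.node (.node (.node (.node (.node (.node (.node (.leaf (50, 0, false)) (.leaf (1543, 50, false))) (.node (.leaf (1600, 0, false)) (.leaf (1984, 8, false)))) (.node (.node (.leaf (885, 0, false)) (.leaf (3235, 0, false))) (.node (.leaf (2244, 0, false)) (.leaf (3690, 117, true))))) (.node (.node (.node (.leaf (477, 0, false)) (.leaf (3018, 0, false))) (.node (.leaf (1936, 0, false)) (.leaf (3420, 73, true)))) (.node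 (.node (.leaf (288, 0, false)) (.leaf (1468, 0, false))) (.leaf (2541, 0, false))))) (.node (.node (.node (.node (.leaf (265, 0, false)) (.leaf (2909, 0, false))) (.node (.leaf (1771, 0, false)) (.leaf (3476, 110, true)))) (.node (.node (.leaf (1076, 0, false)) (.leaf (3024, 59, true))) (.node (.leaf (700, 0, false)) (.leaf (3128, 129, true))))) (.node (.node (.node (.leaf (683, 0, false)) (.leaf (3122, 0, false))) (.node (.leaf (858, 159, false)) (.leaf (3620, 90, false)))) (.node (.node (.leaf (1031, 31, false)) (.leaf (2971, 140, true))) (.leaf (2671, 0, false)))))) (.node (.node (.node (.node (.node (.leaf (31, 0, false)) (.leaf (2060, 90, true))) (.node (.leaf (1689, 0, false)) (.leaf (3592, 0, false)))) (.node (.node (.leaf (987, 0, false)) (.leaf (3278, 0, false))) (.node (.leaf (1228, 36, false)) (.leaf (2739, 0, false))))) (.node (.node (.node (.leaf (120, 0, false)) (.leaf (3003, 156, false))) (.node (.leaf (533, 0, false)) (.leaf (3632, 50, false)))) (.node (.node (.leaf (1354, 0, false)) (.leaf (1531, 0, false))) (.leaf (865, 99, false))))) (.node (.node (.node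 (.node (.leaf (75, 0, false)) (.leaf (2973, 0, false))) (.node (.leaf (1855, 0, false)) (.leaf (3189, 79, true)))) (.node (.node (.leaf (1165, 0, false)) (.leaf (3366, 0, false))) (.leaf (2463, 0, false)))) (.node (.node (.node (.leaf (169, 0, false)) (.leaf (3044, 159, false))) (.node (.leaf (984, 109, false)) (.leaf (3380, 50, false)))) (.node (.node (.leaf (539, 107, false)) (.leaf (3530, 0, false))) (.leaf (870, 0, false))))))) (.node (.node (.node (.node (.node (.node (.leaf (105, 0, false)) (.leaf (2828, 0, false))) (.node (.leaf (1647, 0, false)) (.leaf (3575, 0, false)))) (.node (.node (.leaf (937, 0, false)) (.leaf (1670, 76, true))) (.node (.leaf (2276, 0, false)) (.leaf (3695, 31, true))))) (.node (.node (.node (.leaf (530, 0, false)) (.leaf (1280, 52, false))) (.node (.leaf (1978, 0, false)) (.leaf (3614, 13, false)))) (.node (.node (.leaf (1307, 0, false)) (.leaf (3281, 100, false))) (.leaf (2576, 0, false))))) (.node (.node (.node (.node (.leaf (319, 0, false)) (.leaf (2937, 0, false))) (.node (.leaf (1815, 0, false)) (.leaf (3288, 30, false)))) (.node (.node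 (.leaf (254, 0, false)) (.leaf (3350, 0, false))) (.node (.leaf (2427, 0, false)) (.leaf (3755, 132, true))))) (.node (.node (.node (.leaf (734, 0, false)) (.leaf (3156, 0, false))) (.node (.leaf (2128, 0, false)) (.leaf (3735, 0, false)))) (.node (.node (.leaf (1482, 0, false)) (.leaf (3514, 0, false))) (.leaf (2696, 0, false)))))) (.node (.node (.node (.node (.node (.leaf (213, 0, false)) (.leaf (2882, 0, false))) (.node (.leaf (1729, 0, false)) (.leaf (1817, 0, false)))) (.node (.node (.leaf (1032, 0, false)) (.leaf (2753, 32, false))) (.node (.leaf (1306, 10, true)) (.leaf (3066, 56, false))))) (.node (.node (.node (.leaf (631, 0, false)) (.leaf (3095, 0, false))) (.node (.leaf (1252, 19, true)) (.leaf (3721, 0, false)))) (.node (.node (.leaf (1400, 0, false)) (.leaf (2491, 24, false))) (.leaf (822, 0, false))))) (.node (.node (.node (.node (.leaf (138, 13, true)) (.leaf (1065, 0, false))) (.node (.leaf (1897, 0, false)) (.leaf (3451, 85, true)))) (.node (.node (.leaf (1215, 0, false)) (.leaf (3391, 0, false))) (.leaf (2504, 0, false)))) (.node (.node (.node (.leaf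 (835, 0, false)) (.leaf (1551, 39, true))) (.node (.leaf (794, 4, true)) (.leaf (3734, 26, false)))) (.node (.node (.leaf (1458, 155, true)) (.leaf (3547, 0, false))) (.leaf (888, 0, false)))))))))

def schY14 : Janko.Tree (ℕ × ℕ × Bool) :=
  (.node (.node (.node (.node (.node (.node (.node (.node (.leaf (25, 0, false)) (.leaf (2782, 0, false))) (.node (.leaf (388, 0, false)) (.leaf (2752, 1, true)))) (.node (.node (.leaf (860, 0, false)) (.leaf (2849, 28, true))) (.node (.leaf (2225, 0, false)) (.leaf (3675, 141, true))))) (.node (.node (.node (.leaf (94, 0, false)) (.leaf (2333, 13, true))) (.node (.leaf (500, 0, false)) (.leaf (2021, 0, false)))) (.node (.node (.leaf (1242, 0, false)) (.leaf (3400, 0, false))) (.leaf (2528, 0, false))))) (.node (.node (.node (.node (.leaf (47, 0, false)) (.leaf (992, 0, false))) (.node (.leaf (1751, 0, false)) (.leaf (1836, 0, false)))) (.node (.node (.leaf (1056, 0, false)) (.leaf (3316, 0, false))) (.node (.leaf (827, 10, true)) (.leaf (3089, 47, false))))) (.node (.node (.node (.leaf (657, 0, false)) (.leaf (2912, 60, false))) (.node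 (.leaf (555, 0, false)) (.leaf (3334, 113, true)))) (.node (.node (.leaf (1424, 0, false)) (.leaf (2323, 93, false))) (.leaf (2651, 0, false)))))) (.node (.node (.node (.node (.node (.leaf (134, 0, false)) (.leaf (2845, 0, false))) (.node (.leaf (416, 0, false)) (.leaf (3321, 85, true)))) (.node (.node (.leaf (208, 0, false)) (.leaf (3266, 0, false))) (.node (.leaf (2297, 0, false)) (.leaf (3532, 116, true))))) (.node (.node (.node (.leaf (559, 0, false)) (.leaf (3055, 0, false))) (.node (.leaf (1659, 2, true)) (.leaf (2496, 34, true)))) (.node (.node (.leaf (1334, 0, false)) (.leaf (1515, 0, false))) (.leaf (2337, 53, false))))) (.node (.node (.node (.node (.leaf (349, 0, false)) (.leaf (2959, 0, false))) (.node (.leaf (469, 0, false)) (.leaf (1935, 0, false)))) (.node (.node (.leaf (1148, 0, false)) (.leaf (3359, 0, false))) (.leaf (1710, 46, false)))) (.node (.node (.node (.leaf (762, 0, false)) (.leaf (1199, 0, false))) (.node (.leaf (1695, 158, false)) (.leaf (3270, 79, true)))) (.node (.node (.leaf (1497, 0, false)) (.leaf (1653, 0, false))) (.leaf (863, 0, false)))))))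 (.node (.node (.node (.node (.node (.node (.leaf (81, 0, false)) (.leaf (919, 0, false))) (.node (.leaf (1625, 0, false)) (.leaf (2098, 45, true)))) (.node (.node (.leaf (913, 0, false)) (.leaf (2346, 56, false))) (.node (.leaf (948, 43, true)) (.leaf (3761, 137, false))))) (.node (.node (.node (.leaf (505, 0, false)) (.leaf (2364, 78, true))) (.node (.leaf (1599, 153, true)) (.leaf (3250, 113, true)))) (.node (.node (.leaf (1285, 0, false)) (.leaf (3194, 99, false))) (.leaf (2563, 0, false))))) (.node (.node (.node (.node (.leaf (293, 0, false)) (.leaf (2442, 143, false))) (.node (.leaf (1793, 0, false)) (.leaf (2177, 118, false)))) (.node (.node (.leaf (1099, 0, false)) (.leaf (3338, 0, false))) (.node (.leaf (1159, 47, false)) (.leaf (3517, 117, true))))) (.node (.node (.node (.leaf (708, 0, false)) (.leaf (3141, 0, false))) (.node (.leaf (571, 0, false)) (.leaf (3252, 13, false)))) (.node (.node (.leaf (1463, 0, false)) (.leaf (3505, 0, false))) (.leaf (2386, 59, true)))))) (.node (.node (.node (.node (.node (.leaf (189, 0, false)) (.leaf (971, 0, false))) (.node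 (.leaf (967, 62, false)) (.leaf (1799, 0, false)))) (.node (.node (.leaf (1012, 0, false)) (.leaf (2942, 106, true))) (.node (.leaf (2326, 0, false)) (.leaf (2802, 0, false))))) (.node (.node (.node (.leaf (610, 0, false)) (.leaf (2540, 133, true))) (.node (.leaf (1928, 129, true)) (.leaf (2162, 0, false)))) (.node (.node (.leaf (1380, 0, false)) (.leaf (2155, 54, true))) (.leaf (2617, 0, false))))) (.node (.node (.node (.node (.leaf (400, 0, false)) (.leaf (2624, 66, false))) (.node (.leaf (483, 0, false)) (.leaf (3222, 4, false)))) (.node (.node (.leaf (1190, 0, false)) (.leaf (3378, 0, false))) (.leaf (2486, 0, false)))) (.node (.node (.node (.leaf (813, 0, false)) (.leaf (3202, 0, false))) (.node (.leaf (2190, 0, false)) (.leaf (2863, 156, false)))) (.node (.node (.leaf (1537, 0, false)) (.leaf (3513, 72, false))) (.leaf (879, 0, false)))))))) (.node (.node (.node (.node (.node (.node (.node (.leaf (9, 0, false)) (.leaf (2635, 32, false))) (.node (.leaf (1601, 0, false)) (.leaf (2898, 36, false)))) (.node (.node (.leaf (887, 0, false)) (.leaf (3237, 0, false))) (.node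 (.leaf (634, 0, false)) (.leaf (2953, 118, false))))) (.node (.node (.node (.leaf (479, 0, false)) (.leaf (1090, 0, false))) (.node (.leaf (1937, 0, false)) (.leaf (3682, 0, false)))) (.node (.node (.leaf (1260, 0, false)) (.leaf (3414, 0, false))) (.leaf (767, 0, false))))) (.node (.node (.node (.node (.leaf (267, 0, false)) (.leaf (2911, 0, false))) (.node (.leaf (1773, 0, false)) (.leaf (3155, 103, true)))) (.node (.node (.leaf (251, 158, true)) (.leaf (3230, 102, false))) (.node (.leaf (2343, 80, false)) (.leaf (3594, 50, false))))) (.node (.node (.node (.leaf (685, 0, false)) (.leaf (1169, 0, false))) (.node (.leaf (562, 0, false)) (.leaf (2251, 0, false)))) (.node (.node (.leaf (338, 0, false)) (.leaf (2267, 73, true))) (.leaf (2101, 97, false)))))) (.node (.node (.node (.node (.node (.leaf (160, 0, false)) (.leaf (2859, 0, false))) (.node (.leaf (423, 0, false)) (.leaf (2686, 47, true)))) (.node (.node (.leaf (988, 0, false)) (.leaf (1365, 79, false))) (.node (.leaf (2313, 0, false)) (.leaf (3771, 0, false))))) (.node (.node (.node (.leaf (585, 0, false)) (.leaf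 (1129, 0, false))) (.node (.leaf (2020, 0, false)) (.leaf (2139, 0, false)))) (.node (.node (.leaf (315, 0, false)) (.leaf (3262, 29, true))) (.leaf (2093, 39, true))))) (.node (.node (.node (.node (.leaf (76, 0, false)) (.leaf (2974, 0, false))) (.node (.leaf (1857, 0, false)) (.leaf (2786, 113, true)))) (.node (.node (.leaf (266, 0, false)) (.leaf (1849, 128, false))) (.leaf (2464, 0, false)))) (.node (.node (.node (.leaf (789, 0, false)) (.leaf (3190, 0, false))) (.node (.leaf (2169, 0, false)) (.leaf (3123, 51, true)))) (.node (.node (.leaf (1126, 19, false)) (.leaf (2858, 149, false))) (.leaf (2731, 0, false))))))) (.node (.node (.node (.node (.node (.node (.leaf (107, 0, false)) (.leaf (2830, 0, false))) (.node (.leaf (409, 0, false)) (.leaf (3049, 127, false)))) (.node (.node (.leaf (938, 0, false)) (.leaf (1284, 0, false))) (.node (.leaf (2277, 0, false)) (.leaf (3413, 70, false))))) (.node (.node (.node (.leaf (532, 0, false)) (.leaf (2655, 52, false))) (.node (.leaf (1980, 0, false)) (.leaf (2669, 73, true)))) (.node (.node (.leaf (1309, 0, false)) (.leaf (2841,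 159, false))) (.leaf (2577, 0, false))))) (.node (.node (.node (.node (.leaf (321, 0, false)) (.leaf (2938, 0, false))) (.node (.leaf (1816, 0, false)) (.leaf (2736, 73, false)))) (.node (.node (.leaf (1123, 0, false)) (.leaf (3351, 0, false))) (.node (.leaf (716, 0, false)) (.leaf (3388, 0, false))))) (.node (.node (.node (.leaf (736, 0, false)) (.leaf (3158, 0, false))) (.node (.leaf (806, 156, false)) (.leaf (2325, 0, false)))) (.node (.node (.leaf (350, 0, false)) (.leaf (3515, 0, false))) (.leaf (2483, 114, true)))))) (.node (.node (.node (.node (.node (.leaf (214, 0, false)) (.leaf (1889, 51, false))) (.node (.leaf (660, 85, false)) (.leaf (3612, 0, false)))) (.node (.node (.leaf (228, 0, false)) (.leaf (2822, 97, false))) (.node (.leaf (2347, 0, false)) (.leaf (2945, 122, false))))) (.node (.node (.node (.leaf (633, 0, false)) (.leaf (3096, 0, false))) (.node (.leaf (548, 0, false)) (.leaf (3722, 0, false)))) (.node (.node (.leaf (1402, 0, false)) (.leaf (2401, 27, false))) (.leaf (2275, 2, true))))) (.node (.node (.node (.node (.leaf (424, 0, false)) (.leaf (2994,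 0, false))) (.node (.leaf (1899, 0, false)) (.leaf (3670, 0, false)))) (.node (.node (.leaf (1216, 0, false)) (.leaf (3179, 101, true))) (.leaf (2391, 97, false)))) (.node (.node (.node (.leaf (181, 0, false)) (.leaf (3212, 0, false))) (.node (.leaf (2210, 0, false)) (.leaf (3085, 49, true)))) (.node (.node (.leaf (1559, 0, false)) (.leaf (3033, 63, true))) (.leaf (2765, 0, false)))))))))

def schY15 : Janko.Tree (ℕ × ℕ × Bool) :=
  (.node (.node (.node (.node (.node (.node (.node (.node (.leaf (3, 0, false)) (.leaf (2784, 0, false))) (.node (.leaf (1583, 0, false)) (.leaf (2535, 103, false)))) (.node (.node (.leaf (862, 0, false)) (.leaf (2408, 0, false))) (.node (.leaf (1833, 156, false)) (.leaf (3757, 0, false))))) (.node (.node (.node (.leaf (454, 0, false)) (.leaf (2865, 92, false))) (.node (.leaf (1565, 110, true)) (.leaf (3677, 0, false)))) (.node (.node (.leaf (283, 0, false)) (.leaf (1455, 0, false))) (.leaf (760, 0, false))))) (.node (.node (.node (.node (.leaf (241, 0, false)) (.leaf (2897, 0, false))) (.node (.leaf (1753, 0, false)) (.leaf (1921, 71, true))))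 (.node (.node (.leaf (1057, 0, false)) (.leaf (3318, 0, false))) (.node (.leaf (2367, 0, false)) (.leaf (3229, 125, false))))) (.node (.node (.node (.leaf (659, 0, false)) (.leaf (3109, 0, false))) (.node (.leaf (629, 71, true)) (.leaf (3196, 62, true)))) (.node (.node (.leaf (1426, 0, false)) (.leaf (3489, 0, false))) (.leaf (2653, 0, false)))))) (.node (.node (.node (.node (.node (.leaf (26, 0, false)) (.leaf (1179, 65, false))) (.node (.leaf (1669, 0, false)) (.leaf (1774, 0, false)))) (.node (.node (.leaf (614, 119, true)) (.leaf (2144, 10, true))) (.node (.leaf (2299, 0, false)) (.leaf (2700, 0, false))))) (.node (.node (.node (.leaf (561, 0, false)) (.leaf (1117, 0, false))) (.node (.leaf (2000, 0, false)) (.leaf (2120, 0, false)))) (.node (.node (.leaf (1335, 0, false)) (.leaf (2274, 124, true))) (.leaf (796, 0, false))))) (.node (.node (.node (.node (.leaf (351, 0, false)) (.leaf (1037, 0, false))) (.node (.leaf (1837, 0, false)) (.leaf (3375, 69, false)))) (.node (.node (.leaf (725, 17, true)) (.leaf (1395, 0, false))) (.leaf (1872, 127, false)))) (.node (.node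 (.node (.leaf (764, 0, false)) (.leaf (3174, 0, false))) (.node (.leaf (2148, 0, false)) (.leaf (3740, 0, false)))) (.node (.node (.leaf (357, 0, false)) (.leaf (2887, 12, true))) (.leaf (1035, 95, false))))))) (.node (.node (.node (.node (.node (.node (.leaf (83, 0, false)) (.leaf (2814, 0, false))) (.node (.leaf (1627, 0, false)) (.leaf (3570, 0, false)))) (.node (.node (.leaf (915, 0, false)) (.leaf (3245, 0, false))) (.node (.leaf (2258, 0, false)) (.leaf (3764, 0, false))))) (.node (.node (.node (.leaf (507, 0, false)) (.leaf (1101, 0, false))) (.node (.leaf (1957, 0, false)) (.leaf (3688, 0, false)))) (.node (.node (.leaf (1287, 0, false)) (.leaf (3110, 39, true))) (.leaf (775, 0, false))))) (.node (.node (.node (.node (.leaf (295, 0, false)) (.leaf (2924, 0, false))) (.node (.leaf (1794, 0, false)) (.leaf (3424, 39, true)))) (.node (.node (.leaf (1100, 0, false)) (.leaf (1830, 109, true))) (.node (.leaf (709, 0, false)) (.leaf (3751, 24, true))))) (.node (.node (.node (.leaf (710, 0, false)) (.leaf (3143, 0, false))) (.node (.leaf (2111, 0, false)) (.leaf (2296,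 0, false)))) (.node (.node (.leaf (1465, 0, false)) (.leaf (3000, 58, true))) (.leaf (846, 0, false)))))) (.node (.node (.node (.node (.node (.leaf (190, 0, false)) (.leaf (2870, 0, false))) (.node (.leaf (1711, 0, false)) (.leaf (2339, 157, false)))) (.node (.node (.leaf (1014, 0, false)) (.leaf (1319, 0, false))) (.node (.leaf (2328, 0, false)) (.leaf (3605, 157, false))))) (.node (.node (.node (.leaf (127, 0, false)) (.leaf (1139, 0, false))) (.node (.leaf (2042, 0, false)) (.leaf (3533, 27, false)))) (.node (.node (.leaf (1382, 0, false)) (.leaf (3465, 0, false))) (.leaf (2358, 129, true))))) (.node (.node (.node (.node (.leaf (402, 0, false)) (.leaf (2982, 0, false))) (.node (.leaf (484, 0, false)) (.leaf (2783, 149, false)))) (.node (.node (.leaf (1192, 0, false)) (.leaf (3379, 0, false))) (.leaf (1191, 159, false)))) (.node (.node (.node (.leaf (176, 0, false)) (.leaf (1219, 0, false))) (.node (.leaf (2191, 0, false)) (.leaf (2449, 0, false)))) (.node (.node (.leaf (1538, 0, false)) (.leaf (3370, 110, true))) (.leaf (1269, 31, false)))))))) (.node (.node (.node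 (.node (.node (.node (.node (.leaf (53, 0, false)) (.leaf (2379, 138, false))) (.node (.leaf (1603, 0, false)) (.leaf (2426, 122, false)))) (.node (.node (.leaf (889, 0, false)) (.leaf (3239, 0, false))) (.node (.leaf (2246, 0, false)) (.leaf (3308, 61, false))))) (.node (.node (.node (.leaf (99, 0, false)) (.leaf (3021, 0, false))) (.node (.leaf (1939, 0, false)) (.leaf (3683, 0, false)))) (.node (.node (.leaf (1262, 0, false)) (.leaf (3208, 77, false))) (.leaf (2543, 0, false))))) (.node (.node (.node (.node (.leaf (268, 0, false)) (.leaf (1002, 0, false))) (.node (.leaf (452, 0, false)) (.leaf (1863, 0, false)))) (.node (.node (.leaf (476, 116, true)) (.leaf (1359, 0, false))) (.node (.leaf (2389, 0, false)) (.leaf (3405, 43, false))))) (.node (.node (.node (.leaf (146, 0, false)) (.leaf (2925, 39, false))) (.node (.leaf (2096, 0, false)) (.leaf (3301, 36, false)))) (.node (.node (.leaf (419, 96, true)) (.leaf (2780, 84, true))) (.leaf (2167, 2, true)))))) (.node (.node (.node (.node (.node (.leaf (162, 0, false)) (.leaf (957, 0, false))) (.node (.leaf (1691, 0, false))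 (.leaf (1789, 0, false)))) (.node (.node (.leaf (990, 0, false)) (.leaf (3280, 0, false))) (.node (.leaf (2314, 0, false)) (.leaf (3545, 57, true))))) (.node (.node (.node (.leaf (121, 0, false)) (.leaf (2948, 139, false))) (.node (.leaf (534, 0, false)) (.leaf (3038, 75, false)))) (.node (.node (.leaf (1357, 0, false)) (.leaf (3456, 0, false))) (.leaf (2601, 0, false))))) (.node (.node (.node (.node (.leaf (217, 122, false)) (.leaf (2129, 126, true))) (.node (.leaf (661, 105, true)) (.leaf (3361, 13, false)))) (.node (.node (.leaf (770, 31, false)) (.leaf (2698, 75, false))) (.leaf (1956, 33, false)))) (.node (.node (.node (.leaf (791, 0, false)) (.leaf (1206, 0, false))) (.node (.leaf (2171, 0, false)) (.leaf (3653, 63, true)))) (.node (.node (.leaf (1517, 0, false)) (.leaf (3531, 0, false))) (.leaf (2043, 73, true))))))) (.node (.node (.node (.node (.node (.node (.leaf (109, 0, false)) (.leaf (2831, 0, false))) (.node (.leaf (682, 99, true)) (.leaf (2476, 72, false)))) (.node (.node (.leaf (940, 0, false)) (.leaf (3257, 0, false))) (.node (.leaf (2278, 0, false)) (.leaf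 (2662, 0, false))))) (.node (.node (.node (.leaf (110, 0, false)) (.leaf (1110, 0, false))) (.node (.leaf (521, 0, false)) (.leaf (2418, 116, true)))) (.node (.node (.leaf (303, 0, false)) (.leaf (1499, 0, false))) (.leaf (785, 0, false))))) (.node (.node (.node (.node (.leaf (323, 0, false)) (.leaf (2939, 0, false))) (.node (.leaf (1818, 0, false)) (.leaf (3641, 0, false)))) (.node (.node (.leaf (1125, 0, false)) (.leaf (1384, 0, false))) (.node (.leaf (2308, 97, false)) (.leaf (3454, 0, false))))) (.node (.node (.node (.leaf (158, 0, false)) (.leaf (1188, 0, false))) (.node (.leaf (2131, 0, false)) (.leaf (3572, 93, true)))) (.node (.node (.leaf (1484, 0, false)) (.leaf (3516, 0, false))) (.leaf (2699, 0, false)))))) (.node (.node (.node (.node (.node (.leaf (216, 0, false)) (.leaf (981, 0, false))) (.node (.leaf (1427, 129, true)) (.leaf (2414, 4, false)))) (.node (.node (.leaf (1034, 0, false)) (.leaf (3302, 0, false))) (.node (.leaf (686, 0, false)) (.leaf (3058, 29, false))))) (.node (.node (.node (.leaf (635, 0, false)) (.leaf (3098, 0, false))) (.node (.leaf (658,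 5, false)) (.leaf (2202, 0, false)))) (.node (.node (.leaf (327, 0, false)) (.leaf (2829, 57, true))) (.leaf (2636, 0, false))))) (.node (.node (.node (.node (.leaf (89, 0, false)) (.leaf (1067, 0, false))) (.node (.leaf (1900, 0, false)) (.leaf (3218, 81, false)))) (.node (.node (.leaf (1218, 0, false)) (.leaf (3393, 0, false))) (.leaf (754, 0, false)))) (.node (.node (.node (.leaf (837, 0, false)) (.leaf (2004, 22, true))) (.node (.leaf (2211, 0, false)) (.leaf (2817, 4, false)))) (.node (.node (.leaf (381, 0, false)) (.leaf (2706, 118, false))) (.leaf (2767, 0, false)))))))))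

def schY : Janko.Tree (ℕ × ℕ × Bool) :=
  (.node (.node (.node (.node schY0 schY8) (.node schY4 schY12)) (.node (.node schY2 schY10) (.node schY6 schY14))) (.node (.node (.node schY1 schY9) (.node schY5 schY13)) (.node (.node schY3 schY11) (.node schY7 schY15))))

def borelSch0 : Janko.Tree (ℕ × Bool) :=
  (.node (.node (.node (.node (.leaf (0, false)) (.leaf (513, true))) (.leaf (845, false))) (.node (.leaf (126, false)) (.leaf (375, false)))) (.node (.node (.node (.leaf (1234, true)) (.leaf (1491, true))) (.leaf (1310, false))) (.node (.leaf (1440, false)) (.leaf (545, false)))))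

def borelSch1 : Janko.Tree (ℕ × Bool) :=
  (.node (.node (.node (.node (.leaf (2580, true)) (.leaf (945, false))) (.leaf (1473, false))) (.node (.leaf (1585, false)) (.leaf (616, true)))) (.node (.node (.node (.leaf (719, true)) (.leaf (629, true))) (.leaf (1643, true))) (.node (.leaf (455, false)) (.leaf (628, true)))))

def borelSch2 : Janko.Tree (ℕ × Bool) :=
  (.node (.node (.node (.node (.leaf (820, true)) (.leaf (842, true))) (.leaf (1121, true))) (.node (.leaf (1790, false)) (.leaf (620, false)))) (.node (.node (.node (.leaf (987, false)) (.leaf (1875, true))) (.leaf (3374, false))) (.node (.leaf (14, false)) (.leaf (1286, true)))))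

def borelSch3 : Janko.Tree (ℕ × Bool) :=
  (.node (.node (.node (.node (.leaf (306, true)) (.leaf (1360, false))) (.leaf (1691, false))) (.node (.leaf (2291, false)) (.leaf (565, true)))) (.node (.node (.node (.leaf (980, false)) (.leaf (987, true))) (.leaf (1613, false))) (.node (.leaf (792, false)) (.leaf (947, false)))))

def borelSch4 : Janko.Tree (ℕ × Bool) :=
  (.node (.node (.node (.node (.leaf (1533, true)) (.leaf (510, false))) (.leaf (1637, false))) (.node (.leaf (786, false)) (.leaf (1627, false)))) (.node (.node (.node (.leaf (1302, false)) (.leaf (2459, true))) (.leaf (2363, false))) (.node (.leaf (784, true)) (.leaf (640, true)))))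

def borelSch5 : Janko.Tree (ℕ × Bool) :=
  (.node (.node (.node (.node (.leaf (350, false)) (.leaf (794, true))) (.leaf (1656, true))) (.node (.leaf (1162, false)) (.leaf (1573, false)))) (.node (.node (.node (.leaf (2064, false)) (.leaf (1952, true))) (.leaf (504, true))) (.node (.leaf (680, false)) (.leaf (780, true)))))

def borelSch6 : Janko.Tree (ℕ × Bool) :=
  (.node (.node (.node (.node (.leaf (1340, true)) (.leaf (682, true))) (.leaf (2547, false))) (.node (.leaf (232, false)) (.leaf (971, false)))) (.node (.node (.node (.leaf (1230, false)) (.leaf (1406, false))) (.leaf (1860, false))) (.node (.leaf (1293, true)) (.leaf (254, false)))))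

def borelSch7 : Janko.Tree (ℕ × Bool) :=
  (.node (.node (.node (.node (.leaf (949, true)) (.leaf (1446, false))) (.leaf (912, true))) (.node (.leaf (77, false)) (.leaf (1286, false)))) (.node (.node (.node (.leaf (2115, false)) (.leaf (1566, false))) (.leaf (1394, false))) (.node (.leaf (535, false)) (.leaf (591, true)))))

def borelSch8 : Janko.Tree (ℕ × Bool) :=
  (.node (.node (.node (.node (.leaf (229, true)) (.leaf (784, false))) (.leaf (1084, false))) (.node (.leaf (290, true)) (.leaf (1676, true)))) (.node (.node (.node (.leaf (1425, true)) (.leaf (1001, false))) (.leaf (2390, false))) (.node (.leaf (1852, true)) (.leaf (1109, true)))))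

def borelSch9 : Janko.Tree (ℕ × Bool) :=
  (.node (.node (.node (.node (.leaf (2247, true)) (.leaf (2142, false))) (.leaf (924, true))) (.node (.leaf (738, true)) (.leaf (1001, true)))) (.node (.node (.node (.leaf (868, true)) (.leaf (137, false))) (.leaf (1527, true))) (.node (.leaf (1076, false)) (.leaf (1609, true)))))

def borelSch10 : Janko.Tree (ℕ × Bool) :=
  (.node (.node (.node (.node (.leaf (953, false)) (.leaf (1293, false))) (.leaf (280, false))) (.node (.leaf (87, false)) (.leaf (131, false)))) (.node (.node (.node (.leaf (1149, false)) (.leaf (2385, false))) (.leaf (368, false))) (.node (.leaf (1082, true)) (.leaf (223, true)))))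

def borelSch11 : Janko.Tree (ℕ × Bool) :=
  (.node (.node (.node (.node (.leaf (2395, false)) (.leaf (1639, true))) (.leaf (1848, true))) (.node (.leaf (251, true)) (.leaf (363, true)))) (.node (.node (.node (.leaf (735, false)) (.leaf (1021, false))) (.leaf (1955, false))) (.node (.leaf (1926, true)) (.leaf (1850, false)))))

def borelSch12 : Janko.Tree (ℕ × Bool) :=
  (.node (.node (.node (.node (.leaf (725, true)) (.leaf (1863, false))) (.leaf (1538, true))) (.node (.leaf (1379, false)) (.leaf (1048, false)))) (.node (.node (.node (.leaf (932, true)) (.leaf (724, true))) (.leaf (138, true))) (.node (.leaf (1816, false)) (.leaf (344, false)))))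

def borelSch13 : Janko.Tree (ℕ × Bool) :=
  (.node (.node (.node (.node (.leaf (253, true)) (.leaf (1295, false))) (.leaf (2272, true))) (.node (.leaf (249, true)) (.leaf (586, true)))) (.node (.node (.node (.leaf (1176, false)) (.leaf (929, false))) (.leaf (789, false))) (.node (.leaf (1542, true)) (.leaf (376, true)))))

def borelSch14 : Janko.Tree (ℕ × Bool) :=
  (.node (.node (.node (.node (.leaf (2833, false)) (.leaf (967, true))) (.leaf (960, false))) (.node (.leaf (724, false)) (.leaf (363, false)))) (.node (.node (.node (.leaf (1023, false)) (.leaf (670, true))) (.leaf (1806, false))) (.node (.leaf (875, false)) (.leaf (594, true)))))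

def borelSch15 : Janko.Tree (ℕ × Bool) :=
  (.node (.node (.node (.node (.leaf (1227, true)) (.leaf (1506, false))) (.leaf (1008, false))) (.node (.leaf (173, false)) (.leaf (1193, false)))) (.node (.node (.node (.leaf (396, false)) (.leaf (6, false))) (.leaf (741, true))) (.node (.leaf (1374, false)) (.leaf (948, false)))))

def borelSch : Janko.Tree (ℕ × Bool) :=
  (.node (.node (.node (.node borelSch0 borelSch8) (.node borelSch4 borelSch12)) (.node (.node borelSch2 borelSch10) (.node borelSch6 borelSch14))) (.node (.node (.node borelSch1 borelSch9) (.node borelSch5 borelSch13)) (.node (.node borelSch3 borelSch11) (.node borelSch7 borelSch15))))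

def borelStep0 : Janko.Tree (ℕ × Bool) :=
  (.node (.node (.node (.node (.node (.leaf (1, false)) (.leaf (16, false))) (.leaf (102, true))) (.node (.leaf (57, false)) (.leaf (132, false)))) (.node (.node (.node (.leaf (33, false)) (.leaf (159, false))) (.leaf (92, false))) (.node (.leaf (60, false)) (.leaf (134, true))))) (.node (.node (.node (.node (.leaf (17, true)) (.leaf (148, false))) (.leaf (90, true))) (.node (.leaf (72, false)) (.leaf (126, true)))) (.node (.node (.node (.leaf (48, false)) (.leaf (32, true))) (.leaf (119, false))) (.node (.leaf (87, false)) (.leaf (151, false))))))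

def borelStep1 : Janko.Tree (ℕ × Bool) :=
  (.node (.node (.node (.node (.node (.leaf (2, false)) (.leaf (137, true))) (.leaf (97, true))) (.node (.leaf (58, true)) (.leaf (121, false)))) (.node (.node (.node (.leaf (34, false)) (.leaf (47, true))) (.leaf (112, true))) (.node (.leaf (78, true)) (.leaf (130, false))))) (.node (.node (.node (.node (.leaf (18, true)) (.leaf (25, false))) (.leaf (107, false))) (.node (.leaf (67, true)) (.leaf (134, false)))) (.node (.node (.node (.leaf (43, false)) (.leaf (0, false))) (.leaf (120, true))) (.node (.leaf (88, false)) (.leaf (152, false))))))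

def borelStep2 : Janko.Tree (ℕ × Bool) :=
  (.node (.node (.node (.node (.node (.leaf (3, false)) (.leaf (138, true))) (.leaf (103, false))) (.node (.leaf (59, false)) (.leaf (14, false)))) (.node (.node (.node (.leaf (35, true)) (.leaf (46, true))) (.leaf (88, true))) (.node (.leaf (64, false)) (.leaf (137, false))))) (.node (.node (.node (.node (.leaf (19, false)) (.leaf (0, false))) (.leaf (94, false))) (.node (.leaf (73, false)) (.leaf (135, false)))) (.node (.node (.node (.leaf (49, true)) (.leaf (78, false))) (.leaf (121, true))) (.node (.leaf (89, true)) (.leaf (30, true))))))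

def borelStep3 : Janko.Tree (ℕ × Bool) :=
  (.node (.node (.node (.node (.node (.leaf (4, false)) (.leaf (15, true))) (.leaf (95, false))) (.node (.leaf (60, false)) (.leaf (119, true)))) (.node (.node (.node (.leaf (36, false)) (.leaf (159, false))) (.leaf (5, false))) (.node (.leaf (79, true)) (.leaf (138, false))))) (.node (.node (.node (.node (.leaf (20, true)) (.leaf (54, true))) (.leaf (108, false))) (.node (.leaf (65, false)) (.leaf (129, true)))) (.node (.node (.node (.leaf (41, false)) (.leaf (76, false))) (.leaf (122, false))) (.node (.leaf (90, true)) (.leaf (151, true))))))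

def borelStep4 : Janko.Tree (ℕ × Bool) :=
  (.node (.node (.node (.node (.node (.leaf (5, false)) (.leaf (142, false))) (.leaf (104, false))) (.node (.leaf (61, false)) (.leaf (12, false)))) (.node (.node (.node (.leaf (37, false)) (.leaf (44, false))) (.leaf (96, false))) (.node (.leaf (68, true)) (.leaf (139, true))))) (.node (.node (.node (.node (.leaf (21, true)) (.leaf (153, false))) (.leaf (98, true))) (.node (.leaf (74, true)) (.leaf (136, true)))) (.node (.node (.node (.leaf (50, false)) (.leaf (79, false))) (.leaf (123, false))) (.node (.leaf (91, true)) (.leaf (28, true))))))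

def borelStep5 : Janko.Tree (ℕ × Bool) :=
  (.node (.node (.node (.node (.node (.leaf (6, false)) (.leaf (19, true))) (.leaf (93, false))) (.node (.leaf (62, true)) (.leaf (117, false)))) (.node (.node (.node (.leaf (38, false)) (.leaf (158, false))) (.leaf (111, false))) (.node (.leaf (80, false)) (.leaf (140, false))))) (.node (.node (.node (.node (.leaf (22, true)) (.leaf (53, true))) (.leaf (109, true))) (.node (.leaf (63, false)) (.leaf (131, true)))) (.node (.node (.node (.leaf (39, false)) (.leaf (74, false))) (.leaf (124, true))) (.node (.leaf (92, true)) (.leaf (149, true))))))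

def borelStep6 : Janko.Tree (ℕ × Bool) :=
  (.node (.node (.node (.node (.node (.leaf (7, false)) (.leaf (146, true))) (.leaf (105, false))) (.node (.leaf (63, true)) (.leaf (10, false)))) (.node (.node (.node (.leaf (39, false)) (.leaf (42, true))) (.leaf (109, true))) (.node (.leaf (81, true)) (.leaf (141, true))))) (.node (.node (.node (.node (.leaf (23, true)) (.leaf (154, false))) (.leaf (110, false))) (.node (.leaf (75, false)) (.leaf (133, false)))) (.node (.node (.node (.leaf (51, false)) (.leaf (80, false))) (.leaf (125, true))) (.node (.leaf (93, false)) (.leaf (26, true))))))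

def borelStep7 : Janko.Tree (ℕ × Bool) :=
  (.node (.node (.node (.node (.node (.leaf (8, false)) (.leaf (23, true))) (.leaf (91, true))) (.node (.leaf (64, true)) (.leaf (115, true)))) (.node (.node (.node (.leaf (40, false)) (.leaf (157, true))) (.leaf (102, false))) (.node (.leaf (71, false)) (.leaf (142, true))))) (.node (.node (.node (.node (.leaf (24, true)) (.leaf (52, true))) (.leaf (101, true))) (.node (.leaf (61, false)) (.leaf (132, false)))) (.node (.node (.node (.leaf (37, false)) (.leaf (72, false))) (.leaf (126, true))) (.node (.leaf (94, true)) (.leaf (147, false))))))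

def borelStep8 : Janko.Tree (ℕ × Bool) :=
  (.node (.node (.node (.node (.node (.leaf (9, true)) (.leaf (150, true))) (.leaf (106, true))) (.node (.leaf (65, true)) (.leaf (8, true)))) (.node (.node (.node (.leaf (41, false)) (.leaf (40, true))) (.leaf (107, true))) (.node (.leaf (82, false)) (.leaf (143, false))))) (.node (.node (.node (.node (.leaf (25, true)) (.leaf (155, false))) (.leaf (111, true))) (.node (.leaf (76, true)) (.leaf (128, true)))) (.node (.node (.node (.leaf (52, false)) (.leaf (70, false))) (.leaf (127, false))) (.node (.leaf (95, true)) (.leaf (24, false))))))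

def borelStep9 : Janko.Tree (ℕ × Bool) :=
  (.node (.node (.node (.node (.node (.leaf (10, false)) (.leaf (27, false))) (.leaf (89, false))) (.node (.leaf (66, false)) (.leaf (113, true)))) (.node (.node (.node (.leaf (42, true)) (.leaf (156, false))) (.leaf (106, true))) (.node (.leaf (73, true)) (.leaf (144, true))))) (.node (.node (.node (.node (.leaf (26, false)) (.leaf (51, false))) (.leaf (103, false))) (.node (.leaf (59, false)) (.leaf (135, false)))) (.node (.node (.node (.leaf (35, true)) (.leaf (81, false))) (.leaf (128, false))) (.node (.leaf (96, false)) (.leaf (145, true))))))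

def borelStep10 : Janko.Tree (ℕ × Bool) :=
  (.node (.node (.node (.node (.node (.leaf (11, false)) (.leaf (152, true))) (.leaf (6, true))) (.node (.leaf (67, true)) (.leaf (114, true)))) (.node (.node (.node (.leaf (43, false)) (.leaf (38, false))) (.leaf (113, true))) (.node (.leaf (83, true)) (.leaf (145, true))))) (.node (.node (.node (.node (.leaf (27, true)) (.leaf (156, false))) (.leaf (112, true))) (.node (.leaf (77, true)) (.leaf (120, true)))) (.node (.node (.node (.leaf (53, false)) (.leaf (66, false))) (.leaf (129, false))) (.node (.leaf (97, true)) (.leaf (22, true))))))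

def borelStep11 : Janko.Tree (ℕ × Bool) :=
  (.node (.node (.node (.node (.node (.leaf (12, true)) (.leaf (29, false))) (.leaf (87, false))) (.node (.leaf (68, true)) (.leaf (7, false)))) (.node (.node (.node (.leaf (44, false)) (.leaf (155, false))) (.leaf (114, false))) (.node (.leaf (75, false)) (.leaf (146, false))))) (.node (.node (.node (.node (.leaf (28, true)) (.leaf (50, true))) (.leaf (105, true))) (.node (.leaf (57, true)) (.leaf (13, true)))) (.node (.node (.node (.leaf (33, false)) (.leaf (82, false))) (.leaf (127, false))) (.node (.leaf (98, false)) (.leaf (143, true))))))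

def borelStep12 : Janko.Tree (ℕ × Bool) :=
  (.node (.node (.node (.node (.node (.leaf (13, false)) (.leaf (144, true))) (.leaf (4, false))) (.node (.leaf (69, false)) (.leaf (118, true)))) (.node (.node (.node (.leaf (45, true)) (.leaf (36, true))) (.leaf (115, false))) (.node (.leaf (84, true)) (.leaf (147, true))))) (.node (.node (.node (.node (.leaf (29, true)) (.leaf (157, true))) (.leaf (108, false))) (.node (.leaf (2, true)) (.leaf (116, false)))) (.node (.node (.node (.leaf (54, true)) (.leaf (62, true))) (.leaf (130, false))) (.node (.leaf (99, false)) (.leaf (20, false))))))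

def borelStep13 : Janko.Tree (ℕ × Bool) :=
  (.node (.node (.node (.node (.node (.leaf (14, false)) (.leaf (21, false))) (.leaf (85, true))) (.node (.leaf (70, true)) (.leaf (11, false)))) (.node (.node (.node (.leaf (46, false)) (.leaf (154, false))) (.leaf (116, false))) (.node (.leaf (77, false)) (.leaf (148, true))))) (.node (.node (.node (.node (.leaf (30, false)) (.leaf (49, true))) (.leaf (104, true))) (.node (.leaf (55, false)) (.leaf (9, false)))) (.node (.node (.node (.leaf (31, true)) (.leaf (83, true))) (.leaf (125, false))) (.node (.leaf (100, true)) (.leaf (141, false))))))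

def borelStep14 : Janko.Tree (ℕ × Bool) :=
  (.node (.node (.node (.node (.node (.leaf (15, false)) (.leaf (140, true))) (.leaf (86, false))) (.node (.leaf (71, false)) (.leaf (122, false)))) (.node (.node (.node (.leaf (47, false)) (.leaf (34, true))) (.leaf (117, false))) (.node (.leaf (85, false)) (.leaf (149, false))))) (.node (.node (.node (.node (.leaf (31, true)) (.leaf (158, false))) (.leaf (100, true))) (.node (.leaf (56, false)) (.leaf (124, false)))) (.node (.node (.node (.leaf (55, false)) (.leaf (58, false))) (.leaf (131, false))) (.node (.leaf (101, true)) (.leaf (18, false))))))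

def borelStep15 : Janko.Tree (ℕ × Bool) :=
  (.node (.node (.node (.node (.node (.leaf (16, true)) (.leaf (17, true))) (.leaf (3, true))) (.node (.leaf (69, false)) (.leaf (133, true)))) (.node (.node (.node (.leaf (45, true)) (.leaf (153, false))) (.leaf (118, false))) (.node (.leaf (86, false)) (.leaf (150, true))))) (.node (.node (.node (.node (.leaf (32, true)) (.leaf (48, false))) (.leaf (110, true))) (.node (.leaf (1, true)) (.leaf (136, true)))) (.node (.node (.node (.leaf (56, false)) (.leaf (84, false))) (.leaf (123, false))) (.node (.leaf (99, true)) (.leaf (139, true))))))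

def borelStep : Janko.Tree (ℕ × Bool) :=
  (.node (.node (.node (.node borelStep0 borelStep8) (.node borelStep4 borelStep12)) (.node (.node borelStep2 borelStep10) (.node borelStep6 borelStep14))) (.node (.node (.node borelStep1 borelStep9) (.node borelStep5 borelStep13)) (.node (.node borelStep3 borelStep11) (.node borelStep7 borelStep15))))

def borelPar0 : Janko.Tree (ℕ × Bool) :=
  (.node (.node (.node (.node (.leaf (0, false)) (.leaf (92, true))) (.leaf (35, true))) (.node (.leaf (15, true)) (.leaf (60, true)))) (.node (.node (.node (.leaf (7, true)) (.leaf (116, true))) (.leaf (50, true))) (.node (.leaf (24, false)) (.leaf (77, false)))))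

def borelPar1 : Janko.Tree (ℕ × Bool) :=
  (.node (.node (.node (.node (.leaf (0, false)) (.leaf (93, false))) (.leaf (36, false))) (.node (.leaf (16, false)) (.leaf (61, false)))) (.node (.node (.node (.leaf (8, false)) (.leaf (117, false))) (.leaf (51, false))) (.node (.leaf (25, false)) (.leaf (85, false)))))

def borelPar2 : Janko.Tree (ℕ × Bool) :=
  (.node (.node (.node (.node (.leaf (0, true)) (.leaf (94, false))) (.leaf (36, true))) (.node (.leaf (16, true)) (.leaf (61, true)))) (.node (.node (.node (.leaf (8, true)) (.leaf (117, true))) (.leaf (52, false))) (.node (.leaf (26, false)) (.leaf (85, true)))))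

def borelPar3 : Janko.Tree (ℕ × Bool) :=
  (.node (.node (.node (.node (.leaf (1, false)) (.leaf (95, false))) (.leaf (37, false))) (.node (.leaf (17, false)) (.leaf (62, false)))) (.node (.node (.node (.leaf (9, false)) (.leaf (118, false))) (.leaf (53, false))) (.node (.leaf (27, false)) (.leaf (86, false)))))

def borelPar4 : Janko.Tree (ℕ × Bool) :=
  (.node (.node (.node (.node (.leaf (1, true)) (.leaf (96, false))) (.leaf (37, true))) (.node (.leaf (17, true)) (.leaf (62, true)))) (.node (.node (.node (.leaf (9, true)) (.leaf (118, true))) (.leaf (54, false))) (.node (.leaf (28, false)) (.leaf (86, true)))))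

def borelPar5 : Janko.Tree (ℕ × Bool) :=
  (.node (.node (.node (.node (.leaf (2, false)) (.leaf (103, true))) (.leaf (38, false))) (.node (.leaf (18, false)) (.leaf (63, false)))) (.node (.node (.node (.leaf (10, false)) (.leaf (119, false))) (.leaf (55, false))) (.node (.leaf (29, false)) (.leaf (87, false)))))

def borelPar6 : Janko.Tree (ℕ × Bool) :=
  (.node (.node (.node (.node (.leaf (2, true)) (.leaf (104, true))) (.leaf (38, true))) (.node (.leaf (18, true)) (.leaf (64, false)))) (.node (.node (.node (.leaf (10, true)) (.leaf (119, true))) (.leaf (55, true))) (.node (.leaf (30, false)) (.leaf (87, true)))))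

def borelPar7 : Janko.Tree (ℕ × Bool) :=
  (.node (.node (.node (.node (.leaf (3, false)) (.leaf (105, false))) (.leaf (39, false))) (.node (.leaf (19, false)) (.leaf (65, false)))) (.node (.node (.node (.leaf (11, false)) (.leaf (120, false))) (.leaf (56, false))) (.node (.leaf (31, false)) (.leaf (88, false)))))

def borelPar8 : Janko.Tree (ℕ × Bool) :=
  (.node (.node (.node (.node (.leaf (3, true)) (.leaf (106, false))) (.leaf (40, false))) (.node (.leaf (19, true)) (.leaf (66, false)))) (.node (.node (.node (.leaf (11, true)) (.leaf (120, true))) (.leaf (56, true))) (.node (.leaf (31, true)) (.leaf (88, true)))))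

def borelPar9 : Janko.Tree (ℕ × Bool) :=
  (.node (.node (.node (.node (.leaf (4, false)) (.leaf (113, false))) (.leaf (41, false))) (.node (.leaf (20, false)) (.leaf (67, false)))) (.node (.node (.node (.leaf (12, false)) (.leaf (138, false))) (.leaf (57, false))) (.node (.leaf (32, false)) (.leaf (89, false)))))

def borelPar10 : Janko.Tree (ℕ × Bool) :=
  (.node (.node (.node (.node (.leaf (4, true)) (.leaf (113, true))) (.leaf (42, false))) (.node (.leaf (20, true)) (.leaf (68, false)))) (.node (.node (.node (.leaf (12, true)) (.leaf (139, false))) (.leaf (57, true))) (.node (.leaf (32, true)) (.leaf (89, true)))))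

def borelPar11 : Janko.Tree (ℕ × Bool) :=
  (.node (.node (.node (.node (.leaf (5, false)) (.leaf (114, false))) (.leaf (43, false))) (.node (.leaf (21, false)) (.leaf (72, true)))) (.node (.node (.node (.leaf (13, false)) (.leaf (140, false))) (.leaf (58, false))) (.node (.leaf (33, false)) (.leaf (90, false)))))

def borelPar12 : Janko.Tree (ℕ × Bool) :=
  (.node (.node (.node (.node (.leaf (5, true)) (.leaf (114, true))) (.leaf (44, false))) (.node (.leaf (21, true)) (.leaf (73, true)))) (.node (.node (.node (.leaf (13, true)) (.leaf (141, false))) (.leaf (58, true))) (.node (.leaf (33, true)) (.leaf (90, true)))))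

def borelPar13 : Janko.Tree (ℕ × Bool) :=
  (.node (.node (.node (.node (.leaf (6, false)) (.leaf (115, false))) (.leaf (45, false))) (.node (.leaf (22, false)) (.leaf (74, true)))) (.node (.node (.node (.leaf (14, false)) (.leaf (142, false))) (.leaf (59, false))) (.node (.leaf (34, false)) (.leaf (91, false)))))

def borelPar14 : Janko.Tree (ℕ × Bool) :=
  (.node (.node (.node (.node (.leaf (6, true)) (.leaf (115, true))) (.leaf (48, true))) (.node (.leaf (22, true)) (.leaf (75, false)))) (.node (.node (.node (.leaf (14, true)) (.leaf (143, false))) (.leaf (59, true))) (.node (.leaf (34, true)) (.leaf (91, true)))))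

def borelPar15 : Janko.Tree (ℕ × Bool) :=
  (.node (.node (.node (.node (.leaf (7, false)) (.leaf (116, false))) (.leaf (49, true))) (.node (.leaf (23, false)) (.leaf (76, false)))) (.node (.node (.node (.leaf (15, false)) (.leaf (144, false))) (.leaf (60, false))) (.node (.leaf (35, false)) (.leaf (92, false)))))

def borelPar : Janko.Tree (ℕ × Bool) :=
  (.node (.node (.node (.node borelPar0 borelPar8) (.node borelPar4 borelPar12)) (.node (.node borelPar2 borelPar10) (.node borelPar6 borelPar14))) (.node (.node (.node borelPar1 borelPar9) (.node borelPar5 borelPar13)) (.node (.node borelPar3 borelPar11) (.node borelPar7 borelPar15))))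

def borelGens : List ℕ := [1, 2]

def borelScalar0 : Janko.Tree (ℕ) :=
  (.node (.node (.node (.node (.leaf 1) (.leaf 7)) (.leaf 6)) (.node (.leaf 10) (.leaf 8))) (.node (.node (.node (.leaf 2) (.leaf 9)) (.leaf 6)) (.node (.leaf 10) (.leaf 3))))

def borelScalar1 : Janko.Tree (ℕ) :=
  (.node (.node (.node (.node (.leaf 5) (.leaf 7)) (.leaf 5)) (.node (.leaf 10) (.leaf 3))) (.node (.node (.node (.leaf 2) (.leaf 9)) (.leaf 5)) (.node (.leaf 10) (.leaf 4))))

def borelScalar2 : Janko.Tree (ℕ) :=
  (.node (.node (.node (.node (.leaf 5) (.leaf 4)) (.leaf 6)) (.node (.leaf 10) (.leaf 8))) (.node (.node (.node (.leaf 2) (.leaf 2)) (.leaf 6)) (.node (.leaf 10) (.leaf 7))))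

def borelScalar3 : Janko.Tree (ℕ) :=
  (.node (.node (.node (.node (.leaf 3) (.leaf 4)) (.leaf 5)) (.node (.leaf 1) (.leaf 3))) (.node (.node (.node (.leaf 2) (.leaf 9)) (.leaf 5)) (.node (.leaf 10) (.leaf 7))))

def borelScalar4 : Janko.Tree (ℕ) :=
  (.node (.node (.node (.node (.leaf 3) (.leaf 7)) (.leaf 5)) (.node (.leaf 10) (.leaf 8))) (.node (.node (.node (.leaf 9) (.leaf 9)) (.leaf 5)) (.node (.leaf 10) (.leaf 7))))

def borelScalar5 : Janko.Tree (ℕ) :=
  (.node (.node (.node (.node (.leaf 3) (.leaf 7)) (.leaf 6)) (.node (.leaf 10) (.leaf 3))) (.node (.node (.node (.leaf 2) (.leaf 2)) (.leaf 8)) (.node (.leaf 10) (.leaf 7))))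

def borelScalar6 : Janko.Tree (ℕ) :=
  (.node (.node (.node (.node (.leaf 3) (.leaf 7)) (.leaf 5)) (.node (.leaf 10) (.leaf 3))) (.node (.node (.node (.leaf 2) (.leaf 9)) (.leaf 8)) (.node (.leaf 10) (.leaf 7))))

def borelScalar7 : Janko.Tree (ℕ) :=
  (.node (.node (.node (.node (.leaf 4) (.leaf 4)) (.leaf 6)) (.node (.leaf 10) (.leaf 3))) (.node (.node (.node (.leaf 2) (.leaf 9)) (.leaf 8)) (.node (.leaf 6) (.leaf 7))))

def borelScalar8 : Janko.Tree (ℕ) :=
  (.node (.node (.node (.node (.leaf 4) (.leaf 4)) (.leaf 6)) (.node (.leaf 10) (.leaf 8))) (.node (.node (.node (.leaf 2) (.leaf 9)) (.leaf 8)) (.node (.leaf 6) (.leaf 4))))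

def borelScalar9 : Janko.Tree (ℕ) :=
  (.node (.node (.node (.node (.leaf 7) (.leaf 9)) (.leaf 5)) (.node (.leaf 1) (.leaf 3))) (.node (.node (.node (.leaf 9) (.leaf 1)) (.leaf 3)) (.node (.leaf 6) (.leaf 7))))

def borelScalar10 : Janko.Tree (ℕ) :=
  (.node (.node (.node (.node (.leaf 4) (.leaf 9)) (.leaf 5)) (.node (.leaf 10) (.leaf 8))) (.node (.node (.node (.leaf 2) (.leaf 1)) (.leaf 3)) (.node (.leaf 5) (.leaf 4))))

def borelScalar11 : Janko.Tree (ℕ) :=
  (.node (.node (.node (.node (.leaf 4) (.leaf 9)) (.leaf 6)) (.node (.leaf 10) (.leaf 8))) (.node (.node (.node (.leaf 2) (.leaf 10)) (.leaf 8)) (.node (.leaf 6) (.leaf 4))))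

def borelScalar12 : Janko.Tree (ℕ) :=
  (.node (.node (.node (.node (.leaf 7) (.leaf 2)) (.leaf 5)) (.node (.leaf 10) (.leaf 3))) (.node (.node (.node (.leaf 2) (.leaf 1)) (.leaf 8)) (.node (.leaf 6) (.leaf 7))))

def borelScalar13 : Janko.Tree (ℕ) :=
  (.node (.node (.node (.node (.leaf 4) (.leaf 9)) (.leaf 6)) (.node (.leaf 1) (.leaf 8))) (.node (.node (.node (.leaf 2) (.leaf 10)) (.leaf 8)) (.node (.leaf 6) (.leaf 4))))

def borelScalar14 : Janko.Tree (ℕ) :=
  (.node (.node (.node (.node (.leaf 4) (.leaf 9)) (.leaf 5)) (.node (.leaf 10) (.leaf 8))) (.node (.node (.node (.leaf 9) (.leaf 10)) (.leaf 3)) (.node (.leaf 5) (.leaf 4))))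

def borelScalar15 : Janko.Tree (ℕ) :=
  (.node (.node (.node (.node (.leaf 9) (.leaf 2)) (.leaf 5)) (.node (.leaf 10) (.leaf 8))) (.node (.node (.node (.leaf 10) (.leaf 1)) (.leaf 3)) (.node (.leaf 6) (.leaf 7))))

def borelScalar : Janko.Tree (ℕ) :=
  (.node (.node (.node (.node borelScalar0 borelScalar8) (.node borelScalar4 borelScalar12)) (.node (.node borelScalar2 borelScalar10) (.node borelScalar6 borelScalar14))) (.node (.node (.node borelScalar1 borelScalar9) (.node borelScalar5 borelScalar13)) (.node (.node borelScalar3 borelScalar11) (.node borelScalar7 borelScalar15))))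

def lineScalar0 : Janko.Tree (ℕ) :=
  (.node (.node (.node (.node (.node (.node (.node (.node (.leaf 1) (.leaf 10)) (.node (.leaf 9) (.leaf 2))) (.node (.node (.leaf 2) (.leaf 1)) (.node (.leaf 3) (.leaf 4)))) (.node (.node (.node (.leaf 5) (.leaf 10)) (.node (.leaf 9) (.leaf 7))) (.node (.node (.leaf 1) (.leaf 3)) (.leaf 9)))) (.node (.node (.node (.node (.leaf 4) (.leaf 5)) (.node (.leaf 3) (.leaf 3))) (.node (.node (.leaf 9) (.leaf 6)) (.node (.leaf 8) (.leaf 5)))) (.node (.node (.node (.leaf 5) (.leaf 4)) (.node (.leaf 2) (.leaf 1))) (.node (.node (.leaf 2) (.leaf 1)) (.leaf 3))))) (.node (.node (.node (.node (.node (.leaf 2) (.leaf 6)) (.node (.leaf 4) (.leaf 4))) (.node (.node (.leaf 8) (.leaf 4)) (.node (.leaf 4) (.leaf 1)))) (.node (.node (.node (.leaf 6) (.leaf 5)) (.node (.leaf 9) (.leaf 1))) (.node (.node (.leaf 6) (.leaf 6)) (.leaf 7)))) (.node (.node (.node (.node (.leaf 3) (.leaf 3)) (.node (.leaf 2) (.leaf 4))) (.node (.node (.leaf 4) (.leaf 1)) (.node (.leaf 4) (.leaf 5)))) (.node (.node (.node (.leaf 4) (.leaf 3)) (.node (.leaf 3) (.leaf 2))) (.node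 (.node (.leaf 6) (.leaf 8)) (.leaf 5)))))) (.node (.node (.node (.node (.node (.node (.leaf 6) (.leaf 1)) (.node (.leaf 4) (.leaf 4))) (.node (.node (.leaf 9) (.leaf 4)) (.node (.leaf 8) (.leaf 1)))) (.node (.node (.node (.leaf 4) (.leaf 5)) (.node (.leaf 8) (.leaf 8))) (.node (.node (.leaf 2) (.leaf 5)) (.leaf 5)))) (.node (.node (.node (.node (.leaf 3) (.leaf 8)) (.node (.leaf 2) (.leaf 2))) (.node (.node (.leaf 5) (.leaf 5)) (.node (.leaf 3) (.leaf 1)))) (.node (.node (.node (.leaf 3) (.leaf 2)) (.node (.leaf 5) (.leaf 2))) (.node (.node (.leaf 6) (.leaf 7)) (.leaf 2))))) (.node (.node (.node (.node (.node (.leaf 8) (.leaf 9)) (.node (.leaf 2) (.leaf 5))) (.node (.node (.leaf 10) (.leaf 7)) (.node (.leaf 2) (.leaf 9)))) (.node (.node (.node (.leaf 3) (.leaf 3)) (.node (.leaf 8) (.leaf 6))) (.node (.node (.leaf 6) (.leaf 4)) (.leaf 8)))) (.node (.node (.node (.node (.leaf 9) (.leaf 7)) (.node (.leaf 1) (.leaf 3))) (.node (.node (.leaf 10) (.leaf 1)) (.leaf 10))) (.node (.node (.node (.leaf 1) (.leaf 1)) (.node (.leaf 7) (.leaf 5))) (.node (.node (.leaf 4) (.leaf 9))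 (.leaf 10))))))) (.node (.node (.node (.node (.node (.node (.node (.leaf 9) (.leaf 5)) (.node (.leaf 2) (.leaf 3))) (.node (.node (.leaf 1) (.leaf 1)) (.node (.leaf 4) (.leaf 10)))) (.node (.node (.node (.leaf 10) (.leaf 10)) (.node (.leaf 1) (.leaf 7))) (.node (.node (.leaf 8) (.leaf 8)) (.leaf 8)))) (.node (.node (.node (.node (.leaf 4) (.leaf 2)) (.node (.leaf 9) (.leaf 5))) (.node (.node (.leaf 7) (.leaf 9)) (.node (.leaf 2) (.leaf 3)))) (.node (.node (.node (.leaf 7) (.leaf 5)) (.node (.leaf 4) (.leaf 7))) (.node (.node (.leaf 5) (.leaf 1)) (.leaf 6))))) (.node (.node (.node (.node (.node (.leaf 10) (.leaf 10)) (.node (.leaf 1) (.leaf 9))) (.node (.node (.leaf 9) (.leaf 5)) (.node (.leaf 9) (.leaf 9)))) (.node (.node (.node (.leaf 3) (.leaf 9)) (.node (.leaf 5) (.leaf 7))) (.node (.node (.leaf 1) (.leaf 8)) (.leaf 7)))) (.node (.node (.node (.node (.leaf 6) (.leaf 9)) (.node (.leaf 2) (.leaf 9))) (.node (.node (.leaf 1) (.leaf 8)) (.leaf 7))) (.node (.node (.node (.leaf 7) (.leaf 7)) (.node (.leaf 8) (.leaf 8))) (.node (.node (.leaf 4) (.leaf 5)) (.leaf 1)))))) (.node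 (.node (.node (.node (.node (.node (.leaf 9) (.leaf 7)) (.node (.leaf 8) (.leaf 4))) (.node (.node (.leaf 8) (.leaf 4)) (.node (.leaf 10) (.leaf 7)))) (.node (.node (.node (.leaf 9) (.leaf 3)) (.node (.leaf 8) (.leaf 1))) (.node (.node (.leaf 4) (.leaf 8)) (.leaf 1)))) (.node (.node (.node (.node (.leaf 2) (.leaf 2)) (.node (.leaf 3) (.leaf 2))) (.node (.node (.leaf 3) (.leaf 5)) (.node (.leaf 5) (.leaf 8)))) (.node (.node (.node (.leaf 1) (.leaf 4)) (.node (.leaf 9) (.leaf 10))) (.node (.node (.leaf 5) (.leaf 2)) (.leaf 4))))) (.node (.node (.node (.node (.node (.leaf 3) (.leaf 4)) (.node (.leaf 1) (.leaf 1))) (.node (.node (.leaf 1) (.leaf 10)) (.node (.leaf 4) (.leaf 4)))) (.node (.node (.node (.leaf 5) (.leaf 3)) (.node (.leaf 8) (.leaf 4))) (.node (.node (.leaf 7) (.leaf 6)) (.leaf 2)))) (.node (.node (.node (.node (.leaf 8) (.leaf 5)) (.node (.leaf 6) (.leaf 8))) (.node (.node (.leaf 3) (.leaf 2)) (.leaf 3))) (.node (.node (.node (.leaf 7) (.leaf 5)) (.node (.leaf 7) (.leaf 10))) (.node (.node (.leaf 1) (.leaf 4)) (.leaf 8))))))))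

def lineScalar1 : Janko.Tree (ℕ) :=
  (.node (.node (.node (.node (.node (.node (.node (.node (.leaf 6) (.leaf 2)) (.node (.leaf 2) (.leaf 1))) (.node (.node (.leaf 6) (.leaf 5)) (.node (.leaf 8) (.leaf 1)))) (.node (.node (.node (.leaf 4) (.leaf 5)) (.node (.leaf 3) (.leaf 2))) (.node (.node (.leaf 7) (.leaf 4)) (.leaf 5)))) (.node (.node (.node (.node (.leaf 10) (.leaf 5)) (.node (.leaf 3) (.leaf 2))) (.node (.node (.leaf 1) (.leaf 5)) (.node (.leaf 7) (.leaf 2)))) (.node (.node (.node (.leaf 10) (.leaf 7)) (.node (.leaf 3) (.leaf 8))) (.node (.node (.leaf 1) (.leaf 6)) (.leaf 2))))) (.node (.node (.node (.node (.node (.leaf 8) (.leaf 5)) (.node (.leaf 9) (.leaf 1))) (.node (.node (.leaf 10) (.leaf 3)) (.node (.leaf 10) (.leaf 9)))) (.node (.node (.node (.leaf 3) (.leaf 1)) (.node (.leaf 4) (.leaf 1))) (.node (.node (.leaf 5) (.leaf 1)) (.leaf 3)))) (.node (.node (.node (.node (.leaf 5) (.leaf 10)) (.node (.leaf 2) (.leaf 1))) (.node (.node (.leaf 5) (.leaf 3)) (.node (.leaf 9) (.leaf 1)))) (.node (.node (.node (.leaf 6) (.leaf 5)) (.node (.leaf 9) (.leaf 8))) (.node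 (.node (.leaf 1) (.leaf 8)) (.leaf 7)))))) (.node (.node (.node (.node (.node (.node (.leaf 6) (.leaf 1)) (.node (.leaf 10) (.leaf 1))) (.node (.node (.leaf 2) (.leaf 4)) (.node (.leaf 9) (.leaf 9)))) (.node (.node (.node (.leaf 3) (.leaf 4)) (.node (.leaf 6) (.leaf 6))) (.node (.node (.leaf 5) (.leaf 6)) (.leaf 8)))) (.node (.node (.node (.node (.leaf 7) (.leaf 1)) (.node (.leaf 7) (.leaf 2))) (.node (.node (.leaf 3) (.leaf 7)) (.node (.leaf 4) (.leaf 7)))) (.node (.node (.node (.leaf 9) (.leaf 6)) (.node (.leaf 10) (.leaf 7))) (.node (.node (.leaf 3) (.leaf 2)) (.leaf 1))))) (.node (.node (.node (.node (.node (.leaf 6) (.leaf 6)) (.node (.leaf 7) (.leaf 8))) (.node (.node (.leaf 2) (.leaf 6)) (.node (.leaf 6) (.leaf 4)))) (.node (.node (.node (.leaf 2) (.leaf 7)) (.node (.leaf 9) (.leaf 10))) (.node (.node (.leaf 7) (.leaf 3)) (.leaf 8)))) (.node (.node (.node (.node (.leaf 4) (.leaf 6)) (.node (.leaf 6) (.leaf 2))) (.node (.node (.leaf 3) (.leaf 5)) (.leaf 6))) (.node (.node (.node (.leaf 4) (.leaf 9)) (.node (.leaf 1) (.leaf 1))) (.node (.node (.leaf 7) (.leaf 5))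 (.leaf 2))))))) (.node (.node (.node (.node (.node (.node (.node (.leaf 5) (.leaf 10)) (.node (.leaf 6) (.leaf 5))) (.node (.node (.leaf 3) (.leaf 5)) (.node (.leaf 5) (.leaf 5)))) (.node (.node (.node (.leaf 2) (.leaf 1)) (.node (.leaf 10) (.leaf 4))) (.node (.node (.leaf 8) (.leaf 2)) (.leaf 10)))) (.node (.node (.node (.node (.leaf 5) (.leaf 7)) (.node (.leaf 3) (.leaf 2))) (.node (.node (.leaf 5) (.leaf 10)) (.node (.leaf 10) (.leaf 1)))) (.node (.node (.node (.leaf 6) (.leaf 1)) (.node (.leaf 4) (.leaf 9))) (.node (.node (.leaf 10) (.leaf 6)) (.leaf 7))))) (.node (.node (.node (.node (.node (.leaf 7) (.leaf 7)) (.node (.leaf 3) (.leaf 10))) (.node (.node (.leaf 1) (.leaf 7)) (.node (.leaf 6) (.leaf 7)))) (.node (.node (.node (.leaf 9) (.leaf 10)) (.node (.leaf 2) (.leaf 10))) (.node (.node (.leaf 9) (.leaf 4)) (.leaf 8)))) (.node (.node (.node (.node (.leaf 3) (.leaf 4)) (.node (.leaf 10) (.leaf 9))) (.node (.node (.leaf 1) (.leaf 5)) (.leaf 4))) (.node (.node (.node (.leaf 4) (.leaf 10)) (.node (.leaf 10) (.leaf 1))) (.node (.node (.leaf 2) (.leaf 4)) (.leaf 4))))))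 (.node (.node (.node (.node (.node (.node (.leaf 1) (.leaf 8)) (.node (.leaf 5) (.leaf 6))) (.node (.node (.leaf 3) (.leaf 2)) (.node (.leaf 2) (.leaf 4)))) (.node (.node (.node (.leaf 9) (.leaf 6)) (.node (.leaf 2) (.leaf 4))) (.node (.node (.leaf 3) (.leaf 5)) (.leaf 3)))) (.node (.node (.node (.node (.leaf 10) (.leaf 2)) (.node (.leaf 10) (.leaf 6))) (.node (.node (.leaf 2) (.leaf 3)) (.node (.leaf 5) (.leaf 3)))) (.node (.node (.node (.leaf 6) (.leaf 7)) (.node (.leaf 7) (.leaf 3))) (.node (.node (.leaf 1) (.leaf 6)) (.leaf 2))))) (.node (.node (.node (.node (.node (.leaf 4) (.leaf 1)) (.node (.leaf 5) (.leaf 3))) (.node (.node (.leaf 10) (.leaf 9)) (.node (.leaf 7) (.leaf 9)))) (.node (.node (.node (.leaf 6) (.leaf 2)) (.node (.leaf 6) (.leaf 10))) (.node (.node (.leaf 8) (.leaf 8)) (.leaf 6)))) (.node (.node (.node (.node (.leaf 5) (.leaf 6)) (.node (.leaf 5) (.leaf 10))) (.node (.node (.leaf 2) (.leaf 6)) (.leaf 4))) (.node (.node (.node (.leaf 3) (.leaf 5)) (.node (.leaf 6) (.leaf 8))) (.node (.node (.leaf 6) (.leaf 3)) (.leaf 8))))))))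

def lineScalar2 : Janko.Tree (ℕ) :=
  (.node (.node (.node (.node (.node (.node (.node (.node (.leaf 8) (.leaf 8)) (.node (.leaf 5) (.leaf 2))) (.node (.node (.leaf 3) (.leaf 6)) (.node (.leaf 2) (.leaf 3)))) (.node (.node (.node (.leaf 10) (.leaf 6)) (.node (.leaf 7) (.leaf 1))) (.node (.node (.leaf 6) (.leaf 9)) (.leaf 9)))) (.node (.node (.node (.node (.leaf 6) (.leaf 1)) (.node (.leaf 2) (.leaf 3))) (.node (.node (.leaf 3) (.leaf 10)) (.node (.leaf 10) (.leaf 4)))) (.node (.node (.node (.leaf 2) (.leaf 3)) (.node (.leaf 6) (.leaf 3))) (.node (.node (.leaf 6) (.leaf 3)) (.leaf 2))))) (.node (.node (.node (.node (.node (.leaf 5) (.leaf 10)) (.node (.leaf 9) (.leaf 1))) (.node (.node (.leaf 2) (.leaf 7)) (.node (.leaf 10) (.leaf 10)))) (.node (.node (.node (.leaf 1) (.leaf 2)) (.node (.leaf 3) (.leaf 3))) (.node (.node (.leaf 9) (.leaf 10)) (.leaf 3)))) (.node (.node (.node (.node (.leaf 1) (.leaf 6)) (.node (.leaf 7) (.leaf 1))) (.node (.node (.leaf 2) (.leaf 5)) (.node (.leaf 1) (.leaf 3)))) (.node (.node (.node (.leaf 8) (.leaf 8)) (.node (.leaf 3) (.leaf 3))) (.node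 (.node (.leaf 1) (.leaf 4)) (.leaf 10)))))) (.node (.node (.node (.node (.node (.node (.leaf 4) (.leaf 10)) (.node (.leaf 2) (.leaf 2))) (.node (.node (.leaf 1) (.leaf 3)) (.node (.leaf 7) (.leaf 10)))) (.node (.node (.node (.leaf 7) (.leaf 2)) (.node (.leaf 5) (.leaf 3))) (.node (.node (.leaf 5) (.leaf 10)) (.leaf 2)))) (.node (.node (.node (.node (.leaf 10) (.leaf 6)) (.node (.leaf 1) (.leaf 9))) (.node (.node (.leaf 1) (.leaf 2)) (.node (.leaf 5) (.leaf 4)))) (.node (.node (.node (.leaf 8) (.leaf 9)) (.node (.leaf 1) (.leaf 8))) (.node (.node (.leaf 3) (.leaf 1)) (.leaf 4))))) (.node (.node (.node (.node (.node (.leaf 4) (.leaf 5)) (.node (.leaf 4) (.leaf 6))) (.node (.node (.leaf 10) (.leaf 4)) (.node (.leaf 8) (.leaf 10)))) (.node (.node (.node (.leaf 6) (.leaf 1)) (.node (.leaf 9) (.leaf 2))) (.node (.node (.leaf 5) (.leaf 6)) (.leaf 7)))) (.node (.node (.node (.node (.leaf 10) (.leaf 4)) (.node (.leaf 3) (.leaf 9))) (.node (.node (.leaf 2) (.leaf 1)) (.leaf 7))) (.node (.node (.node (.leaf 8) (.leaf 5)) (.node (.leaf 2) (.leaf 9))) (.node (.node (.leaf 4) (.leaf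 1)) (.leaf 10))))))) (.node (.node (.node (.node (.node (.node (.node (.leaf 3) (.leaf 2)) (.node (.leaf 10) (.leaf 7))) (.node (.node (.leaf 1) (.leaf 2)) (.node (.leaf 9) (.leaf 6)))) (.node (.node (.node (.leaf 10) (.leaf 3)) (.node (.leaf 4) (.leaf 6))) (.node (.node (.leaf 8) (.leaf 8)) (.leaf 4)))) (.node (.node (.node (.node (.leaf 10) (.leaf 9)) (.node (.leaf 8) (.leaf 8))) (.node (.node (.leaf 10) (.leaf 10)) (.node (.leaf 4) (.leaf 5)))) (.node (.node (.node (.leaf 5) (.leaf 7)) (.node (.leaf 1) (.leaf 4))) (.node (.node (.leaf 1) (.leaf 8)) (.leaf 2))))) (.node (.node (.node (.node (.node (.leaf 10) (.leaf 5)) (.node (.leaf 6) (.leaf 3))) (.node (.node (.leaf 2) (.leaf 3)) (.node (.leaf 4) (.leaf 8)))) (.node (.node (.node (.leaf 8) (.leaf 2)) (.node (.leaf 9) (.leaf 1))) (.node (.node (.leaf 2) (.leaf 5)) (.leaf 6)))) (.node (.node (.node (.node (.leaf 7) (.leaf 10)) (.node (.leaf 8) (.leaf 7))) (.node (.node (.leaf 1) (.leaf 6)) (.leaf 1))) (.node (.node (.node (.leaf 9) (.leaf 1)) (.node (.leaf 9) (.leaf 7))) (.node (.node (.leaf 8) (.leaf 2)) (.leaf 3))))))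 (.node (.node (.node (.node (.node (.node (.leaf 1) (.leaf 1)) (.node (.leaf 8) (.leaf 4))) (.node (.node (.leaf 4) (.leaf 7)) (.node (.leaf 5) (.leaf 2)))) (.node (.node (.node (.leaf 2) (.leaf 5)) (.node (.leaf 1) (.leaf 5))) (.node (.node (.leaf 3) (.leaf 3)) (.leaf 5)))) (.node (.node (.node (.node (.leaf 8) (.leaf 4)) (.node (.leaf 3) (.leaf 9))) (.node (.node (.leaf 1) (.leaf 6)) (.node (.leaf 5) (.leaf 9)))) (.node (.node (.node (.leaf 4) (.leaf 4)) (.node (.leaf 3) (.leaf 7))) (.node (.node (.leaf 9) (.leaf 1)) (.leaf 9))))) (.node (.node (.node (.node (.node (.leaf 2) (.leaf 6)) (.node (.leaf 4) (.leaf 5))) (.node (.node (.leaf 9) (.leaf 4)) (.node (.leaf 3) (.leaf 6)))) (.node (.node (.node (.leaf 10) (.leaf 10)) (.node (.leaf 3) (.leaf 9))) (.node (.node (.leaf 4) (.leaf 7)) (.leaf 10)))) (.node (.node (.node (.node (.leaf 4) (.leaf 1)) (.node (.leaf 5) (.leaf 6))) (.node (.node (.leaf 4) (.leaf 7)) (.leaf 7))) (.node (.node (.node (.leaf 10) (.leaf 1)) (.node (.leaf 1) (.leaf 6))) (.node (.node (.leaf 9) (.leaf 3)) (.leaf 5))))))))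

def lineScalar3 : Janko.Tree (ℕ) :=
  (.node (.node (.node (.node (.node (.node (.node (.node (.leaf 10) (.leaf 10)) (.node (.leaf 8) (.leaf 8))) (.node (.node (.leaf 7) (.leaf 1)) (.node (.leaf 9) (.leaf 4)))) (.node (.node (.node (.leaf 6) (.leaf 3)) (.node (.leaf 1) (.leaf 7))) (.node (.node (.leaf 8) (.leaf 6)) (.leaf 4)))) (.node (.node (.node (.node (.leaf 6) (.leaf 8)) (.node (.leaf 1) (.leaf 7))) (.node (.node (.leaf 5) (.leaf 1)) (.node (.leaf 4) (.leaf 4)))) (.node (.node (.node (.leaf 6) (.leaf 3)) (.node (.leaf 8) (.leaf 8))) (.node (.node (.leaf 10) (.leaf 9)) (.leaf 9))))) (.node (.node (.node (.node (.node (.leaf 10) (.leaf 8)) (.node (.leaf 3) (.leaf 8))) (.node (.node (.leaf 7) (.leaf 1)) (.node (.leaf 9) (.leaf 10)))) (.node (.node (.node (.leaf 3) (.leaf 3)) (.node (.leaf 8) (.leaf 9))) (.node (.node (.leaf 2) (.leaf 7)) (.leaf 10)))) (.node (.node (.node (.node (.leaf 10) (.leaf 2)) (.node (.leaf 7) (.leaf 10))) (.node (.node (.leaf 5) (.leaf 3)) (.node (.leaf 2) (.leaf 3)))) (.node (.node (.node (.leaf 2) (.leaf 10)) (.node (.leaf 1) (.leaf 8)))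 (.node (.node (.leaf 5) (.leaf 5)) (.leaf 9)))))) (.node (.node (.node (.node (.node (.node (.leaf 6) (.leaf 4)) (.node (.leaf 1) (.leaf 4))) (.node (.node (.leaf 7) (.leaf 1)) (.node (.leaf 7) (.leaf 6)))) (.node (.node (.node (.leaf 7) (.leaf 1)) (.node (.leaf 5) (.leaf 4))) (.node (.node (.leaf 2) (.leaf 4)) (.leaf 3)))) (.node (.node (.node (.node (.leaf 2) (.leaf 9)) (.node (.leaf 5) (.leaf 3))) (.node (.node (.leaf 1) (.leaf 10)) (.node (.leaf 10) (.leaf 3)))) (.node (.node (.node (.leaf 5) (.leaf 9)) (.node (.leaf 10) (.leaf 1))) (.node (.node (.leaf 3) (.leaf 1)) (.leaf 8))))) (.node (.node (.node (.node (.node (.leaf 4) (.leaf 7)) (.node (.leaf 10) (.leaf 4))) (.node (.node (.leaf 9) (.leaf 5)) (.node (.leaf 4) (.leaf 8)))) (.node (.node (.node (.leaf 7) (.leaf 9)) (.node (.leaf 7) (.leaf 8))) (.node (.node (.leaf 8) (.leaf 9)) (.leaf 9)))) (.node (.node (.node (.node (.leaf 9) (.leaf 8)) (.node (.leaf 8) (.leaf 1))) (.node (.node (.leaf 8) (.leaf 9)) (.leaf 9))) (.node (.node (.node (.leaf 6) (.leaf 8)) (.node (.leaf 1) (.leaf 10))) (.node (.node (.leaf 8) (.leaf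 10)) (.leaf 9))))))) (.node (.node (.node (.node (.node (.node (.node (.leaf 9) (.leaf 4)) (.node (.leaf 10) (.leaf 9))) (.node (.node (.leaf 2) (.leaf 1)) (.node (.leaf 7) (.leaf 7)))) (.node (.node (.node (.leaf 6) (.leaf 3)) (.node (.leaf 10) (.leaf 1))) (.node (.node (.leaf 3) (.leaf 6)) (.leaf 9)))) (.node (.node (.node (.node (.leaf 1) (.leaf 6)) (.node (.leaf 8) (.leaf 1))) (.node (.node (.leaf 8) (.leaf 5)) (.node (.leaf 1) (.leaf 6)))) (.node (.node (.node (.leaf 1) (.leaf 7)) (.node (.leaf 8) (.leaf 2))) (.node (.node (.leaf 6) (.leaf 1)) (.leaf 4))))) (.node (.node (.node (.node (.node (.leaf 7) (.leaf 6)) (.node (.leaf 5) (.leaf 10))) (.node (.node (.leaf 9) (.leaf 1)) (.node (.leaf 2) (.leaf 6)))) (.node (.node (.node (.leaf 9) (.leaf 9)) (.node (.leaf 7) (.leaf 4))) (.node (.node (.leaf 1) (.leaf 6)) (.leaf 4)))) (.node (.node (.node (.node (.leaf 10) (.leaf 7)) (.node (.leaf 2) (.leaf 4))) (.node (.node (.leaf 1) (.leaf 10)) (.leaf 6))) (.node (.node (.node (.leaf 10) (.leaf 7)) (.node (.leaf 8) (.leaf 10))) (.node (.node (.leaf 1) (.leaf 1)) (.leaf 4))))))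 (.node (.node (.node (.node (.node (.node (.leaf 8) (.leaf 8)) (.node (.leaf 10) (.leaf 6))) (.node (.node (.leaf 8) (.leaf 5)) (.node (.leaf 7) (.leaf 8)))) (.node (.node (.node (.leaf 5) (.leaf 7)) (.node (.leaf 2) (.leaf 3))) (.node (.node (.leaf 9) (.leaf 1)) (.leaf 9)))) (.node (.node (.node (.node (.leaf 6) (.leaf 5)) (.node (.leaf 9) (.leaf 1))) (.node (.node (.leaf 5) (.leaf 3)) (.node (.leaf 9) (.leaf 8)))) (.node (.node (.node (.leaf 3) (.leaf 9)) (.node (.leaf 5) (.leaf 6))) (.node (.node (.leaf 2) (.leaf 9)) (.leaf 10))))) (.node (.node (.node (.node (.node (.leaf 9) (.leaf 6)) (.node (.leaf 5) (.leaf 8))) (.node (.node (.leaf 7) (.leaf 9)) (.node (.leaf 6) (.leaf 10)))) (.node (.node (.node (.leaf 2) (.leaf 3)) (.node (.leaf 6) (.leaf 2))) (.node (.node (.leaf 5) (.leaf 8)) (.leaf 2)))) (.node (.node (.node (.node (.leaf 4) (.leaf 10)) (.node (.leaf 10) (.leaf 10))) (.node (.node (.leaf 7) (.leaf 4)) (.leaf 3))) (.node (.node (.node (.leaf 9) (.leaf 6)) (.node (.leaf 9) (.leaf 7))) (.node (.node (.leaf 5) (.leaf 5)) (.leaf 5))))))))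

def lineScalar4 : Janko.Tree (ℕ) :=
  (.node (.node (.node (.node (.node (.node (.node (.node (.leaf 2) (.leaf 7)) (.node (.leaf 10) (.leaf 8))) (.node (.node (.leaf 2) (.leaf 7)) (.node (.leaf 3) (.leaf 1)))) (.node (.node (.node (.leaf 5) (.leaf 1)) (.node (.leaf 5) (.leaf 2))) (.node (.node (.leaf 10) (.leaf 9)) (.leaf 7)))) (.node (.node (.node (.node (.leaf 9) (.leaf 3)) (.node (.leaf 6) (.leaf 4))) (.node (.node (.leaf 10) (.leaf 8)) (.node (.leaf 8) (.leaf 1)))) (.node (.node (.node (.leaf 3) (.leaf 2)) (.node (.leaf 3) (.leaf 9))) (.node (.node (.leaf 10) (.leaf 9)) (.leaf 8))))) (.node (.node (.node (.node (.node (.leaf 4) (.leaf 5)) (.node (.leaf 1) (.leaf 6))) (.node (.node (.leaf 10) (.leaf 8)) (.node (.leaf 1) (.leaf 10)))) (.node (.node (.node (.leaf 1) (.leaf 8)) (.node (.leaf 5) (.leaf 2))) (.node (.node (.leaf 4) (.leaf 4)) (.leaf 8)))) (.node (.node (.node (.node (.leaf 2) (.leaf 5)) (.node (.leaf 4) (.leaf 1))) (.node (.node (.leaf 6) (.leaf 1)) (.leaf 7))) (.node (.node (.node (.leaf 10) (.leaf 2)) (.node (.leaf 4) (.leaf 10))) (.node (.node (.leaf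 5) (.leaf 8)) (.leaf 9)))))) (.node (.node (.node (.node (.node (.node (.leaf 5) (.leaf 10)) (.node (.leaf 2) (.leaf 8))) (.node (.node (.leaf 6) (.leaf 4)) (.node (.leaf 2) (.leaf 1)))) (.node (.node (.node (.leaf 7) (.leaf 10)) (.node (.leaf 2) (.leaf 5))) (.node (.node (.leaf 8) (.leaf 4)) (.leaf 4)))) (.node (.node (.node (.node (.leaf 5) (.leaf 9)) (.node (.leaf 7) (.leaf 7))) (.node (.node (.leaf 4) (.leaf 7)) (.node (.leaf 9) (.leaf 8)))) (.node (.node (.node (.leaf 9) (.leaf 8)) (.node (.leaf 3) (.leaf 3))) (.node (.node (.leaf 2) (.leaf 2)) (.leaf 8))))) (.node (.node (.node (.node (.node (.leaf 10) (.leaf 8)) (.node (.leaf 5) (.leaf 6))) (.node (.node (.leaf 9) (.leaf 9)) (.node (.leaf 4) (.leaf 10)))) (.node (.node (.node (.leaf 6) (.leaf 1)) (.node (.leaf 8) (.leaf 1))) (.node (.node (.leaf 10) (.leaf 5)) (.leaf 6)))) (.node (.node (.node (.node (.leaf 6) (.leaf 4)) (.node (.leaf 8) (.leaf 8))) (.node (.node (.leaf 1) (.leaf 7)) (.leaf 4))) (.node (.node (.node (.leaf 4) (.leaf 4)) (.node (.leaf 6) (.leaf 8))) (.node (.node (.leaf 4) (.leaf 6)) (.leaf 6)))))))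 (.node (.node (.node (.node (.node (.node (.node (.leaf 3) (.leaf 6)) (.node (.leaf 1) (.leaf 3))) (.node (.node (.leaf 1) (.leaf 4)) (.node (.leaf 2) (.leaf 3)))) (.node (.node (.node (.leaf 4) (.leaf 9)) (.node (.leaf 5) (.leaf 8))) (.node (.node (.leaf 1) (.leaf 5)) (.leaf 7)))) (.node (.node (.node (.node (.leaf 10) (.leaf 8)) (.node (.leaf 3) (.leaf 3))) (.node (.node (.leaf 6) (.leaf 5)) (.node (.leaf 8) (.leaf 1)))) (.node (.node (.node (.leaf 7) (.leaf 8)) (.node (.leaf 2) (.leaf 5))) (.node (.node (.leaf 1) (.leaf 5)) (.leaf 3))))) (.node (.node (.node (.node (.node (.leaf 8) (.leaf 2)) (.node (.leaf 1) (.leaf 4))) (.node (.node (.leaf 6) (.leaf 10)) (.node (.leaf 3) (.leaf 10)))) (.node (.node (.node (.leaf 5) (.leaf 8)) (.node (.leaf 3) (.leaf 6))) (.node (.node (.leaf 10) (.leaf 3)) (.leaf 10)))) (.node (.node (.node (.node (.leaf 3) (.leaf 4)) (.node (.leaf 1) (.leaf 3))) (.node (.node (.leaf 9) (.leaf 8)) (.leaf 4))) (.node (.node (.node (.leaf 9) (.leaf 5)) (.node (.leaf 3) (.leaf 9))) (.node (.node (.leaf 10) (.leaf 2)) (.leaf 7)))))) (.node (.node (.node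 (.node (.node (.node (.leaf 7) (.leaf 2)) (.node (.leaf 7) (.leaf 1))) (.node (.node (.leaf 5) (.leaf 4)) (.node (.leaf 2) (.leaf 6)))) (.node (.node (.node (.leaf 6) (.leaf 5)) (.node (.leaf 10) (.leaf 5))) (.node (.node (.leaf 8) (.leaf 3)) (.leaf 5)))) (.node (.node (.node (.node (.leaf 2) (.leaf 8)) (.node (.leaf 1) (.leaf 6))) (.node (.node (.leaf 6) (.leaf 1)) (.node (.leaf 3) (.leaf 4)))) (.node (.node (.node (.leaf 1) (.leaf 7)) (.node (.leaf 10) (.leaf 8))) (.node (.node (.leaf 3) (.leaf 8)) (.leaf 2))))) (.node (.node (.node (.node (.node (.leaf 3) (.leaf 5)) (.node (.leaf 4) (.leaf 2))) (.node (.node (.leaf 5) (.leaf 1)) (.node (.leaf 4) (.leaf 10)))) (.node (.node (.node (.leaf 10) (.leaf 2)) (.node (.leaf 2) (.leaf 6))) (.node (.node (.leaf 1) (.leaf 6)) (.leaf 9)))) (.node (.node (.node (.node (.leaf 3) (.leaf 4)) (.node (.leaf 1) (.leaf 6))) (.node (.node (.leaf 6) (.leaf 5)) (.leaf 7))) (.node (.node (.node (.leaf 3) (.leaf 6)) (.node (.leaf 1) (.leaf 5))) (.node (.node (.leaf 3) (.leaf 10)) (.leaf 1))))))))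

def lineScalar5 : Janko.Tree (ℕ) :=
  (.node (.node (.node (.node (.node (.node (.node (.node (.leaf 3) (.leaf 8)) (.node (.leaf 3) (.leaf 10))) (.node (.node (.leaf 8) (.leaf 5)) (.node (.leaf 3) (.leaf 2)))) (.node (.node (.node (.leaf 9) (.leaf 2)) (.node (.leaf 5) (.leaf 1))) (.node (.node (.leaf 9) (.leaf 8)) (.leaf 5)))) (.node (.node (.node (.node (.leaf 3) (.leaf 7)) (.node (.leaf 1) (.leaf 10))) (.node (.node (.leaf 5) (.leaf 3)) (.node (.leaf 6) (.leaf 3)))) (.node (.node (.node (.leaf 9) (.leaf 7)) (.node (.leaf 2) (.leaf 5))) (.node (.node (.leaf 3) (.leaf 4)) (.leaf 6))))) (.node (.node (.node (.node (.node (.leaf 7) (.leaf 4)) (.node (.leaf 6) (.leaf 10))) (.node (.node (.leaf 5) (.leaf 6)) (.node (.leaf 6) (.leaf 5)))) (.node (.node (.node (.leaf 6) (.leaf 2)) (.node (.leaf 9) (.leaf 10))) (.node (.node (.leaf 4) (.leaf 3)) (.leaf 9)))) (.node (.node (.node (.node (.leaf 2) (.leaf 9)) (.node (.leaf 1) (.leaf 7))) (.node (.node (.leaf 4) (.leaf 10)) (.leaf 1))) (.node (.node (.node (.leaf 10) (.leaf 7)) (.node (.leaf 8) (.leaf 4))) (.node (.node (.leaf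 10) (.leaf 1)) (.leaf 5)))))) (.node (.node (.node (.node (.node (.node (.leaf 8) (.leaf 5)) (.node (.leaf 3) (.leaf 2))) (.node (.node (.leaf 1) (.leaf 7)) (.node (.leaf 8) (.leaf 4)))) (.node (.node (.node (.leaf 5) (.leaf 7)) (.node (.leaf 3) (.leaf 6))) (.node (.node (.leaf 3) (.leaf 1)) (.leaf 4)))) (.node (.node (.node (.node (.leaf 6) (.leaf 4)) (.node (.leaf 8) (.leaf 1))) (.node (.node (.leaf 4) (.leaf 4)) (.node (.leaf 8) (.leaf 4)))) (.node (.node (.node (.leaf 1) (.leaf 9)) (.node (.leaf 3) (.leaf 3))) (.node (.node (.leaf 7) (.leaf 8)) (.leaf 3))))) (.node (.node (.node (.node (.node (.leaf 4) (.leaf 10)) (.node (.leaf 9) (.leaf 5))) (.node (.node (.leaf 4) (.leaf 8)) (.node (.leaf 3) (.leaf 4)))) (.node (.node (.node (.leaf 5) (.leaf 2)) (.node (.leaf 7) (.leaf 10))) (.node (.node (.leaf 10) (.leaf 7)) (.leaf 3)))) (.node (.node (.node (.node (.leaf 9) (.leaf 10)) (.node (.leaf 4) (.leaf 8))) (.node (.node (.leaf 8) (.leaf 2)) (.leaf 5))) (.node (.node (.node (.leaf 10) (.leaf 7)) (.node (.leaf 10) (.leaf 4))) (.node (.node (.leaf 3) (.leaf 7)) (.leaf 3)))))))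 (.node (.node (.node (.node (.node (.node (.node (.leaf 6) (.leaf 10)) (.node (.leaf 2) (.leaf 8))) (.node (.node (.leaf 3) (.leaf 7)) (.node (.leaf 7) (.leaf 3)))) (.node (.node (.node (.leaf 10) (.leaf 6)) (.node (.leaf 2) (.leaf 8))) (.node (.node (.leaf 5) (.leaf 6)) (.leaf 9)))) (.node (.node (.node (.node (.leaf 8) (.leaf 10)) (.node (.leaf 6) (.leaf 2))) (.node (.node (.leaf 6) (.leaf 2)) (.node (.leaf 3) (.leaf 9)))) (.node (.node (.node (.leaf 2) (.leaf 4)) (.node (.leaf 5) (.leaf 5))) (.node (.node (.leaf 9) (.leaf 7)) (.leaf 4))))) (.node (.node (.node (.node (.node (.leaf 6) (.leaf 8)) (.node (.leaf 8) (.leaf 8))) (.node (.node (.leaf 1) (.leaf 4)) (.node (.leaf 3) (.leaf 4)))) (.node (.node (.node (.leaf 3) (.leaf 7)) (.node (.leaf 7) (.leaf 8))) (.node (.node (.leaf 1) (.leaf 4)) (.leaf 6)))) (.node (.node (.node (.node (.leaf 1) (.leaf 3)) (.node (.leaf 2) (.leaf 5))) (.node (.node (.leaf 10) (.leaf 9)) (.leaf 10))) (.node (.node (.node (.leaf 9) (.leaf 7)) (.node (.leaf 9) (.leaf 9))) (.node (.node (.leaf 9) (.leaf 3)) (.leaf 8)))))) (.node (.node (.node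 (.node (.node (.node (.leaf 7) (.leaf 3)) (.node (.leaf 9) (.leaf 9))) (.node (.node (.leaf 10) (.leaf 4)) (.node (.leaf 5) (.leaf 6)))) (.node (.node (.node (.leaf 10) (.leaf 7)) (.node (.leaf 5) (.leaf 8))) (.node (.node (.leaf 9) (.leaf 6)) (.leaf 6)))) (.node (.node (.node (.node (.leaf 7) (.leaf 9)) (.node (.leaf 10) (.leaf 1))) (.node (.node (.leaf 5) (.leaf 8)) (.node (.leaf 10) (.leaf 9)))) (.node (.node (.node (.leaf 2) (.leaf 4)) (.node (.leaf 6) (.leaf 4))) (.node (.node (.leaf 4) (.leaf 9)) (.leaf 3))))) (.node (.node (.node (.node (.node (.leaf 9) (.leaf 9)) (.node (.leaf 6) (.leaf 5))) (.node (.node (.leaf 2) (.leaf 10)) (.node (.leaf 4) (.leaf 8)))) (.node (.node (.node (.leaf 4) (.leaf 8)) (.node (.leaf 2) (.leaf 9))) (.node (.node (.leaf 4) (.leaf 8)) (.leaf 7)))) (.node (.node (.node (.node (.leaf 6) (.leaf 6)) (.node (.leaf 9) (.leaf 3))) (.node (.node (.leaf 6) (.leaf 1)) (.leaf 1))) (.node (.node (.node (.leaf 6) (.leaf 9)) (.node (.leaf 2) (.leaf 3))) (.node (.node (.leaf 2) (.leaf 10)) (.leaf 3))))))))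

def lineScalar6 : Janko.Tree (ℕ) :=
  (.node (.node (.node (.node (.node (.node (.node (.node (.leaf 8) (.leaf 9)) (.node (.leaf 10) (.leaf 2))) (.node (.node (.leaf 4) (.leaf 2)) (.node (.leaf 3) (.leaf 1)))) (.node (.node (.node (.leaf 7) (.leaf 4)) (.node (.leaf 4) (.leaf 8))) (.node (.node (.leaf 7) (.leaf 2)) (.leaf 5)))) (.node (.node (.node (.node (.leaf 6) (.leaf 9)) (.node (.leaf 8) (.leaf 7))) (.node (.node (.leaf 2) (.leaf 2)) (.node (.leaf 7) (.leaf 9)))) (.node (.node (.node (.leaf 10) (.leaf 2)) (.node (.leaf 4) (.leaf 6))) (.node (.node (.leaf 6) (.leaf 10)) (.leaf 3))))) (.node (.node (.node (.node (.node (.leaf 1) (.leaf 2)) (.node (.leaf 4) (.leaf 8))) (.node (.node (.leaf 4) (.leaf 7)) (.node (.leaf 3) (.leaf 9)))) (.node (.node (.node (.leaf 6) (.leaf 7)) (.node (.leaf 5) (.leaf 1))) (.node (.node (.leaf 9) (.leaf 6)) (.leaf 8)))) (.node (.node (.node (.node (.leaf 10) (.leaf 2)) (.node (.leaf 1) (.leaf 10))) (.node (.node (.leaf 4) (.leaf 4)) (.leaf 1))) (.node (.node (.node (.leaf 3) (.leaf 1)) (.node (.leaf 1) (.leaf 6))) (.node (.node (.leaf 10)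 (.leaf 6)) (.leaf 7)))))) (.node (.node (.node (.node (.node (.node (.leaf 3) (.leaf 8)) (.node (.leaf 4) (.leaf 8))) (.node (.node (.leaf 9) (.leaf 3)) (.node (.leaf 6) (.leaf 8)))) (.node (.node (.node (.leaf 4) (.leaf 9)) (.node (.leaf 4) (.leaf 9))) (.node (.node (.leaf 4) (.leaf 3)) (.leaf 10)))) (.node (.node (.node (.node (.leaf 3) (.leaf 4)) (.node (.leaf 1) (.leaf 1))) (.node (.node (.leaf 3) (.leaf 2)) (.node (.leaf 9) (.leaf 1)))) (.node (.node (.node (.leaf 1) (.leaf 8)) (.node (.leaf 1) (.leaf 5))) (.node (.node (.leaf 10) (.leaf 5)) (.leaf 2))))) (.node (.node (.node (.node (.node (.leaf 1) (.leaf 1)) (.node (.leaf 4) (.leaf 9))) (.node (.node (.leaf 3) (.leaf 6)) (.node (.leaf 7) (.leaf 1)))) (.node (.node (.node (.leaf 4) (.leaf 8)) (.node (.leaf 2) (.leaf 8))) (.node (.node (.leaf 5) (.leaf 6)) (.leaf 9)))) (.node (.node (.node (.node (.leaf 4) (.leaf 4)) (.node (.leaf 9) (.leaf 10))) (.node (.node (.leaf 2) (.leaf 7)) (.leaf 3))) (.node (.node (.node (.leaf 9) (.leaf 5)) (.node (.leaf 4) (.leaf 7))) (.node (.node (.leaf 4) (.leaf 1)) (.leaf 8)))))))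 (.node (.node (.node (.node (.node (.node (.node (.leaf 10) (.leaf 3)) (.node (.leaf 2) (.leaf 7))) (.node (.node (.leaf 7) (.leaf 4)) (.node (.leaf 1) (.leaf 9)))) (.node (.node (.node (.leaf 7) (.leaf 2)) (.node (.leaf 6) (.leaf 10))) (.node (.node (.leaf 10) (.leaf 7)) (.leaf 10)))) (.node (.node (.node (.node (.leaf 10) (.leaf 5)) (.node (.leaf 4) (.leaf 1))) (.node (.node (.leaf 10) (.leaf 3)) (.node (.leaf 8) (.leaf 5)))) (.node (.node (.node (.leaf 8) (.leaf 8)) (.node (.leaf 10) (.leaf 2))) (.node (.node (.leaf 8) (.leaf 4)) (.leaf 3))))) (.node (.node (.node (.node (.node (.leaf 9) (.leaf 2)) (.node (.leaf 7) (.leaf 9))) (.node (.node (.leaf 1) (.leaf 9)) (.node (.leaf 10) (.leaf 1)))) (.node (.node (.node (.leaf 1) (.leaf 9)) (.node (.leaf 6) (.leaf 5))) (.node (.node (.leaf 6) (.leaf 4)) (.leaf 7)))) (.node (.node (.node (.node (.leaf 1) (.leaf 5)) (.node (.leaf 2) (.leaf 9))) (.node (.node (.leaf 4) (.leaf 9)) (.leaf 4))) (.node (.node (.node (.leaf 8) (.leaf 7)) (.node (.leaf 9) (.leaf 8))) (.node (.node (.leaf 7) (.leaf 3)) (.leaf 2)))))) (.node (.node (.node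 (.node (.node (.node (.leaf 5) (.leaf 10)) (.node (.leaf 10) (.leaf 5))) (.node (.node (.leaf 3) (.leaf 7)) (.node (.leaf 1) (.leaf 7)))) (.node (.node (.node (.leaf 8) (.leaf 2)) (.node (.leaf 3) (.leaf 5))) (.node (.node (.leaf 5) (.leaf 8)) (.leaf 6)))) (.node (.node (.node (.node (.leaf 8) (.leaf 10)) (.node (.leaf 8) (.leaf 9))) (.node (.node (.leaf 10) (.leaf 3)) (.node (.leaf 4) (.leaf 5)))) (.node (.node (.node (.leaf 3) (.leaf 6)) (.node (.leaf 7) (.leaf 6))) (.node (.node (.leaf 2) (.leaf 8)) (.leaf 7))))) (.node (.node (.node (.node (.node (.leaf 10) (.leaf 2)) (.node (.leaf 8) (.leaf 9))) (.node (.node (.leaf 10) (.leaf 4)) (.node (.leaf 7) (.leaf 8)))) (.node (.node (.node (.leaf 7) (.leaf 1)) (.node (.leaf 3) (.leaf 2))) (.node (.node (.leaf 5) (.leaf 6)) (.leaf 4)))) (.node (.node (.node (.node (.leaf 10) (.leaf 3)) (.node (.leaf 5) (.leaf 2))) (.node (.node (.leaf 5) (.leaf 10)) (.leaf 3))) (.node (.node (.node (.leaf 9) (.leaf 6)) (.node (.leaf 2) (.leaf 9))) (.node (.node (.leaf 1) (.leaf 3)) (.leaf 4))))))))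

def lineScalar7 : Janko.Tree (ℕ) :=
  (.node (.node (.node (.node (.node (.node (.node (.node (.leaf 5) (.leaf 3)) (.node (.leaf 5) (.leaf 9))) (.node (.node (.leaf 5) (.leaf 8)) (.node (.leaf 2) (.leaf 10)))) (.node (.node (.node (.leaf 9) (.leaf 7)) (.node (.leaf 4) (.leaf 5))) (.node (.node (.leaf 6) (.leaf 2)) (.leaf 4)))) (.node (.node (.node (.node (.leaf 8) (.leaf 10)) (.node (.leaf 1) (.leaf 9))) (.node (.node (.leaf 8) (.leaf 2)) (.node (.leaf 7) (.leaf 10)))) (.node (.node (.node (.leaf 8) (.leaf 4)) (.node (.leaf 10) (.leaf 7))) (.node (.node (.leaf 3) (.leaf 10)) (.leaf 3))))) (.node (.node (.node (.node (.node (.leaf 10) (.leaf 7)) (.node (.leaf 7) (.leaf 9))) (.node (.node (.leaf 8) (.leaf 10)) (.node (.leaf 9) (.leaf 7)))) (.node (.node (.node (.leaf 6) (.leaf 6)) (.node (.leaf 2) (.leaf 3))) (.node (.node (.leaf 6) (.leaf 7)) (.leaf 10)))) (.node (.node (.node (.node (.leaf 10) (.leaf 1)) (.node (.leaf 3) (.leaf 4))) (.node (.node (.leaf 1) (.leaf 5)) (.leaf 3))) (.node (.node (.node (.leaf 5) (.leaf 8)) (.node (.leaf 2) (.leaf 4))) (.node (.node (.leaf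 5) (.leaf 4)) (.leaf 2)))))) (.node (.node (.node (.node (.node (.node (.leaf 1) (.leaf 10)) (.node (.leaf 7) (.leaf 6))) (.node (.node (.leaf 10) (.leaf 5)) (.node (.leaf 6) (.leaf 10)))) (.node (.node (.node (.leaf 3) (.leaf 6)) (.node (.leaf 10) (.leaf 5))) (.node (.node (.leaf 1) (.leaf 3)) (.leaf 3)))) (.node (.node (.node (.node (.leaf 2) (.leaf 2)) (.node (.leaf 1) (.leaf 2))) (.node (.node (.leaf 5) (.leaf 7)) (.node (.leaf 5) (.leaf 6)))) (.node (.node (.node (.leaf 7) (.leaf 6)) (.node (.leaf 8) (.leaf 8))) (.node (.node (.leaf 1) (.leaf 10)) (.leaf 1))))) (.node (.node (.node (.node (.node (.leaf 10) (.leaf 6)) (.node (.leaf 4) (.leaf 1))) (.node (.node (.leaf 3) (.leaf 6)) (.node (.leaf 8) (.leaf 2)))) (.node (.node (.node (.leaf 10) (.leaf 3)) (.node (.leaf 6) (.leaf 10))) (.node (.node (.leaf 9) (.leaf 7)) (.leaf 6)))) (.node (.node (.node (.node (.leaf 2) (.leaf 8)) (.node (.leaf 7) (.leaf 9))) (.node (.node (.leaf 4) (.leaf 1)) (.leaf 9))) (.node (.node (.node (.leaf 4) (.leaf 2)) (.node (.leaf 10) (.leaf 8))) (.node (.node (.leaf 7) (.leaf 1)) (.leaf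 4))))))) (.node (.node (.node (.node (.node (.node (.node (.leaf 2) (.leaf 5)) (.node (.leaf 3) (.leaf 4))) (.node (.node (.leaf 2) (.leaf 3)) (.node (.leaf 4) (.leaf 4)))) (.node (.node (.node (.leaf 2) (.leaf 10)) (.node (.leaf 5) (.leaf 2))) (.node (.node (.leaf 7) (.leaf 5)) (.leaf 6)))) (.node (.node (.node (.node (.leaf 8) (.leaf 9)) (.node (.leaf 3) (.leaf 5))) (.node (.node (.leaf 1) (.leaf 6)) (.node (.leaf 8) (.leaf 5)))) (.node (.node (.node (.leaf 3) (.leaf 3)) (.node (.leaf 10) (.leaf 9))) (.node (.node (.leaf 1) (.leaf 2)) (.leaf 3))))) (.node (.node (.node (.node (.node (.leaf 4) (.leaf 5)) (.node (.leaf 8) (.leaf 3))) (.node (.node (.leaf 1) (.leaf 7)) (.node (.leaf 4) (.leaf 8)))) (.node (.node (.node (.leaf 4) (.leaf 6)) (.node (.leaf 7) (.leaf 9))) (.node (.node (.leaf 5) (.leaf 10)) (.leaf 7)))) (.node (.node (.node (.node (.leaf 10) (.leaf 7)) (.node (.leaf 2) (.leaf 5))) (.node (.node (.leaf 8) (.leaf 2)) (.leaf 3))) (.node (.node (.node (.leaf 8) (.leaf 1)) (.node (.leaf 3) (.leaf 8))) (.node (.node (.leaf 8) (.leaf 10)) (.leaf 7)))))) (.node (.node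 (.node (.node (.node (.node (.leaf 5) (.leaf 8)) (.node (.leaf 9) (.leaf 1))) (.node (.node (.leaf 4) (.leaf 8)) (.node (.leaf 3) (.leaf 10)))) (.node (.node (.node (.leaf 9) (.leaf 9)) (.node (.leaf 10) (.leaf 1))) (.node (.node (.leaf 6) (.leaf 5)) (.leaf 4)))) (.node (.node (.node (.node (.leaf 1) (.leaf 3)) (.node (.leaf 9) (.leaf 3))) (.node (.node (.leaf 10) (.leaf 8)) (.node (.leaf 8) (.leaf 3)))) (.node (.node (.node (.leaf 7) (.leaf 4)) (.node (.leaf 1) (.leaf 2))) (.node (.node (.leaf 1) (.leaf 4)) (.leaf 7))))) (.node (.node (.node (.node (.node (.leaf 7) (.leaf 5)) (.node (.leaf 1) (.leaf 8))) (.node (.node (.leaf 5) (.leaf 3)) (.node (.leaf 5) (.leaf 8)))) (.node (.node (.node (.leaf 10) (.leaf 10)) (.node (.leaf 8) (.leaf 10))) (.node (.node (.leaf 9) (.leaf 8)) (.leaf 4)))) (.node (.node (.node (.node (.leaf 4) (.leaf 1)) (.node (.leaf 8) (.leaf 10))) (.node (.node (.leaf 3) (.leaf 1)) (.leaf 2))) (.node (.node (.node (.leaf 10) (.leaf 5)) (.node (.leaf 2) (.leaf 9))) (.node (.node (.leaf 9) (.leaf 1)) (.leaf 5))))))))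

def lineScalar8 : Janko.Tree (ℕ) :=
  (.node (.node (.node (.node (.node (.node (.node (.node (.leaf 5) (.leaf 3)) (.node (.leaf 5) (.leaf 3))) (.node (.node (.leaf 3) (.leaf 9)) (.node (.leaf 10) (.leaf 8)))) (.node (.node (.node (.leaf 10) (.leaf 7)) (.node (.leaf 4) (.leaf 1))) (.node (.node (.leaf 10) (.leaf 10)) (.leaf 4)))) (.node (.node (.node (.node (.leaf 1) (.leaf 5)) (.node (.leaf 6) (.leaf 1))) (.node (.node (.leaf 6) (.leaf 2)) (.node (.leaf 9) (.leaf 2)))) (.node (.node (.node (.leaf 7) (.leaf 8)) (.node (.leaf 5) (.leaf 1))) (.node (.node (.leaf 6) (.leaf 9)) (.leaf 9))))) (.node (.node (.node (.node (.node (.leaf 10) (.leaf 3)) (.node (.leaf 6) (.leaf 9))) (.node (.node (.leaf 9) (.leaf 7)) (.node (.leaf 1) (.leaf 5)))) (.node (.node (.node (.leaf 10) (.leaf 7)) (.node (.leaf 4) (.leaf 1))) (.node (.node (.leaf 10) (.leaf 9)) (.leaf 4)))) (.node (.node (.node (.node (.leaf 7) (.leaf 8)) (.node (.leaf 4) (.leaf 10))) (.node (.node (.leaf 6) (.leaf 6)) (.leaf 9))) (.node (.node (.node (.leaf 9) (.leaf 3)) (.node (.leaf 1) (.leaf 2))) (.node (.node (.leaf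 9) (.leaf 8)) (.leaf 4)))))) (.node (.node (.node (.node (.node (.node (.leaf 8) (.leaf 5)) (.node (.leaf 3) (.leaf 9))) (.node (.node (.leaf 2) (.leaf 4)) (.node (.leaf 6) (.leaf 3)))) (.node (.node (.node (.leaf 7) (.leaf 6)) (.node (.leaf 6) (.leaf 7))) (.node (.node (.leaf 2) (.leaf 1)) (.leaf 4)))) (.node (.node (.node (.node (.leaf 6) (.leaf 2)) (.node (.leaf 3) (.leaf 1))) (.node (.node (.leaf 3) (.leaf 8)) (.node (.leaf 2) (.leaf 3)))) (.node (.node (.node (.leaf 1) (.leaf 1)) (.node (.leaf 1) (.leaf 5))) (.node (.node (.leaf 10) (.leaf 5)) (.leaf 1))))) (.node (.node (.node (.node (.node (.leaf 2) (.leaf 3)) (.node (.leaf 4) (.leaf 8))) (.node (.node (.leaf 5) (.leaf 3)) (.node (.leaf 1) (.leaf 5)))) (.node (.node (.node (.leaf 6) (.leaf 7)) (.node (.leaf 4) (.leaf 1))) (.node (.node (.leaf 5) (.leaf 7)) (.leaf 4)))) (.node (.node (.node (.node (.leaf 8) (.leaf 1)) (.node (.leaf 4) (.leaf 2))) (.node (.node (.leaf 2) (.leaf 1)) (.leaf 3))) (.node (.node (.node (.leaf 3) (.leaf 6)) (.node (.leaf 10) (.leaf 4))) (.node (.node (.leaf 1) (.leaf 1)) (.leaf 4)))))))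 (.node (.node (.node (.node (.node (.node (.node (.leaf 2) (.leaf 10)) (.node (.leaf 1) (.leaf 4))) (.node (.node (.leaf 7) (.leaf 8)) (.node (.leaf 4) (.leaf 2)))) (.node (.node (.node (.leaf 4) (.leaf 6)) (.node (.leaf 6) (.leaf 7))) (.node (.node (.leaf 4) (.leaf 4)) (.leaf 9)))) (.node (.node (.node (.node (.leaf 7) (.leaf 9)) (.node (.leaf 3) (.leaf 2))) (.node (.node (.leaf 3) (.leaf 8)) (.node (.leaf 7) (.leaf 10)))) (.node (.node (.node (.leaf 4) (.leaf 9)) (.node (.leaf 7) (.leaf 10))) (.node (.node (.leaf 4) (.leaf 9)) (.leaf 9))))) (.node (.node (.node (.node (.node (.leaf 8) (.leaf 1)) (.node (.leaf 6) (.leaf 5))) (.node (.node (.leaf 4) (.leaf 8)) (.node (.leaf 6) (.leaf 7)))) (.node (.node (.node (.leaf 4) (.leaf 5)) (.node (.leaf 7) (.leaf 10))) (.node (.node (.leaf 8) (.leaf 10)) (.leaf 5)))) (.node (.node (.node (.node (.leaf 7) (.leaf 9)) (.node (.leaf 5) (.leaf 3))) (.node (.node (.leaf 6) (.leaf 6)) (.leaf 6))) (.node (.node (.node (.leaf 5) (.leaf 6)) (.node (.leaf 4) (.leaf 6))) (.node (.node (.leaf 3) (.leaf 1)) (.leaf 2)))))) (.node (.node (.node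 (.node (.node (.node (.leaf 6) (.leaf 2)) (.node (.leaf 3) (.leaf 8))) (.node (.node (.leaf 2) (.leaf 8)) (.node (.leaf 4) (.leaf 9)))) (.node (.node (.node (.leaf 1) (.leaf 3)) (.node (.leaf 3) (.leaf 4))) (.node (.node (.leaf 3) (.leaf 9)) (.leaf 1)))) (.node (.node (.node (.node (.leaf 7) (.leaf 5)) (.node (.leaf 10) (.leaf 4))) (.node (.node (.leaf 6) (.leaf 10)) (.node (.leaf 9) (.leaf 9)))) (.node (.node (.node (.leaf 2) (.leaf 3)) (.node (.leaf 9) (.leaf 6))) (.node (.node (.leaf 4) (.leaf 8)) (.leaf 4))))) (.node (.node (.node (.node (.node (.leaf 9) (.leaf 8)) (.node (.leaf 4) (.leaf 2))) (.node (.node (.leaf 2) (.leaf 7)) (.node (.leaf 3) (.leaf 4)))) (.node (.node (.node (.leaf 9) (.leaf 9)) (.node (.leaf 2) (.leaf 4))) (.node (.node (.leaf 4) (.leaf 6)) (.leaf 1)))) (.node (.node (.node (.node (.leaf 8) (.leaf 1)) (.node (.leaf 1) (.leaf 7))) (.node (.node (.leaf 1) (.leaf 9)) (.leaf 6))) (.node (.node (.node (.leaf 2) (.leaf 5)) (.node (.leaf 6) (.leaf 2))) (.node (.node (.leaf 3) (.leaf 7)) (.leaf 3))))))))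

def lineScalar9 : Janko.Tree (ℕ) :=
  (.node (.node (.node (.node (.node (.node (.node (.node (.leaf 2) (.leaf 4)) (.node (.leaf 9) (.leaf 9))) (.node (.node (.leaf 10) (.leaf 2)) (.node (.leaf 7) (.leaf 10)))) (.node (.node (.node (.leaf 3) (.leaf 3)) (.node (.leaf 10) (.leaf 4))) (.node (.node (.leaf 1) (.leaf 5)) (.leaf 4)))) (.node (.node (.node (.node (.leaf 1) (.leaf 1)) (.node (.leaf 4) (.leaf 8))) (.node (.node (.leaf 4) (.leaf 1)) (.node (.leaf 2) (.leaf 5)))) (.node (.node (.node (.leaf 7) (.leaf 8)) (.node (.leaf 3) (.leaf 2))) (.node (.node (.leaf 2) (.leaf 9)) (.leaf 5))))) (.node (.node (.node (.node (.node (.leaf 6) (.leaf 5)) (.node (.leaf 10) (.leaf 3))) (.node (.node (.leaf 2) (.leaf 2)) (.node (.leaf 2) (.leaf 10)))) (.node (.node (.node (.leaf 9) (.leaf 8)) (.node (.leaf 2) (.leaf 7))) (.node (.node (.leaf 7) (.leaf 5)) (.leaf 3)))) (.node (.node (.node (.node (.leaf 10) (.leaf 5)) (.node (.leaf 3) (.leaf 8))) (.node (.node (.leaf 5) (.leaf 1)) (.leaf 1))) (.node (.node (.node (.leaf 4) (.leaf 6)) (.node (.leaf 5) (.leaf 5))) (.node (.node (.leaf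 9) (.leaf 5)) (.leaf 6)))))) (.node (.node (.node (.node (.node (.node (.leaf 4) (.leaf 7)) (.node (.leaf 3) (.leaf 8))) (.node (.node (.leaf 8) (.leaf 8)) (.node (.leaf 7) (.leaf 5)))) (.node (.node (.node (.leaf 9) (.leaf 9)) (.node (.leaf 3) (.leaf 3))) (.node (.node (.leaf 5) (.leaf 4)) (.leaf 8)))) (.node (.node (.node (.node (.leaf 7) (.leaf 4)) (.node (.leaf 9) (.leaf 7))) (.node (.node (.leaf 7) (.leaf 4)) (.node (.leaf 10) (.leaf 4)))) (.node (.node (.node (.leaf 8) (.leaf 4)) (.node (.leaf 8) (.leaf 10))) (.node (.node (.leaf 4) (.leaf 6)) (.leaf 5))))) (.node (.node (.node (.node (.node (.leaf 4) (.leaf 1)) (.node (.leaf 2) (.leaf 9))) (.node (.node (.leaf 1) (.leaf 3)) (.node (.leaf 4) (.leaf 7)))) (.node (.node (.node (.leaf 3) (.leaf 7)) (.node (.leaf 5) (.leaf 6))) (.node (.node (.leaf 7) (.leaf 10)) (.leaf 3)))) (.node (.node (.node (.node (.leaf 2) (.leaf 6)) (.node (.leaf 4) (.leaf 4))) (.node (.node (.leaf 8) (.leaf 3)) (.leaf 4))) (.node (.node (.node (.leaf 1) (.leaf 3)) (.node (.leaf 5) (.leaf 1))) (.node (.node (.leaf 2) (.leaf 1)) (.leaf 5)))))))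 (.node (.node (.node (.node (.node (.node (.node (.leaf 6) (.leaf 4)) (.node (.leaf 10) (.leaf 2))) (.node (.node (.leaf 3) (.leaf 1)) (.node (.leaf 2) (.leaf 8)))) (.node (.node (.node (.leaf 7) (.leaf 3)) (.node (.leaf 4) (.leaf 5))) (.node (.node (.leaf 3) (.leaf 8)) (.leaf 6)))) (.node (.node (.node (.node (.leaf 4) (.leaf 6)) (.node (.leaf 3) (.leaf 1))) (.node (.node (.leaf 3) (.leaf 1)) (.node (.leaf 8) (.leaf 9)))) (.node (.node (.node (.leaf 10) (.leaf 8)) (.node (.leaf 10) (.leaf 9))) (.node (.node (.leaf 10) (.leaf 7)) (.leaf 4))))) (.node (.node (.node (.node (.node (.leaf 10) (.leaf 8)) (.node (.leaf 5) (.leaf 8))) (.node (.node (.leaf 4) (.leaf 8)) (.node (.leaf 7) (.leaf 9)))) (.node (.node (.node (.leaf 6) (.leaf 3)) (.node (.leaf 3) (.leaf 10))) (.node (.node (.leaf 8) (.leaf 9)) (.leaf 1)))) (.node (.node (.node (.node (.leaf 9) (.leaf 6)) (.node (.leaf 5) (.leaf 6))) (.node (.node (.leaf 8) (.leaf 9)) (.leaf 3))) (.node (.node (.node (.leaf 10) (.leaf 10)) (.node (.leaf 1) (.leaf 2))) (.node (.node (.leaf 3) (.leaf 3)) (.leaf 9)))))) (.node (.node (.node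 (.node (.node (.node (.leaf 8) (.leaf 7)) (.node (.leaf 4) (.leaf 8))) (.node (.node (.leaf 6) (.leaf 6)) (.node (.leaf 1) (.leaf 1)))) (.node (.node (.node (.leaf 6) (.leaf 9)) (.node (.leaf 9) (.leaf 3))) (.node (.node (.leaf 2) (.leaf 5)) (.leaf 2)))) (.node (.node (.node (.node (.leaf 2) (.leaf 4)) (.node (.leaf 3) (.leaf 8))) (.node (.node (.leaf 8) (.leaf 9)) (.node (.leaf 8) (.leaf 9)))) (.node (.node (.node (.leaf 5) (.leaf 7)) (.node (.leaf 10) (.leaf 8))) (.node (.node (.leaf 5) (.leaf 10)) (.leaf 2))))) (.node (.node (.node (.node (.node (.leaf 8) (.leaf 3)) (.node (.leaf 9) (.leaf 3))) (.node (.node (.leaf 4) (.leaf 2)) (.node (.leaf 9) (.leaf 9)))) (.node (.node (.node (.leaf 10) (.leaf 2)) (.node (.leaf 7) (.leaf 9))) (.node (.node (.leaf 3) (.leaf 8)) (.leaf 2)))) (.node (.node (.node (.node (.leaf 2) (.leaf 1)) (.node (.leaf 5) (.leaf 10))) (.node (.node (.leaf 9) (.leaf 1)) (.leaf 6))) (.node (.node (.node (.leaf 4) (.leaf 2)) (.node (.leaf 10) (.leaf 3))) (.node (.node (.leaf 9) (.leaf 4)) (.leaf 10))))))))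

def lineScalar10 : Janko.Tree (ℕ) :=
  (.node (.node (.node (.node (.node (.node (.node (.node (.leaf 5) (.leaf 2)) (.node (.leaf 2) (.leaf 3))) (.node (.node (.leaf 7) (.leaf 5)) (.node (.leaf 6) (.leaf 2)))) (.node (.node (.node (.leaf 3) (.leaf 8)) (.node (.leaf 9) (.leaf 1))) (.node (.node (.leaf 9) (.leaf 6)) (.leaf 6)))) (.node (.node (.node (.node (.leaf 10) (.leaf 10)) (.node (.leaf 3) (.leaf 9))) (.node (.node (.leaf 5) (.leaf 4)) (.node (.leaf 8) (.leaf 4)))) (.node (.node (.node (.leaf 6) (.leaf 7)) (.node (.leaf 7) (.leaf 6))) (.node (.node (.leaf 5) (.leaf 9)) (.leaf 10))))) (.node (.node (.node (.node (.node (.leaf 3) (.leaf 10)) (.node (.leaf 4) (.leaf 8))) (.node (.node (.leaf 5) (.leaf 3)) (.node (.leaf 3) (.leaf 4)))) (.node (.node (.node (.leaf 3) (.leaf 7)) (.node (.leaf 1) (.leaf 10))) (.node (.node (.leaf 2) (.leaf 7)) (.leaf 9)))) (.node (.node (.node (.node (.leaf 6) (.leaf 4)) (.node (.leaf 1) (.leaf 9))) (.node (.node (.leaf 3) (.leaf 8)) (.leaf 4))) (.node (.node (.node (.leaf 7) (.leaf 3)) (.node (.leaf 6) (.leaf 5))) (.node (.node (.leaf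 9) (.leaf 8)) (.leaf 5)))))) (.node (.node (.node (.node (.node (.node (.leaf 7) (.leaf 3)) (.node (.leaf 9) (.leaf 4))) (.node (.node (.leaf 1) (.leaf 2)) (.node (.leaf 2) (.leaf 1)))) (.node (.node (.node (.leaf 4) (.leaf 4)) (.node (.leaf 9) (.leaf 2))) (.node (.node (.leaf 1) (.leaf 9)) (.leaf 5)))) (.node (.node (.node (.node (.leaf 10) (.leaf 3)) (.node (.leaf 8) (.leaf 2))) (.node (.node (.leaf 7) (.leaf 2)) (.node (.leaf 10) (.leaf 3)))) (.node (.node (.node (.leaf 4) (.leaf 1)) (.node (.leaf 3) (.leaf 3))) (.node (.node (.leaf 6) (.leaf 9)) (.leaf 6))))) (.node (.node (.node (.node (.node (.leaf 6) (.leaf 7)) (.node (.leaf 5) (.leaf 2))) (.node (.node (.leaf 10) (.leaf 6)) (.node (.leaf 8) (.leaf 9)))) (.node (.node (.node (.leaf 9) (.leaf 4)) (.node (.leaf 3) (.leaf 9))) (.node (.node (.leaf 2) (.leaf 6)) (.leaf 1)))) (.node (.node (.node (.node (.leaf 5) (.leaf 7)) (.node (.leaf 1) (.leaf 10))) (.node (.node (.leaf 6) (.leaf 4)) (.leaf 1))) (.node (.node (.node (.leaf 7) (.leaf 6)) (.node (.leaf 8) (.leaf 9))) (.node (.node (.leaf 7) (.leaf 5)) (.leaf 8)))))))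 (.node (.node (.node (.node (.node (.node (.node (.leaf 7) (.leaf 5)) (.node (.leaf 7) (.leaf 10))) (.node (.node (.leaf 3) (.leaf 1)) (.node (.leaf 1) (.leaf 1)))) (.node (.node (.node (.leaf 7) (.leaf 7)) (.node (.leaf 5) (.leaf 4))) (.node (.node (.leaf 6) (.leaf 6)) (.leaf 1)))) (.node (.node (.node (.node (.leaf 5) (.leaf 6)) (.node (.leaf 4) (.leaf 5))) (.node (.node (.leaf 6) (.leaf 4)) (.node (.leaf 4) (.leaf 8)))) (.node (.node (.node (.leaf 8) (.leaf 9)) (.node (.leaf 10) (.leaf 2))) (.node (.node (.leaf 5) (.leaf 4)) (.leaf 6))))) (.node (.node (.node (.node (.node (.leaf 6) (.leaf 4)) (.node (.leaf 7) (.leaf 10))) (.node (.node (.leaf 10) (.leaf 8)) (.node (.leaf 5) (.leaf 1)))) (.node (.node (.node (.leaf 7) (.leaf 8)) (.node (.leaf 5) (.leaf 3))) (.node (.node (.leaf 1) (.leaf 7)) (.leaf 7)))) (.node (.node (.node (.node (.leaf 3) (.leaf 9)) (.node (.leaf 2) (.leaf 9))) (.node (.node (.leaf 4) (.leaf 4)) (.leaf 6))) (.node (.node (.node (.leaf 1) (.leaf 3)) (.node (.leaf 5) (.leaf 8))) (.node (.node (.leaf 1) (.leaf 3)) (.leaf 8)))))) (.node (.node (.node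 (.node (.node (.node (.leaf 3) (.leaf 2)) (.node (.leaf 10) (.leaf 10))) (.node (.node (.leaf 5) (.leaf 2)) (.node (.leaf 5) (.leaf 3)))) (.node (.node (.node (.leaf 9) (.leaf 2)) (.node (.leaf 9) (.leaf 6))) (.node (.node (.leaf 2) (.leaf 6)) (.leaf 7)))) (.node (.node (.node (.node (.leaf 6) (.leaf 10)) (.node (.leaf 2) (.leaf 4))) (.node (.node (.leaf 9) (.leaf 7)) (.node (.leaf 3) (.leaf 10)))) (.node (.node (.node (.leaf 9) (.leaf 3)) (.node (.leaf 6) (.leaf 10))) (.node (.node (.leaf 10) (.leaf 3)) (.leaf 9))))) (.node (.node (.node (.node (.node (.leaf 1) (.leaf 8)) (.node (.leaf 5) (.leaf 7))) (.node (.node (.leaf 7) (.leaf 9)) (.node (.leaf 7) (.leaf 5)))) (.node (.node (.node (.leaf 1) (.leaf 5)) (.node (.leaf 8) (.leaf 7))) (.node (.node (.leaf 9) (.leaf 5)) (.leaf 4)))) (.node (.node (.node (.node (.leaf 7) (.leaf 1)) (.node (.leaf 9) (.leaf 2))) (.node (.node (.leaf 7) (.leaf 9)) (.leaf 1))) (.node (.node (.node (.leaf 3) (.leaf 9)) (.node (.leaf 3) (.leaf 2))) (.node (.node (.leaf 3) (.leaf 6)) (.leaf 4))))))))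

def lineScalar11 : Janko.Tree (ℕ) :=
  (.node (.node (.node (.node (.node (.node (.node (.node (.leaf 6) (.leaf 9)) (.node (.leaf 3) (.leaf 8))) (.node (.node (.leaf 7) (.leaf 5)) (.node (.leaf 6) (.leaf 5)))) (.node (.node (.node (.leaf 7) (.leaf 3)) (.node (.leaf 6) (.leaf 1))) (.node (.node (.leaf 7) (.leaf 4)) (.leaf 10)))) (.node (.node (.node (.node (.leaf 3) (.leaf 1)) (.node (.leaf 10) (.leaf 2))) (.node (.node (.leaf 3) (.leaf 10)) (.node (.leaf 1) (.leaf 7)))) (.node (.node (.node (.leaf 3) (.leaf 3)) (.node (.leaf 3) (.leaf 10))) (.node (.node (.leaf 7) (.leaf 6)) (.leaf 6))))) (.node (.node (.node (.node (.node (.leaf 6) (.leaf 3)) (.node (.leaf 7) (.leaf 7))) (.node (.node (.leaf 9) (.leaf 8)) (.node (.leaf 9) (.leaf 7)))) (.node (.node (.node (.leaf 10) (.leaf 3)) (.node (.leaf 2) (.leaf 3))) (.node (.node (.leaf 2) (.leaf 2)) (.leaf 4)))) (.node (.node (.node (.node (.leaf 6) (.leaf 4)) (.node (.leaf 4) (.leaf 1))) (.node (.node (.leaf 5) (.leaf 2)) (.leaf 7))) (.node (.node (.node (.leaf 1) (.leaf 5)) (.node (.leaf 8) (.leaf 5))) (.node (.node (.leaf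 4) (.leaf 3)) (.leaf 10)))))) (.node (.node (.node (.node (.node (.node (.leaf 10) (.leaf 4)) (.node (.leaf 6) (.leaf 2))) (.node (.node (.leaf 7) (.leaf 6)) (.node (.leaf 2) (.leaf 8)))) (.node (.node (.node (.leaf 6) (.leaf 1)) (.node (.leaf 8) (.leaf 9))) (.node (.node (.leaf 5) (.leaf 10)) (.leaf 6)))) (.node (.node (.node (.node (.leaf 10) (.leaf 1)) (.node (.leaf 4) (.leaf 10))) (.node (.node (.leaf 9) (.leaf 3)) (.node (.leaf 5) (.leaf 2)))) (.node (.node (.node (.leaf 3) (.leaf 9)) (.node (.leaf 4) (.leaf 7))) (.node (.node (.leaf 3) (.leaf 2)) (.leaf 5))))) (.node (.node (.node (.node (.node (.leaf 1) (.leaf 6)) (.node (.leaf 9) (.leaf 6))) (.node (.node (.leaf 8) (.leaf 1)) (.node (.leaf 2) (.leaf 5)))) (.node (.node (.node (.leaf 3) (.leaf 7)) (.node (.leaf 2) (.leaf 2))) (.node (.node (.leaf 3) (.leaf 10)) (.leaf 8)))) (.node (.node (.node (.node (.leaf 10) (.leaf 3)) (.node (.leaf 6) (.leaf 10))) (.node (.node (.leaf 3) (.leaf 5)) (.leaf 1))) (.node (.node (.node (.leaf 7) (.leaf 10)) (.node (.leaf 6) (.leaf 3))) (.node (.node (.leaf 1) (.leaf 1)) (.leaf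 8))))))) (.node (.node (.node (.node (.node (.node (.node (.leaf 5) (.leaf 2)) (.node (.leaf 7) (.leaf 1))) (.node (.node (.leaf 7) (.leaf 6)) (.node (.leaf 1) (.leaf 8)))) (.node (.node (.node (.leaf 7) (.leaf 10)) (.node (.leaf 6) (.leaf 4))) (.node (.node (.leaf 1) (.leaf 8)) (.leaf 1)))) (.node (.node (.node (.node (.leaf 6) (.leaf 9)) (.node (.leaf 7) (.leaf 3))) (.node (.node (.leaf 3) (.leaf 9)) (.node (.leaf 8) (.leaf 7)))) (.node (.node (.node (.leaf 5) (.leaf 3)) (.node (.leaf 7) (.leaf 2))) (.node (.node (.leaf 6) (.leaf 2)) (.leaf 4))))) (.node (.node (.node (.node (.node (.leaf 6) (.leaf 1)) (.node (.leaf 2) (.leaf 6))) (.node (.node (.leaf 2) (.leaf 5)) (.node (.leaf 7) (.leaf 9)))) (.node (.node (.node (.leaf 4) (.leaf 2)) (.node (.leaf 1) (.leaf 7))) (.node (.node (.leaf 1) (.leaf 1)) (.leaf 9)))) (.node (.node (.node (.node (.leaf 9) (.leaf 5)) (.node (.leaf 2) (.leaf 9))) (.node (.node (.leaf 1) (.leaf 3)) (.leaf 3))) (.node (.node (.node (.leaf 8) (.leaf 5)) (.node (.leaf 3) (.leaf 4))) (.node (.node (.leaf 4) (.leaf 9)) (.leaf 3)))))) (.node (.node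 (.node (.node (.node (.node (.leaf 6) (.leaf 6)) (.node (.leaf 5) (.leaf 6))) (.node (.node (.leaf 10) (.leaf 1)) (.node (.leaf 6) (.leaf 2)))) (.node (.node (.node (.leaf 4) (.leaf 9)) (.node (.leaf 9) (.leaf 10))) (.node (.node (.leaf 6) (.leaf 10)) (.leaf 5)))) (.node (.node (.node (.node (.leaf 3) (.leaf 1)) (.node (.leaf 8) (.leaf 3))) (.node (.node (.leaf 4) (.leaf 9)) (.node (.leaf 5) (.leaf 2)))) (.node (.node (.node (.leaf 7) (.leaf 3)) (.node (.leaf 2) (.leaf 1))) (.node (.node (.leaf 6) (.leaf 7)) (.leaf 3))))) (.node (.node (.node (.node (.node (.leaf 10) (.leaf 7)) (.node (.leaf 4) (.leaf 1))) (.node (.node (.leaf 5) (.leaf 9)) (.node (.leaf 6) (.leaf 6)))) (.node (.node (.node (.leaf 2) (.leaf 6)) (.node (.leaf 10) (.leaf 6))) (.node (.node (.leaf 10) (.leaf 10)) (.leaf 5)))) (.node (.node (.node (.node (.leaf 9) (.leaf 4)) (.node (.leaf 2) (.leaf 5))) (.node (.node (.leaf 1) (.leaf 8)) (.leaf 2))) (.node (.node (.node (.leaf 1) (.leaf 1)) (.node (.leaf 7) (.leaf 8))) (.node (.node (.leaf 6) (.leaf 3)) (.leaf 7))))))))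

def lineScalar12 : Janko.Tree (ℕ) :=
  (.node (.node (.node (.node (.node (.node (.node (.node (.leaf 2) (.leaf 10)) (.node (.leaf 2) (.leaf 1))) (.node (.node (.leaf 1) (.leaf 8)) (.node (.leaf 1) (.leaf 9)))) (.node (.node (.node (.leaf 10) (.leaf 5)) (.node (.leaf 10) (.leaf 3))) (.node (.node (.leaf 5) (.leaf 7)) (.leaf 6)))) (.node (.node (.node (.node (.leaf 9) (.leaf 4)) (.node (.leaf 10) (.leaf 6))) (.node (.node (.leaf 4) (.leaf 5)) (.node (.leaf 4) (.leaf 7)))) (.node (.node (.node (.leaf 4) (.leaf 3)) (.node (.leaf 9) (.leaf 10))) (.node (.node (.leaf 3) (.leaf 2)) (.leaf 6))))) (.node (.node (.node (.node (.node (.leaf 7) (.leaf 3)) (.node (.leaf 6) (.leaf 3))) (.node (.node (.leaf 5) (.leaf 1)) (.node (.leaf 2) (.leaf 7)))) (.node (.node (.node (.leaf 3) (.leaf 8)) (.node (.leaf 6) (.leaf 1))) (.node (.node (.leaf 2) (.leaf 3)) (.leaf 7)))) (.node (.node (.node (.node (.leaf 9) (.leaf 6)) (.node (.leaf 1) (.leaf 1))) (.node (.node (.leaf 3) (.leaf 8)) (.leaf 4))) (.node (.node (.node (.leaf 8) (.leaf 7)) (.node (.leaf 1) (.leaf 10))) (.node (.node (.leaf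 3) (.leaf 5)) (.leaf 4)))))) (.node (.node (.node (.node (.node (.node (.leaf 4) (.leaf 2)) (.node (.leaf 10) (.leaf 8))) (.node (.node (.leaf 5) (.leaf 2)) (.node (.leaf 5) (.leaf 9)))) (.node (.node (.node (.leaf 8) (.leaf 3)) (.node (.leaf 4) (.leaf 5))) (.node (.node (.leaf 2) (.leaf 8)) (.leaf 10)))) (.node (.node (.node (.node (.leaf 7) (.leaf 4)) (.node (.leaf 7) (.leaf 1))) (.node (.node (.leaf 6) (.leaf 4)) (.node (.leaf 6) (.leaf 3)))) (.node (.node (.node (.leaf 9) (.leaf 4)) (.node (.leaf 10) (.leaf 1))) (.node (.node (.leaf 6) (.leaf 6)) (.leaf 4))))) (.node (.node (.node (.node (.node (.leaf 4) (.leaf 8)) (.node (.leaf 4) (.leaf 1))) (.node (.node (.leaf 8) (.leaf 8)) (.node (.leaf 3) (.leaf 8)))) (.node (.node (.node (.leaf 5) (.leaf 4)) (.node (.leaf 1) (.leaf 5))) (.node (.node (.leaf 3) (.leaf 9)) (.leaf 4)))) (.node (.node (.node (.node (.leaf 7) (.leaf 9)) (.node (.leaf 1) (.leaf 10))) (.node (.node (.leaf 7) (.leaf 8)) (.leaf 7))) (.node (.node (.node (.leaf 5) (.leaf 10)) (.node (.leaf 9) (.leaf 5))) (.node (.node (.leaf 3) (.leaf 1)) (.leaf 2)))))))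 (.node (.node (.node (.node (.node (.node (.node (.leaf 8) (.leaf 9)) (.node (.leaf 3) (.leaf 5))) (.node (.node (.leaf 7) (.leaf 3)) (.node (.leaf 1) (.leaf 8)))) (.node (.node (.node (.leaf 9) (.leaf 2)) (.node (.leaf 8) (.leaf 4))) (.node (.node (.leaf 5) (.leaf 2)) (.leaf 4)))) (.node (.node (.node (.node (.leaf 7) (.leaf 3)) (.node (.leaf 8) (.leaf 3))) (.node (.node (.leaf 7) (.leaf 7)) (.node (.leaf 1) (.leaf 3)))) (.node (.node (.node (.leaf 9) (.leaf 8)) (.node (.leaf 5) (.leaf 6))) (.node (.node (.leaf 6) (.leaf 6)) (.leaf 6))))) (.node (.node (.node (.node (.node (.leaf 4) (.leaf 1)) (.node (.leaf 8) (.leaf 9))) (.node (.node (.leaf 5) (.leaf 7)) (.node (.leaf 5) (.leaf 7)))) (.node (.node (.node (.leaf 2) (.leaf 2)) (.node (.leaf 1) (.leaf 9))) (.node (.node (.leaf 6) (.leaf 1)) (.leaf 10)))) (.node (.node (.node (.node (.leaf 5) (.leaf 3)) (.node (.leaf 7) (.leaf 2))) (.node (.node (.leaf 4) (.leaf 8)) (.leaf 1))) (.node (.node (.node (.leaf 8) (.leaf 9)) (.node (.leaf 1) (.leaf 6))) (.node (.node (.leaf 1) (.leaf 8)) (.leaf 7)))))) (.node (.node (.node (.node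 (.node (.node (.leaf 9) (.leaf 5)) (.node (.leaf 10) (.leaf 8))) (.node (.node (.leaf 8) (.leaf 1)) (.node (.leaf 4) (.leaf 1)))) (.node (.node (.node (.leaf 8) (.leaf 6)) (.node (.leaf 10) (.leaf 7))) (.node (.node (.leaf 3) (.leaf 1)) (.leaf 8)))) (.node (.node (.node (.node (.leaf 3) (.leaf 10)) (.node (.leaf 8) (.leaf 8))) (.node (.node (.leaf 10) (.leaf 9)) (.node (.leaf 4) (.leaf 10)))) (.node (.node (.node (.leaf 2) (.leaf 1)) (.node (.leaf 9) (.leaf 9))) (.node (.node (.leaf 2) (.leaf 3)) (.leaf 10))))) (.node (.node (.node (.node (.node (.leaf 5) (.leaf 7)) (.node (.leaf 1) (.leaf 6))) (.node (.node (.leaf 8) (.leaf 10)) (.node (.leaf 5) (.leaf 2)))) (.node (.node (.node (.leaf 9) (.leaf 2)) (.node (.leaf 5) (.leaf 5))) (.node (.node (.leaf 7) (.leaf 9)) (.leaf 6)))) (.node (.node (.node (.node (.leaf 3) (.leaf 3)) (.node (.leaf 8) (.leaf 2))) (.node (.node (.leaf 6) (.leaf 5)) (.leaf 8))) (.node (.node (.node (.leaf 10) (.leaf 10)) (.node (.leaf 6) (.leaf 7))) (.node (.node (.leaf 9) (.leaf 4)) (.leaf 9))))))))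

def lineScalar13 : Janko.Tree (ℕ) :=
  (.node (.node (.node (.node (.node (.node (.node (.node (.leaf 4) (.leaf 4)) (.node (.leaf 8) (.leaf 9))) (.node (.node (.leaf 5) (.leaf 4)) (.node (.leaf 2) (.leaf 5)))) (.node (.node (.node (.leaf 3) (.leaf 9)) (.node (.leaf 2) (.leaf 10))) (.node (.node (.leaf 5) (.leaf 4)) (.leaf 3)))) (.node (.node (.node (.node (.leaf 8) (.leaf 5)) (.node (.leaf 4) (.leaf 1))) (.node (.node (.leaf 6) (.leaf 3)) (.node (.leaf 9) (.leaf 5)))) (.node (.node (.node (.leaf 1) (.leaf 5)) (.node (.leaf 6) (.leaf 6))) (.node (.node (.leaf 2) (.leaf 2)) (.leaf 3))))) (.node (.node (.node (.node (.node (.leaf 5) (.leaf 7)) (.node (.leaf 4) (.leaf 6))) (.node (.node (.leaf 10) (.leaf 2)) (.node (.leaf 6) (.leaf 6)))) (.node (.node (.node (.leaf 10) (.leaf 8)) (.node (.leaf 6) (.leaf 5))) (.node (.node (.leaf 4) (.leaf 6)) (.leaf 2)))) (.node (.node (.node (.node (.leaf 8) (.leaf 4)) (.node (.leaf 6) (.leaf 1))) (.node (.node (.leaf 3) (.leaf 3)) (.leaf 5))) (.node (.node (.node (.leaf 10) (.leaf 5)) (.node (.leaf 5) (.leaf 4))) (.node (.node (.leaf 10)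 (.leaf 9)) (.leaf 10)))))) (.node (.node (.node (.node (.node (.node (.leaf 4) (.leaf 7)) (.node (.leaf 7) (.leaf 7))) (.node (.node (.leaf 6) (.leaf 6)) (.node (.leaf 2) (.leaf 1)))) (.node (.node (.node (.leaf 4) (.leaf 3)) (.node (.leaf 10) (.leaf 2))) (.node (.node (.leaf 4) (.leaf 7)) (.leaf 2)))) (.node (.node (.node (.node (.leaf 8) (.leaf 4)) (.node (.leaf 7) (.leaf 5))) (.node (.node (.leaf 3) (.leaf 2)) (.node (.leaf 1) (.leaf 6)))) (.node (.node (.node (.leaf 10) (.leaf 9)) (.node (.leaf 3) (.leaf 9))) (.node (.node (.leaf 10) (.leaf 10)) (.leaf 9))))) (.node (.node (.node (.node (.node (.leaf 7) (.leaf 9)) (.node (.leaf 8) (.leaf 5))) (.node (.node (.leaf 10) (.leaf 4)) (.node (.leaf 4) (.leaf 8)))) (.node (.node (.node (.leaf 2) (.leaf 10)) (.node (.leaf 6) (.leaf 6))) (.node (.node (.leaf 4) (.leaf 3)) (.leaf 8)))) (.node (.node (.node (.node (.leaf 5) (.leaf 2)) (.node (.leaf 3) (.leaf 8))) (.node (.node (.leaf 4) (.leaf 1)) (.leaf 7))) (.node (.node (.node (.leaf 10) (.leaf 1)) (.node (.leaf 8) (.leaf 9))) (.node (.node (.leaf 4) (.leaf 10)) (.leaf 7)))))))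 (.node (.node (.node (.node (.node (.node (.node (.leaf 6) (.leaf 6)) (.node (.leaf 10) (.leaf 2))) (.node (.node (.leaf 9) (.leaf 2)) (.node (.leaf 6) (.leaf 5)))) (.node (.node (.node (.leaf 7) (.leaf 6)) (.node (.leaf 1) (.leaf 8))) (.node (.node (.leaf 3) (.leaf 4)) (.leaf 6)))) (.node (.node (.node (.node (.leaf 9) (.leaf 3)) (.node (.leaf 6) (.leaf 3))) (.node (.node (.leaf 8) (.leaf 2)) (.node (.leaf 8) (.leaf 7)))) (.node (.node (.node (.leaf 10) (.leaf 10)) (.node (.leaf 1) (.leaf 2))) (.node (.node (.leaf 1) (.leaf 8)) (.leaf 1))))) (.node (.node (.node (.node (.node (.leaf 3) (.leaf 5)) (.node (.leaf 6) (.leaf 5))) (.node (.node (.leaf 7) (.leaf 2)) (.node (.leaf 10) (.leaf 5)))) (.node (.node (.node (.leaf 10) (.leaf 1)) (.node (.leaf 7) (.leaf 1))) (.node (.node (.leaf 3) (.leaf 7)) (.leaf 3)))) (.node (.node (.node (.node (.leaf 2) (.leaf 7)) (.node (.leaf 1) (.leaf 3))) (.node (.node (.leaf 7) (.leaf 5)) (.leaf 6))) (.node (.node (.node (.leaf 7) (.leaf 7)) (.node (.leaf 9) (.leaf 3))) (.node (.node (.leaf 3) (.leaf 4)) (.leaf 1)))))) (.node (.node (.node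 (.node (.node (.node (.leaf 1) (.leaf 4)) (.node (.leaf 8) (.leaf 4))) (.node (.node (.leaf 7) (.leaf 2)) (.node (.leaf 2) (.leaf 7)))) (.node (.node (.node (.leaf 5) (.leaf 2)) (.node (.leaf 5) (.leaf 6))) (.node (.node (.leaf 4) (.leaf 4)) (.leaf 3)))) (.node (.node (.node (.node (.leaf 10) (.leaf 9)) (.node (.leaf 4) (.leaf 6))) (.node (.node (.leaf 2) (.leaf 5)) (.node (.leaf 9) (.leaf 5)))) (.node (.node (.node (.leaf 9) (.leaf 8)) (.node (.leaf 8) (.leaf 10))) (.node (.node (.leaf 8) (.leaf 1)) (.leaf 10))))) (.node (.node (.node (.node (.node (.leaf 5) (.leaf 2)) (.node (.leaf 7) (.leaf 5))) (.node (.node (.leaf 1) (.leaf 10)) (.node (.leaf 6) (.leaf 10)))) (.node (.node (.node (.leaf 3) (.leaf 8)) (.node (.leaf 2) (.leaf 1))) (.node (.node (.leaf 2) (.leaf 5)) (.leaf 2)))) (.node (.node (.node (.node (.leaf 4) (.leaf 10)) (.node (.leaf 6) (.leaf 1))) (.node (.node (.leaf 9) (.leaf 1)) (.leaf 2))) (.node (.node (.node (.leaf 7) (.leaf 5)) (.node (.leaf 1) (.leaf 7))) (.node (.node (.leaf 7) (.leaf 6)) (.leaf 6))))))))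

def lineScalar14 : Janko.Tree (ℕ) :=
  (.node (.node (.node (.node (.node (.node (.node (.node (.leaf 1) (.leaf 2)) (.node (.leaf 10) (.leaf 10))) (.node (.node (.leaf 2) (.leaf 10)) (.node (.leaf 4) (.leaf 4)))) (.node (.node (.node (.leaf 10) (.leaf 2)) (.node (.leaf 5) (.leaf 2))) (.node (.node (.leaf 6) (.leaf 2)) (.leaf 3)))) (.node (.node (.node (.node (.leaf 6) (.leaf 4)) (.node (.leaf 9) (.leaf 9))) (.node (.node (.leaf 4) (.leaf 8)) (.node (.leaf 5) (.leaf 2)))) (.node (.node (.node (.leaf 8) (.leaf 8)) (.node (.leaf 1) (.leaf 4))) (.node (.node (.leaf 9) (.leaf 9)) (.leaf 4))))) (.node (.node (.node (.node (.node (.leaf 9) (.leaf 6)) (.node (.leaf 10) (.leaf 6))) (.node (.node (.leaf 6) (.leaf 8)) (.node (.leaf 3) (.leaf 5)))) (.node (.node (.node (.leaf 4) (.leaf 3)) (.node (.leaf 10) (.leaf 4))) (.node (.node (.leaf 10) (.leaf 6)) (.leaf 4)))) (.node (.node (.node (.node (.leaf 10) (.leaf 1)) (.node (.leaf 1) (.leaf 1))) (.node (.node (.leaf 1) (.leaf 9)) (.leaf 5))) (.node (.node (.node (.leaf 8) (.leaf 2)) (.node (.leaf 4) (.leaf 4))) (.node (.node (.leaf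 1) (.leaf 7)) (.leaf 3)))))) (.node (.node (.node (.node (.node (.node (.leaf 2) (.leaf 7)) (.node (.leaf 8) (.leaf 4))) (.node (.node (.leaf 7) (.leaf 10)) (.node (.leaf 5) (.leaf 3)))) (.node (.node (.node (.leaf 9) (.leaf 7)) (.node (.leaf 8) (.leaf 9))) (.node (.node (.leaf 5) (.leaf 2)) (.leaf 8)))) (.node (.node (.node (.node (.leaf 1) (.leaf 10)) (.node (.leaf 4) (.leaf 3))) (.node (.node (.leaf 8) (.leaf 7)) (.node (.leaf 9) (.leaf 6)))) (.node (.node (.node (.leaf 1) (.leaf 1)) (.node (.leaf 8) (.leaf 3))) (.node (.node (.leaf 2) (.leaf 4)) (.leaf 5))))) (.node (.node (.node (.node (.node (.leaf 5) (.leaf 8)) (.node (.leaf 1) (.leaf 2))) (.node (.node (.leaf 4) (.leaf 10)) (.node (.leaf 2) (.leaf 7)))) (.node (.node (.node (.leaf 5) (.leaf 9)) (.node (.leaf 4) (.leaf 5))) (.node (.node (.leaf 3) (.leaf 4)) (.leaf 8)))) (.node (.node (.node (.node (.leaf 9) (.leaf 4)) (.node (.leaf 9) (.leaf 4))) (.node (.node (.leaf 9) (.leaf 2)) (.leaf 7))) (.node (.node (.node (.leaf 2) (.leaf 2)) (.node (.leaf 2) (.leaf 8))) (.node (.node (.leaf 10) (.leaf 2)) (.leaf 10)))))))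 (.node (.node (.node (.node (.node (.node (.node (.leaf 8) (.leaf 3)) (.node (.leaf 3) (.leaf 5))) (.node (.node (.leaf 10) (.leaf 10)) (.node (.leaf 2) (.leaf 3)))) (.node (.node (.node (.leaf 8) (.leaf 7)) (.node (.leaf 8) (.leaf 4))) (.node (.node (.leaf 9) (.leaf 6)) (.leaf 8)))) (.node (.node (.node (.node (.leaf 4) (.leaf 3)) (.node (.leaf 10) (.leaf 6))) (.node (.node (.leaf 6) (.leaf 5)) (.node (.leaf 4) (.leaf 7)))) (.node (.node (.node (.leaf 6) (.leaf 7)) (.node (.leaf 9) (.leaf 9))) (.node (.node (.leaf 1) (.leaf 3)) (.leaf 9))))) (.node (.node (.node (.node (.node (.leaf 6) (.leaf 3)) (.node (.leaf 10) (.leaf 1))) (.node (.node (.leaf 10) (.leaf 7)) (.node (.leaf 9) (.leaf 1)))) (.node (.node (.node (.leaf 8) (.leaf 9)) (.node (.leaf 4) (.leaf 10))) (.node (.node (.leaf 10) (.leaf 7)) (.leaf 7)))) (.node (.node (.node (.node (.leaf 1) (.leaf 5)) (.node (.leaf 3) (.leaf 2))) (.node (.node (.leaf 2) (.leaf 8)) (.leaf 8))) (.node (.node (.node (.leaf 10) (.leaf 9)) (.node (.leaf 8) (.leaf 7))) (.node (.node (.leaf 10) (.leaf 4)) (.leaf 7)))))) (.node (.node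 (.node (.node (.node (.node (.leaf 2) (.leaf 5)) (.node (.leaf 1) (.leaf 8))) (.node (.node (.leaf 5) (.leaf 7)) (.node (.leaf 10) (.leaf 2)))) (.node (.node (.node (.leaf 2) (.leaf 8)) (.node (.leaf 3) (.leaf 5))) (.node (.node (.leaf 9) (.leaf 3)) (.leaf 8)))) (.node (.node (.node (.node (.leaf 1) (.leaf 3)) (.node (.leaf 1) (.leaf 6))) (.node (.node (.leaf 4) (.leaf 8)) (.node (.leaf 9) (.leaf 4)))) (.node (.node (.node (.leaf 4) (.leaf 4)) (.node (.leaf 4) (.leaf 1))) (.node (.node (.leaf 10) (.leaf 2)) (.leaf 9))))) (.node (.node (.node (.node (.node (.leaf 2) (.leaf 9)) (.node (.leaf 10) (.leaf 9))) (.node (.node (.leaf 5) (.leaf 7)) (.node (.leaf 10) (.leaf 1)))) (.node (.node (.node (.leaf 5) (.leaf 4)) (.node (.leaf 2) (.leaf 10))) (.node (.node (.leaf 10) (.leaf 6)) (.leaf 1)))) (.node (.node (.node (.node (.leaf 7) (.leaf 1)) (.node (.leaf 9) (.leaf 2))) (.node (.node (.leaf 2) (.leaf 7)) (.leaf 1))) (.node (.node (.node (.leaf 7) (.leaf 9)) (.node (.leaf 1) (.leaf 10))) (.node (.node (.leaf 3) (.leaf 3)) (.leaf 6))))))))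

def lineScalar15 : Janko.Tree (ℕ) :=
  (.node (.node (.node (.node (.node (.node (.node (.node (.leaf 10) (.leaf 9)) (.node (.leaf 7) (.leaf 8))) (.node (.node (.leaf 9) (.leaf 4)) (.node (.leaf 9) (.leaf 4)))) (.node (.node (.node (.leaf 8) (.leaf 2)) (.node (.leaf 2) (.leaf 3))) (.node (.node (.leaf 10) (.leaf 6)) (.leaf 1)))) (.node (.node (.node (.node (.leaf 7) (.leaf 2)) (.node (.leaf 5) (.leaf 8))) (.node (.node (.leaf 10) (.leaf 1)) (.node (.leaf 3) (.leaf 3)))) (.node (.node (.node (.leaf 6) (.leaf 6)) (.node (.leaf 10) (.leaf 6))) (.node (.node (.leaf 1) (.leaf 2)) (.leaf 7))))) (.node (.node (.node (.node (.node (.leaf 2) (.leaf 9)) (.node (.leaf 1) (.leaf 10))) (.node (.node (.leaf 2) (.leaf 1)) (.node (.leaf 2) (.leaf 1)))) (.node (.node (.node (.leaf 6) (.leaf 3)) (.node (.leaf 9) (.leaf 1))) (.node (.node (.leaf 9) (.leaf 6)) (.leaf 5)))) (.node (.node (.node (.node (.leaf 7) (.leaf 5)) (.node (.leaf 8) (.leaf 1))) (.node (.node (.leaf 6) (.leaf 2)) (.leaf 3))) (.node (.node (.node (.leaf 4) (.leaf 3)) (.node (.leaf 2) (.leaf 1))) (.node (.node (.leaf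 3) (.leaf 1)) (.leaf 6)))))) (.node (.node (.node (.node (.node (.node (.leaf 5) (.leaf 10)) (.node (.leaf 2) (.leaf 3))) (.node (.node (.leaf 4) (.leaf 1)) (.node (.leaf 4) (.leaf 8)))) (.node (.node (.node (.leaf 2) (.leaf 4)) (.node (.leaf 10) (.leaf 1))) (.node (.node (.leaf 5) (.leaf 7)) (.leaf 9)))) (.node (.node (.node (.node (.leaf 1) (.leaf 6)) (.node (.leaf 4) (.leaf 5))) (.node (.node (.leaf 7) (.leaf 5)) (.node (.leaf 5) (.leaf 1)))) (.node (.node (.node (.leaf 5) (.leaf 7)) (.node (.leaf 8) (.leaf 4))) (.node (.node (.leaf 6) (.leaf 5)) (.leaf 1))))) (.node (.node (.node (.node (.node (.leaf 7) (.leaf 10)) (.node (.leaf 5) (.leaf 8))) (.node (.node (.leaf 10) (.leaf 8)) (.node (.leaf 3) (.leaf 2)))) (.node (.node (.node (.leaf 5) (.leaf 7)) (.node (.leaf 6) (.leaf 10))) (.node (.node (.leaf 3) (.leaf 5)) (.leaf 3)))) (.node (.node (.node (.node (.leaf 8) (.leaf 8)) (.node (.leaf 6) (.leaf 9))) (.node (.node (.leaf 9) (.leaf 8)) (.leaf 3))) (.node (.node (.node (.leaf 3) (.leaf 1)) (.node (.leaf 1) (.leaf 4))) (.node (.node (.leaf 1) (.leaf 8)) (.leaf 7)))))))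 (.node (.node (.node (.node (.node (.node (.node (.leaf 2) (.leaf 6)) (.node (.leaf 8) (.leaf 2))) (.node (.node (.leaf 7) (.leaf 9)) (.node (.leaf 8) (.leaf 8)))) (.node (.node (.node (.leaf 7) (.leaf 9)) (.node (.leaf 9) (.leaf 10))) (.node (.node (.leaf 5) (.leaf 1)) (.leaf 7)))) (.node (.node (.node (.node (.leaf 7) (.leaf 10)) (.node (.leaf 6) (.leaf 6))) (.node (.node (.leaf 2) (.leaf 3)) (.node (.leaf 3) (.leaf 4)))) (.node (.node (.node (.leaf 10) (.leaf 1)) (.node (.leaf 5) (.leaf 8))) (.node (.node (.leaf 6) (.leaf 2)) (.leaf 5))))) (.node (.node (.node (.node (.node (.leaf 9) (.leaf 6)) (.node (.leaf 1) (.leaf 4))) (.node (.node (.leaf 8) (.leaf 3)) (.node (.leaf 7) (.leaf 10)))) (.node (.node (.node (.leaf 9) (.leaf 3)) (.node (.leaf 2) (.leaf 6))) (.node (.node (.leaf 6) (.leaf 6)) (.leaf 9)))) (.node (.node (.node (.node (.leaf 7) (.leaf 9)) (.node (.leaf 5) (.leaf 10))) (.node (.node (.leaf 3) (.leaf 8)) (.leaf 5))) (.node (.node (.node (.leaf 5) (.leaf 1)) (.node (.leaf 1) (.leaf 6))) (.node (.node (.leaf 10) (.leaf 10)) (.leaf 4)))))) (.node (.node (.node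 (.node (.node (.node (.leaf 5) (.leaf 6)) (.node (.leaf 7) (.leaf 7))) (.node (.node (.leaf 1) (.leaf 4)) (.node (.leaf 1) (.leaf 6)))) (.node (.node (.node (.leaf 3) (.leaf 5)) (.node (.leaf 10) (.leaf 5))) (.node (.node (.leaf 5) (.leaf 10)) (.leaf 4)))) (.node (.node (.node (.node (.leaf 4) (.leaf 9)) (.node (.leaf 5) (.leaf 10))) (.node (.node (.leaf 3) (.leaf 10)) (.node (.leaf 3) (.leaf 6)))) (.node (.node (.node (.leaf 3) (.leaf 1)) (.node (.leaf 4) (.leaf 3))) (.node (.node (.leaf 4) (.leaf 8)) (.leaf 4))))) (.node (.node (.node (.node (.node (.leaf 5) (.leaf 9)) (.node (.leaf 8) (.leaf 2))) (.node (.node (.leaf 3) (.leaf 4)) (.node (.leaf 7) (.leaf 10)))) (.node (.node (.node (.leaf 9) (.leaf 7)) (.node (.leaf 8) (.leaf 7))) (.node (.node (.leaf 10) (.leaf 4)) (.leaf 10)))) (.node (.node (.node (.node (.leaf 8) (.leaf 10)) (.node (.leaf 10) (.leaf 10))) (.node (.node (.leaf 10) (.leaf 9)) (.leaf 2))) (.node (.node (.node (.leaf 6) (.leaf 5)) (.node (.leaf 7) (.leaf 9))) (.node (.node (.leaf 10) (.leaf 7)) (.leaf 5))))))))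

def lineScalar : Janko.Tree (ℕ) :=
  (.node (.node (.node (.node lineScalar0 lineScalar8) (.node lineScalar4 lineScalar12)) (.node (.node lineScalar2 lineScalar10) (.node lineScalar6 lineScalar14))) (.node (.node (.node lineScalar1 lineScalar9) (.node lineScalar5 lineScalar13)) (.node (.node lineScalar3 lineScalar11) (.node lineScalar7 lineScalar15))))

def lineNorm0 : Janko.Tree (ℕ) :=
  (.node (.node (.node (.node (.node (.node (.node (.node (.leaf 2251799947915265) (.leaf 844562503307265)) (.node (.leaf 3459609488556822529) (.leaf 5766578054046429185))) (.node (.node (.leaf 6920344052420317184) (.leaf 3460171888704126977)) (.node (.leaf 11532030002161778689) (.leaf 9223372243130683393)))) (.node (.node (.node (.leaf 9223372655397199873) (.leaf 3459327601229709313)) (.node (.leaf 10378827434827993089) (.leaf 6918374002343833601))) (.node (.node (.leaf 9223935399141863425) (.leaf 11529778133561516033)) (.leaf 8071014169480007680)))) (.node (.node (.node (.node (.leaf 10377982528794415105) (.leaf 4612249586973581313)) (.node (.leaf 2815437079314433) (.leaf 2306969183998472193)))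 (.node (.node (.leaf 1155455329153064961) (.leaf 9226186786621886464)) (.node (.leaf 11529215321030262785) (.leaf 5765452016750968833)))) (.node (.node (.node (.leaf 8070732488277753856) (.leaf 3461579263587680257)) (.node (.leaf 8072984082033700865) (.leaf 1407856054145025))) (.node (.node (.leaf 549923590144) (.leaf 1970805873348609)) (.leaf 6918936608817319937))))) (.node (.node (.node (.node (.node (.leaf 2308657896570785793) (.leaf 1154047542002999297)) (.node (.leaf 9224216461801689088) (.leaf 281750005633025))) (.node (.node (.leaf 1688918713958401) (.leaf 1971012082077696)) (.node (.leaf 9225342980318060545) (.leaf 6918936471277674497)))) (.node (.node (.node (.leaf 3461579675971653633) (.leaf 8071013550937620481)) (.node (.leaf 8193) (.leaf 11530903964648222721))) (.node (.node (.leaf 11529215320946388993) (.leaf 1154610354517463041)) (.leaf 1126106165944321)))) (.node (.node (.node (.node (.leaf 11532029864655728641) (.leaf 11530059814595989504)) (.node (.leaf 11529215252327567360) (.leaf 3461016382454390785))) (.node (.node (.leaf 1153485073052336128) (.leaf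 3461579813477703681)) (.node (.leaf 3460172369841135617) (.leaf 3461579676072300545)))) (.node (.node (.node (.leaf 6920344395917045761) (.leaf 3461016382487932929)) (.node (.leaf 9223935124347834369) (.leaf 11529215114787946496))) (.node (.node (.leaf 9225905930288250881) (.leaf 8070450669686910977)) (.leaf 4614501455439605761)))))) (.node (.node (.node (.node (.node (.node (.leaf 8071858182110052353) (.leaf 9226187473917317120)) (.node (.leaf 2533618538778624) (.leaf 8073265419470766080))) (.node (.node (.leaf 281750022393856) (.leaf 5766859804052062209)) (.node (.leaf 1125900074627073) (.leaf 6917811189913227265)))) (.node (.node (.node (.leaf 11530341358426419201) (.leaf 9225061367885627393)) (.node (.leaf 11529778683300560897) (.leaf 10376293953812074497))) (.node (.node (.leaf 3461297994802946049) (.leaf 10376293953912709121)) (.leaf 11529215046236270593)))) (.node (.node (.node (.node (.leaf 8071013482318819329) (.leaf 11531467258316488705)) (.node (.leaf 4612249037200969729) (.leaf 8070732350956273665))) (.node (.node (.leaf 11530059539718078464) (.leaf 1154328948226678785))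 (.node (.leaf 10377983009797181440) (.leaf 6920343914914254848)))) (.node (.node (.node (.leaf 1154892035719708673) (.leaf 8070732488328093697)) (.node (.leaf 8072140069437214721) (.leaf 1155173785574313984))) (.node (.node (.leaf 1154610835503468545) (.leaf 2305843284225839105)) (.leaf 11529215046085246976))))) (.node (.node (.node (.node (.node (.leaf 10378264278716162049) (.leaf 2815299573256192)) (.node (.leaf 1155173304504418305) (.leaf 11530904583224205313))) (.node (.node (.leaf 1689056102617089) (.leaf 11530341633321111553)) (.node (.leaf 5766015310318555137) (.leaf 1155736391980720129)))) (.node (.node (.node (.leaf 8071294957211623425) (.leaf 1154610973026316289)) (.node (.leaf 11532030483181379585) (.leaf 9224498486584561665))) (.node (.node (.leaf 11531185508394754049) (.leaf 844425064378369)) (.leaf 5765452222993309697)))) (.node (.node (.node (.node (.leaf 8072139725839798273) (.leaf 3461016519926915073)) (.node (.leaf 11530622764566183936) (.leaf 4611967974524329985))) (.node (.node (.leaf 2251937269424129) (.leaf 6917811189963591681)) (.leaf 6917810640157433857)))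 (.node (.node (.node (.leaf 845043455758337) (.leaf 10378545547584749569)) (.node (.leaf 2533549802528769) (.leaf 1407443603042305))) (.node (.node (.leaf 9225342361708548097) (.leaf 6918374002343804928)) (.leaf 1153202979684253697))))))) (.node (.node (.node (.node (.node (.node (.node (.leaf 1152921573326323712) (.leaf 2306406509040373761)) (.node (.leaf 10377701534904385537) (.leaf 5766297060122857473))) (.node (.node (.leaf 9223653511831519233) (.leaf 9223654061604077568)) (.node (.leaf 11530622558558785537) (.leaf 6919217877585264641)))) (.node (.node (.node (.leaf 6918092115033456641) (.leaf 6918655477471522817)) (.node (.leaf 9223372380468957185) (.leaf 844699858407425))) (.node (.node (.leaf 8071295575686909953) (.leaf 9224216530554740737)) (.leaf 10378545891064676353)))) (.node (.node (.node (.node (.leaf 9225624386558533633) (.leaf 3459608938750697473)) (.node (.leaf 6918373796336394241) (.leaf 10378545410011602945))) (.node (.node (.leaf 3460172507296829440) (.leaf 11531467189479542785)) (.node (.leaf 6917810914985009153) (.leaf 3460172301171970049)))) (.node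 (.node (.node (.leaf 3461298338400309248) (.leaf 4613375143182344193)) (.node (.leaf 6917811052541378561) (.leaf 2307532477700247552))) (.node (.node (.leaf 1155454985723478017) (.leaf 10377419578924863488)) (.leaf 4612530443407888385))))) (.node (.node (.node (.node (.node (.leaf 9225061436638666753) (.leaf 8071295094768033793)) (.node (.leaf 11530059952102047745) (.leaf 2307532546285502465))) (.node (.node (.leaf 6920062371234865153) (.leaf 10376856972501716993)) (.node (.leaf 9225905311695507456) (.leaf 4613093530766688257)))) (.node (.node (.node (.leaf 11530059471082487809) (.leaf 9225342499164282881)) (.node (.leaf 9226186924127977473) (.leaf 6918936471395143681))) (.node (.node (.leaf 10377982803672313857) (.leaf 6918936952330817537)) (.leaf 8072984288141799425)))) (.node (.node (.node (.node (.leaf 4612249105886912513) (.leaf 844699824832513)) (.node (.leaf 9226187061617233920) (.leaf 2814955942313984))) (.node (.node (.leaf 9224779411771891713) (.leaf 9223653924316139521)) (.leaf 8071576500874260481))) (.node (.node (.node (.leaf 4614219636915871745) (.leaf 2307532408947224577))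 (.node (.leaf 6918374071163944961) (.leaf 3459890551267012609))) (.node (.node (.leaf 9224779755386077185) (.leaf 1155455466659139585)) (.leaf 3461579263738675201)))))) (.node (.node (.node (.node (.node (.node (.leaf 3461298407170134017) (.leaf 3460172507280080897)) (.node (.leaf 9226187473833447425) (.leaf 3461579332323901441))) (.node (.node (.leaf 10379108566190538753) (.leaf 6920062646045667329)) (.node (.leaf 1970324987998209) (.leaf 10376575291333054465)))) (.node (.node (.node (.leaf 3461298063522410497) (.leaf 10379108841135554561)) (.node (.leaf 5764889273023074304) (.leaf 6917810846349418497))) (.node (.node (.leaf 1154610423287283713) (.leaf 10378826885005086721)) (.leaf 2308658446192386049)))) (.node (.node (.node (.node (.leaf 68753068033) (.leaf 68786614273)) (.node (.leaf 10376575085325623297) (.leaf 11529496521045221377))) (.node (.node (.leaf 2815230920896513) (.leaf 5764889616654024705)) (.node (.leaf 11529778545777713153) (.leaf 5767422685134979072)))) (.node (.node (.node (.leaf 5766296785312047105) (.leaf 11531467533160828929)) (.node (.leaf 10376293816406654977)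 (.leaf 3459890551199895553))) (.node (.node (.leaf 1407924656148481) (.leaf 11530904514538270721)) (.leaf 206208786433))))) (.node (.node (.node (.node (.node (.leaf 11532030483198124033) (.leaf 5766015172946694145)) (.node (.leaf 8073265556993613825) (.leaf 11530622970825281536))) (.node (.node (.leaf 1154892448003014657) (.leaf 1153203666946134017)) (.node (.leaf 2306406440253825025) (.leaf 5767140935347482625)))) (.node (.node (.node (.leaf 2306406577642422273) (.leaf 11531467120843984897)) (.node (.leaf 1689537055043585) (.leaf 1154047542053326849))) (.node (.node (.leaf 1154329291958280193) (.leaf 4613656343415373825)) (.leaf 2308095152691908609)))) (.node (.node (.node (.node (.leaf 1970325004759041) (.leaf 6919780827622543360)) (.node (.leaf 2307813815120601089) (.leaf 10377701603607068673))) (.node (.node (.leaf 11532030345624948737) (.leaf 8072139794542530561)) (.leaf 9225624249002119169))) (.node (.node (.node (.leaf 8072702813232168961) (.leaf 1155173716787765249)) (.node (.leaf 4614501455506739201) (.leaf 5766015378987683841))) (.node (.node (.leaf 6918936746122051585)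 (.leaf 6918092183820058625)) (.leaf 1126449830428673))))))))

def lineNorm1 : Janko.Tree (ℕ) :=
  (.node (.node (.node (.node (.node (.node (.node (.node (.leaf 6918373727616925697) (.leaf 68719480832)) (.node (.leaf 2252074725171201) (.leaf 1407443653402625))) (.node (.node (.leaf 6920062783518158849) (.leaf 1155736323110207488)) (.node (.leaf 8073265694499676161) (.leaf 11529215733280047105)))) (.node (.node (.node (.leaf 4611968043310915585) (.leaf 9223653511865073665)) (.node (.leaf 3461298269798301697) (.leaf 1154610904390701057))) (.node (.node (.leaf 6919218221182631937) (.leaf 5766296716525473793)) (.leaf 4613656343381819393)))) (.node (.node (.node (.node (.leaf 4611686293305298945) (.leaf 6919218083710144513)) (.node (.leaf 281543763296257) (.leaf 6920344327180800001))) (.node (.node (.leaf 11530059883449692161) (.leaf 11529497208256724992)) (.node (.leaf 11531185714553176065) (.leaf 10377982391355441153)))) (.node (.node (.node (.leaf 9225624317771931649) (.leaf 11529497070834589697)) (.node (.leaf 9226186855408480257) (.leaf 11529778477175697409))) (.node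 (.node (.leaf 4613937886960570369) (.leaf 5765733766605570049)) (.leaf 3461016313634250753))))) (.node (.node (.node (.node (.node (.leaf 6919500039706394625) (.leaf 11529215114922188801)) (.node (.leaf 3459890757425467393) (.leaf 3461298063522430977))) (.node (.node (.leaf 3459891032236269569) (.leaf 11529496589798215681)) (.node (.leaf 9224498280493252609) (.leaf 5765170885455544321)))) (.node (.node (.node (.leaf 11531467533093699585) (.leaf 10377701260110356481)) (.node (.leaf 8070451219442708481) (.leaf 11530904102221414401))) (.node (.node (.leaf 11531748939350933504) (.leaf 10377701259959336960)) (.leaf 11530059539801964545)))) (.node (.node (.node (.node (.leaf 9225060955602300929) (.leaf 4613656824418172929)) (.node (.leaf 2533824630104065) (.leaf 6917529233816289281))) (.node (.node (.leaf 11530060158361161729) (.leaf 4614219705668902913)) (.node (.leaf 1154892379199651841) (.leaf 3458764720012525569)))) (.node (.node (.node (.leaf 9226186855341359104) (.leaf 5765170816601845761)) (.node (.leaf 9224779686633041921) (.leaf 1154892241878130689))) (.node (.node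 (.leaf 5765452291729547265) (.leaf 9226186786638684161)) (.leaf 1153484798325460993)))))) (.node (.node (.node (.node (.node (.node (.leaf 10377982872425340929) (.leaf 11529777996122562561)) (.node (.leaf 8071295575686930433) (.leaf 8072984356844498945))) (.node (.node (.leaf 1155173579449466881) (.leaf 3461016794821586945)) (.node (.leaf 5767141278978416641) (.leaf 8071013894602137601)))) (.node (.node (.node (.leaf 9224216736729948161) (.leaf 10378264347334963201)) (.node (.leaf 6918655133723144193) (.leaf 6918655614742695936))) (.node (.node (.leaf 5764607866732314625) (.leaf 2307531927860563969)) (.leaf 6918373796319625217)))) (.node (.node (.node (.node (.leaf 8072421200833290241) (.leaf 6919500039739940865)) (.node (.leaf 3458764651393716224) (.leaf 11530060158277296129))) (.node (.node (.leaf 5765452360314798081) (.leaf 5766296716592562177)) (.node (.leaf 5765452222842281985) (.leaf 11531467395688325121)))) (.node (.node (.node (.leaf 11532030208303431681) (.leaf 1152921916990820352)) (.node (.leaf 343681306625) (.leaf 8070732076011261953))) (.node (.node (.leaf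 8072420857252687873) (.leaf 4613375349407895553)) (.leaf 4613656343331487745))))) (.node (.node (.node (.node (.node (.leaf 10376293678900600833) (.leaf 10378546028637888513)) (.node (.leaf 10377419991258525697) (.leaf 11530622489788948481))) (.node (.node (.leaf 5767422960096776193) (.leaf 4613937955763929089)) (.node (.leaf 6919781308558249985) (.leaf 3461579607185072129)))) (.node (.node (.node (.leaf 1155736872966701057) (.leaf 6918373796286078977)) (.node (.leaf 6918091977628061696) (.leaf 6920344327164022785))) (.node (.node (.leaf 11530059952034938881) (.leaf 5766859529090244609)) (.leaf 8072421407008489473)))) (.node (.node (.node (.node (.leaf 2308658446293037057) (.leaf 2306969390324686849)) (.node (.leaf 3459327463824297984) (.leaf 562950020558849))) (.node (.node (.leaf 2308657827733856257) (.leaf 6917811189862895616)) (.leaf 6918373658813538305))) (.node (.node (.node (.leaf 5764889341625106432) (.leaf 9225342430511894528)) (.node (.leaf 6920343914964602881) (.leaf 10378264141260423169))) (.node (.node (.leaf 1153203048437272577) (.leaf 4613656412118056961))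 (.leaf 1154892173091565569))))))) (.node (.node (.node (.node (.node (.node (.node (.leaf 11530059883315466240) (.leaf 8072421269435326465)) (.node (.leaf 8072421338188382209) (.leaf 1155173785557544961))) (.node (.node (.leaf 2305843146652672001) (.leaf 1153766616748523521)) (.node (.leaf 1153203048353370112) (.leaf 8072139863161335809)))) (.node (.node (.node (.leaf 3459890482547527680) (.leaf 1155173785523978241)) (.node (.leaf 68736294913) (.leaf 5764889685222502401))) (.node (.node (.leaf 1154047610688909313) (.leaf 1970668535050241)) (.leaf 4614501043189850113)))) (.node (.node (.node (.node (.leaf 1155173373140033537) (.leaf 2307532408980787201)) (.node (.leaf 1154892173158653953) (.leaf 3460735113585758208))) (.node (.node (.leaf 8070732694536884225) (.leaf 9225905517837168641)) (.node (.leaf 11530059539718103041) (.leaf 1153766616815652865)))) (.node (.node (.node (.leaf 9223372518025355265) (.leaf 2307531927944437761)) (.node (.leaf 8073265831854764033) (.leaf 8070732213483749377))) (.node (.node (.leaf 549890056193) (.leaf 844974753079297)) (.leaf 282024816410625)))))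 (.node (.node (.node (.node (.node (.leaf 5766859872771510273) (.leaf 3459328013529780225)) (.node (.leaf 8072421063260110849) (.leaf 10377701053935124481))) (.node (.node (.leaf 11531466845882187777) (.leaf 1126449746550785)) (.node (.leaf 5767141416299958273) (.leaf 2305843215439241217)))) (.node (.node (.node (.leaf 4613375418110586881) (.leaf 844424980492289)) (.node (.leaf 10378545822462648321) (.leaf 1154610491939631105))) (.node (.node (.leaf 11530341221004255233) (.leaf 10376575154045075457)) (.leaf 11530341220869996544)))) (.node (.node (.node (.node (.leaf 11530060020855083009) (.leaf 8071576501042061313)) (.node (.leaf 11529496589781434368) (.leaf 8072139794475388929))) (.node (.node (.leaf 10376856835029217281) (.leaf 11530622558424543233)) (.leaf 1970737321627649))) (.node (.node (.node (.leaf 2308658446326587393) (.leaf 481204117505)) (.node (.leaf 6918654996384849921) (.leaf 2306124759152214017))) (.node (.node (.leaf 1152921779568640001) (.leaf 1154611041712250881)) (.leaf 2815436961902593)))))) (.node (.node (.node (.node (.node (.node (.leaf 5765452360298029057)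 (.leaf 2306687846611701761)) (.node (.leaf 6920062371318730752) (.leaf 6919781514766991361))) (.node (.node (.leaf 5766015310335328257) (.leaf 11531467395738660865)) (.node (.leaf 2307532477582802945) (.leaf 1153766135779323905)))) (.node (.node (.node (.leaf 11530623108180361217) (.leaf 10377419716279926785)) (.node (.leaf 1152922054496882688) (.leaf 2306969115446751233))) (.node (.node (.leaf 11531185439692034049) (.leaf 10379108703696592897)) (.leaf 1153203117123178496)))) (.node (.node (.node (.node (.leaf 6918936402524672001) (.leaf 4612530787022024705)) (.node (.leaf 10378264210030198785) (.leaf 11532029795835580417))) (.node (.node (.leaf 5765452635209478145) (.leaf 5766578191602851841)) (.node (.leaf 11529497208374165505) (.leaf 1154047679559409665)))) (.node (.node (.node (.leaf 6919780896174243841) (.leaf 2308376490229669889)) (.node (.leaf 563499826696193) (.leaf 1153203529356148737))) (.node (.node (.leaf 6919217877501382657) (.leaf 6917810571505065985)) (.leaf 10379108428684460032))))) (.node (.node (.node (.node (.node (.leaf 4611967837018267649) (.leaf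 9225905861400989697)) (.node (.leaf 3459327876208287745) (.leaf 11530341495831822337))) (.node (.node (.leaf 11531185714653851649) (.leaf 8072702606956314625)) (.node (.leaf 5767140797858189312) (.leaf 10377138310056284161)))) (.node (.node (.node (.leaf 6919218152513507329) (.leaf 11530059745876508673)) (.node (.leaf 1407924740067329) (.leaf 2533824663670785))) (.node (.node (.leaf 10378264484891336705) (.leaf 11530904583173832705)) (.leaf 10376293885109346305)))) (.node (.node (.node (.node (.leaf 4097) (.leaf 2814955942338561)) (.node (.leaf 6920343777475317761) (.leaf 5767140935414599681))) (.node (.node (.leaf 1152922191919058944) (.leaf 343630958593)) (.leaf 2306406165392678913))) (.node (.node (.node (.leaf 8073265694382260225) (.leaf 1152921642112929793)) (.node (.leaf 6920062302599254017) (.leaf 5766859529174151169))) (.node (.node (.leaf 4611967493404114945) (.leaf 8071013757230260225)) (.leaf 3459327601313599489))))))))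

def lineNorm2 : Janko.Tree (ℕ) :=
  (.node (.node (.node (.node (.node (.node (.node (.node (.leaf 2533481049497601) (.leaf 8070450738423140352)) (.node (.leaf 1153766273134366721) (.leaf 2307813471539986433))) (.node (.node (.leaf 1155173648068259841) (.leaf 5766859735231930369)) (.node (.leaf 2306687640453267457) (.leaf 2252281001041921)))) (.node (.node (.node (.leaf 11531185851958558720) (.leaf 282024849985537)) (.node (.leaf 3461579607319277569) (.leaf 2305843421564145665))) (.node (.node (.leaf 5765451947981148160) (.leaf 6919218015040999425)) (.leaf 9224498005598552065)))) (.node (.node (.node (.node (.leaf 1155173373140008960) (.leaf 563499793129473)) (.node (.leaf 3461579675904548865) (.leaf 1152921710865944576))) (.node (.node (.leaf 10378545753726414849) (.leaf 8072702606989852673)) (.node (.leaf 5767422616532967425) (.leaf 412333662209)))) (.node (.node (.node (.leaf 11531185714620297217) (.leaf 68836933633)) (.node (.leaf 68736253952) (.leaf 68887289857))) (.node (.node (.leaf 1154610423337598977) (.leaf 11530622695863504897)) (.leaf 4611968111896203265)))))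 (.node (.node (.node (.node (.node (.leaf 1154047473300279297) (.leaf 5767422479010136065)) (.node (.leaf 11531748939350953985) (.leaf 9223653511915376641))) (.node (.node (.leaf 2815368326324225) (.leaf 3460172232435703809)) (.node (.leaf 5765170954040791041) (.leaf 481053114368)))) (.node (.node (.node (.leaf 9225624042994688001) (.leaf 2306969115295776769)) (.node (.leaf 1155173923046838273) (.leaf 6918373727533010945))) (.node (.node (.leaf 10377138035228680193) (.leaf 10376293816473767937)) (.leaf 2306687777774784513)))) (.node (.node (.node (.node (.leaf 5765170473004437505) (.leaf 11531467189546680321)) (.node (.leaf 2307532202839138305) (.leaf 844425064361985))) (.node (.node (.leaf 1155736598004895744) (.leaf 1154892516722483201)) (.node (.leaf 8070450532315074561) (.leaf 5767141141472362497)))) (.node (.node (.node (.leaf 2306687502930436097) (.leaf 1153203666862223361)) (.node (.leaf 5766859803901067265) (.leaf 845043573202945))) (.node (.node (.leaf 10377137966525976577) (.leaf 6918091977745502208)) (.leaf 5764607797928935425)))))) (.node (.node (.node (.node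 (.node (.node (.leaf 1154610629378592769) (.leaf 1155455191781228545)) (.node (.leaf 3459046401114112001) (.leaf 10377982735070277633))) (.node (.node (.leaf 6917810914951471105) (.leaf 2308658171364802561)) (.node (.leaf 5765170610560847873) (.leaf 8071013482369142785)))) (.node (.node (.node (.leaf 10378827503497138177) (.leaf 24577)) (.node (.leaf 5764608210279337984) (.leaf 11532029933442306049))) (.node (.node (.leaf 281474976710656) (.leaf 2307531927894126593)) (.leaf 1152921710782054400)))) (.node (.node (.node (.node (.leaf 1152921710933090305) (.leaf 1155736804163362817)) (.node (.leaf 10378264209912762368) (.leaf 9225060955518427137))) (.node (.node (.leaf 6919499833598283776) (.leaf 5764889685356744705)) (.node (.leaf 11531748733259620353) (.leaf 9225905311779430401)))) (.node (.node (.node (.leaf 11530341083481378817) (.leaf 9223653511932153857)) (.node (.leaf 3459328013563355137) (.leaf 10376856903765479425))) (.node (.node (.leaf 281475043831809) (.leaf 1154891829527724033)) (.leaf 10378827022477582337))))) (.node (.node (.node (.node (.node (.leaf 5767141416333496321)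 (.leaf 1154891966983454721)) (.node (.leaf 6917529371372720129) (.leaf 4614500768362270720))) (.node (.node (.leaf 6918373590077276161) (.leaf 1153766479309578241)) (.node (.leaf 2306688052686258177) (.leaf 2815437129678849)))) (.node (.node (.node (.leaf 3460734838791757825) (.leaf 1152921573376659457)) (.node (.leaf 1155736666707615745) (.leaf 2307813815238000641))) (.node (.node (.leaf 1152921917074743297) (.leaf 5767422960012910593)) (.leaf 8073265556943290369)))) (.node (.node (.node (.node (.leaf 5766015035524521985) (.leaf 3461017000929689601)) (.node (.leaf 6918654996334538753) (.leaf 2308095358783234049))) (.node (.node (.leaf 10376294091334885377) (.leaf 1154047816964784129)) (.leaf 10378545684906266625))) (.node (.node (.node (.leaf 2814749834227713) (.leaf 4612812055890653185)) (.node (.leaf 6917811121176993793) (.leaf 6918936402642104321))) (.node (.node (.leaf 10376575634930401280) (.leaf 5766577985477967873)) (.leaf 4612530649515974657))))))) (.node (.node (.node (.node (.node (.node (.node (.leaf 281887427792896) (.leaf 1155454985673121793)) (.node (.leaf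 8071295300809011201) (.leaf 9224498280359038977))) (.node (.node (.leaf 1154048023005786113) (.leaf 1152922054379479041)) (.node (.leaf 10378264072591269889) (.leaf 1152922054446551040)))) (.node (.node (.node (.leaf 8072984288108220417) (.leaf 8070450669804347393)) (.node (.leaf 2814818503393281) (.leaf 6918654996267405312))) (.node (.node (.leaf 281956130500609) (.leaf 9225061573926596609)) (.leaf 8073265556909719552)))) (.node (.node (.node (.node (.leaf 4614501249331523585) (.leaf 687261892609)) (.node (.leaf 9224216530605072385) (.leaf 2306688052753338368))) (.node (.node (.leaf 1153203048454070273) (.leaf 2306124759118651393)) (.node (.leaf 845112208805889) (.leaf 68736258049)))) (.node (.node (.node (.leaf 2306124552960245761) (.leaf 2308376627752488961)) (.node (.leaf 9226187130336718849) (.leaf 3459046057583849473))) (.node (.node (.leaf 8072702881918124033) (.leaf 412467875841)) (.leaf 3460453363747921921))))) (.node (.node (.node (.node (.node (.leaf 4614219705584979968) (.leaf 8072421132080283649)) (.node (.leaf 1) (.leaf 1154329566685179905))) (.node (.node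 (.leaf 2307250521536204800) (.leaf 2306406302798053377)) (.node (.leaf 10376293747687170049) (.leaf 4611967837001498625)))) (.node (.node (.node (.leaf 8071295369645928449) (.leaf 1155736941686190081)) (.node (.leaf 4611967493404098560) (.leaf 3458764582657474561))) (.node (.node (.leaf 3458764719978983425) (.leaf 5765452085453680641)) (.leaf 6917529096410894337)))) (.node (.node (.node (.node (.leaf 11529215733363912705) (.leaf 2307813883806507009)) (.node (.leaf 6920062646062448641) (.leaf 5765171022844153857))) (.node (.node (.leaf 9225061024237912065) (.leaf 6920344258494861312)) (.leaf 3461579607319265281))) (.node (.node (.node (.leaf 2305843490300383233) (.leaf 2306969115413209089)) (.node (.leaf 481069895681) (.leaf 1153766341853843457))) (.node (.node (.leaf 6919781239788429313) (.leaf 1155736460616282113)) (.leaf 8072702538303963137)))))) (.node (.node (.node (.node (.node (.node (.leaf 3459609145076899841) (.leaf 9224498417932177408)) (.node (.leaf 5765171160182464513) (.leaf 4613937818392076289))) (.node (.node (.leaf 1154328948209889281) (.leaf 10376575016438333440))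 (.node (.leaf 1152921779618992129) (.leaf 1154892035602268161)))) (.node (.node (.node (.leaf 1153485073052356609) (.leaf 3461579332357464065)) (.node (.leaf 11530341564568047617) (.leaf 3459327463908184064))) (.node (.node (.leaf 1154329016979714049) (.leaf 1154892379300331521)) (.leaf 11529215321080614913)))) (.node (.node (.node (.node (.leaf 5765452222959751169) (.leaf 4614219843074260993)) (.node (.leaf 10377701328762736641) (.leaf 10379108359998570497))) (.node (.node (.leaf 1154611041695449089) (.leaf 10379108703545597953)) (.node (.leaf 1154047885667475457) (.leaf 8073265763152044033)))) (.node (.node (.node (.leaf 3460453432484192257) (.leaf 2533412229361665)) (.node (.leaf 11529215252243677184) (.leaf 4614501111926128641))) (.node (.node (.leaf 11531748733343535105) (.leaf 1689056186470401)) (.leaf 11529497208357416961))))) (.node (.node (.node (.node (.node (.leaf 3459046057617395713) (.leaf 3459608938767450113)) (.node (.leaf 11529497139637927937) (.leaf 4614500836947554305))) (.node (.node (.leaf 9224498211689861120) (.leaf 10378827297338728449)) (.node (.leaf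 8072421544330006528) (.leaf 11529215114855059456)))) (.node (.node (.node (.leaf 562950104440833) (.leaf 10376575703733800961)) (.node (.leaf 11529215664627650561) (.leaf 4613375280721956864))) (.node (.node (.leaf 10378827091264184321) (.leaf 3459046538653769729)) (.leaf 1154891829544501249)))) (.node (.node (.node (.node (.leaf 5766859735164817409) (.leaf 9223372243046760449)) (.node (.leaf 3460735044933386241) (.leaf 9223653580601303041))) (.node (.node (.leaf 2306969321588404225) (.leaf 2308095290147627009)) (.leaf 5767422341604708353))) (.node (.node (.node (.leaf 11531186058117017601) (.leaf 1154610560759783425)) (.node (.leaf 1152922191935836161) (.leaf 1153203598075629569))) (.node (.node (.leaf 5767422616566538241) (.leaf 4611967493538332673)) (.leaf 11529778339719974913))))))))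

def lineNorm3 : Janko.Tree (ℕ) :=
  (.node (.node (.node (.node (.node (.node (.node (.node (.leaf 3459609351084343297) (.leaf 11531466914769403905)) (.node (.leaf 4613937955831025665) (.leaf 11531466845982859265))) (.node (.node (.leaf 6917811052507856897) (.leaf 8071014169463267329)) (.node (.leaf 10379108566123433985) (.leaf 687194779649)))) (.node (.node (.node (.leaf 3461298132376121345) (.leaf 11530340945975328769)) (.node (.leaf 3459890413878398977) (.leaf 4612812605562580993))) (.node (.node (.leaf 3458764720096448513) (.leaf 11529497002198962177)) (.leaf 11529496727371386880)))) (.node (.node (.node (.node (.leaf 3459609282515849217) (.leaf 11531185371073216513)) (.node (.leaf 11529215183608090625) (.leaf 1155736804230443009))) (.node (.node (.leaf 281956046622721) (.leaf 5765452429034299393)) (.node (.leaf 11530904445768458241) (.leaf 1125968760541184)))) (.node (.node (.node (.leaf 11530060158193393665) (.leaf 1155736391863242753)) (.node (.leaf 9224216530588303361) (.leaf 5767422341554409473))) (.node (.node (.leaf 10377419922404827137) (.leaf 11531748801912008705))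 (.leaf 8071013963271249921))))) (.node (.node (.node (.node (.node (.leaf 2307532271491518465) (.leaf 412333637632)) (.node (.leaf 563362303840256) (.leaf 4614219911776972801))) (.node (.node (.leaf 11532030276939026433) (.leaf 11531185783356538881)) (.node (.leaf 10376293541612630017) (.leaf 3460734907527995393)))) (.node (.node (.node (.leaf 3460453913604403201) (.leaf 4612812468173967361)) (.node (.leaf 1152921917057925121) (.leaf 2307532546352640001))) (.node (.node (.leaf 1155736323261239297) (.leaf 11529496589814988801)) (.leaf 4613656412000620545)))) (.node (.node (.node (.node (.leaf 2252418339311617) (.leaf 2307532546335850497)) (.node (.leaf 3459046676008816641) (.leaf 11532029864571830272))) (.node (.node (.leaf 10378264072473837569) (.leaf 1154047885566844929)) (.node (.leaf 2306688121456058369) (.leaf 1155736598139133953)))) (.node (.node (.node (.leaf 5764608072957820929) (.leaf 9223935124364599297)) (.node (.leaf 68887252993) (.leaf 16789505))) (.node (.node (.leaf 3460453569990258689) (.leaf 3460734838707871745)) (.leaf 5766296372894535681)))))) (.node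 (.node (.node (.node (.node (.node (.leaf 11532030276989394945) (.leaf 6918936952397926401)) (.node (.leaf 2306124759168991233) (.leaf 4611967768332353537))) (.node (.node (.leaf 10377982597564235777) (.leaf 1970599832338433)) (.node (.leaf 3460735388480458753) (.leaf 11530341083514945537)))) (.node (.node (.node (.leaf 3458764720012529665) (.leaf 10377982941178396673)) (.node (.leaf 12289) (.leaf 3458765132346204161))) (.node (.node (.leaf 5765171091513298945) (.leaf 2307532134102872065)) (.leaf 2307813815087030273)))) (.node (.node (.node (.node (.leaf 3459609488674271233) (.leaf 9225905861551992833)) (.node (.leaf 1153202979751362561) (.leaf 5765733904111644673))) (.node (.node (.leaf 8072140069302960129) (.leaf 10376293541495189505)) (.node (.leaf 6919781514716672001) (.leaf 2252280984276993)))) (.node (.node (.node (.leaf 1153203117039292417) (.leaf 2308095496289263617)) (.node (.leaf 8071294957329063937) (.leaf 68853694465))) (.node (.node (.leaf 10378263935135518721) (.leaf 10377138378859630593)) (.leaf 3459609351084331009))))) (.node (.node (.node (.node (.node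 (.leaf 8070732282270322689) (.leaf 3459046057516728320)) (.node (.leaf 3461298269798281217) (.leaf 563568462282753))) (.node (.node (.leaf 1153766479309570048) (.leaf 11530904445785235457)) (.node (.leaf 6920062989794017281) (.leaf 6918654927564701697)))) (.node (.node (.node (.leaf 3458764994991120385) (.leaf 9223372449339428865)) (.node (.leaf 8073265282065383425) (.leaf 9223653924198707201))) (.node (.node (.leaf 9223653855563104257) (.leaf 6917529027758551041)) (.leaf 10378264072557731841)))) (.node (.node (.node (.node (.leaf 5764889066764013569) (.leaf 2307531927961206785)) (.node (.leaf 9225624111697387521) (.leaf 9225624317738377217))) (.node (.node (.leaf 2251868633845761) (.leaf 5765171160283111425)) (.leaf 5767422822724927489))) (.node (.node (.node (.leaf 11531748733192540161) (.leaf 3459890826077814785)) (.node (.leaf 9225623836685238273) (.leaf 8072139657002885121))) (.node (.node (.leaf 5766296579120074753) (.leaf 1155173854226690049)) (.leaf 10379108703713378305))))))) (.node (.node (.node (.node (.node (.node (.node (.leaf 1155173304420536320) (.leaf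 1689537189289985)) (.node (.leaf 11532029933375197184) (.leaf 4612811987187929088))) (.node (.node (.leaf 11530341289639813121) (.leaf 1970737153863681)) (.node (.leaf 6920344395950608385) (.leaf 2306688052686237697)))) (.node (.node (.node (.leaf 6917810708826574849) (.leaf 4611967974541107201)) (.node (.leaf 10379108772365746177) (.leaf 8071295300792225792))) (.node (.node (.leaf 3461298407220461569) (.leaf 1153485141822181377)) (.leaf 2252418339307521)))) (.node (.node (.node (.node (.leaf 5764889547783557121) (.leaf 3460172438627721217)) (.node (.leaf 2308658446326583297) (.leaf 5766578535099547649))) (.node (.node (.leaf 11530622421002375169) (.leaf 3461297857498226689)) (.node (.leaf 2306124552926662657) (.leaf 3459890826128166913)))) (.node (.node (.node (.leaf 11529497208256761857) (.leaf 5766859460353982465)) (.node (.leaf 9225342361859543041) (.leaf 2306406371634970625))) (.node (.node (.leaf 2307250796447674369) (.leaf 8072139931964710913)) (.leaf 10377982528844750849))))) (.node (.node (.node (.node (.node (.leaf 5764889410495610881) (.leaf 6918936814992527361))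 (.node (.leaf 9224216942972268545) (.leaf 563087476260865))) (.node (.node (.leaf 9226187061566898177) (.leaf 3461579332307165185)) (.node (.leaf 10376857041338650625) (.leaf 6918373864955224065)))) (.node (.node (.node (.leaf 2307813471539965953) (.leaf 11530903895928758273)) (.node (.leaf 8072139863312310273) (.leaf 1154610492073873409))) (.node (.node (.leaf 9226186855475605505) (.leaf 9223654199026294785)) (.leaf 9224216530638614529)))) (.node (.node (.node (.node (.leaf 4614219636831944705) (.leaf 8070450875895652353)) (.node (.leaf 5766859322847952897) (.leaf 9226186786722549760))) (.node (.node (.leaf 10378827022477561857) (.leaf 3461297857347194881)) (.leaf 9225624042843680769))) (.node (.node (.node (.leaf 2307531996663906305) (.leaf 5765170541874909184)) (.node (.leaf 9223935261719691265) (.leaf 1154048091708461056))) (.node (.node (.leaf 2814749767118849) (.leaf 68853698560)) (.leaf 6918374071130411009)))))) (.node (.node (.node (.node (.node (.node (.leaf 10376575085191389185) (.leaf 9226187198955520001)) (.node (.leaf 6920062783484612609) (.leaf 2306124759085109249)))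 (.node (.node (.leaf 2306969184082362369) (.leaf 3460453501186908161)) (.node (.leaf 5765170610577608704) (.leaf 844631122120704)))) (.node (.node (.node (.leaf 2814956093313025) (.leaf 6919781446064304129)) (.node (.leaf 1154610423320846337) (.leaf 4612530718285758465))) (.node (.node (.leaf 5766296785295261697) (.leaf 3459609557293101057)) (.leaf 1154048023072886785)))) (.node (.node (.node (.node (.leaf 4614501111825453057) (.leaf 10377138172550225921)) (.node (.leaf 8070732213534089217) (.leaf 10376575428822335489))) (.node (.node (.leaf 1407855919919105) (.leaf 1153766135829651457)) (.node (.leaf 10377982597580996609) (.leaf 11529496933378842625)))) (.node (.node (.node (.leaf 8070450532365406209) (.leaf 11529778133595078657)) (.node (.leaf 3461579263688314881) (.leaf 2307250590356357121))) (.node (.node (.leaf 5764889547934572545) (.leaf 4611686568350978048)) (.leaf 1153203666811920385))))) (.node (.node (.node (.node (.node (.leaf 481204125697) (.leaf 2252006005710849)) (.node (.leaf 9223372655380439041) (.leaf 11529497139688284161))) (.node (.node (.leaf 5765733972847910913)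 (.leaf 3459046401281925121)) (.node (.leaf 6918373521424949249) (.leaf 4612249586923208705)))) (.node (.node (.node (.leaf 1153203048319819777) (.leaf 2308376284037660673)) (.node (.leaf 9224779549244432385) (.leaf 4613656755715477505))) (.node (.node (.leaf 11531185783255887873) (.leaf 1153203323214495745)) (.leaf 11529496521045180416)))) (.node (.node (.node (.node (.leaf 2307250659092602881) (.leaf 1155455123095326721)) (.node (.leaf 3461016932226981889) (.leaf 1155455397922881537))) (.node (.node (.leaf 6918373864921661441) (.leaf 4613656824451723265)) (.leaf 2307532202755264513))) (.node (.node (.node (.leaf 8072702881817452545) (.leaf 8071013894585352193)) (.node (.leaf 8072983807155789825) (.leaf 10378545959817719809))) (.node (.node (.leaf 1155173304420532225) (.leaf 2306687709055295489)) (.leaf 1154891829443837953))))))))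

def lineNorm4 : Janko.Tree (ℕ) :=
  (.node (.node (.node (.node (.node (.node (.node (.node (.leaf 3458765063576383489) (.leaf 11530059677240922113)) (.node (.leaf 2307532065299509249) (.leaf 10378545478848503809))) (.node (.node (.leaf 1152922191851970561) (.leaf 3460453913470201857)) (.node (.leaf 1408062212579329) (.leaf 10377701260026482689)))) (.node (.node (.node (.leaf 10377700985215655937) (.leaf 10377138584917405697)) (.node (.leaf 9224216667993673729) (.leaf 11529497070817775616))) (.node (.node (.leaf 8073265763084931073) (.leaf 2308376627618263041)) (.leaf 10377982391472881665)))) (.node (.node (.node (.node (.leaf 3459327669965975553) (.leaf 2306687571633115136)) (.node (.leaf 10377419716279943169) (.leaf 8070450944699015169))) (.node (.node (.leaf 1152921504606846976) (.leaf 6918373727465930753)) (.node (.leaf 9226187198938742785) (.leaf 9225342980200636417)))) (.node (.node (.node (.leaf 10376856835045986304) (.leaf 1155173854277013505)) (.node (.leaf 1152921504690745345) (.leaf 4612248968447942657))) (.node (.node (.leaf 281818741878785) (.leaf 2815093414825984))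 (.leaf 1153203392051412993))))) (.node (.node (.node (.node (.node (.leaf 4613656824317485057) (.leaf 10377983009830739969)) (.node (.leaf 6918092458748289025) (.leaf 11529215389699448833))) (.node (.node (.leaf 3460171957541044225) (.leaf 11532029796003381249)) (.node (.leaf 1155736323244429313) (.leaf 10376575703784120321)))) (.node (.node (.node (.leaf 11531466914618413056) (.leaf 8071013619740979201)) (.node (.leaf 1154892516789620737) (.leaf 2815024728903680))) (.node (.node (.leaf 1407443754033153) (.leaf 1155173304437309440)) (.leaf 6920344121039155201)))) (.node (.node (.node (.node (.leaf 10378264072540917760) (.leaf 2306406371517538305)) (.node (.leaf 1408062128652289) (.leaf 1154329429296566273))) (.node (.node (.leaf 5767140866611245057) (.leaf 4614500836913971201)) (.leaf 8070732282219995137))) (.node (.node (.node (.leaf 10376575085224947713) (.leaf 10376856766427172865)) (.node (.leaf 1155455329169866753) (.leaf 5764889135466692609))) (.node (.node (.leaf 11529496795990200321) (.leaf 4613375074563534849)) (.leaf 10376294022548312065)))))) (.node (.node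 (.node (.node (.node (.node (.leaf 11529215114838282241) (.leaf 9223653511831486464)) (.node (.leaf 9224217011591094273) (.leaf 10376575497642479617))) (.node (.node (.leaf 11531748664473063425) (.leaf 4613937955713622017)) (.node (.leaf 6918373658847117313) (.leaf 1155736391880032257)))) (.node (.node (.node (.leaf 4611686224602599424) (.leaf 4612812055773200385)) (.node (.leaf 4613938161855238144) (.leaf 4612812536809537537))) (.node (.node (.leaf 4614501455506743297) (.leaf 3461579538566250497)) (.leaf 1970668434386945)))) (.node (.node (.node (.node (.leaf 11531467464525250561) (.leaf 1154892448036556801)) (.node (.leaf 687245111297) (.leaf 9223372105725255681))) (.node (.node (.leaf 4613937887061213185) (.leaf 11530623108230709249)) (.node (.leaf 2306124965327421441) (.leaf 6917529440008310785)))) (.node (.node (.node (.leaf 10377982391355478017) (.leaf 10377982666317242369)) (.node (.leaf 11530060020804759553) (.leaf 2307251002606100481))) (.node (.node (.leaf 10377419991157841921) (.leaf 4612812399370584065)) (.leaf 1154047954437287937))))) (.node (.node (.node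 (.node (.node (.leaf 3459046332394635265) (.leaf 6918092046381117441)) (.node (.leaf 6919218427391414273) (.leaf 844974836944896))) (.node (.node (.leaf 2306969596382416897) (.leaf 1155173510595768321)) (.node (.leaf 1152921848321675264) (.leaf 11529497139604357121)))) (.node (.node (.node (.leaf 9225905311695544321) (.leaf 2308094877897867265)) (.node (.leaf 5764889204169396225) (.leaf 1152921985659961345))) (.node (.node (.leaf 8070732557014032385) (.leaf 10378826885105733633)) (.leaf 6918936883594567681)))) (.node (.node (.node (.node (.leaf 4613937818274635777) (.leaf 4611686705672486913)) (.node (.leaf 3459046263675162624) (.leaf 10377701122537181185))) (.node (.node (.leaf 3460453844750700545) (.leaf 3460453982256775169)) (.leaf 11530903964665012225))) (.node (.node (.node (.leaf 2307531859073978369) (.leaf 6917810708826587137)) (.node (.leaf 6920062577477177345) (.leaf 6919781445930065921))) (.node (.node (.leaf 3461016519842992129) (.leaf 10379108978591272961)) (.leaf 206326235137))))))) (.node (.node (.node (.node (.node (.node (.node (.leaf 2305843627789651968)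 (.leaf 2307813952643403777)) (.node (.leaf 8072139450961899521) (.leaf 563224965554177))) (.node (.node (.leaf 8071013619757785089) (.leaf 4613093462080786433)) (.node (.leaf 11529497139537289217) (.leaf 5766859460387557377)))) (.node (.node (.node (.leaf 10377419647677898753) (.leaf 5766014897917825025)) (.node (.leaf 1155736872983465985) (.leaf 2306968909120577537))) (.node (.node (.leaf 11531748389611913217) (.leaf 481053143041)) (.leaf 1153484454560305153)))) (.node (.node (.node (.node (.leaf 4613656893154418689) (.leaf 10377982941161603073)) (.node (.leaf 9224779411906101249) (.leaf 36865))) (.node (.node (.leaf 5764607591804047361) (.leaf 5767141416299921409)) (.node (.leaf 5767422272969125889) (.leaf 10377701466218442753)))) (.node (.node (.node (.leaf 1153484798174466049) (.leaf 6920062577443614721)) (.node (.leaf 5766015378954153985) (.leaf 5765733629133086721))) (.node (.node (.leaf 9224216599290994689) (.leaf 6918373590110851073)) (.leaf 6918373658897432577))))) (.node (.node (.node (.node (.node (.leaf 4612812124509437953) (.leaf 2308094946516688897)) (.node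 (.leaf 4612812536876658689) (.leaf 8071014169530347521))) (.node (.node (.leaf 1155173579466223617) (.leaf 10377700985131782145)) (.node (.leaf 1154047404681461761) (.leaf 11530622627127234561)))) (.node (.node (.node (.leaf 3459609625945444352) (.leaf 3461016863524261889)) (.node (.leaf 5765170747999793153) (.leaf 5764607935401463809))) (.node (.node (.leaf 1155455466759823361) (.leaf 11530622695829950465)) (.leaf 2306969046676934657)))) (.node (.node (.node (.node (.leaf 2306969321538101249) (.leaf 3459046126387220481)) (.node (.leaf 10377419578874531841) (.leaf 274894684160))) (.node (.node (.leaf 1153766410606882817) (.leaf 5764889135567360001)) (.leaf 6918092596103368705))) (.node (.node (.node (.leaf 8072983807172567041) (.leaf 9226187473900539905)) (.node (.leaf 2306969252852137985) (.leaf 9225060886798962689))) (.node (.node (.leaf 4614500768211275776) (.leaf 9226186992797089792)) (.leaf 10378263935034851328)))))) (.node (.node (.node (.node (.node (.node (.leaf 3458765063576367105) (.leaf 2815299657138177)) (.node (.leaf 3460171957557792769) (.leaf 3459609213779599361)))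 (.node (.node (.leaf 6917529027657871361) (.leaf 11532030070881284097)) (.node (.leaf 8071013757230288897) (.leaf 5766578535065980928)))) (.node (.node (.node (.leaf 6918373933708218369) (.leaf 3461298475973480449)) (.node (.leaf 4613093943167459329) (.leaf 4614501455540285441))) (.node (.node (.leaf 8070450532348620801) (.leaf 1153203666912546816)) (.leaf 2306969321605173248)))) (.node (.node (.node (.node (.leaf 3459327669932392449) (.leaf 8071295025897558017)) (.node (.leaf 2307532546436501504) (.leaf 1155173579415879681))) (.node (.node (.leaf 5764889341625139201) (.leaf 3461298269664075777)) (.node (.leaf 5766015516510560257) (.leaf 1155455260551049217)))) (.node (.node (.node (.leaf 5766859597893632001) (.leaf 4613656412151652353)) (.node (.leaf 6919781171219947521) (.leaf 10378827366125297665))) (.node (.node (.leaf 9224498486584541185) (.leaf 8070732625800622081)) (.leaf 4612530580813258753))))) (.node (.node (.node (.node (.node (.leaf 9224217149030019073) (.leaf 1126587235860481)) (.node (.leaf 2307813608928600065) (.leaf 343614181377))) (.node (.node (.leaf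 563156212523009) (.leaf 5765452635276591105)) (.node (.leaf 1153485073186590721) (.leaf 8071858525774561281)))) (.node (.node (.node (.leaf 2305843490250059777) (.leaf 5766578535133093889)) (.node (.leaf 9223653855428911105) (.leaf 2307532408863346689))) (.node (.node (.leaf 3459609351235330049) (.leaf 1152921504606846977)) (.leaf 1153766479393484801)))) (.node (.node (.node (.node (.leaf 1153765929654452225) (.leaf 8071576844605886465)) (.node (.leaf 2308376833877385217) (.leaf 687261884417))) (.node (.node (.leaf 8072702332162314241) (.leaf 6920343777408208897)) (.leaf 8072702332111982593))) (.node (.node (.node (.leaf 10377420059910868992) (.leaf 4612249449450704897)) (.node (.leaf 11532030070864494593) (.leaf 10378263935118737409))) (.node (.node (.leaf 6919500039807074305) (.leaf 8071295575804387329)) (.leaf 6918655339915157505))))))))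

def lineNorm5 : Janko.Tree (ℕ) :=
  (.node (.node (.node (.node (.node (.node (.node (.node (.leaf 2306969046626635777) (.leaf 618643079169)) (.node (.leaf 4612249518170210305) (.leaf 281887360679937))) (.node (.node (.leaf 8072702813232189441) (.leaf 9224216461952684032)) (.node (.leaf 8071013894618877953) (.leaf 8072139450827669505)))) (.node (.node (.node (.leaf 11529215664661221377) (.leaf 11531466846049968129)) (.node (.leaf 9225342499281739777) (.leaf 3459327669965959169))) (.node (.node (.leaf 10377419922555797505) (.leaf 5764607935435014145)) (.leaf 1152922191902289921)))) (.node (.node (.node (.node (.leaf 2307532477633167361) (.leaf 11530059539818782721)) (.node (.leaf 4612530924528095233) (.leaf 4613093462030417921))) (.node (.node (.leaf 1154892241827799041) (.leaf 6917811052507844609)) (.node (.leaf 5767141416400596993) (.leaf 1154892516672163841)))) (.node (.node (.node (.leaf 5765170816685740033) (.leaf 8072421475627331585)) (.node (.leaf 10378827503597817857) (.leaf 3459046263792603136))) (.node (.node (.leaf 9226187061499793408) (.leaf 4611967905720975361))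 (.leaf 8071858182110072833))))) (.node (.node (.node (.node (.node (.leaf 4612812193212153857) (.leaf 4612530993113358337)) (.node (.leaf 9224217011674943489) (.leaf 4613656411983851521))) (.node (.node (.leaf 6919499421348544513) (.leaf 6919780964944080897)) (.node (.leaf 2307532271441170433) (.leaf 2308095221495255041)))) (.node (.node (.node (.leaf 3459890551166345217) (.leaf 1125900057866241)) (.node (.leaf 9224779411805446145) (.leaf 6918092527467773953))) (.node (.node (.leaf 687194767361) (.leaf 5766578054113529857)) (.leaf 9224779411889332225)))) (.node (.node (.node (.node (.leaf 2306125034097229825) (.leaf 1126174935773185)) (.node (.leaf 8073265694482907137) (.leaf 1153485141771816961))) (.node (.node (.leaf 10377982528911843329) (.leaf 11530059746027536385)) (.leaf 2306969458926706689))) (.node (.node (.node (.leaf 10377419647526920193) (.leaf 5765451948132143104)) (.node (.leaf 5764607523202019329) (.leaf 1154329429330124801))) (.node (.node (.leaf 8072984081949790208) (.leaf 1154329498099937281)) (.leaf 10376575703750569985)))))) (.node (.node (.node (.node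 (.node (.node (.leaf 6918092596220796929) (.leaf 9223935536597569536)) (.node (.leaf 3459609351084310528) (.leaf 6918654996418412545))) (.node (.node (.leaf 3459609213746044929) (.leaf 11531748389595160577)) (.node (.leaf 8072983875858485249) (.leaf 2815162100756481)))) (.node (.node (.node (.leaf 9225905724079497217) (.leaf 9224780098933100544)) (.node (.leaf 8072702332145537025) (.leaf 9224779480541716481))) (.node (.node (.leaf 1153203048319848449) (.leaf 1155173648152174593)) (.leaf 2306969596332097537)))) (.node (.node (.node (.node (.leaf 9223653649337561089) (.leaf 11529215458452443136)) (.node (.leaf 6918373933624360961) (.leaf 4612249518170189825))) (.node (.node (.leaf 5765733697919651840) (.leaf 2306406646512914433)) (.node (.leaf 2308376559016239105) (.leaf 11531466845898973185)))) (.node (.node (.node (.leaf 10378264278699347969) (.leaf 10378545478831734785)) (.node (.leaf 16777216) (.leaf 1688918579752961))) (.node (.node (.leaf 11531185439624925184) (.leaf 549772623873)) (.leaf 2307250521687203841))))) (.node (.node (.node (.node (.node (.leaf 8071858319515488257)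 (.leaf 6920062920940326912)) (.node (.leaf 10377419991124303873) (.leaf 6919218152530251777))) (.node (.node (.leaf 11530059677291261953) (.leaf 5764888998128406529)) (.node (.leaf 10377138103964938241) (.leaf 1408062078332929)))) (.node (.node (.node (.leaf 3460735319777751041) (.leaf 8070451150790352897)) (.node (.leaf 3461017000963235841) (.leaf 10379108978440314881))) (.node (.node (.leaf 4614219774405120001) (.leaf 4613656549439574016)) (.leaf 1155455054342287361)))) (.node (.node (.node (.node (.leaf 10378264141210099713) (.leaf 3460453844733935617)) (.node (.leaf 9226186786638659584) (.leaf 9223372724083105793))) (.node (.node (.leaf 11529496864659353601) (.leaf 2308376421526937601)) (.leaf 10378545891064692737))) (.node (.node (.node (.leaf 9225342774176382977) (.leaf 2305843284158726145)) (.node (.leaf 2815162151075841) (.leaf 4614219636865540097))) (.node (.node (.leaf 2306687777791569921) (.leaf 9226187336511926273)) (.leaf 1126174818328577))))))) (.node (.node (.node (.node (.node (.node (.node (.leaf 8072702538220068865) (.leaf 2308094809077710849)) (.node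 (.leaf 16781312) (.leaf 1154892447969452033))) (.node (.node (.leaf 9223372586761584641) (.leaf 1153484523447521281)) (.node (.leaf 10377701603539947521) (.leaf 9224779686784024577)))) (.node (.node (.node (.leaf 9223935605417721857) (.leaf 3459045988914692097)) (.node (.leaf 11529778270966935553) (.leaf 4613093737042546689))) (.node (.node (.leaf 4612530993214029825) (.leaf 6918092252539527169)) (.leaf 5766860010210471937)))) (.node (.node (.node (.node (.leaf 5765733766605590529) (.leaf 3460172575966003201)) (.node (.leaf 9223372655380402176) (.leaf 8071013551021494272))) (.node (.node (.leaf 3459609145043324929) (.leaf 2307250521569775617)) (.node (.leaf 4613375143266222081) (.leaf 11530622695980929024)))) (.node (.node (.node (.leaf 2307250933936963585) (.leaf 4613938436749942785)) (.node (.leaf 1155173785490456577) (.leaf 2252349720498176))) (.node (.node (.leaf 844906117488641) (.leaf 11530059539734876161)) (.leaf 8072420925821198337))))) (.node (.node (.node (.node (.node (.leaf 4613656618175852545) (.leaf 549772591104)) (.node (.leaf 3459045988814028800) (.leaf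 2533481015955457))) (.node (.node (.leaf 8071013825899438081) (.leaf 9224217080377663489)) (.node (.leaf 8072420857101692929) (.leaf 9224779892942467073)))) (.node (.node (.node (.leaf 8071013825916207105) (.leaf 1154610629479235585)) (.node (.leaf 9223935330573381633) (.leaf 10376856697640624129))) (.node (.node (.leaf 3459046401181233153) (.leaf 8071858182026174465)) (.leaf 1155173991715962881)))) (.node (.node (.node (.node (.leaf 3460453844834619393) (.leaf 4612530924561645569)) (.node (.leaf 3461298475822522369) (.leaf 2306124965360967681))) (.node (.node (.leaf 2306124759085088768) (.leaf 1152922191818424321)) (.leaf 6919217877602041857))) (.node (.node (.node (.leaf 281543746560001) (.leaf 9225342980318040065)) (.node (.leaf 2308657827868090369) (.leaf 11531749008221446145))) (.node (.node (.leaf 6919218496144445441) (.leaf 10379108772399292417)) (.leaf 618643070977)))))) (.node (.node (.node (.node (.node (.node (.leaf 1407924807143424) (.leaf 8071014032057827329)) (.node (.leaf 68719476736) (.leaf 11530341014845804545))) (.node (.node (.leaf 5766859666613100545)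 (.leaf 1155173441893060609)) (.node (.leaf 8070732419692515329) (.leaf 11530904583291297793)))) (.node (.node (.node (.leaf 6919218495993413632) (.leaf 11529778683283787777)) (.node (.leaf 2815024812789760) (.leaf 1153203529372930049))) (.node (.node (.leaf 3459046607306117121) (.leaf 5765734110202961921)) (.leaf 6918936746222698497)))) (.node (.node (.node (.node (.leaf 1152921504623652865) (.leaf 3459046332562407425)) (.node (.leaf 11530341495798251521) (.leaf 5767422341655040000))) (.node (.node (.leaf 2308095015185813504) (.leaf 8070451082171518976)) (.node (.leaf 11530622695964147713) (.leaf 3460172232418922497)))) (.node (.node (.node (.leaf 2306969184032038913) (.leaf 11530059677173837825)) (.node (.leaf 4614219980546781185) (.leaf 1154891829443829761))) (.node (.node (.leaf 11530903964782428161) (.leaf 11531185645850468353)) (.leaf 8071014032091406337))))) (.node (.node (.node (.node (.node (.leaf 4614219293234581505) (.leaf 6920343983583436801)) (.node (.leaf 6918655202526531585) (.leaf 1125899923632129))) (.node (.node (.leaf 8071013757096038401) (.leaf 1155736254373994497))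 (.node (.leaf 10379108978557747201) (.leaf 4613094080556052481)))) (.node (.node (.node (.leaf 1152921573460566017) (.leaf 2308657896587542529)) (.node (.leaf 5766015035423891457) (.leaf 5764889479080837121))) (.node (.node (.leaf 2252006089580545) (.leaf 5766578328991469569)) (.leaf 1154329566785871873)))) (.node (.node (.node (.node (.leaf 3459890757475778561) (.leaf 4613657030475948033)) (.node (.leaf 3460171888804794369) (.leaf 8071858113457717249))) (.node (.node (.leaf 281818607652865) (.leaf 1153203598226624513)) (.leaf 5764889066864644097))) (.node (.node (.node (.leaf 8071014169412894720) (.leaf 6920344258478080001)) (.node (.leaf 9224779411755106305) (.leaf 11530904033418047489))) (.node (.node (.leaf 687245103104) (.leaf 9226187473867010049)) (.leaf 137506103297))))))))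

def lineNorm6 : Janko.Tree (ℕ) :=
  (.node (.node (.node (.node (.node (.node (.node (.node (.leaf 4612811918502014977) (.leaf 1126587151945728)) (.node (.leaf 2308094877864304641) (.leaf 4613375486813298689))) (.node (.node (.leaf 3460453638709710849) (.leaf 6919781102483709953)) (.node (.leaf 8071295094617034753) (.leaf 1153484866961022977)))) (.node (.node (.node (.leaf 10377419922522271745) (.leaf 11532030414327648257)) (.node (.leaf 5767422822590738433) (.leaf 6919781308491112449))) (.node (.node (.leaf 5766015516477001729) (.leaf 9224498211740200961)) (.leaf 4611686568200011777)))) (.node (.node (.node (.node (.leaf 9223653924215492609) (.leaf 8071013825815511041)) (.node (.leaf 10376575154028318721) (.leaf 8071576569677619201))) (.node (.node (.leaf 10377982391472918529) (.leaf 9225624386474610689)) (.node (.leaf 6920062302431498241) (.leaf 2814818486611969)))) (.node (.node (.node (.leaf 10378264553493385217) (.leaf 5767422272801366017)) (.node (.leaf 6919780827471548416) (.leaf 8073265556976836609))) (.node (.node (.leaf 68803387393) (.leaf 11530903964732137473))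 (.leaf 8071577050730733569))))) (.node (.node (.node (.node (.node (.leaf 4611686636969811969) (.leaf 282024866742273)) (.node (.leaf 1126243521024001) (.leaf 5766296716575789057))) (.node (.node (.leaf 1153484592167014401) (.leaf 1970599865905153)) (.node (.leaf 10377138103881064449) (.leaf 11529215183574552577)))) (.node (.node (.node (.leaf 1155736872866062337) (.leaf 4096)) (.node (.leaf 6920062646045638656) (.leaf 4614219636899057665))) (.node (.node (.leaf 3459891032202682369) (.leaf 4613938230708940801)) (.leaf 4613656480787210241)))) (.node (.node (.node (.node (.leaf 6920062989726932993) (.leaf 11530904308262371328)) (.node (.leaf 1153203460687007745) (.leaf 2307531927810215936))) (.node (.node (.leaf 1155736941585534977) (.leaf 9225342499231379457)) (.leaf 1153766548180074497))) (.node (.node (.node (.leaf 9223653855563116545) (.leaf 2307813608962129921)) (.node (.leaf 4614219568246722561) (.leaf 5764607729310142465))) (.node (.node (.leaf 6918936746205925377) (.leaf 2305843421564108801)) (.leaf 1970805906894849)))))) (.node (.node (.node (.node (.node (.node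 (.leaf 8070732007224639488) (.leaf 10377982872408571905)) (.node (.leaf 5765171160199204864) (.leaf 1154892241894928385))) (.node (.node (.leaf 9225905517837185025) (.leaf 1689331030855681)) (.node (.leaf 10377701466134564865) (.leaf 9224498417881853953)))) (.node (.node (.node (.leaf 3459046332411453441) (.leaf 481069932545)) (.node (.leaf 11529778545844822017) (.leaf 10379108291362955265))) (.node (.node (.leaf 9223935055544455169) (.leaf 3461016382437621761)) (.leaf 9225061230345998337)))) (.node (.node (.node (.node (.leaf 9224217148979675137) (.leaf 9226187267725332480)) (.node (.leaf 4612249243376185345) (.leaf 1154047954370199553))) (.node (.node (.leaf 8072139519563939841) (.leaf 8073265831921852417)) (.node (.leaf 11529496864642596865) (.leaf 9224779686683381761)))) (.node (.node (.node (.leaf 1154891966949888001) (.leaf 10376856766427193345)) (.node (.leaf 2306124759185780737) (.leaf 137455747073))) (.node (.node (.leaf 10378264484841000961) (.leaf 11529215252394713089)) (.leaf 8071295644372848641))))) (.node (.node (.node (.node (.node (.leaf 1155736735527735297)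 (.leaf 10378264484891365377)) (.node (.leaf 6919218221199417345) (.leaf 3460454050875576320))) (.node (.node (.leaf 9225905586623778817) (.leaf 6918092664906739713)) (.node (.leaf 1152921710815612928) (.leaf 9223935536715030529)))) (.node (.node (.node (.leaf 4612249518186983425) (.leaf 9225342361725325313)) (.node (.leaf 4613375418194497537) (.leaf 10376575016438370305))) (.node (.node (.leaf 1407581125906433) (.leaf 6919218289902116865)) (.leaf 2306124896675053569)))) (.node (.node (.node (.node (.leaf 2306969390257569793) (.leaf 1154329429413990400)) (.node (.leaf 282024782860288) (.leaf 11530059952068526081))) (.node (.node (.leaf 618592772097) (.leaf 11530059471099265025)) (.leaf 11529215458519547905))) (.node (.node (.node (.leaf 5766296647923441665) (.leaf 2815024712134657)) (.node (.leaf 5766577847887986689) (.leaf 10378545616186777601))) (.node (.node (.leaf 3458764651393753089) (.leaf 4613938436749922305)) (.leaf 3460453982273576961))))))) (.node (.node (.node (.node (.node (.node (.node (.leaf 5767141210191855617) (.leaf 11532029933291311105)) (.node (.leaf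 8071295575653371905) (.leaf 9224780030314299393))) (.node (.node (.leaf 3459890826212016129) (.leaf 8071858113407365121)) (.node (.leaf 3459609282431979521) (.leaf 6918654927715696641)))) (.node (.node (.node (.leaf 2306969321571618817) (.leaf 9225624386441076737)) (.node (.leaf 5766015104126586881) (.leaf 1155736391913570305))) (.node (.node (.leaf 8071013482218147841) (.leaf 5766015516409856000)) (.leaf 4614501249247608832)))) (.node (.node (.node (.node (.leaf 2307531927793438721) (.leaf 9223935193117626368)) (.node (.leaf 1970805940436993) (.leaf 10376857109974220801))) (.node (.node (.leaf 5765733491710918657) (.leaf 3459046057684520961)) (.node (.leaf 687362580481) (.leaf 11529497002148667393)))) (.node (.node (.node (.leaf 10377701603573506049) (.leaf 10376294160087924737)) (.node (.leaf 10378545753743183873) (.leaf 8072421338121256961))) (.node (.node (.leaf 5766014898001707009) (.leaf 10378264553510158337)) (.leaf 3459609144959475713))))) (.node (.node (.node (.node (.node (.leaf 11529215321063829505) (.leaf 8071576707066261505)) (.node (.leaf 10378263935018094593)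 (.leaf 11532030208202780673))) (.node (.node (.leaf 3461579332474900480) (.leaf 5765171091630727169)) (.node (.leaf 1153484935697301505) (.leaf 8070450807192961025)))) (.node (.node (.node (.leaf 4614219361987604481) (.leaf 11531185370905473025)) (.node (.leaf 2308376559016218625) (.leaf 5765170747882356737))) (.node (.node (.leaf 1154047679559405569) (.leaf 1155736873017057281)) (.leaf 6919218221199413249)))) (.node (.node (.node (.node (.leaf 5767141141573033985) (.leaf 9225061161676873729)) (.node (.leaf 8071013825849106433) (.leaf 9223372586610601985))) (.node (.node (.leaf 5764888998078074881) (.leaf 1155455123112083457)) (.leaf 8070451150723248129))) (.node (.node (.node (.leaf 6918374139933765633) (.leaf 5766015516409864193)) (.node (.leaf 4612812468257816577) (.leaf 3461579401093722113))) (.node (.node (.leaf 1155173304487645184) (.leaf 687211544576)) (.leaf 3458765201048870913)))))) (.node (.node (.node (.node (.node (.node (.leaf 1153766204565893121) (.leaf 6920344396000923648)) (.node (.leaf 2308094946600579073) (.leaf 5767422685135020033))) (.node (.node (.leaf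 6918937021117370369) (.leaf 11530059952135614465)) (.node (.leaf 11530059746044293121) (.leaf 10376857041288339457)))) (.node (.node (.node (.leaf 9224217149113917441) (.leaf 1153484935613411329)) (.node (.leaf 10377982666334027777) (.leaf 1155454848133537793))) (.node (.node (.leaf 1155173579382337537) (.leaf 9223935055695486977)) (.leaf 5766296922767790081)))) (.node (.node (.node (.node (.leaf 1154329291824037888) (.leaf 1970805890088960)) (.node (.leaf 8071577119517315073) (.leaf 6920062989643026432))) (.node (.node (.leaf 3458765201082433537) (.leaf 6919218015108079617)) (.node (.leaf 6918092115067019265) (.leaf 1153484729522094081)))) (.node (.node (.node (.leaf 4612812330684653569) (.leaf 6920062371150995457)) (.node (.leaf 4614219361954054145) (.leaf 4613093668205633537))) (.node (.node (.leaf 11530623108281028609) (.leaf 1689537222836225)) (.leaf 1970324954419201))))) (.node (.node (.node (.node (.node (.leaf 5767422685252444161) (.leaf 2307250727845638145)) (.node (.leaf 6920062921074548737) (.leaf 281818691534849))) (.node (.node (.leaf 1155736597971369985)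 (.leaf 10378263935185862657)) (.node (.leaf 9223935605367394305) (.leaf 5764889547766779905)))) (.node (.node (.node (.leaf 9225623905387941888) (.leaf 11529215527121584129)) (.node (.leaf 11530622558491668481) (.leaf 10378264072624812033))) (.node (.node (.leaf 11531467395654754305) (.leaf 3459327738752569345)) (.leaf 4614219705618571265)))) (.node (.node (.node (.node (.leaf 8072983807088680961) (.leaf 8072420994641326081)) (.node (.leaf 2307250384248242177) (.leaf 2308658033875521537))) (.node (.node (.leaf 9224779892808224769) (.leaf 3459045988965048321)) (.leaf 11531185439792721921))) (.node (.node (.node (.leaf 3461297926100221953) (.leaf 5766296991487234049)) (.node (.leaf 9226186786688991233) (.leaf 8073265900658118657))) (.node (.node (.leaf 2308094946600562689) (.leaf 1152921848254562305)) (.leaf 2307813608995713025))))))))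

def lineNorm7 : Janko.Tree (ℕ) :=
  (.node (.node (.node (.node (.node (.node (.node (.node (.leaf 1154047748228542465) (.leaf 2308094809161601025)) (.node (.leaf 5766577916590690304) (.leaf 4613093599553298433))) (.node (.node (.leaf 9225623836668485633) (.leaf 11529215389716185089)) (.node (.leaf 1126243504254977) (.leaf 5764889204186193921)))) (.node (.node (.node (.leaf 11531467052174827521) (.leaf 5766015035373555713)) (.node (.leaf 5767422478976548865) (.leaf 2533755893858305))) (.node (.node (.leaf 4611968111996870657) (.leaf 8070732007224668161)) (.leaf 8070732488361668609)))) (.node (.node (.node (.node (.leaf 10378264003804696577) (.leaf 3461579744624017409)) (.node (.leaf 3460172438476685312) (.leaf 1153484592032813057))) (.node (.node (.leaf 5766578466363310081) (.leaf 9225060886715072513)) (.node (.leaf 11530904239693893633) (.leaf 4613938230725709824)))) (.node (.node (.node (.leaf 4612812605545779201) (.leaf 3460453776131915777)) (.node (.leaf 4611967768433004545) (.leaf 3459328013529776129))) (.node (.node (.leaf 2308657827717058561) (.leaf 5766577916657823745))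 (.leaf 4612249105937219585))))) (.node (.node (.node (.node (.node (.leaf 3461017000912904193) (.leaf 11530904308262375425)) (.node (.leaf 6918373452571246593) (.leaf 281887293583361))) (.node (.node (.leaf 8071576501008465921) (.leaf 3460453501203660801)) (.node (.leaf 11532029795936272385) (.leaf 9223372174427987969)))) (.node (.node (.node (.leaf 1155173579298439169) (.leaf 3459891032286572545)) (.node (.leaf 10379108291228745729) (.leaf 8072702606989873153))) (.node (.node (.leaf 4614219293217787905) (.leaf 11530059883332243456)) (.leaf 6920062783635603457)))) (.node (.node (.node (.node (.leaf 4612530649633394688) (.leaf 9225624180433649665)) (.node (.leaf 11531748939350958081) (.leaf 9225905311779393536))) (.node (.node (.leaf 1155173854344146945) (.leaf 2306969252734701568)) (.leaf 5765734041466736641))) (.node (.node (.node (.leaf 9223935467995561985) (.leaf 6919499627456630784)) (.node (.leaf 6920062440021430272) (.leaf 5765170473155432449))) (.node (.node (.leaf 1152921504623624192) (.leaf 1154047542120443905)) (.leaf 4613093462064005121)))))) (.node (.node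 (.node (.node (.node (.node (.leaf 844562503303169) (.leaf 11530622489822511105)) (.node (.leaf 2306124621646135296) (.leaf 2307813952660209665))) (.node (.node (.leaf 1155455466608791553) (.leaf 2305843627839995905)) (.node (.leaf 11529215046169145345) (.leaf 1152922054412992513)))) (.node (.node (.node (.leaf 2308095221461716993) (.leaf 8073265557043941377)) (.node (.leaf 8070732076011266049) (.leaf 2533824563019777))) (.node (.node (.leaf 3459046126303346689) (.leaf 4613375074479673345)) (.leaf 2306969458977017856)))) (.node (.node (.node (.node (.leaf 6918092115033493505) (.leaf 9226187336461594625)) (.node (.leaf 11529496933362073601) (.leaf 2307813540360101889))) (.node (.node (.leaf 1152921573494128641) (.leaf 11530622489772195841)) (.node (.leaf 1970324837003265) (.leaf 9223653992867856385)))) (.node (.node (.node (.leaf 1154047885566803968) (.leaf 11530904445852323840)) (.node (.leaf 9224217149063585793) (.leaf 2308376696471949312))) (.node (.node (.leaf 9225061161643311105) (.leaf 2305843352861417473)) (.leaf 2306124827871711233))))) (.node (.node (.node (.node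 (.node (.leaf 2306969115362856960) (.leaf 1154329429296578561)) (.node (.leaf 11529215389783298048) (.leaf 5764608004238360577))) (.node (.node (.leaf 3460172163632365569) (.leaf 9223654130424229889)) (.node (.leaf 3459609282515861505) (.leaf 1152921985643196417)))) (.node (.node (.node (.leaf 281543696216065) (.leaf 10378264416071200769)) (.node (.leaf 6917810571471491072) (.leaf 4612249449484283905))) (.node (.node (.leaf 6917529577564667905) (.leaf 1689056035475456)) (.leaf 4613656618310049793)))) (.node (.node (.node (.node (.leaf 2533687140814848) (.leaf 10376856629021806593)) (.node (.leaf 1153203460653465601) (.leaf 1153484798258323457))) (.node (.node (.leaf 5764889479097618432) (.leaf 10378264347485970433)) (.leaf 9226186786789679105))) (.node (.node (.node (.leaf 549923598337) (.leaf 1689399632859137)) (.node (.leaf 167784449) (.leaf 2815299640381441))) (.node (.node (.leaf 1970324904087553) (.leaf 10377420059961200641)) (.leaf 2305843352962109441))))))) (.node (.node (.node (.node (.node (.node (.node (.leaf 1153203666929360897) (.leaf 3460172369874681857))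 (.node (.leaf 4611686155983806465) (.leaf 16385))) (.node (.node (.leaf 5766859941440651265) (.leaf 8072421063344033793)) (.node (.leaf 6919781239805198337) (.leaf 10376575360119611393)))) (.node (.node (.node (.leaf 8072984013347782657) (.leaf 10378264209996648449)) (.node (.leaf 8070450532247957505) (.leaf 8072421475560210433))) (.node (.node (.leaf 6918936814942183425) (.leaf 6917810502634582017)) (.leaf 10377982528760844288)))) (.node (.node (.node (.node (.leaf 8071014032041054209) (.leaf 10377701603657404417)) (.node (.leaf 2308657827800977409) (.leaf 2306124965394534401))) (.node (.node (.leaf 8070450601068089345) (.leaf 1155736323126988801)) (.node (.leaf 1154610904340369408) (.leaf 2305843696542711809)))) (.node (.node (.node (.leaf 8072984356827725825) (.leaf 2815299539701761)) (.node (.leaf 9223935261853900801) (.leaf 2308095427553030145))) (.node (.node (.leaf 3461016382353702913) (.leaf 11529778339686400001)) (.leaf 1155454779481137153))))) (.node (.node (.node (.node (.node (.leaf 9223372243013234689) (.leaf 3460735525885845505)) (.node (.leaf 11532029795835617281)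 (.leaf 563293701804032))) (.node (.node (.leaf 8072984425631096833) (.leaf 5766578122849816577)) (.node (.leaf 281612516368385) (.leaf 1155455191798026241)))) (.node (.node (.node (.leaf 4614501386770477057) (.leaf 3460734907494449153)) (.node (.leaf 8072702675726118913) (.leaf 2306406096606085121))) (.node (.node (.leaf 9223935605350604801) (.leaf 1152921573393436672)) (.leaf 8073265625645989889)))) (.node (.node (.node (.node (.leaf 9224498143037489153) (.leaf 6920344396051267585)) (.node (.leaf 1152921848237826049) (.leaf 5765733904078114817))) (.node (.node (.leaf 8072702950704685057) (.leaf 11531467395738648577)) (.leaf 10376575703800877057))) (.node (.node (.node (.leaf 1153203048319811584) (.leaf 5764889204219731969)) (.node (.leaf 618492104705) (.leaf 4611967905871970305))) (.node (.node (.leaf 9223653924148387841) (.leaf 11530341083431043072)) (.leaf 8071295094700916737)))))) (.node (.node (.node (.node (.node (.node (.leaf 3460453707328552961) (.leaf 5766578054197448705)) (.node (.leaf 11529215046068469761) (.leaf 10378264416155078656))) (.node (.node (.leaf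 4612811918351020033) (.leaf 4613375349407875073)) (.node (.leaf 3461298407220445185) (.leaf 412400783361)))) (.node (.node (.node (.leaf 11529496658584797185) (.leaf 9223653786810089473)) (.node (.leaf 343731634177) (.leaf 5765170816601817088))) (.node (.node (.leaf 2815230837018625) (.leaf 8070451219493027841)) (.leaf 11531467120911069185)))) (.node (.node (.node (.node (.leaf 4614219568129249281) (.leaf 2815024796028929)) (.node (.leaf 2305843146686218241) (.leaf 1154047679458713601))) (.node (.node (.leaf 8070451013301043200) (.leaf 11531467464357478401)) (.node (.leaf 4614501318034210817) (.leaf 2306688121439285249)))) (.node (.node (.node (.leaf 281474976710657) (.leaf 8070450532331843585)) (.node (.leaf 3459046469833592832) (.leaf 9225061230429868033))) (.node (.node (.leaf 11530341358409621505) (.leaf 8072702744495927297)) (.leaf 2815230820225024))))) (.node (.node (.node (.node (.node (.leaf 5764888998010966017) (.leaf 3459328013680799745)) (.node (.leaf 4611967837135732737) (.leaf 9223372724116668417))) (.node (.node (.leaf 11531748595820691457) (.leaf 274894700545))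 (.node (.leaf 2306969596332081152) (.leaf 10377419922438397953)))) (.node (.node (.node (.leaf 68870479873) (.leaf 8071576432272228353)) (.node (.leaf 4611967631010861057) (.leaf 1154047404513718273))) (.node (.node (.leaf 2306687502880120833) (.leaf 563568529375233)) (.leaf 1154891898314313729)))) (.node (.node (.node (.node (.leaf 10378827159882956801) (.leaf 1689330896629761)) (.node (.leaf 9224779961661927425) (.leaf 5767422341688614913))) (.node (.node (.leaf 5767140935263621121) (.leaf 1688918596550657)) (.leaf 5764608072857194497))) (.node (.node (.node (.leaf 11532030483131031553) (.leaf 1126106082050049)) (.node (.leaf 11531185851958599681) (.leaf 11531185645951164417))) (.node (.node (.leaf 1155455054291927040) (.leaf 1153203117072883713)) (.leaf 1154610972959215617))))))))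

def lineNorm8 : Janko.Tree (ℕ) :=
  (.node (.node (.node (.node (.node (.node (.node (.node (.leaf 11530341152133758977) (.leaf 68719476737)) (.node (.leaf 1155173716754173952) (.leaf 9225905792849289217))) (.node (.node (.leaf 9224498349128843265) (.leaf 3461016657332310017)) (.node (.leaf 11529496933513039872) (.leaf 11529215733397458945)))) (.node (.node (.node (.leaf 4613375074613886977) (.leaf 6919781033713893377)) (.node (.leaf 1154891967017000961) (.leaf 5765170610493730817))) (.node (.node (.leaf 8072984425580724225) (.leaf 10377138310022713345)) (.leaf 11531185852059230209)))) (.node (.node (.node (.node (.leaf 10377138584917389313) (.leaf 10376575703717023745)) (.node (.leaf 10377701122570727425) (.leaf 8073265763185606657))) (.node (.node (.leaf 5764889410478829569) (.leaf 2306969527713275905)) (.node (.leaf 1153484523313315841) (.leaf 5765733560514285569)))) (.node (.node (.node (.leaf 8072983944594735105) (.leaf 2305843627689009153)) (.node (.leaf 3458765063643500545) (.leaf 11530341495731142657))) (.node (.node (.leaf 1155173648185692160) (.leaf 11529778064858828801))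 (.leaf 8073265488274157569))))) (.node (.node (.node (.node (.node (.leaf 5765734110270095361) (.leaf 687211585537)) (.node (.leaf 11530059814730244097) (.leaf 2305843352962072577))) (.node (.node (.leaf 6919218358537711617) (.leaf 1154892173108322305)) (.node (.leaf 9223935674170740737) (.leaf 3461579813360238592)))) (.node (.node (.node (.leaf 6919781446047502337) (.leaf 10378264209929547777)) (.node (.leaf 6920062439937552385) (.leaf 281681235804161))) (.node (.node (.leaf 6917810915068895233) (.leaf 11530341289623056385)) (.leaf 281681269362688)))) (.node (.node (.node (.node (.leaf 6918092389944942593) (.leaf 8071858388251705345)) (.node (.leaf 8070451013284270081) (.leaf 4614219980580339713))) (.node (.node (.leaf 2307813677664849921) (.leaf 6918936402591772673)) (.leaf 11531748458465611777))) (.node (.node (.node (.leaf 11530060089624907777) (.leaf 4613375212002512897)) (.node (.leaf 5765733697902907393) (.leaf 8071013825882624001))) (.node (.node (.leaf 11530904102187851777) (.leaf 10378545959800954881)) (.leaf 1154891898196889601)))))) (.node (.node (.node (.node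 (.node (.node (.leaf 1154047404530466817) (.leaf 1154047816864133121)) (.node (.leaf 11529778408405876737) (.leaf 6917529508845207553))) (.node (.node (.leaf 1154610835654463489) (.leaf 5766859872620539905)) (.node (.leaf 6917529165096820737) (.leaf 3460735182254936065)))) (.node (.node (.node (.leaf 1970737237749761) (.leaf 5765170472987676673)) (.node (.leaf 11529497208273506305) (.leaf 10377138585001287681))) (.node (.node (.leaf 5766015516560887809) (.leaf 4613093736975470593)) (.leaf 3461297926150574081)))) (.node (.node (.node (.node (.leaf 11531466914702315521) (.leaf 3459046195056357377)) (.node (.leaf 10377419716313509889) (.leaf 6918092321326137345))) (.node (.node (.leaf 6918373658746425345) (.leaf 68836925441)) (.node (.leaf 8070450532315078657) (.leaf 1154328948344094721)))) (.node (.node (.node (.leaf 5764889135517011968) (.leaf 1155173373156806657)) (.node (.leaf 9225905861552009217) (.leaf 844906134257665))) (.node (.node (.leaf 8071576913308581889) (.leaf 5764889135600906241)) (.leaf 4612249243409715201))))) (.node (.node (.node (.node (.node (.leaf 3458765132362964993)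 (.leaf 10377419784982646785)) (.node (.leaf 206175207424) (.leaf 10379108634826121217))) (.node (.node (.leaf 11530622489688289281) (.leaf 1153766479393472513)) (.node (.leaf 4612530649599868929) (.leaf 6919499902384889857)))) (.node (.node (.node (.leaf 9224779892892143617) (.leaf 11530341289690144769)) (.node (.leaf 6920062989626286081) (.leaf 4614219636949389312))) (.node (.node (.leaf 6920343983616974849) (.leaf 11529777996021899265)) (.leaf 5765170610460164097)))) (.node (.node (.node (.node (.leaf 11532030483198152705) (.leaf 8072139657153900545)) (.node (.leaf 11532030276888719361) (.leaf 2306406027987267585))) (.node (.node (.leaf 6917529096528363521) (.leaf 1126380943216641)) (.leaf 10376575085241733121))) (.node (.node (.node (.leaf 10378546028486856705) (.leaf 8072983944527618049)) (.node (.leaf 8070732488277757953) (.leaf 3459890413895176193))) (.node (.node (.leaf 3459046194972459008) (.leaf 11529215527155159041)) (.leaf 6918655614809808897))))))) (.node (.node (.node (.node (.node (.node (.node (.leaf 8071013550971170817) (.leaf 10378264003854995457)) (.node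 (.leaf 9224216461784932353) (.leaf 281956113715200))) (.node (.node (.leaf 10377982666367594497) (.leaf 9224216530588291073)) (.node (.leaf 2307250384130838529) (.leaf 282162339282945)))) (.node (.node (.node (.leaf 10377701534854021121) (.leaf 549923586049)) (.node (.leaf 6917529714886184960) (.leaf 9225624180282646529))) (.node (.node (.leaf 1153765929604120577) (.leaf 8071577119349551105)) (.leaf 1155173304537976832)))) (.node (.node (.node (.node (.leaf 11530904583123513345) (.leaf 5765171160350195713)) (.node (.leaf 5764889616553365505) (.leaf 9224216874185691137))) (.node (.node (.leaf 9225061230446649345) (.leaf 1154891966899552256)) (.node (.leaf 1153765998256459777) (.leaf 4612248968498274305)))) (.node (.node (.node (.leaf 3459045988797251585) (.leaf 4613657030459142145)) (.node (.leaf 9224216874118545408) (.leaf 8071576432221896705))) (.node (.node (.leaf 11529778064758185985) (.leaf 4611967630859829248)) (.leaf 10378264278783234048))))) (.node (.node (.node (.node (.node (.leaf 8070451150840688641) (.leaf 3461017000879337473)) (.node (.leaf 6920344464653291521)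 (.leaf 563224948785153))) (.node (.node (.leaf 8071013894685982721) (.leaf 3461579332458151937)) (.node (.leaf 3459046469951029249) (.leaf 9225905930204368897)))) (.node (.node (.node (.leaf 8070732144747507713) (.leaf 687312236545)) (.node (.leaf 2306124484190404608) (.leaf 5764607729360478209))) (.node (.node (.leaf 1153765929704792065) (.leaf 6920344189892853761)) (.leaf 3459609144925892609)))) (.node (.node (.node (.node (.leaf 6920344327331815425) (.leaf 9226186992830656513)) (.node (.leaf 9226187405130747905) (.leaf 3459046332512088065))) (.node (.node (.leaf 11532030139567190017) (.leaf 5765170816618627073)) (.leaf 6920343914998149121))) (.node (.node (.node (.leaf 6918374002394169345) (.leaf 3461297994870059009)) (.node (.leaf 10377138035262242817) (.leaf 10377138378826092545))) (.node (.node (.leaf 1970324853764097) (.leaf 8071577050797862913)) (.leaf 11529778683233439745)))))) (.node (.node (.node (.node (.node (.node (.leaf 11530622901988380673) (.leaf 16777217)) (.node (.leaf 281749921738753) (.leaf 10379108634859675649))) (.node (.node (.leaf 10376294022497988609)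 (.leaf 4613938436817043457)) (.node (.leaf 11530059952051728385) (.leaf 1970874676682753)))) (.node (.node (.node (.leaf 4613375349491769345) (.leaf 2306969321521287169)) (.node (.leaf 8071013482268487681) (.leaf 6918655408617848833))) (.node (.node (.leaf 3460172575999549441) (.leaf 1155736941702938625)) (.leaf 1689399783854080)))) (.node (.node (.node (.node (.leaf 687362543617) (.leaf 1689124738199553)) (.node (.leaf 2815093398048769) (.leaf 2307813815204474881))) (.node (.node (.leaf 2814749884559361) (.leaf 3458765132346167296)) (.node (.leaf 9226187199005863937) (.leaf 10377138447512002561)))) (.node (.node (.node (.leaf 8073265282015051777) (.leaf 3460172163732996097)) (.node (.leaf 3461579675954868225) (.leaf 9225061299182915585))) (.node (.node (.leaf 2307813952593072128) (.leaf 9224216736696397825)) (.leaf 2306125171519422465))))) (.node (.node (.node (.node (.node (.leaf 6919218289918885889) (.leaf 9225624386592059393)) (.node (.leaf 5766859391584186369) (.leaf 11531186058100215808))) (.node (.node (.leaf 6917810914951430144) (.leaf 9225061367852081153)) (.node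 (.leaf 8071013482201354241) (.leaf 5764889272905637889)))) (.node (.node (.node (.leaf 6917810502617792512) (.leaf 32769)) (.node (.leaf 275028942849) (.leaf 1155173510595739648))) (.node (.node (.leaf 4612249586990325761) (.leaf 5766015172929949697)) (.leaf 3459327807438479361)))) (.node (.node (.node (.node (.leaf 28673) (.leaf 8072702469517352961)) (.node (.leaf 9225061299099013121) (.leaf 4612811987070525441))) (.node (.node (.leaf 3461017000828993537) (.leaf 6920343983633727489)) (.leaf 3459046401164447745))) (.node (.node (.node (.leaf 687194771456) (.leaf 275045707777)) (.node (.leaf 6918655477404405761) (.leaf 9226187405214646273))) (.node (.node (.leaf 11531466983337918465) (.leaf 9224498349078515713)) (.leaf 6917529233916989441))))))))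

def lineNorm9 : Janko.Tree (ℕ) :=
  (.node (.node (.node (.node (.node (.node (.node (.node (.leaf 8072139588350550017) (.leaf 5764607591887933440)) (.node (.leaf 11531185989514977281) (.leaf 3460735250974412801))) (.node (.node (.leaf 9224216942938710017) (.leaf 1125899973955585)) (.node (.leaf 5766015035457441793) (.leaf 3459046676092686336)))) (.node (.node (.node (.leaf 9225061574044053505) (.leaf 1153766616731750401)) (.node (.leaf 2308376902580051969) (.leaf 6918374139816353793))) (.node (.node (.leaf 5767422479110795265) (.leaf 3461579469796433921)) (.leaf 563156178980865)))) (.node (.node (.node (.node (.leaf 9223654061721542657) (.leaf 3459046057650974721)) (.node (.leaf 8071295094768013313) (.leaf 3459046195006025729))) (.node (.node (.leaf 5764607866765873153) (.leaf 1154611041728995329)) (.node (.leaf 1155736529318973441) (.leaf 3460453363798253569)))) (.node (.node (.node (.leaf 1154610423203377153) (.leaf 11530059471015378944)) (.node (.leaf 1154047748161421313) (.leaf 11530059952152383488))) (.node (.node (.leaf 11532030414394757120) (.leaf 9225624180349767681))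 (.leaf 8073265282015043585))))) (.node (.node (.node (.node (.node (.leaf 11531466914601635841) (.leaf 6919781308524699649)) (.node (.leaf 6920062921041006593) (.leaf 9225342980167049217))) (.node (.node (.leaf 3459046469900701696) (.leaf 5765733904061304832)) (.node (.leaf 11529497208390946817) (.leaf 9225060955484876801)))) (.node (.node (.node (.leaf 8072984425580740609) (.leaf 2305843009364701185)) (.node (.leaf 6919781377294499841) (.leaf 1155455397956427777))) (.node (.node (.leaf 1154329085732741121) (.leaf 11530059471065714688)) (.leaf 1154329223121362945)))) (.node (.node (.node (.node (.leaf 3460453432400285696) (.leaf 2815437096132609)) (.node (.leaf 2307251002572541952) (.leaf 4613938161872023553))) (.node (.node (.leaf 5764608210363224065) (.leaf 3460735388413366273)) (.leaf 5766578328941133825))) (.node (.node (.node (.leaf 1154048091825901569) (.leaf 6918655202576859137)) (.node (.leaf 8070732694469750785) (.leaf 8071013688443666433))) (.node (.node (.leaf 9223653580701990913) (.leaf 5764889685256048641)) (.leaf 4613375486930731009)))))) (.node (.node (.node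 (.node (.node (.node (.leaf 68769841153) (.leaf 2306406234179280897)) (.node (.leaf 9224779480457809920) (.leaf 3460453638575517697))) (.node (.node (.leaf 1970599714918401) (.leaf 1154329085749518337)) (.node (.leaf 4611686018528079873) (.leaf 11529778202348126209)))) (.node (.node (.node (.leaf 2306688121506406401) (.leaf 4614219499460100097)) (.node (.leaf 5764607523101372417) (.leaf 11531748595904573441))) (.node (.node (.leaf 4612812262082617345) (.leaf 8070450601101623297)) (.leaf 1688918730743809)))) (.node (.node (.node (.node (.leaf 3460172575915651073) (.leaf 6917811052407189505)) (.node (.leaf 2306969252768256001) (.leaf 10378826953774878721))) (.node (.node (.leaf 8071013688460447745) (.leaf 1154328948293804033)) (.node (.leaf 844562385870849) (.leaf 563568529412097)))) (.node (.node (.node (.leaf 4613938161922379777) (.leaf 3460453363714367489)) (.node (.leaf 2306968977840033793) (.leaf 9225905449184808961))) (.node (.node (.leaf 11529215595908173824) (.leaf 1154610904273281025)) (.leaf 11529215046152368129))))) (.node (.node (.node (.node (.node (.leaf 8071576500891029505)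 (.leaf 2306968977856790528)) (.node (.leaf 10379108359964987393) (.leaf 1153765998357139457))) (.node (.node (.leaf 3460735113636098049) (.leaf 11529778339736731649)) (.node (.leaf 68870488065) (.leaf 6917529027708219393)))) (.node (.node (.node (.leaf 1126174902206465) (.leaf 1153485141906046977)) (.node (.leaf 2308095015185850369) (.leaf 1153203391950761985))) (.node (.node (.leaf 8072984494316998657) (.leaf 2308094809077714945)) (.leaf 2252349720535041)))) (.node (.node (.node (.node (.leaf 6917810846382989313) (.leaf 2305843009247260673)) (.node (.leaf 4611686636902707201) (.leaf 9224498005632098305))) (.node (.node (.leaf 9223935124297482241) (.leaf 281681202270209)) (.leaf 10377700916512989185))) (.node (.node (.node (.leaf 1154048023123222529) (.leaf 8071576982078361600)) (.node (.leaf 3460735388480438273) (.leaf 5765171091580399617))) (.node (.node (.leaf 3459046263742267393) (.leaf 2306969115379671041)) (.leaf 5767422960147140609))))))) (.node (.node (.node (.node (.node (.node (.node (.leaf 5765452085403328513) (.leaf 6918936746205929473)) (.node (.leaf 4614219774287712257)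 (.leaf 5766015241615855617))) (.node (.node (.leaf 11532029864605388800) (.leaf 10376575085258510337)) (.node (.leaf 1154892104472764417) (.leaf 9223653855546347521)))) (.node (.node (.node (.leaf 2306687640453251073) (.leaf 10377982872375029761)) (.node (.leaf 8072421544397119489) (.leaf 3461297926100238337))) (.node (.node (.leaf 11531749008120778753) (.leaf 8073265763135266817)) (.leaf 11530623039578320897)))) (.node (.node (.node (.node (.leaf 2307813815238017025) (.leaf 1970393606815745)) (.node (.leaf 687329017857) (.leaf 4612249105870102529))) (.node (.node (.leaf 8070732694587207681) (.leaf 6920343777525649409)) (.node (.leaf 2306124484190420993) (.leaf 618592735233)))) (.node (.node (.node (.leaf 6918373864904876033) (.leaf 3459045988797263873)) (.node (.leaf 10378264209946316801) (.leaf 3459890551199916033))) (.node (.node (.leaf 6920062921024221185) (.leaf 1155736804146548736)) (.leaf 9225061574010494977))))) (.node (.node (.node (.node (.node (.leaf 2308095427636912129) (.leaf 3460735044933406721)) (.node (.leaf 3460453363831808001) (.leaf 1155173510662852609)))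 (.node (.node (.leaf 1154610629345038337) (.leaf 9223654199059841025)) (.node (.leaf 11529778270916575232) (.leaf 1153203254528614401)))) (.node (.node (.node (.leaf 2305843421664780289) (.leaf 8072702538337488896)) (.node (.leaf 3460172301088067585) (.leaf 11530623108213907457))) (.node (.node (.leaf 5765452154223493121) (.leaf 10378826953791639552)) (.leaf 1152921779602206721)))) (.node (.node (.node (.node (.leaf 11532029864571838465) (.leaf 5764889204337168385)) (.node (.leaf 5766578260238442497) (.leaf 8072139450861256705))) (.node (.node (.leaf 3461016313802002432) (.leaf 9224780099033784321)) (.leaf 11531748801995898881))) (.node (.node (.node (.leaf 4611686018494537729) (.leaf 9223654199043035136)) (.node (.leaf 5765734110169415681) (.leaf 5765452566557102081))) (.node (.node (.leaf 11532030414478643201) (.leaf 10378827228719874049)) (.leaf 11530622420952043521)))))) (.node (.node (.node (.node (.node (.node (.leaf 4611686430878474241) (.leaf 9225623974224883713)) (.node (.leaf 137539637249) (.leaf 2306124896658268161))) (.node (.node (.leaf 10377701397415079937)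 (.leaf 1126312307617793)) (.node (.leaf 11529778683384471553) (.leaf 1155454916970430465)))) (.node (.node (.node (.leaf 10379108566224105473) (.leaf 2307532546302287873)) (.node (.leaf 4613093530817036289) (.leaf 6917529646284152833))) (.node (.node (.leaf 11531467052124499969) (.leaf 343614160896)) (.leaf 8071576638329982976)))) (.node (.node (.node (.node (.leaf 11530341633253974017) (.leaf 5765170541791043585)) (.node (.leaf 5766296785362391041) (.leaf 10378264278665789441))) (.node (.node (.leaf 4612812605579333632) (.leaf 6919780896291713025)) (.node (.leaf 9225061505307774976) (.leaf 8071858250846343169)))) (.node (.node (.node (.leaf 9223372105691709441) (.leaf 3460453638726500353)) (.node (.leaf 11530623039444127745) (.leaf 11530059470998614017))) (.node (.node (.leaf 1408062145445889) (.leaf 4613094080656736257)) (.leaf 3459609076307095553))))) (.node (.node (.node (.node (.node (.leaf 1407649761488897) (.leaf 3459327463908220929)) (.node (.leaf 5765171091613941761) (.leaf 9225624249153118209))) (.node (.node (.leaf 4614219911760224257) (.leaf 11531185989397540865))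 (.node (.leaf 10377700985232424961) (.leaf 6917810708927246337)))) (.node (.node (.node (.leaf 10377137966525972481) (.leaf 6917529302535782401)) (.node (.leaf 1154610423236939777) (.leaf 9223653511848267777))) (.node (.node (.leaf 6920062439887216641) (.leaf 2307250521620111361)) (.leaf 563087392387073)))) (.node (.node (.node (.node (.leaf 5764607729209442305) (.leaf 11530341014795460609)) (.node (.leaf 6917529714970071041) (.leaf 2306124896507273217))) (.node (.node (.leaf 2533274857533441) (.leaf 11529496589932437505)) (.leaf 10377700985182109697))) (.node (.node (.node (.leaf 4611686155866370049) (.leaf 206242349057)) (.node (.leaf 10377419922555813889) (.leaf 2307250865183932417))) (.node (.node (.leaf 3461579950782455809) (.leaf 11530622970758193153)) (.leaf 8071576913207894017))))))))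

def lineNorm10 : Janko.Tree (ℕ) :=
  (.node (.node (.node (.node (.node (.node (.node (.node (.leaf 5765170748033355777) (.leaf 9226187473934102529)) (.node (.leaf 4613375211952148480) (.leaf 6920343846261886977))) (.node (.node (.leaf 1155173785456869377) (.leaf 5766859872620527617)) (.node (.leaf 4613094080639963137) (.leaf 206175211520)))) (.node (.node (.node (.leaf 9223653511999262721) (.leaf 2306406509040394241)) (.node (.leaf 1408062111883265) (.leaf 1155454779497914369))) (.node (.node (.leaf 6918092596170469377) (.leaf 10378826953690988545)) (.leaf 3461579263621234689)))) (.node (.node (.node (.node (.leaf 11529496589915656193) (.leaf 9224497936811974657)) (.node (.leaf 8072702332195868673) (.leaf 10376857109991006209))) (.node (.node (.leaf 8071576707200458753) (.leaf 8070732694419406849)) (.node (.leaf 5764608210245812225) (.leaf 2308376284155101185)))) (.node (.node (.node (.leaf 5767141004050186241) (.leaf 8071295575754031105)) (.node (.leaf 4611686499463729153) (.leaf 2533755877072897))) (.node (.node (.leaf 6918373864888111105) (.leaf 5767140797975629824))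 (.leaf 8070451082020552705))))) (.node (.node (.node (.node (.node (.leaf 4614219980496441344) (.leaf 4611686705622167553)) (.node (.leaf 137606762497) (.leaf 3460172163665928193))) (.node (.node (.leaf 5765170954074337281) (.leaf 2306124484190412801)) (.node (.leaf 10378264553577250817) (.leaf 4612530924528074753)))) (.node (.node (.node (.leaf 8071858388335599617) (.leaf 11531748939485188097)) (.node (.leaf 3459609419820589057) (.leaf 9225061574044041217))) (.node (.node (.leaf 11529497070968786945) (.leaf 2533412380360705)) (.leaf 1153203185909760001)))) (.node (.node (.node (.node (.leaf 4611686362075111425) (.leaf 9225905861434564609)) (.node (.leaf 2308376696488734721) (.leaf 3459609351168233473))) (.node (.node (.leaf 11531748664624058369) (.leaf 1125899940425729)) (.leaf 2308658446276268033))) (.node (.node (.node (.leaf 2252074741960705) (.leaf 4612248968431165441)) (.node (.leaf 11531748320858902529) (.leaf 3460171957507481601))) (.node (.node (.leaf 5765452429067849729) (.leaf 4611967493404106753)) (.leaf 11529496864810360833)))))) (.node (.node (.node (.node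 (.node (.node (.leaf 4611686018427416577) (.leaf 2307532271407620097)) (.node (.leaf 3460171957591355393) (.leaf 8070732075944116225))) (.node (.node (.leaf 2308657827784200193) (.leaf 2306687983933210625)) (.node (.leaf 9226186786705772544) (.leaf 1154610423304036353)))) (.node (.node (.node (.leaf 1155736597988126721) (.leaf 11531186058217656321)) (.node (.leaf 8071858250795978752) (.leaf 8071014100743790593))) (.node (.node (.leaf 4614219293335252993) (.leaf 10379108566207315969)) (.leaf 687211548673)))) (.node (.node (.node (.node (.leaf 4614219568112472065) (.leaf 6919781102450151425)) (.node (.leaf 3461016725967863808) (.leaf 6919218496060559361))) (.node (.node (.leaf 4611686018511302657) (.leaf 6920062508673814529)) (.node (.leaf 1155736460549181441) (.leaf 4614219774287683585)))) (.node (.node (.node (.leaf 6920062439903985665) (.leaf 2306969252751486977)) (.node (.leaf 9225905655309688833) (.leaf 1153203323315171329))) (.node (.node (.leaf 4614500768194523137) (.leaf 2308376696354525185)) (.leaf 10379108360116019201))))) (.node (.node (.node (.node (.node (.leaf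 1155173579365552128) (.leaf 4614500905717362689)) (.node (.leaf 11530059470998605824) (.leaf 8071013825932955648))) (.node (.node (.leaf 6919218496094117889) (.leaf 5766296991386566656)) (.node (.leaf 2814749783883776) (.leaf 11530622558458085377)))) (.node (.node (.node (.leaf 5764889547901001729) (.leaf 11529496658500952065)) (.node (.leaf 6918373658897444865) (.leaf 1153203185892986881))) (.node (.node (.leaf 6919218014957113345) (.leaf 1154048091725262849)) (.leaf 5766859735198367745)))) (.node (.node (.node (.node (.leaf 1154892104338505728) (.leaf 5766578535183446017)) (.node (.leaf 3460735319828074496) (.leaf 2306406028020830209))) (.node (.node (.leaf 2814749767110656) (.leaf 8070450532365410305)) (.leaf 11530623108314574849))) (.node (.node (.node (.leaf 4614500836930777089) (.leaf 3460171888788017153)) (.node (.leaf 1153203666879012865) (.leaf 3459327463824334849))) (.node (.node (.leaf 11529215527205470209) (.leaf 8070732007241420800)) (.leaf 10376575085174591489))))))) (.node (.node (.node (.node (.node (.node (.node (.leaf 9226186786621882369) (.leaf 9225624249086021633))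 (.node (.leaf 9226186786621894657) (.leaf 11529778202297769985))) (.node (.node (.leaf 1154611041829662721) (.leaf 10377983009897865217)) (.node (.leaf 4613375418060275713) (.leaf 11530341564534505473)))) (.node (.node (.node (.leaf 1155736804297560065) (.leaf 11529496727354646529)) (.node (.leaf 8073265625612435457) (.leaf 10376293610231463937))) (.node (.node (.leaf 1126381010305025) (.leaf 4614500836981121025)) (.leaf 9225060955501658113)))) (.node (.node (.node (.node (.leaf 9223653855445667841) (.leaf 1126243604918273)) (.node (.leaf 11532029864638963713) (.leaf 4613094011954020353))) (.node (.node (.leaf 2306969527713304577) (.leaf 137455730688)) (.node (.leaf 4614500836981116929) (.leaf 1155736941585498112)))) (.node (.node (.node (.leaf 10376294160037580800) (.leaf 8071013963271278593)) (.node (.leaf 8072421544313253889) (.leaf 6918937089752993793))) (.node (.node (.leaf 11531467258199019521) (.leaf 5767140935297146881)) (.leaf 844631122157569))))) (.node (.node (.node (.node (.node (.leaf 10376856491566055425) (.leaf 1970531096076289)) (.node (.leaf 8071576982044827649)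 (.leaf 5766859391701655553))) (.node (.node (.leaf 2306406302915502081) (.leaf 4611686224753623041)) (.node (.leaf 6917529233967325185) (.leaf 3461579882180390913)))) (.node (.node (.node (.leaf 1153765998273236992) (.leaf 4612249655659483137)) (.node (.leaf 11532029864588648449) (.leaf 2308095496255717377))) (.node (.node (.leaf 4612249586923225089) (.leaf 10378545684923052033)) (.leaf 1154610560692654080)))) (.node (.node (.node (.node (.leaf 10377701122654621697) (.leaf 6918092115184472065)) (.node (.leaf 3459045988797255680) (.leaf 1155454848217399297))) (.node (.node (.leaf 2308657758980837377) (.leaf 3461579538465587201)) (.leaf 282162305736705))) (.node (.node (.node (.leaf 5764889273039847425) (.leaf 5764607523051024385)) (.node (.leaf 11530059677173809152) (.leaf 1154610973093408769))) (.node (.node (.leaf 6920062646129561601) (.leaf 5767422891360542721)) (.leaf 8071576775802523649)))))) (.node (.node (.node (.node (.node (.node (.leaf 2306969046626607105) (.leaf 11530341152251199489)) (.node (.leaf 8070732350855598081) (.leaf 10378264278766465025))) (.node (.node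 (.leaf 206292672513) (.leaf 3459890551317372929)) (.node (.leaf 9223654199194025985) (.leaf 4613656686912114689)))) (.node (.node (.node (.leaf 2308376902563266561) (.leaf 4614501317983887361)) (.node (.leaf 6919499421314981889) (.leaf 3459327738668654593))) (.node (.node (.leaf 2308658377489682433) (.leaf 10376575634947215361)) (.leaf 5765170610476961793)))) (.node (.node (.node (.node (.leaf 3460172094879342593) (.leaf 2307531927910891521)) (.node (.leaf 2305843077983535105) (.leaf 137506066433))) (.node (.node (.leaf 9223654199160479745) (.leaf 4614219980429328384)) (.node (.leaf 9224780030331101185) (.leaf 10379108772432859137)))) (.node (.node (.node (.leaf 8071014169446481921) (.leaf 9224779961527726081)) (.node (.leaf 8072984082067230721) (.leaf 3461579263671537665))) (.node (.node (.leaf 1154047816897687553) (.leaf 8071013550937604096)) (.leaf 3461016794788028417))))) (.node (.node (.node (.node (.node (.leaf 3459046332528857089) (.leaf 3459609488523288577)) (.node (.leaf 9224216805482991617) (.leaf 10376856903899688961))) (.node (.node (.leaf 5765452497804099585)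 (.leaf 6918373521307480065)) (.node (.leaf 3461579950916640769) (.leaf 1155454848284495873)))) (.node (.node (.node (.leaf 11530059471116046336) (.leaf 8072702881884540928)) (.node (.leaf 11531466845966082049) (.leaf 3459328082333159425))) (.node (.node (.leaf 1154329085665611776) (.leaf 1153203254578909185)) (.leaf 1970806024331265)))) (.node (.node (.node (.node (.leaf 4612249243292274688) (.leaf 4612811987204730881)) (.node (.leaf 2308376627635032064) (.leaf 1155173785473658881))) (.node (.node (.leaf 1153203598142738432) (.leaf 11530059814646329345)) (.leaf 8071014169563906049))) (.node (.node (.node (.leaf 5766296785211392001) (.leaf 8072984013331001345)) (.node (.leaf 8071858319565787136) (.leaf 563568428724225))) (.node (.node (.leaf 3458764788748804097) (.leaf 8071858525657128961)) (.leaf 2533893366349825))))))))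

def lineNorm11 : Janko.Tree (ℕ) :=
  (.node (.node (.node (.node (.node (.node (.node (.node (.leaf 9223935536647925761) (.leaf 10377701260076797953)) (.node (.leaf 281818574106625) (.leaf 10378545478831714305))) (.node (.node (.leaf 6920062852287975425) (.leaf 2307813471607066624)) (.node (.leaf 1155736666841812992) (.leaf 11530904102171074561)))) (.node (.node (.node (.leaf 11529215595874615297) (.leaf 2305843284091629569)) (.node (.leaf 1154610492006756353) (.leaf 5766015241599074305))) (.node (.node (.leaf 11530623039544754177) (.leaf 11531467327019192321)) (.leaf 9225905449100918785)))) (.node (.node (.node (.node (.leaf 281887310360577) (.leaf 8073265419521138689)) (.node (.leaf 1152921504774647809) (.leaf 2306969184015261697))) (.node (.node (.leaf 1155736941719719937) (.leaf 4614219843107840001)) (.node (.leaf 8072421544447483905) (.leaf 8073265900607807489)))) (.node (.node (.node (.leaf 10378264553510141952) (.leaf 1154610835537006592)) (.node (.leaf 10378546028570767361) (.leaf 11531748664556920833))) (.node (.node (.leaf 2307250865150390273) (.leaf 4614219361954037760))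 (.leaf 11530622489805758465))))) (.node (.node (.node (.node (.node (.leaf 1155173510713192449) (.leaf 3461298338450665473)) (.node (.leaf 8071013894652469249) (.leaf 11530059883365834753))) (.node (.node (.leaf 282093535928321) (.leaf 3461016726035009537)) (.node (.leaf 1152921710899494913) (.leaf 2814818536955905)))) (.node (.node (.node (.leaf 4613656549473148929) (.leaf 4613094080505708545)) (.node (.leaf 2308658377472884737) (.leaf 1154892035686170625))) (.node (.node (.leaf 1152921779652526081) (.leaf 8071013963388686337)) (.leaf 281681302917121)))) (.node (.node (.node (.node (.leaf 10377701603623858177) (.leaf 10377419853853118465)) (.node (.leaf 4613656893187952640) (.leaf 1154047748262096897))) (.node (.node (.leaf 281543712997377) (.leaf 4613375143266242561)) (.leaf 8070732075977699329))) (.node (.node (.node (.leaf 9223935124297498625) (.leaf 1153484729605976065)) (.node (.leaf 845043455754241) (.leaf 1154047473400967169))) (.node (.node (.leaf 1155173716871622657) (.leaf 1689124788539393)) (.leaf 5765170885472317441)))))) (.node (.node (.node (.node (.node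 (.node (.leaf 8071295094650609665) (.leaf 6917810571421159425)) (.node (.leaf 281818624430080) (.leaf 1155736323093463041))) (.node (.node (.leaf 6920062577326178305) (.leaf 11530622489721851905)) (.node (.leaf 11531748458465615873) (.leaf 2305843559086956545)))) (.node (.node (.node (.leaf 4612530443458220033) (.leaf 5766296372961636353)) (.node (.leaf 10378264141193322497) (.leaf 2307532546386186241))) (.node (.node (.leaf 5764889616603680768) (.leaf 8072983807105458177)) (.leaf 6917529371339161601)))) (.node (.node (.node (.node (.leaf 2308095427553013761) (.leaf 281887444570113)) (.node (.leaf 1155173991783092225) (.leaf 2306687571700252673))) (.node (.node (.leaf 4612249105937203201) (.leaf 6919781514649534465)) (.node (.leaf 11531466845999628289) (.leaf 281681151942657)))) (.node (.node (.node (.leaf 9226187130219266049) (.leaf 9226186855425249280)) (.node (.leaf 10377138653653639169) (.leaf 1155173373223895041))) (.node (.node (.leaf 9224779549261185025) (.leaf 11530623108197163009)) (.leaf 6920343983734411265))))) (.node (.node (.node (.node (.node (.leaf 4611967768382676993)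 (.leaf 4612531062000590849)) (.node (.leaf 1688918697197569) (.leaf 5767141072769654785))) (.node (.node (.leaf 6919780896241369089) (.leaf 11529215595841101825)) (.node (.leaf 5765452635159134209) (.leaf 11532030483063939073)))) (.node (.node (.node (.leaf 5766296922700681217) (.leaf 9225342499130712065)) (.node (.leaf 11530904308396613633) (.leaf 6918374002343821313))) (.node (.node (.leaf 6920062714832261121) (.leaf 6918936746155610113)) (.leaf 9226187199106555905)))) (.node (.node (.node (.node (.leaf 3460172576016334849) (.leaf 9226186786739322881)) (.node (.leaf 9225624042877263873) (.leaf 618492067840))) (.node (.node (.leaf 6920062371167731713) (.leaf 10376856972501737473)) (.leaf 1971012165992449))) (.node (.node (.node (.leaf 10378545959884820480) (.leaf 1154328879490424833)) (.node (.leaf 8071295300859367425) (.leaf 1154892310513754113))) (.node (.node (.leaf 281474976722945) (.leaf 6919218289902112769)) (.leaf 282162288918529))))))) (.node (.node (.node (.node (.node (.node (.node (.leaf 10376856903882903552) (.leaf 1152921504606851072)) (.node (.leaf 8070732075960922113)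 (.leaf 4612812605646446593))) (.node (.node (.leaf 5766578397727690753) (.leaf 9226187267658223616)) (.node (.leaf 5766859597742637057) (.leaf 1407443619840001)))) (.node (.node (.node (.leaf 2814818486583296) (.leaf 2307813609079611393)) (.node (.leaf 6917810502617817089) (.leaf 5766859597876826112))) (.node (.node (.leaf 10376575703784116225) (.leaf 563499726045185)) (.leaf 6919781171203162113)))) (.node (.node (.node (.node (.leaf 10377138172550189056) (.leaf 4614501180561719297)) (.node (.leaf 5764608072806866945) (.leaf 3461016863440412673))) (.node (.node (.leaf 3459045988864360449) (.leaf 3459890413744181249)) (.node (.leaf 687228338177) (.leaf 9224498624023511041)))) (.node (.node (.node (.leaf 8072984288225660928) (.leaf 4611686637020147713)) (.node (.leaf 11529778408456208385) (.leaf 9225342705389834241))) (.node (.node (.leaf 11529777996105785345) (.leaf 11532030345608167425)) (.leaf 10377700916345196545))))) (.node (.node (.node (.node (.node (.leaf 11529778133477621760) (.leaf 1154891898263969793)) (.node (.leaf 2306969321487728641) (.leaf 10377700985081434112)))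 (.node (.node (.leaf 2308376833927696385) (.leaf 10377419716246396929)) (.node (.leaf 11530904445734912001) (.leaf 1970599748460545)))) (.node (.node (.node (.leaf 10378827503530684417) (.leaf 1970874760560641)) (.node (.leaf 10379108497420730369) (.leaf 11530340945975320577))) (.node (.node (.leaf 9223935674019782657) (.leaf 8070450738574163969)) (.leaf 11531185920761954305)))) (.node (.node (.node (.node (.leaf 2305843490367488001) (.leaf 3459328013680783361)) (.node (.leaf 8072983944594718721) (.leaf 2306406577743089665))) (.node (.node (.leaf 9223653992951742465) (.leaf 10377983009948192769)) (.leaf 9223935193067319297))) (.node (.node (.node (.leaf 5766296716575793153) (.leaf 2533274907865089)) (.node (.leaf 11531185370922221569) (.leaf 10376857109907148801))) (.node (.node (.leaf 4612530718285778945) (.leaf 5766859666445340673)) (.leaf 4611686018544869377)))))) (.node (.node (.node (.node (.node (.node (.leaf 4611686499480502272) (.leaf 6920062440004669441)) (.node (.leaf 11532030483114242049) (.leaf 11529215733380681728))) (.node (.node (.leaf 9226187130387038209)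 (.leaf 1407443737247745)) (.node (.leaf 10378264416104767489) (.leaf 10376575360153190401)))) (.node (.node (.node (.leaf 1154611041745797121) (.leaf 2815299690717185)) (.node (.leaf 40961) (.leaf 9223653511982514177))) (.node (.node (.leaf 5767141210275725313) (.leaf 2815162234966017)) (.leaf 6919499627439886337)))) (.node (.node (.node (.node (.leaf 4614500974453604353) (.leaf 4611967974473994241)) (.node (.leaf 10378827434811199488) (.leaf 3461297994920366080))) (.node (.node (.leaf 4613093805745278977) (.leaf 8071858456904105985)) (.node (.leaf 2306124827787796481) (.leaf 11532030483080695809)))) (.node (.node (.node (.leaf 1154610354601349121) (.leaf 2308376765090762753)) (.node (.leaf 10376575085191385089) (.leaf 11531749008070414337))) (.node (.node (.leaf 343698083841) (.leaf 4614219293385576449)) (.leaf 1155454985555681281))))) (.node (.node (.node (.node (.node (.leaf 1125899906871297) (.leaf 274877935617)) (.node (.leaf 11531185645951160321) (.leaf 3459609007470153728))) (.node (.node (.leaf 10378264347435630593) (.leaf 10376575634930417665)) (.node (.leaf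 1155173716905168897) (.leaf 1126312391495681)))) (.node (.node (.node (.leaf 3459891032353693697) (.leaf 281749938507776)) (.node (.leaf 10378546028587540481) (.leaf 1970324870557697))) (.node (.node (.leaf 2308376765090783233) (.leaf 3460735251024740353)) (.leaf 1154610698081271808)))) (.node (.node (.node (.node (.leaf 6917810846265532417) (.leaf 6918373796168634369)) (.node (.leaf 6918936608750211073) (.leaf 11529496796040568833))) (.node (.node (.leaf 11530059814763761664) (.leaf 10378264416222216193)) (.leaf 10378827228602441729))) (.node (.node (.node (.leaf 3460172026226966529) (.leaf 2306687571717021697)) (.node (.leaf 4614219980462915585) (.leaf 4614219499476881409))) (.node (.node (.leaf 10377701053884825601) (.leaf 2814955975868417)) (.leaf 5766859872620511232))))))))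

def lineNorm12 : Janko.Tree (ℕ) :=
  (.node (.node (.node (.node (.node (.node (.node (.node (.leaf 3461298407153344513) (.leaf 68853706753)) (.node (.leaf 1155736323143761921) (.leaf 9225061573960142849))) (.node (.node (.leaf 11530341564500942849) (.leaf 6919499833648623617)) (.node (.leaf 1153766066975965185) (.leaf 3461298200944603137)))) (.node (.node (.node (.leaf 282162171506689) (.leaf 6919499971003715585)) (.node (.leaf 2308657827767414785) (.leaf 4613093462164647937))) (.node (.node (.leaf 10376293678934147073) (.leaf 4614219843057487873)) (.leaf 6919499490051264513)))) (.node (.node (.node (.node (.leaf 11530059745993949185) (.leaf 2307532202805579777)) (.node (.leaf 11529778064909144065) (.leaf 1408062246125569))) (.node (.node (.leaf 8072984425647841281) (.leaf 2252074708385793)) (.node (.leaf 11532030276905484289) (.leaf 5764607591921516545)))) (.node (.node (.node (.leaf 4611686362108686337) (.leaf 8070450875929227265)) (.node (.leaf 1153203666828677121) (.leaf 3459890757341544449))) (.node (.node (.leaf 2308658446343344129) (.leaf 1152921985693536257))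 (.leaf 10377138516147609601))))) (.node (.node (.node (.node (.node (.leaf 2533274941415425) (.leaf 11531467395654746112)) (.node (.leaf 6919499421247897601) (.leaf 2307250865200701441))) (.node (.node (.leaf 4612249174690267137) (.leaf 9224498623989948417)) (.node (.leaf 10378263866298601473) (.leaf 9225061436487630848)))) (.node (.node (.node (.leaf 2814956026200065) (.leaf 1688918630113281)) (.node (.leaf 8073265282149269505) (.leaf 5766296373011968001))) (.node (.node (.leaf 9224497936895860737) (.leaf 6917529440041861121)) (.leaf 2814955992666113)))) (.node (.node (.node (.node (.leaf 9223372586677735425) (.leaf 5765171091597185025)) (.node (.leaf 11532030483164565504) (.leaf 2252349636632577))) (.node (.node (.leaf 9225905517803601921) (.leaf 10376293885210038273)) (.leaf 10377138516147572736))) (.node (.node (.node (.leaf 2306406165392658433) (.leaf 5765452016801312769)) (.node (.leaf 8072421406891073537) (.leaf 1126380976762881))) (.node (.node (.leaf 3460172026210160640) (.leaf 9225623836836233217)) (.leaf 563087543386113)))))) (.node (.node (.node (.node (.node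 (.node (.leaf 4612248968515051521) (.leaf 9225624455210889217)) (.node (.leaf 4614501249297948673) (.leaf 8071014100760539137))) (.node (.node (.leaf 2306406646445780993) (.leaf 281956029829120)) (.node (.leaf 10379108291279069185) (.leaf 1155736323160567809)))) (.node (.node (.node (.leaf 2815162218188800) (.leaf 2533893299257345)) (.node (.leaf 3461579263755423745) (.leaf 6919499764912377857))) (.node (.node (.leaf 3460171957490712577) (.leaf 8071576638363557889)) (.leaf 9224779892791459841)))) (.node (.node (.node (.node (.leaf 4614501043240177665) (.leaf 5767140935263584257)) (.node (.leaf 11530340946059214849) (.leaf 5766577916708134913))) (.node (.node (.leaf 2307813540209123329) (.leaf 3460172301071294465)) (.node (.leaf 3459891101006041088) (.leaf 10377701466252005377)))) (.node (.node (.node (.leaf 10378264003804667905) (.leaf 4611968043243827201)) (.node (.leaf 6919218152379281409) (.leaf 2814887306764289))) (.node (.node (.leaf 4613657030626906113) (.leaf 10377419716397408257)) (.leaf 11530904102221402113))))) (.node (.node (.node (.node (.node (.leaf 9223935605417705473)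 (.leaf 6920343983566639105)) (.node (.leaf 4614500837048201217) (.leaf 2307250590339596289))) (.node (.node (.leaf 9224779411855777793) (.leaf 5766015241615859713)) (.node (.leaf 11531185577080664065) (.leaf 4611967630859849729)))) (.node (.node (.node (.leaf 4614500974503944193) (.leaf 2306969596315324417)) (.node (.leaf 6919499696142569473) (.leaf 4614501455389261825))) (.node (.node (.leaf 5767422410340982785) (.leaf 5764889479215063041)) (.leaf 9224216530504384513)))) (.node (.node (.node (.node (.leaf 6920344464619745281) (.leaf 6918655133790244865)) (.node (.leaf 4614501180662370305) (.leaf 1154047885566840833))) (.node (.node (.leaf 6918655271279566849) (.leaf 9225342705440145409)) (.leaf 11531748389695819777))) (.node (.node (.node (.leaf 4614219499426570241) (.leaf 9226187130236084225)) (.node (.leaf 11529215114871844865) (.leaf 4614219362037927936))) (.node (.node (.leaf 6920062302448259073) (.leaf 844424980475905)) (.leaf 4612249174690246657))))))) (.node (.node (.node (.node (.node (.node (.node (.leaf 2307813608962146305) (.leaf 11529497208256733185)) (.node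 (.leaf 1155454916936867841) (.leaf 2307250384248279041))) (.node (.node (.leaf 11530341152217661441) (.leaf 10377701328678838273)) (.node (.leaf 687278673921) (.leaf 2815162083979265)))) (.node (.node (.node (.leaf 4611967768298782720) (.leaf 20481)) (.node (.leaf 6920062921057763329) (.leaf 11531185508445081601))) (.node (.node (.leaf 9226187336478400513) (.leaf 9224217149080358913)) (.leaf 6920343846161256449)))) (.node (.node (.node (.node (.leaf 9225342361842765825) (.leaf 1125900024287233)) (.node (.leaf 4611967699596091393) (.leaf 6919499696142548993))) (.node (.node (.leaf 2252487092359169) (.leaf 8072702813265739777)) (.node (.leaf 5765171091496505344) (.leaf 1125968676683777)))) (.node (.node (.node (.leaf 6918936814841528321) (.leaf 8071858113323503617)) (.node (.leaf 1154610354467131393) (.leaf 11529496864676122624))) (.node (.node (.leaf 9225061573976948737) (.leaf 2533412313272321)) (.leaf 1155736941585506305))))) (.node (.node (.node (.node (.node (.leaf 1153766616899522560) (.leaf 8073265419621797889)) (.node (.leaf 9223935467995541505) (.leaf 8071577119399870465)))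 (.node (.node (.leaf 8071576569610530817) (.leaf 2308658446259490817)) (.node (.leaf 11529215595958505472) (.leaf 1155173304420544513)))) (.node (.node (.node (.leaf 3461016382437609473) (.leaf 6918936540030701569)) (.node (.leaf 10376294228790640641) (.leaf 1153766410674016257))) (.node (.node (.leaf 4614219293217824769) (.leaf 11532030070780633089)) (.leaf 5765452566439665665)))) (.node (.node (.node (.node (.leaf 1153484867044937729) (.leaf 6918092390045597697)) (.node (.leaf 6917529714852659201) (.leaf 6919780896308473857))) (.node (.node (.leaf 6919781102332682241) (.leaf 8072139725772722177)) (.leaf 5767141347697901569))) (.node (.node (.node (.leaf 6918655408668184577) (.leaf 8072420925955403777)) (.node (.leaf 9225624249002131457) (.leaf 2815093532274689))) (.node (.node (.leaf 1154610560642322433) (.leaf 1155736460700160000)) (.leaf 6918092389961728001)))))) (.node (.node (.node (.node (.node (.node (.leaf 11529215321114148865) (.leaf 4612530993180446720)) (.node (.leaf 5767422616449081345) (.leaf 6917811189829361665))) (.node (.node (.leaf 4612530443491774465)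 (.leaf 1126174784790529)) (.node (.leaf 563431056883713) (.leaf 2308658171398332417)))) (.node (.node (.node (.leaf 10377701053817688064) (.leaf 1153203117190287361)) (.node (.leaf 4613375005860847617) (.leaf 11531467052124487681))) (.node (.node (.leaf 11530059608471130113) (.leaf 844493750292481)) (.leaf 11530341633203654657)))) (.node (.node (.node (.node (.leaf 11529778545794514945) (.leaf 1407718564855809)) (.node (.leaf 3459327669932396545) (.leaf 1155173373240713217))) (.node (.node (.leaf 10378264553560477697) (.leaf 11530622627244695553)) (.node (.leaf 8071576913342132225) (.leaf 5766578397794807809)))) (.node (.node (.node (.leaf 9225905792765431809) (.leaf 10378826885072171009)) (.node (.leaf 2306124896607965185) (.leaf 1155736460683419649))) (.node (.node (.leaf 6920062714899365889) (.leaf 9225624249002098688)) (.leaf 6918373933641109504))))) (.node (.node (.node (.node (.node (.leaf 8070451219526602753) (.leaf 2306969390307909633)) (.node (.leaf 6919780964893728769) (.leaf 1970599714922497))) (.node (.node (.leaf 1126380943220737) (.leaf 2308658377472868352))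 (.node (.leaf 5765733835375378433) (.leaf 4614219362071511041)))) (.node (.node (.node (.leaf 11529215458536366081) (.leaf 8072139519614287873)) (.node (.leaf 2306125171401990145) (.leaf 2307531859090776065))) (.node (.node (.leaf 8071295644456714241) (.leaf 4614219568246693889)) (.leaf 1154610835553779713)))) (.node (.node (.node (.node (.leaf 2533274823974913) (.leaf 3460172575949197313)) (.node (.leaf 5766859529123823617) (.leaf 2308376421610852353))) (.node (.node (.leaf 2306969252818587649) (.leaf 10377701328712388609)) (.leaf 6920343846295449601))) (.node (.node (.node (.leaf 2307251002673225729) (.leaf 1154329223255560193)) (.node (.leaf 6920344121022382081) (.leaf 5766578122900144129))) (.node (.node (.leaf 8072983944544428033) (.leaf 1153766479343149057)) (.leaf 343765180417))))))))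

def lineNorm13 : Janko.Tree (ℕ) :=
  (.node (.node (.node (.node (.node (.node (.node (.node (.leaf 281681151918080) (.leaf 4611686155933478913)) (.node (.leaf 9225342774092533761) (.leaf 10377700985165344769))) (.node (.node (.leaf 11529215046085275649) (.leaf 3461579607302508545)) (.node (.leaf 9224498486517469185) (.leaf 11529778202180329473)))) (.node (.node (.node (.leaf 4611686293372420097) (.leaf 11531185989464641537)) (.node (.leaf 6918936814925398017) (.leaf 11531466983321141249))) (.node (.node (.leaf 844974836981761) (.leaf 1153202979600367617)) (.leaf 10377419578857762817)))) (.node (.node (.node (.node (.leaf 3459045988881141760) (.leaf 5766859803984924673)) (.node (.leaf 2307531996613607425) (.leaf 8071858388251725825))) (.node (.node (.leaf 6919499627406307329) (.leaf 5766859529174138881)) (.node (.leaf 11529496521045184513) (.leaf 5767141485136867329)))) (.node (.node (.node (.leaf 6918655477320552449) (.leaf 1154329085783068673)) (.node (.leaf 6917529577464041473) (.leaf 5766015310318559233))) (.node (.node (.leaf 1154610491973173249) (.leaf 1407581058764800))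 (.leaf 6917529096494780416))))) (.node (.node (.node (.node (.node (.leaf 5767422960046444544) (.leaf 6919218358571241473)) (.node (.leaf 563431040098305) (.leaf 2306969459044155393))) (.node (.node (.leaf 10378264278749679617) (.leaf 9225060955568738305)) (.node (.leaf 11531467052208365569) (.leaf 11530622902139375617)))) (.node (.node (.node (.leaf 1155736323261210625) (.leaf 8072421063377575937)) (.node (.leaf 4611967493454446593) (.leaf 6919218015007449089))) (.node (.node (.leaf 10376856628937891841) (.leaf 8072420925972156417)) (.leaf 8073265625629204481)))) (.node (.node (.node (.node (.leaf 3461016382404059137) (.leaf 2307532065265963009)) (.node (.leaf 11530341427045244929) (.leaf 11529215252361117697))) (.node (.node (.leaf 9224779824189440001) (.leaf 10378827160000405505)) (.leaf 1689193541566465))) (.node (.node (.node (.leaf 6918655133874163713) (.leaf 4611967630910201857)) (.node (.leaf 2814749767106561) (.leaf 3458764857434722305))) (.node (.node (.leaf 2306124965310644225) (.leaf 8071858457038327809)) (.leaf 5765170541707173889)))))) (.node (.node (.node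 (.node (.node (.node (.leaf 1155736872933130241) (.leaf 2308095152658337793)) (.node (.leaf 9224217149080371201) (.leaf 3460172232335052801))) (.node (.node (.leaf 4611686499581181953) (.leaf 2252281017810945)) (.node (.leaf 4613093874364084225) (.leaf 4612812399437709313)))) (.node (.node (.node (.leaf 3459045988897918976) (.leaf 4614219636932640769)) (.node (.leaf 10376293885210001409) (.leaf 4612812605696811009))) (.node (.node (.leaf 5766860010093060097) (.leaf 1152921504707522561)) (.leaf 2307532065383403521)))) (.node (.node (.node (.node (.leaf 5766296510400565249) (.leaf 3461297926167339009)) (.node (.leaf 1153766204498808833) (.leaf 281474976714752))) (.node (.node (.leaf 6920343914863935489) (.leaf 1155455191831560193)) (.node (.leaf 9223372586761588737) (.leaf 2815093364502529)))) (.node (.node (.node (.leaf 5767141210175070209) (.leaf 10377420059978006529)) (.node (.leaf 4613938230658633729) (.leaf 1689537088593921))) (.node (.node (.leaf 3461298338517770241) (.leaf 4614219705635311617)) (.leaf 8073265900507140097))))) (.node (.node (.node (.node (.node (.leaf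 11532030002145005569) (.leaf 5765170679229992961)) (.node (.leaf 6918936814942179329) (.leaf 10378827366125277185))) (.node (.node (.leaf 1407581209759745) (.leaf 6917529577413713921)) (.node (.leaf 6919218358588051457) (.leaf 3461579263604428801)))) (.node (.node (.node (.leaf 8072140069353304065) (.leaf 8071295025998200833)) (.node (.leaf 11532030483047120896) (.leaf 4611686087247548417))) (.node (.node (.leaf 549856509953) (.leaf 11530622902038691841)) (.leaf 5766859872670875649)))) (.node (.node (.node (.node (.leaf 11529496658534469633) (.leaf 10378264209979908097)) (.node (.leaf 5766296716491915265) (.leaf 5765170954191781889))) (.node (.node (.leaf 11530059814612766721) (.leaf 6920344258612305921)) (.leaf 5764889204236484609))) (.node (.node (.node (.leaf 11532029795919495169) (.leaf 3459890413760958465)) (.node (.leaf 10377701603707719680) (.leaf 562950070890497))) (.node (.node (.leaf 5766859941407117313) (.leaf 1689537105362945)) (.leaf 8070732557064355841))))))) (.node (.node (.node (.node (.node (.node (.node (.leaf 8072420994523873281) (.leaf 1155173716737396736))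 (.node (.leaf 1126381094199297) (.leaf 4613093393327722496))) (.node (.node (.leaf 3459891032353673217) (.leaf 5766297060240269313)) (.node (.leaf 10377419647577255937) (.leaf 11531185783289442305)))) (.node (.node (.node (.leaf 8070450669754019841) (.leaf 3460453363697582081)) (.node (.leaf 4611686087281082369) (.leaf 10379108566156976129))) (.node (.node (.leaf 9225342499164262401) (.leaf 137455738881)) (.leaf 5766859666562785281)))) (.node (.node (.node (.node (.leaf 1153203254612475905) (.leaf 4613657030509461505)) (.node (.leaf 282024900321281) (.leaf 1407443720486913))) (.node (.node (.leaf 5766014898018484225) (.leaf 4612530443441442817)) (.node (.leaf 9223372174427951104) (.leaf 5764608141677305857)))) (.node (.node (.node (.leaf 9225060886815739905) (.leaf 8070732076078346241)) (.node (.leaf 844699841617921) (.leaf 2307813952660189185))) (.node (.node (.leaf 281681185472513) (.leaf 3460453844884942849)) (.leaf 9223653580551004161))))) (.node (.node (.node (.node (.node (.leaf 11530623039511228417) (.leaf 8072139382124974080)) (.node (.leaf 10377138241370349569)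 (.leaf 10379108566123413504))) (.node (.node (.leaf 1153202979583557632) (.leaf 2306124484240744449)) (.node (.leaf 11532029933324902401) (.leaf 5765733491811565569)))) (.node (.node (.node (.leaf 5764888998010945536) (.leaf 9223372243046764545)) (.node (.leaf 5766859872704405505) (.leaf 2308658240184946689))) (.node (.node (.leaf 2306406646412234753) (.leaf 4611968112047181825)) (.leaf 1970393690673152)))) (.node (.node (.node (.node (.leaf 4613656480720121857) (.leaf 9225060955551989761)) (.node (.leaf 2306124690382405633) (.leaf 1153203460737376257))) (.node (.node (.leaf 206175207425) (.leaf 1689262277820417)) (.leaf 5766577848038981633))) (.node (.node (.node (.leaf 11529496658551259137) (.leaf 11529497208239980545)) (.node (.leaf 11529215114955751425) (.leaf 9226186992864239617))) (.node (.node (.leaf 3459046676075909121) (.leaf 5766578397643837441)) (.leaf 2251799947931649)))))) (.node (.node (.node (.node (.node (.node (.leaf 3459609282364858369) (.leaf 1153766341971312641)) (.node (.leaf 6920344121022349312) (.leaf 11530341014728380417))) (.node (.node (.leaf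 10378264141176532993) (.leaf 2308376902496194561)) (.node (.leaf 2308095084005974017) (.leaf 3460453363848577025)))) (.node (.node (.node (.leaf 9225061161743941633) (.leaf 10377137966442086401)) (.node (.leaf 3461016313651007488) (.leaf 2533893265698817))) (.node (.node (.leaf 8071013551055077377) (.leaf 4613938436867399681)) (.leaf 6917810502785576961)))) (.node (.node (.node (.node (.leaf 3458764926305193985) (.leaf 6918655614776262657)) (.node (.leaf 2307532546268729345) (.leaf 10378545478764597248))) (.node (.node (.leaf 1155173648017920000) (.leaf 1153484592167018497)) (.node (.leaf 687228329985) (.leaf 5766296441765007361)))) (.node (.node (.node (.leaf 6919780964960833537) (.leaf 2306124484324630529)) (.node (.leaf 2252006005673984) (.leaf 1155736941602279425))) (.node (.node (.leaf 6920344327281442817) (.leaf 1153203254629265409)) (.leaf 8071013757112815617))))) (.node (.node (.node (.node (.node (.leaf 9223372586610618369) (.leaf 9226186924211851265)) (.node (.leaf 1152922123199598593) (.leaf 5766296785312043009))) (.node (.node (.leaf 5764889066898206721) (.leaf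 11532029864689291265)) (.node (.leaf 1153765929620905985) (.leaf 4613938436716384257)))) (.node (.node (.node (.leaf 4612812193329610753) (.leaf 2307813471556734977)) (.node (.leaf 10378545547584733185) (.leaf 9225905517803606017))) (.node (.node (.leaf 844906100723713) (.leaf 5766859529023131649)) (.leaf 3461579950799196160)))) (.node (.node (.node (.node (.leaf 4612811987221483521) (.leaf 8071858044587229185)) (.node (.leaf 2308658102695657473) (.leaf 3460735044815982593))) (.node (.node (.leaf 282024749305857) (.leaf 9224498142920085505)) (.leaf 1970805873352705))) (.node (.node (.node (.leaf 2306969390156902401) (.leaf 1155736254373957633)) (.node (.leaf 6918092321242234881) (.leaf 1155736529369341953))) (.node (.node (.leaf 1126312223731713) (.leaf 8070732694570430465)) (.leaf 10379108772332204033))))))))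

def lineNorm14 : Janko.Tree (ℕ) :=
  (.node (.node (.node (.node (.node (.node (.node (.node (.leaf 11529778614581075969) (.leaf 3461016451140313089)) (.node (.leaf 3461579744707903489) (.leaf 2308658102662078465))) (.node (.node (.leaf 2533549785759745) (.leaf 8072984356827705345)) (.node (.leaf 6920344052437090305) (.leaf 4613093393478717440)))) (.node (.node (.node (.leaf 9225905586539864065) (.leaf 563087476297729)) (.node (.leaf 10377138653620092929) (.leaf 2306406096706736128))) (.node (.node (.leaf 11529496589764689921) (.leaf 2814956059758592)) (.leaf 5766015379004493825)))) (.node (.node (.node (.node (.leaf 281543696187392) (.leaf 4613656961840324609)) (.node (.leaf 9223372311783038977) (.leaf 8072140000700956673))) (.node (.node (.leaf 4612530718252220417) (.leaf 1153202979667476481)) (.node (.leaf 11531749008204644353) (.leaf 8071576432305782785)))) (.node (.node (.node (.leaf 11529496589932466177) (.leaf 11530622627177566208)) (.node (.leaf 687245099009) (.leaf 10379108703646289921))) (.node (.node (.leaf 2307251002723553281) (.leaf 9225061024221106176))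 (.leaf 11531185920829042689))))) (.node (.node (.node (.node (.node (.leaf 11531748458331410433) (.leaf 5766859597809717249)) (.node (.leaf 9223372174411194369) (.leaf 2251799864045569))) (.node (.node (.leaf 1152921642146467841) (.leaf 11531185851958595585)) (.node (.leaf 10376856697590272001) (.leaf 8073265694331912193)))) (.node (.node (.node (.leaf 2308095358783197184) (.leaf 8073265488207028225)) (.node (.leaf 1153203048403709953) (.leaf 1155736941568753665))) (.node (.node (.leaf 6918937021016702976) (.leaf 3458764582691020801)) (.leaf 1153203666946105345)))) (.node (.node (.node (.node (.leaf 11532029795852386305) (.leaf 11529496933529825281)) (.node (.leaf 1154610629496016896) (.leaf 5766296853964431361))) (.node (.node (.leaf 1153203666795102208) (.leaf 6918092596069830657)) (.leaf 11530904445734899713))) (.node (.node (.node (.leaf 1153765929537011713) (.leaf 1153202979583598593)) (.node (.leaf 5765452016818073601) (.leaf 4614219430774218753))) (.node (.node (.leaf 3459045988814053377) (.leaf 1153485073052360705)) (.leaf 11531185577147793409)))))) (.node (.node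 (.node (.node (.node (.node (.leaf 1155454779397259265) (.leaf 11531467533076926465)) (.node (.leaf 5764889341641912321) (.leaf 11530622421086261249))) (.node (.node (.leaf 4613093805678137345) (.leaf 412367224833)) (.node (.leaf 481036365825) (.leaf 5764607523151704065)))) (.node (.node (.node (.leaf 1154329291824041985) (.leaf 2814818553692161)) (.node (.leaf 11529215046068473856) (.leaf 10378545410078699521))) (.node (.node (.leaf 11530060158294032385) (.leaf 9224779617913548801)) (.leaf 8070450807125839873)))) (.node (.node (.node (.node (.leaf 5767422822691405825) (.leaf 9225624180433637377)) (.node (.leaf 4611686018544865281) (.leaf 9223653924198694913))) (.node (.node (.leaf 3459046676042379265) (.leaf 10376856491448614913)) (.node (.leaf 2306124827804581889) (.leaf 5765452635226271745)))) (.node (.node (.node (.leaf 5764607660489973761) (.leaf 5767141141556264961)) (.node (.leaf 3460453638625857537) (.leaf 9224498143037509633))) (.node (.node (.leaf 1155455329220173825) (.leaf 8070732282186461185)) (.leaf 167776256))))) (.node (.node (.node (.node (.node (.leaf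 11530904514420838401) (.leaf 2307813746535321601)) (.node (.leaf 1155455466675912705) (.leaf 3459328082417041409))) (.node (.node (.leaf 4611686705706061825) (.leaf 1153765929637683201)) (.node (.leaf 3460172369773985793) (.leaf 9225060955484864513)))) (.node (.node (.node (.leaf 4613937955831046145) (.leaf 4612812124593360897)) (.node (.leaf 9225061299082240001) (.leaf 2306687983933194241))) (.node (.node (.leaf 9226186992880988161) (.leaf 4612249174673485825)) (.leaf 2815230904111104)))) (.node (.node (.node (.node (.leaf 2306969527662940161) (.leaf 4613094011903705089)) (.node (.leaf 2308657827733852161) (.leaf 11529496589831794689))) (.node (.node (.leaf 4614219705702416385) (.leaf 2306968978007801857)) (.leaf 8070450944665481217))) (.node (.node (.node (.leaf 11529215046068482049) (.leaf 412417560577)) (.node (.leaf 10379108772348968961) (.leaf 6920344189876072449))) (.node (.node (.leaf 412484653057) (.leaf 8072139450878038017)) (.leaf 687295455233))))))) (.node (.node (.node (.node (.node (.node (.node (.leaf 10377419578857783297) (.leaf 281475094163457)) (.node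 (.leaf 1153766066992742401) (.leaf 6919499764912357377))) (.node (.node (.leaf 5764889547884199937) (.leaf 2307532340143861761)) (.node (.leaf 4613375280671657985) (.leaf 5765452429000712193)))) (.node (.node (.node (.leaf 11532029864706088961) (.leaf 11529777996021907457)) (.node (.leaf 3458765063727349761) (.leaf 1155736735477440513))) (.node (.node (.leaf 2306687502947217409) (.leaf 9224779686767235073)) (.leaf 10378545959817740289)))) (.node (.node (.node (.node (.leaf 4611686430844940289) (.leaf 2306124965293879297)) (.node (.leaf 11530904102103945216) (.leaf 2307250384130801665))) (.node (.node (.leaf 2307813883840045057) (.leaf 11530059745960407041)) (.node (.leaf 2308094809161596929) (.leaf 4613656961907453953)))) (.node (.node (.node (.leaf 9224216668077596673) (.leaf 4614501043156316161)) (.node (.leaf 8072140000751271937) (.leaf 8072421131962826753))) (.node (.node (.leaf 2306406027920183297) (.leaf 9226186855442026497)) (.leaf 4611967905888739329))))) (.node (.node (.node (.node (.node (.leaf 10378545410162561025) (.leaf 2306124827821350913)) (.node (.leaf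 11530341083548491777) (.leaf 11531467326952058881))) (.node (.node (.leaf 3459046401130889217) (.leaf 2305843146736537600)) (.node (.leaf 1153766135863189505) (.leaf 3461016588545716225)))) (.node (.node (.node (.leaf 3459609419854143489) (.leaf 6918092596069793793)) (.node (.leaf 4613375005743398913) (.leaf 1154611041796116481))) (.node (.node (.leaf 1152921573410222081) (.leaf 1153203048386945025)) (.leaf 2307250659142955009)))) (.node (.node (.node (.node (.leaf 5765452085470433281) (.leaf 3460735525919408129)) (.node (.leaf 10377701191374090241) (.leaf 11529215252277235712))) (.node (.node (.leaf 3458764719978999809) (.leaf 11532029864571867137)) (.leaf 2306968977940676609))) (.node (.node (.node (.leaf 5764889616519802881) (.leaf 549806170113)) (.node (.leaf 11530059470998601729) (.leaf 11530904239559696385))) (.node (.node (.leaf 10376294022615416833) (.leaf 9223653580567740417)) (.leaf 68820160513)))))) (.node (.node (.node (.node (.node (.node (.leaf 2306969458893139969) (.leaf 8071013894568546304)) (.node (.leaf 11529215733313593345) (.leaf 10378545410061918209)))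 (.node (.node (.leaf 6920344052302880769) (.leaf 2306968909120540673)) (.node (.leaf 10379108291228737537) (.leaf 2306124553077694465)))) (.node (.node (.node (.leaf 1155736666690846721) (.leaf 10377700916361994241)) (.node (.leaf 2251937386860545) (.leaf 10376856628954660865))) (.node (.node (.leaf 206175219713) (.leaf 2815299606806529)) (.leaf 10376293678984466432)))) (.node (.node (.node (.node (.leaf 10376294159936937985) (.leaf 10378264416138338305)) (.node (.leaf 9226187198989078529) (.leaf 8070450600967417857))) (.node (.node (.leaf 10378827434727325697) (.leaf 11529497139654692865)) (.node (.leaf 2306687503031078913) (.leaf 11529778614547529729)))) (.node (.node (.node (.leaf 117469185) (.leaf 6920062920957120513)) (.node (.leaf 274894692353) (.leaf 4611967699663220737))) (.node (.node (.leaf 2533893366386689) (.leaf 6918374002427699201)) (.leaf 1153766548012302337))))) (.node (.node (.node (.node (.node (.leaf 1970531012182017) (.leaf 8071858044704677889)) (.node (.leaf 8073265419470786561) (.leaf 6918373727600119808))) (.node (.node (.leaf 2533412313235457)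 (.leaf 9225061505291026433)) (.node (.leaf 11529215527171928065) (.leaf 4611967905771323393)))) (.node (.node (.node (.leaf 11531467533244698624) (.leaf 8070732007392415744)) (.node (.leaf 11530341358359289857) (.leaf 1154329085783080961))) (.node (.node (.leaf 2307532202688118784) (.leaf 1152921985710305281)) (.leaf 2306969252801847297)))) (.node (.node (.node (.node (.leaf 5767422272818130945) (.leaf 8071295369662697472)) (.node (.leaf 6919218495993421825) (.leaf 8071577119366356993))) (.node (.node (.leaf 9223935467861336065) (.leaf 8071013688410136577)) (.leaf 8070451013401722881))) (.node (.node (.node (.leaf 281474993487872) (.leaf 1126174784786433)) (.node (.leaf 2307250659109388289) (.leaf 2533481116631041))) (.node (.node (.leaf 4611967768365899777) (.leaf 2307813540259459073)) (.leaf 1153202979583561729))))))))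

def lineNorm15 : Janko.Tree (ℕ) :=
  (.node (.node (.node (.node (.node (.node (.node (.node (.leaf 4613656343297933313) (.leaf 4614219774421897217)) (.node (.leaf 6920344327298244609) (.leaf 5767422479010123777))) (.node (.node (.leaf 1154047610756038657) (.leaf 3460171957473918977)) (.node (.leaf 1155736666858598401) (.leaf 1155736391829725185)))) (.node (.node (.node (.leaf 6917810571370860545) (.leaf 11529497070901669889)) (.node (.leaf 3460172576033107969) (.leaf 9223653786709426177))) (.node (.node (.leaf 8071013551038308353) (.leaf 3460171957473931265)) (.leaf 1153766273201504257)))) (.node (.node (.node (.node (.leaf 8070732419591864321) (.leaf 9225061574027280385)) (.node (.leaf 3460453569856024577) (.leaf 1153203460636700673))) (.node (.node (.leaf 4611686087146876929) (.leaf 3459608938918445057)) (.node (.leaf 2306688052669472769) (.leaf 11529778408422674433)))) (.node (.node (.node (.leaf 2306687915331166209) (.leaf 1154329429346902017)) (.node (.leaf 3461298063656640513) (.leaf 3459609488640745473))) (.node (.node (.leaf 11529496727220408321) (.leaf 11530622970875613185))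 (.leaf 10379108634910035969))))) (.node (.node (.node (.node (.node (.leaf 3459046607390015489) (.leaf 1154329566735499265)) (.node (.leaf 6919499558670065665) (.leaf 1153765998424227841))) (.node (.node (.leaf 2306687571700232193) (.leaf 1154329017097162753)) (.node (.leaf 1689399716777985) (.leaf 3461579675954855937)))) (.node (.node (.node (.leaf 2307813883940728833) (.leaf 9224779618047782913)) (.node (.leaf 3459327944894222337) (.leaf 1407787301109761))) (.node (.node (.leaf 4613938505435860993) (.leaf 10376575703649918977)) (.leaf 9225624111663833089)))) (.node (.node (.node (.node (.leaf 5765170541723910145) (.leaf 9225342980250939393)) (.node (.leaf 8071576432188342273) (.leaf 563156279656449))) (.node (.node (.leaf 1155173304521195521) (.leaf 5765170885388439553)) (.leaf 1407649811828737))) (.node (.node (.node (.leaf 9223653580718739456) (.leaf 2307531996546469888)) (.node (.leaf 10377701534971465728) (.leaf 4612811987120824321))) (.node (.node (.leaf 3461579607201828865) (.leaf 1153203048336629761)) (.leaf 3458765063727353857)))))) (.node (.node (.node (.node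 (.node (.node (.leaf 10376293953812037633) (.leaf 2306406577726296064)) (.node (.leaf 6919781514699878401) (.leaf 10376575428855865345))) (.node (.node (.leaf 2306969596399190017) (.leaf 1155173991699226625)) (.node (.leaf 562949987000321) (.leaf 2307250933953757185)))) (.node (.node (.node (.leaf 1153203598193106945) (.leaf 3459046538636963841)) (.node (.leaf 3459046676109471745) (.leaf 5767422685168558081))) (.node (.node (.leaf 3460172576033095681) (.leaf 2251937386856449)) (.leaf 2251799864029185)))) (.node (.node (.node (.node (.leaf 5766859735181582337) (.leaf 9225624523863232512)) (.node (.leaf 5765452566573903873) (.leaf 6917810708792999937))) (.node (.node (.leaf 10376293816339558401) (.leaf 3459046057600618496)) (.node (.leaf 3459046195039608833) (.leaf 275028905985)))) (.node (.node (.node (.leaf 5766296441647538177) (.leaf 11530622902021918720)) (.node (.leaf 10378264347502747649) (.leaf 4611967974574669825))) (.node (.node (.leaf 5766859666596331521) (.leaf 9225342774042181633)) (.leaf 1153484866893942785))))) (.node (.node (.node (.node (.node (.leaf 618559197185)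 (.leaf 1155173648034697217)) (.node (.leaf 1152921779484766209) (.leaf 1153765929553797121))) (.node (.node (.leaf 6918936677553577985) (.leaf 6920062714916139009)) (.node (.leaf 9226187130353487873) (.leaf 8072140069453987841)))) (.node (.node (.node (.leaf 1153484523296563201) (.leaf 4612812124626903041)) (.node (.leaf 1154329497982504961) (.leaf 10377137966442090497))) (.node (.node (.leaf 11530340946075992065) (.leaf 3461579950950187009)) (.leaf 1155455123061751809)))) (.node (.node (.node (.node (.leaf 1154047473233170432) (.leaf 11531185508512198657)) (.node (.leaf 9225342705305911297) (.leaf 8071013963405463553))) (.node (.node (.leaf 11529778064842047489) (.leaf 6917529027808866305)) (.leaf 6919499833615093761))) (.node (.node (.node (.leaf 3460454050976260097) (.leaf 3458764651376959489)) (.node (.leaf 3459327944978079745) (.leaf 844631206027265))) (.node (.node (.leaf 6918655614860161025) (.leaf 1155454848234180609)) (.leaf 8072139382275969024))))))) (.node (.node (.node (.node (.node (.node (.node (.leaf 10376856835163443201) (.leaf 5767422822691393537)) (.node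 (.leaf 4612812468140400641) (.leaf 8072984013347762177))) (.node (.node (.leaf 1154892379266760705) (.leaf 2252418456756225)) (.node (.leaf 10377138103964954625) (.leaf 1154610973059842049)))) (.node (.node (.node (.leaf 11530059745943621632) (.leaf 6920344464753987585)) (.node (.leaf 11531466845949296641) (.leaf 4613093874515058689))) (.node (.node (.leaf 4612249449568145408) (.leaf 2306687846594932737)) (.leaf 6920062439920783361)))) (.node (.node (.node (.node (.leaf 2308376490179317761) (.leaf 9225624042961113089)) (.node (.leaf 9225061092890288129) (.leaf 1152922123166027777))) (.node (.node (.leaf 2306968977957457921) (.leaf 10377700985064656897)) (.node (.leaf 2306125171552948225) (.leaf 11532030139466514433)))) (.node (.node (.node (.leaf 3460735182389149697) (.leaf 1153766135779311617)) (.node (.leaf 11530060020922216449) (.leaf 11529215527104819201))) (.node (.node (.leaf 8071858456954417153) (.leaf 5766015447807856641)) (.leaf 10379108634842906625))))) (.node (.node (.node (.node (.node (.leaf 4614219980479700993) (.leaf 4612530855791833089)) (.node (.leaf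 5766859803917815808) (.leaf 9225343048970407936))) (.node (.node (.leaf 6918937089870405633) (.leaf 9223935261719670785)) (.node (.leaf 1152921504606859265) (.leaf 3459046538687295489)))) (.node (.node (.node (.leaf 9226187267775660033) (.leaf 8071295369595621377)) (.node (.leaf 2306969458960277505) (.leaf 9225905861400985601))) (.node (.node (.leaf 10377420059977986049) (.leaf 5766296579187183617)) (.leaf 8073265625746669569)))) (.node (.node (.node (.node (.leaf 4614219362054742017) (.leaf 8071576707099820033)) (.node (.leaf 9225061367784931329) (.leaf 8072420925871497217))) (.node (.node (.leaf 8072421406924640257) (.leaf 8070732694536888321)) (.leaf 11531748389746118657))) (.node (.node (.node (.leaf 5765733835375398913) (.leaf 9223935193000206337)) (.node (.leaf 3459327670083411969) (.leaf 5766015172795723777))) (.node (.node (.leaf 3461016588579266561) (.leaf 6918655546040025089)) (.leaf 1154329566852964353)))))) (.node (.node (.node (.node (.node (.node (.leaf 5766577916741697537) (.leaf 1126380959956992)) (.node (.leaf 6918092321342906369) (.leaf 2307531859241771009)))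 (.node (.node (.leaf 2308376421543706625) (.leaf 8072421544296452097)) (.node (.leaf 11530059883483238401) (.leaf 4613656618209411073)))) (.node (.node (.node (.leaf 68719489025) (.leaf 3461017000929677313)) (.node (.leaf 4614501455557062657) (.leaf 67137537))) (.node (.node (.leaf 9223653718040272897) (.leaf 5765733697869328385)) (.leaf 11529496658651947009)))) (.node (.node (.node (.node (.leaf 2306406096689975297) (.leaf 4614501249247612929)) (.node (.leaf 6918655065154682881) (.leaf 4614219705601785857))) (.node (.node (.leaf 10378263866298638337) (.leaf 5765452016683843585)) (.node (.leaf 5765733491778002945) (.leaf 6918373933775355905)))) (.node (.node (.node (.leaf 10377701603556720641) (.leaf 9226186855509151745)) (.node (.leaf 5765452291712761857) (.leaf 1155454779397251073))) (.node (.node (.leaf 1155173991615324161) (.leaf 2306688121355374593)) (.leaf 4614219430757412865))))) (.node (.node (.node (.node (.node (.leaf 11532030414445125633) (.leaf 1970668451155969)) (.node (.leaf 8072420925938601984) (.leaf 4613093668356648961))) (.node (.node (.leaf 9223372243013218305)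 (.leaf 5765170610443395073)) (.node (.leaf 4614219293284921345) (.leaf 3461579950816002049)))) (.node (.node (.node (.leaf 1155454916852973568) (.leaf 687345799169)) (.node (.leaf 5767141416450924545) (.leaf 4611686018494533633))) (.node (.node (.leaf 167772161) (.leaf 1153485141922848769)) (.leaf 1689537122156545)))) (.node (.node (.node (.node (.leaf 9225905517954621441) (.leaf 11532030070830927873)) (.node (.leaf 4613938505519726593) (.leaf 4613937955680047105))) (.node (.node (.leaf 6918374002494803969) (.leaf 11530904033535496193)) (.leaf 8071013482201391105))) (.node (.node (.node (.leaf 11529496727287508993) (.leaf 1152921985743847425)) (.node (.leaf 3459045988797251584) (.leaf 2815093481930753))) (.node (.node (.leaf 6918092115117355009) (.leaf 1153484523397222401)) (.leaf 4611967837035053057))))))))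

def lineNorm : Janko.Tree (ℕ) :=
  (.node (.node (.node (.node lineNorm0 lineNorm8) (.node lineNorm4 lineNorm12)) (.node (.node lineNorm2 lineNorm10) (.node lineNorm6 lineNorm14))) (.node (.node (.node lineNorm1 lineNorm9) (.node lineNorm5 lineNorm13)) (.node (.node lineNorm3 lineNorm11) (.node lineNorm7 lineNorm15))))

def lineOrder0 : Janko.Tree (ℕ) :=
  (.node (.node (.node (.node (.node (.node (.node (.node (.leaf 1106) (.leaf 535)) (.node (.leaf 3270) (.leaf 2454))) (.node (.node (.leaf 303) (.leaf 3206)) (.node (.leaf 3503) (.leaf 1552)))) (.node (.node (.node (.leaf 870) (.leaf 674)) (.node (.leaf 340) (.leaf 290))) (.node (.node (.leaf 3290) (.leaf 1048)) (.leaf 3630)))) (.node (.node (.node (.node (.leaf 359) (.leaf 1748)) (.node (.leaf 225) (.leaf 3756))) (.node (.node (.leaf 3013) (.leaf 411)) (.node (.leaf 3141) (.leaf 1736)))) (.node (.node (.node (.leaf 3718) (.leaf 3670)) (.node (.leaf 1267) (.leaf 1320))) (.node (.node (.leaf 197) (.leaf 3145)) (.leaf 1727))))) (.node (.node (.node (.node (.node (.leaf 2873) (.leaf 2040)) (.node (.leaf 1030) (.leaf 3697)))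 (.node (.node (.leaf 3068) (.leaf 929)) (.node (.leaf 69) (.leaf 1998)))) (.node (.node (.node (.leaf 1789) (.leaf 2149)) (.node (.leaf 3645) (.leaf 2213))) (.node (.node (.leaf 353) (.leaf 976)) (.leaf 1997)))) (.node (.node (.node (.node (.leaf 3753) (.leaf 177)) (.node (.leaf 1463) (.leaf 3130))) (.node (.node (.leaf 3110) (.leaf 3191)) (.node (.leaf 183) (.leaf 1228)))) (.node (.node (.node (.leaf 977) (.leaf 3529)) (.node (.leaf 1017) (.leaf 763))) (.node (.node (.leaf 3049) (.leaf 1578)) (.leaf 3278)))))) (.node (.node (.node (.node (.node (.node (.leaf 2014) (.leaf 3253)) (.node (.leaf 3371) (.leaf 3390))) (.node (.node (.leaf 1652) (.leaf 3213)) (.node (.leaf 1936) (.leaf 2815)))) (.node (.node (.node (.leaf 2535) (.leaf 2731)) (.node (.leaf 1066) (.leaf 3429))) (.node (.node (.leaf 1036) (.leaf 2813)) (.leaf 2984)))) (.node (.node (.node (.node (.leaf 1937) (.leaf 3328)) (.node (.leaf 1109) (.leaf 2116))) (.node (.node (.leaf 3329) (.leaf 772)) (.node (.leaf 366) (.leaf 192)))) (.node (.node (.node (.leaf 2878) (.leaf 1082)) (.node (.leaf 2356) (.leaf 2008)))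 (.node (.node (.leaf 3243) (.leaf 2092)) (.leaf 2668))))) (.node (.node (.node (.node (.node (.leaf 3737) (.leaf 546)) (.node (.leaf 2986) (.leaf 1121))) (.node (.node (.leaf 1714) (.leaf 21)) (.node (.leaf 3359) (.leaf 2051)))) (.node (.node (.node (.leaf 668) (.leaf 2904)) (.node (.leaf 3624) (.leaf 477))) (.node (.node (.leaf 20) (.leaf 1272)) (.leaf 1062)))) (.node (.node (.node (.node (.leaf 3740) (.leaf 2742)) (.node (.leaf 1442) (.leaf 642))) (.node (.node (.leaf 3252) (.leaf 2663)) (.leaf 3170))) (.node (.node (.node (.leaf 1187) (.leaf 1786)) (.node (.leaf 70) (.leaf 540))) (.node (.node (.leaf 1655) (.leaf 2215)) (.leaf 1144))))))) (.node (.node (.node (.node (.node (.node (.node (.leaf 3391) (.leaf 429)) (.node (.leaf 1218) (.leaf 3251))) (.node (.node (.leaf 3207) (.leaf 3326)) (.node (.leaf 2028) (.leaf 1465)))) (.node (.node (.node (.leaf 3212) (.leaf 445)) (.node (.leaf 534) (.leaf 2858))) (.node (.node (.leaf 2733) (.leaf 3224)) (.leaf 1783)))) (.node (.node (.node (.node (.leaf 1035) (.leaf 3198)) (.node (.leaf 189) (.leaf 128))) (.node (.node (.leaf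 1291) (.leaf 2140)) (.node (.leaf 148) (.leaf 3515)))) (.node (.node (.node (.leaf 3757) (.leaf 38)) (.node (.leaf 304) (.leaf 3098))) (.node (.node (.leaf 3475) (.leaf 1251)) (.leaf 1497))))) (.node (.node (.node (.node (.node (.leaf 2836) (.leaf 1307)) (.node (.leaf 3479) (.leaf 1565))) (.node (.node (.leaf 3440) (.leaf 1041)) (.node (.leaf 3101) (.leaf 2681)))) (.node (.node (.node (.leaf 1342) (.leaf 685)) (.node (.leaf 2973) (.leaf 210))) (.node (.node (.leaf 2654) (.leaf 3657)) (.leaf 2776)))) (.node (.node (.node (.node (.leaf 917) (.leaf 1133)) (.node (.leaf 2169) (.leaf 2966))) (.node (.node (.leaf 1120) (.leaf 3343)) (.leaf 1049))) (.node (.node (.node (.leaf 3623) (.leaf 1099)) (.node (.leaf 2061) (.leaf 387))) (.node (.node (.leaf 278) (.leaf 901)) (.leaf 2103)))))) (.node (.node (.node (.node (.node (.node (.leaf 1098) (.leaf 174)) (.node (.leaf 1827) (.leaf 3547))) (.node (.node (.leaf 1548) (.leaf 3555)) (.node (.leaf 2117) (.leaf 110)))) (.node (.node (.node (.leaf 2201) (.leaf 1479)) (.node (.leaf 1159) (.leaf 1501))) (.node (.node (.leaf 630) (.leaf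 1525)) (.leaf 2924)))) (.node (.node (.node (.node (.leaf 1996) (.leaf 2284)) (.node (.leaf 3209) (.leaf 1554))) (.node (.node (.leaf 2139) (.leaf 2290)) (.node (.leaf 117) (.leaf 417)))) (.node (.node (.node (.leaf 2861) (.leaf 665)) (.node (.leaf 2852) (.leaf 2181))) (.node (.node (.leaf 3007) (.leaf 293)) (.leaf 431))))) (.node (.node (.node (.node (.node (.leaf 2194) (.leaf 167)) (.node (.leaf 1175) (.leaf 1019))) (.node (.node (.leaf 890) (.leaf 2859)) (.node (.leaf 1034) (.leaf 886)))) (.node (.node (.node (.leaf 3466) (.leaf 1303)) (.node (.leaf 348) (.leaf 2254))) (.node (.node (.leaf 3537) (.leaf 992)) (.leaf 1471)))) (.node (.node (.node (.node (.leaf 636) (.leaf 1278)) (.node (.leaf 61) (.leaf 2826))) (.node (.node (.leaf 2321) (.leaf 1491)) (.leaf 1260))) (.node (.node (.node (.leaf 3673) (.leaf 1046)) (.node (.leaf 284) (.leaf 1330))) (.node (.node (.leaf 1886) (.leaf 1618)) (.leaf 565))))))))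

def lineOrder1 : Janko.Tree (ℕ) :=
  (.node (.node (.node (.node (.node (.node (.node (.node (.leaf 2374) (.leaf 813)) (.node (.leaf 2849) (.leaf 1372))) (.node (.node (.leaf 2805) (.leaf 1849)) (.node (.leaf 2476) (.leaf 3668)))) (.node (.node (.node (.leaf 621) (.leaf 1775)) (.node (.leaf 2715) (.leaf 347))) (.node (.node (.leaf 3055) (.leaf 1088)) (.leaf 1477)))) (.node (.node (.node (.node (.leaf 715) (.leaf 778)) (.node (.leaf 1171) (.leaf 280))) (.node (.node (.leaf 3154) (.leaf 2574)) (.node (.leaf 1859) (.leaf 1579)))) (.node (.node (.node (.leaf 1298) (.leaf 2259)) (.node (.leaf 760) (.leaf 1970))) (.node (.node (.leaf 1404) (.leaf 3716)) (.leaf 3677))))) (.node (.node (.node (.node (.node (.leaf 3188) (.leaf 1626)) (.node (.leaf 2404) (.leaf 3544))) (.node (.node (.leaf 2664) (.leaf 1941)) (.node (.leaf 381) (.leaf 2997)))) (.node (.node (.node (.leaf 2230) (.leaf 2494)) (.node (.leaf 201) (.leaf 1766))) (.node (.node (.leaf 1300) (.leaf 717)) (.leaf 207)))) (.node (.node (.node (.node (.leaf 3052) (.leaf 2760)) (.node (.leaf 585) (.leaf 1944))) (.node (.node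 (.leaf 3563) (.leaf 2084)) (.node (.leaf 2940) (.leaf 1376)))) (.node (.node (.node (.leaf 1881) (.leaf 681)) (.node (.leaf 1917) (.leaf 17))) (.node (.node (.leaf 2514) (.leaf 3283)) (.leaf 363)))))) (.node (.node (.node (.node (.node (.node (.leaf 2728) (.leaf 3319)) (.node (.leaf 1204) (.leaf 2279))) (.node (.node (.leaf 3269) (.leaf 330)) (.node (.leaf 2717) (.leaf 1182)))) (.node (.node (.node (.leaf 1615) (.leaf 1071)) (.node (.leaf 972) (.leaf 1653))) (.node (.node (.leaf 3628) (.leaf 215)) (.leaf 1380)))) (.node (.node (.node (.node (.leaf 2306) (.leaf 472)) (.node (.leaf 974) (.leaf 2586))) (.node (.node (.leaf 2039) (.leaf 2841)) (.node (.leaf 1316) (.leaf 2685)))) (.node (.node (.node (.leaf 3559) (.leaf 3232)) (.node (.leaf 2432) (.leaf 2357))) (.node (.node (.leaf 2555) (.leaf 2223)) (.leaf 1632))))) (.node (.node (.node (.node (.node (.leaf 742) (.leaf 1680)) (.node (.leaf 3495) (.leaf 500))) (.node (.node (.leaf 3238) (.leaf 2002)) (.node (.leaf 1332) (.leaf 3341)))) (.node (.node (.node (.leaf 252) (.leaf 2549)) (.node (.leaf 415) (.leaf 311))) (.node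 (.node (.leaf 2599) (.leaf 3512)) (.leaf 2787)))) (.node (.node (.node (.node (.leaf 3715) (.leaf 2177)) (.node (.leaf 2267) (.leaf 1430))) (.node (.node (.leaf 545) (.leaf 2899)) (.leaf 2756))) (.node (.node (.node (.leaf 471) (.leaf 352)) (.node (.leaf 2459) (.leaf 2106))) (.node (.node (.leaf 1829) (.leaf 796)) (.leaf 3162))))))) (.node (.node (.node (.node (.node (.node (.node (.leaf 446) (.leaf 22)) (.node (.leaf 2090) (.leaf 3119))) (.node (.node (.leaf 582) (.leaf 3164)) (.node (.leaf 588) (.leaf 93)))) (.node (.node (.node (.leaf 3493) (.leaf 2312)) (.node (.leaf 838) (.leaf 313))) (.node (.node (.leaf 3764) (.leaf 521)) (.leaf 451)))) (.node (.node (.node (.node (.leaf 757) (.leaf 1)) (.node (.leaf 355) (.leaf 1939))) (.node (.node (.leaf 3411) (.leaf 2382)) (.node (.leaf 1227) (.leaf 793)))) (.node (.node (.node (.leaf 1208) (.leaf 2823)) (.node (.leaf 3137) (.leaf 3625))) (.node (.node (.leaf 1648) (.leaf 3352)) (.leaf 2869))))) (.node (.node (.node (.node (.node (.leaf 1490) (.leaf 2839)) (.node (.leaf 89) (.leaf 276))) (.node (.node (.leaf 3015) (.leaf 1484))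 (.node (.leaf 3598) (.leaf 2317)))) (.node (.node (.node (.leaf 1469) (.leaf 3744)) (.node (.leaf 2564) (.leaf 3131))) (.node (.node (.leaf 3665) (.leaf 1818)) (.leaf 389)))) (.node (.node (.node (.node (.leaf 3496) (.leaf 791)) (.node (.leaf 2304) (.leaf 700))) (.node (.node (.leaf 719) (.leaf 2359)) (.leaf 869))) (.node (.node (.node (.leaf 3602) (.leaf 600)) (.node (.leaf 1047) (.leaf 3233))) (.node (.node (.leaf 754) (.leaf 595)) (.leaf 2647)))))) (.node (.node (.node (.node (.node (.node (.leaf 1128) (.leaf 1763)) (.node (.leaf 1264) (.leaf 3222))) (.node (.node (.leaf 1054) (.leaf 2280)) (.node (.leaf 2108) (.leaf 2992)))) (.node (.node (.node (.leaf 1885) (.leaf 2730)) (.node (.leaf 2195) (.leaf 3654))) (.node (.node (.leaf 298) (.leaf 720)) (.leaf 3702)))) (.node (.node (.node (.node (.leaf 1801) (.leaf 461)) (.node (.leaf 1711) (.leaf 3446))) (.node (.node (.leaf 1911) (.leaf 2397)) (.node (.leaf 1663) (.leaf 1256)))) (.node (.node (.node (.leaf 1163) (.leaf 1656)) (.node (.leaf 3681) (.leaf 828))) (.node (.node (.leaf 3767) (.leaf 444)) (.leaf 3773))))) (.node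 (.node (.node (.node (.node (.leaf 1564) (.leaf 1718)) (.node (.leaf 1493) (.leaf 3153))) (.node (.node (.leaf 841) (.leaf 1523)) (.node (.leaf 2504) (.leaf 3745)))) (.node (.node (.node (.leaf 3335) (.leaf 1730)) (.node (.leaf 2854) (.leaf 3734))) (.node (.node (.leaf 1059) (.leaf 2406)) (.leaf 961)))) (.node (.node (.node (.node (.leaf 2111) (.leaf 3242)) (.node (.leaf 1558) (.leaf 3241))) (.node (.node (.leaf 3089) (.leaf 1431)) (.leaf 1814))) (.node (.node (.node (.leaf 2938) (.leaf 784)) (.node (.leaf 3107) (.leaf 1852))) (.node (.node (.leaf 2166) (.leaf 687)) (.leaf 242))))))))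

def lineOrder2 : Janko.Tree (ℕ) :=
  (.node (.node (.node (.node (.node (.node (.node (.node (.leaf 241) (.leaf 1813)) (.node (.leaf 2850) (.leaf 2610))) (.node (.node (.leaf 718) (.leaf 2860)) (.node (.leaf 257) (.leaf 2446)))) (.node (.node (.node (.leaf 121) (.leaf 2572)) (.node (.leaf 2541) (.leaf 1413))) (.node (.node (.leaf 3706) (.leaf 2565)) (.leaf 660)))) (.node (.node (.node (.node (.leaf 469) (.leaf 37)) (.node (.leaf 465) (.leaf 1040))) (.node (.node (.leaf 2127) (.leaf 407)) (.node (.leaf 3041) (.leaf 631)))) (.node (.node (.node (.leaf 3659) (.leaf 2444)) (.node (.leaf 2136) (.leaf 1713))) (.node (.node (.leaf 1976) (.leaf 2255)) (.leaf 3720))))) (.node (.node (.node (.node (.node (.leaf 2801) (.leaf 2425)) (.node (.leaf 2132) (.leaf 2979))) (.node (.node (.leaf 1908) (.leaf 3295)) (.node (.leaf 809) (.leaf 1147)))) (.node (.node (.node (.leaf 1990) (.leaf 921)) (.node (.leaf 434) (.leaf 380))) (.node (.node (.leaf 2902) (.leaf 1836)) (.leaf 2233)))) (.node (.node (.node (.node (.leaf 2385) (.leaf 3554)) (.node (.leaf 1624) (.leaf 2337))) (.node (.node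 (.leaf 1729) (.leaf 528)) (.node (.leaf 1478) (.leaf 112)))) (.node (.node (.node (.leaf 1586) (.leaf 629)) (.node (.leaf 3711) (.leaf 2887))) (.node (.node (.leaf 3377) (.leaf 2283)) (.leaf 1846)))))) (.node (.node (.node (.node (.node (.node (.leaf 2434) (.leaf 876)) (.node (.leaf 339) (.leaf 1614))) (.node (.node (.leaf 2835) (.leaf 2747)) (.node (.leaf 299) (.leaf 3595)))) (.node (.node (.node (.leaf 1848) (.leaf 1699)) (.node (.leaf 507) (.leaf 3044))) (.node (.node (.leaf 1604) (.leaf 3502)) (.leaf 3591)))) (.node (.node (.node (.node (.leaf 2118) (.leaf 3006)) (.node (.leaf 667) (.leaf 2779))) (.node (.node (.leaf 2400) (.leaf 3762)) (.node (.leaf 3273) (.leaf 286)))) (.node (.node (.node (.leaf 2100) (.leaf 143)) (.node (.leaf 3693) (.leaf 1312))) (.node (.node (.leaf 281) (.leaf 1616)) (.leaf 3469))))) (.node (.node (.node (.node (.node (.leaf 2005) (.leaf 840)) (.node (.leaf 1226) (.leaf 3047))) (.node (.node (.leaf 1956) (.leaf 2393)) (.node (.leaf 2286) (.leaf 1016)))) (.node (.node (.node (.leaf 761) (.leaf 2770)) (.node (.leaf 3081) (.leaf 1855))) (.node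 (.node (.leaf 3735) (.leaf 1247)) (.leaf 2200)))) (.node (.node (.node (.node (.leaf 2551) (.leaf 1452)) (.node (.leaf 2167) (.leaf 1361))) (.node (.node (.leaf 596) (.leaf 2521)) (.leaf 490))) (.node (.node (.node (.leaf 371) (.leaf 1443)) (.node (.leaf 2122) (.leaf 1873))) (.node (.node (.leaf 612) (.leaf 3045)) (.leaf 2451))))))) (.node (.node (.node (.node (.node (.node (.node (.leaf 895) (.leaf 827)) (.node (.leaf 1605) (.leaf 3108))) (.node (.node (.leaf 2749) (.leaf 1206)) (.node (.leaf 250) (.leaf 779)))) (.node (.node (.node (.leaf 2807) (.leaf 732)) (.node (.leaf 577) (.leaf 3176))) (.node (.node (.leaf 640) (.leaf 1107)) (.leaf 3741)))) (.node (.node (.node (.node (.leaf 1067) (.leaf 2299)) (.node (.leaf 52) (.leaf 709))) (.node (.node (.leaf 988) (.leaf 1928)) (.node (.leaf 2190) (.leaf 1678)))) (.node (.node (.node (.leaf 2948) (.leaf 3050)) (.node (.leaf 1423) (.leaf 1625))) (.node (.node (.leaf 2064) (.leaf 2953)) (.leaf 72))))) (.node (.node (.node (.node (.node (.leaf 2342) (.leaf 1853)) (.node (.leaf 3418) (.leaf 2651))) (.node (.node (.leaf 785) (.leaf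 735)) (.node (.leaf 3205) (.leaf 1033)))) (.node (.node (.node (.leaf 2163) (.leaf 1505)) (.node (.leaf 323) (.leaf 3592))) (.node (.node (.leaf 2315) (.leaf 3234)) (.leaf 2767)))) (.node (.node (.node (.node (.leaf 2961) (.leaf 2131)) (.node (.leaf 2033) (.leaf 1610))) (.node (.node (.leaf 1816) (.leaf 1396)) (.leaf 2063))) (.node (.node (.node (.leaf 1329) (.leaf 1923)) (.node (.leaf 292) (.leaf 814))) (.node (.node (.leaf 1844) (.leaf 1232)) (.leaf 3580)))))) (.node (.node (.node (.node (.node (.node (.leaf 733) (.leaf 3034)) (.node (.leaf 3256) (.leaf 3210))) (.node (.node (.leaf 2463) (.leaf 2780)) (.node (.leaf 789) (.leaf 152)))) (.node (.node (.node (.leaf 126) (.leaf 555)) (.node (.leaf 2096) (.leaf 1155))) (.node (.node (.leaf 706) (.leaf 1349)) (.leaf 147)))) (.node (.node (.node (.node (.leaf 628) (.leaf 1141)) (.node (.leaf 2216) (.leaf 573))) (.node (.node (.leaf 2712) (.leaf 3584)) (.node (.leaf 810) (.leaf 1676)))) (.node (.node (.node (.leaf 16) (.leaf 1791)) (.node (.leaf 975) (.leaf 1498))) (.node (.node (.leaf 1731) (.leaf 3080)) (.leaf 173))))) (.node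 (.node (.node (.node (.node (.leaf 2030) (.leaf 1023)) (.node (.leaf 64) (.leaf 3300))) (.node (.node (.leaf 2601) (.leaf 468)) (.node (.leaf 1566) (.leaf 2775)))) (.node (.node (.node (.leaf 3367) (.leaf 1704)) (.node (.leaf 3264) (.leaf 2819))) (.node (.node (.leaf 1446) (.leaf 156)) (.leaf 49)))) (.node (.node (.node (.node (.leaf 3532) (.leaf 618)) (.node (.leaf 131) (.leaf 2905))) (.node (.node (.leaf 3488) (.leaf 1365)) (.leaf 2239))) (.node (.node (.node (.leaf 157) (.leaf 1057)) (.node (.leaf 1022) (.leaf 185))) (.node (.node (.leaf 915) (.leaf 1456)) (.leaf 175))))))))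

def lineOrder3 : Janko.Tree (ℕ) :=
  (.node (.node (.node (.node (.node (.node (.node (.node (.leaf 1344) (.leaf 1649)) (.node (.leaf 2234) (.leaf 3430))) (.node (.node (.leaf 1971) (.leaf 2134)) (.node (.leaf 1922) (.leaf 2748)))) (.node (.node (.node (.leaf 1743) (.leaf 3688)) (.node (.leaf 1283) (.leaf 1598))) (.node (.node (.leaf 383) (.leaf 1900)) (.leaf 2057)))) (.node (.node (.node (.node (.leaf 1153) (.leaf 2662)) (.node (.leaf 908) (.leaf 1487))) (.node (.node (.leaf 1909) (.leaf 3105)) (.node (.leaf 2484) (.leaf 3369)))) (.node (.node (.node (.leaf 2350) (.leaf 1774)) (.node (.leaf 71) (.leaf 1609))) (.node (.node (.leaf 1695) (.leaf 2517)) (.leaf 3476))))) (.node (.node (.node (.node (.node (.leaf 1441) (.leaf 1835)) (.node (.leaf 1014) (.leaf 3768))) (.node (.node (.leaf 1982) (.leaf 1151)) (.node (.leaf 438) (.leaf 3575)))) (.node (.node (.node (.leaf 1174) (.leaf 1097)) (.node (.leaf 2611) (.leaf 3487))) (.node (.node (.leaf 3406) (.leaf 758)) (.leaf 2515)))) (.node (.node (.node (.node (.leaf 3266) (.leaf 3648)) (.node (.leaf 2351) (.leaf 635))) (.node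 (.node (.leaf 543) (.leaf 3449)) (.node (.leaf 211) (.leaf 232)))) (.node (.node (.node (.leaf 843) (.leaf 1981)) (.node (.leaf 1658) (.leaf 3147))) (.node (.node (.leaf 3200) (.leaf 1767)) (.leaf 2666)))))) (.node (.node (.node (.node (.node (.node (.leaf 3491) (.leaf 1287)) (.node (.leaf 3074) (.leaf 3413))) (.node (.node (.leaf 2409) (.leaf 927)) (.node (.leaf 572) (.leaf 968)))) (.node (.node (.node (.leaf 1392) (.leaf 3121)) (.node (.leaf 186) (.leaf 1079))) (.node (.node (.leaf 333) (.leaf 626)) (.leaf 2519)))) (.node (.node (.node (.node (.leaf 1181) (.leaf 767)) (.node (.leaf 141) (.leaf 1612))) (.node (.node (.leaf 3615) (.leaf 3208)) (.node (.leaf 425) (.leaf 2070)))) (.node (.node (.node (.leaf 2363) (.leaf 1589)) (.node (.leaf 1802) (.leaf 1593))) (.node (.node (.leaf 1538) (.leaf 356)) (.leaf 561))))) (.node (.node (.node (.node (.node (.leaf 2053) (.leaf 2217)) (.node (.leaf 2491) (.leaf 863))) (.node (.node (.leaf 530) (.leaf 2673)) (.node (.leaf 3226) (.leaf 3388)))) (.node (.node (.node (.leaf 2523) (.leaf 2797)) (.node (.leaf 2939) (.leaf 911))) (.node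 (.node (.leaf 1368) (.leaf 2680)) (.leaf 770)))) (.node (.node (.node (.node (.leaf 1856) (.leaf 369)) (.node (.leaf 3450) (.leaf 1808))) (.node (.node (.leaf 701) (.leaf 2649)) (.leaf 3186))) (.node (.node (.node (.leaf 805) (.leaf 2228)) (.node (.leaf 2276) (.leaf 849))) (.node (.node (.leaf 559) (.leaf 1240)) (.leaf 3604))))))) (.node (.node (.node (.node (.node (.node (.node (.leaf 1966) (.leaf 1569)) (.node (.leaf 67) (.leaf 994))) (.node (.node (.leaf 3766) (.leaf 2301)) (.node (.leaf 1190) (.leaf 1817)))) (.node (.node (.node (.leaf 2380) (.leaf 2218)) (.node (.leaf 2375) (.leaf 1951))) (.node (.node (.leaf 1476) (.leaf 1060)) (.leaf 1674)))) (.node (.node (.node (.node (.leaf 3190) (.leaf 2401)) (.node (.leaf 4) (.leaf 547))) (.node (.node (.leaf 1882) (.leaf 1810)) (.node (.leaf 3742) (.leaf 3541)))) (.node (.node (.node (.leaf 3583) (.leaf 2430)) (.node (.leaf 259) (.leaf 1301))) (.node (.node (.leaf 2314) (.leaf 2222)) (.leaf 2324))))) (.node (.node (.node (.node (.node (.leaf 2513) (.leaf 271)) (.node (.leaf 2467) (.leaf 2353))) (.node (.node (.leaf 527) (.leaf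 1889)) (.node (.leaf 1991) (.leaf 3192)))) (.node (.node (.node (.leaf 885) (.leaf 1752)) (.node (.leaf 2788) (.leaf 1907))) (.node (.node (.leaf 2533) (.leaf 2269)) (.leaf 3649)))) (.node (.node (.node (.node (.leaf 3172) (.leaf 1892)) (.node (.leaf 180) (.leaf 3216))) (.node (.node (.leaf 130) (.leaf 154)) (.leaf 2828))) (.node (.node (.node (.leaf 3231) (.leaf 2458)) (.node (.leaf 2650) (.leaf 705))) (.node (.node (.leaf 509) (.leaf 427)) (.leaf 2737)))))) (.node (.node (.node (.node (.node (.node (.leaf 3594) (.leaf 2914)) (.node (.leaf 3426) (.leaf 2365))) (.node (.node (.leaf 3633) (.leaf 224)) (.node (.leaf 2155) (.leaf 2929)))) (.node (.node (.node (.leaf 2138) (.leaf 2452)) (.node (.leaf 656) (.leaf 1458))) (.node (.node (.leaf 3779) (.leaf 620)) (.leaf 542)))) (.node (.node (.node (.node (.leaf 3279) (.leaf 2505)) (.node (.leaf 1252) (.leaf 1323))) (.node (.node (.leaf 422) (.leaf 1166)) (.node (.leaf 3003) (.leaf 579)))) (.node (.node (.node (.leaf 2402) (.leaf 790)) (.node (.leaf 2573) (.leaf 2485))) (.node (.node (.leaf 297) (.leaf 3423)) (.leaf 995)))))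 (.node (.node (.node (.node (.node (.leaf 2392) (.leaf 2266)) (.node (.leaf 2421) (.leaf 1160))) (.node (.node (.leaf 2445) (.leaf 1573)) (.node (.leaf 3442) (.leaf 2609)))) (.node (.node (.node (.leaf 1217) (.leaf 2487)) (.node (.leaf 2496) (.leaf 3332))) (.node (.node (.leaf 1723) (.leaf 1427)) (.leaf 673)))) (.node (.node (.node (.node (.leaf 794) (.leaf 981)) (.node (.leaf 1639) (.leaf 723))) (.node (.node (.leaf 3043) (.leaf 768)) (.leaf 1068))) (.node (.node (.node (.leaf 3005) (.leaf 2442)) (.node (.leaf 107) (.leaf 2656))) (.node (.node (.leaf 907) (.leaf 2882)) (.leaf 1898))))))))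

def lineOrder4 : Janko.Tree (ℕ) :=
  (.node (.node (.node (.node (.node (.node (.node (.node (.leaf 1315) (.leaf 2954)) (.node (.leaf 2449) (.leaf 2026))) (.node (.node (.leaf 1420) (.leaf 2271)) (.node (.leaf 775) (.leaf 2900)))) (.node (.node (.node (.leaf 2236) (.leaf 2316)) (.node (.leaf 3560) (.leaf 1351))) (.node (.node (.leaf 1052) (.leaf 2832)) (.leaf 3724)))) (.node (.node (.node (.node (.leaf 1623) (.leaf 1095)) (.node (.leaf 3410) (.leaf 1557))) (.node (.node (.leaf 2015) (.leaf 776)) (.node (.leaf 221) (.leaf 548)))) (.node (.node (.node (.leaf 3500) (.leaf 3204)) (.node (.leaf 2367) (.leaf 2920))) (.node (.node (.leaf 926) (.leaf 1600)) (.leaf 2879))))) (.node (.node (.node (.node (.node (.leaf 955) (.leaf 1122)) (.node (.leaf 1078) (.leaf 1740))) (.node (.node (.leaf 1734) (.leaf 2524)) (.node (.leaf 2980) (.leaf 1665)))) (.node (.node (.node (.leaf 1914) (.leaf 1308)) (.node (.leaf 2631) (.leaf 2422))) (.node (.node (.leaf 3738) (.leaf 360)) (.leaf 2687)))) (.node (.node (.node (.node (.leaf 2912) (.leaf 3408)) (.node (.leaf 2930) (.leaf 2791))) (.node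 (.node (.leaf 2866) (.leaf 2305)) (.leaf 3557))) (.node (.node (.node (.leaf 1239) (.leaf 3057)) (.node (.leaf 2927) (.leaf 641))) (.node (.node (.leaf 3211) (.leaf 449)) (.leaf 2550)))))) (.node (.node (.node (.node (.node (.node (.leaf 3027) (.leaf 3087)) (.node (.leaf 2429) (.leaf 2500))) (.node (.node (.leaf 2943) (.leaf 3021)) (.node (.leaf 1972) (.leaf 1964)))) (.node (.node (.node (.leaf 3501) (.leaf 1670)) (.node (.leaf 615) (.leaf 1326))) (.node (.node (.leaf 835) (.leaf 2822)) (.leaf 1773)))) (.node (.node (.node (.node (.leaf 587) (.leaf 2003)) (.node (.leaf 301) (.leaf 703))) (.node (.node (.leaf 3546) (.leaf 1425)) (.node (.leaf 1453) (.leaf 1629)))) (.node (.node (.node (.leaf 578) (.leaf 384)) (.node (.leaf 3514) (.leaf 1502))) (.node (.node (.leaf 3059) (.leaf 3271)) (.leaf 1428))))) (.node (.node (.node (.node (.node (.leaf 837) (.leaf 2693)) (.node (.leaf 891) (.leaf 2477))) (.node (.node (.leaf 1843) (.leaf 2690)) (.node (.leaf 2379) (.leaf 825)))) (.node (.node (.node (.leaf 76) (.leaf 3425)) (.node (.leaf 357) (.leaf 511))) (.node (.node (.leaf 2634)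 (.leaf 2336)) (.leaf 2501)))) (.node (.node (.node (.node (.leaf 2558) (.leaf 3173)) (.node (.leaf 3182) (.leaf 1765))) (.node (.node (.leaf 2159) (.leaf 698)) (.leaf 1690))) (.node (.node (.node (.leaf 3023) (.leaf 2413)) (.node (.leaf 622) (.leaf 2888))) (.node (.node (.leaf 3230) (.leaf 3576)) (.leaf 2941))))))) (.node (.node (.node (.node (.node (.node (.node (.leaf 1511) (.leaf 1756)) (.node (.leaf 2590) (.leaf 2683))) (.node (.node (.leaf 2507) (.leaf 2174)) (.node (.leaf 1960) (.leaf 305)))) (.node (.node (.node (.leaf 1131) (.leaf 2566)) (.node (.leaf 541) (.leaf 3128))) (.node (.node (.leaf 942) (.leaf 1093)) (.leaf 1314)))) (.node (.node (.node (.node (.leaf 900) (.leaf 1825)) (.node (.leaf 1416) (.leaf 1715))) (.node (.node (.leaf 2546) (.leaf 1890)) (.node (.leaf 2456) (.leaf 3249)))) (.node (.node (.node (.leaf 3548) (.leaf 3114)) (.node (.leaf 3596) (.leaf 2967))) (.node (.node (.leaf 368) (.leaf 2247)) (.leaf 918))))) (.node (.node (.node (.node (.node (.leaf 115) (.leaf 2091)) (.node (.leaf 2419) (.leaf 1156))) (.node (.node (.leaf 3255) (.leaf 3351))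 (.node (.leaf 2580) (.leaf 498)))) (.node (.node (.node (.leaf 2700) (.leaf 2156)) (.node (.leaf 2022) (.leaf 1677))) (.node (.node (.leaf 2976) (.leaf 2637)) (.leaf 1995)))) (.node (.node (.node (.node (.leaf 781) (.leaf 2896)) (.node (.leaf 1212) (.leaf 3134))) (.node (.node (.leaf 145) (.leaf 3609)) (.leaf 2226))) (.node (.node (.node (.leaf 1149) (.leaf 2891)) (.node (.leaf 129) (.leaf 3419))) (.node (.node (.leaf 230) (.leaf 2540)) (.leaf 1241)))))) (.node (.node (.node (.node (.node (.node (.leaf 830) (.leaf 77)) (.node (.leaf 153) (.leaf 3439))) (.node (.node (.leaf 2739) (.leaf 3281)) (.node (.leaf 567) (.leaf 3168)))) (.node (.node (.node (.leaf 553) (.leaf 1508)) (.node (.leaf 169) (.leaf 3294))) (.node (.node (.leaf 318) (.leaf 1861)) (.leaf 362)))) (.node (.node (.node (.node (.leaf 3160) (.leaf 748)) (.node (.leaf 1001) (.leaf 229))) (.node (.node (.leaf 2146) (.leaf 1296)) (.node (.leaf 2955) (.leaf 35)))) (.node (.node (.node (.leaf 2903) (.leaf 1336)) (.node (.leaf 1746) (.leaf 2052))) (.node (.node (.leaf 2622) (.leaf 2161)) (.leaf 2911))))) (.node (.node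 (.node (.node (.node (.leaf 1177) (.leaf 3056)) (.node (.leaf 3318) (.leaf 218))) (.node (.node (.leaf 3454) (.leaf 2536)) (.node (.leaf 2615) (.leaf 2743)))) (.node (.node (.node (.leaf 3441) (.leaf 820)) (.node (.leaf 2062) (.leaf 2433))) (.node (.node (.leaf 1710) (.leaf 2529)) (.leaf 3614)))) (.node (.node (.node (.node (.leaf 1053) (.leaf 1100)) (.node (.leaf 1061) (.leaf 1954))) (.node (.node (.leaf 2436) (.leaf 766)) (.leaf 146))) (.node (.node (.node (.leaf 2931) (.leaf 3060)) (.node (.leaf 1415) (.leaf 2009))) (.node (.node (.leaf 3577) (.leaf 1905)) (.leaf 2562))))))))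

def lineOrder5 : Janko.Tree (ℕ) :=
  (.node (.node (.node (.node (.node (.node (.node (.node (.leaf 3095) (.leaf 708)) (.node (.leaf 2275) (.leaf 1467))) (.node (.node (.leaf 2498) (.leaf 650)) (.node (.leaf 2909) (.leaf 2946)))) (.node (.node (.node (.leaf 3407) (.leaf 65)) (.node (.leaf 273) (.leaf 1580))) (.node (.node (.leaf 3641) (.leaf 2584)) (.leaf 430)))) (.node (.node (.node (.node (.leaf 13) (.leaf 2682)) (.node (.leaf 2894) (.leaf 447))) (.node (.node (.leaf 1436) (.leaf 329)) (.node (.leaf 1862) (.leaf 3467)))) (.node (.node (.node (.leaf 3280) (.leaf 1224)) (.node (.leaf 2274) (.leaf 2334))) (.node (.node (.leaf 3304) (.leaf 3167)) (.leaf 1480))))) (.node (.node (.node (.node (.node (.leaf 1335) (.leaf 3748)) (.node (.leaf 693) (.leaf 1932))) (.node (.node (.leaf 2313) (.leaf 2893)) (.node (.leaf 3629) (.leaf 386)))) (.node (.node (.node (.leaf 3640) (.leaf 1142)) (.node (.leaf 1167) (.leaf 3048))) (.node (.node (.leaf 1948) (.leaf 3669)) (.leaf 1896)))) (.node (.node (.node (.node (.leaf 2876) (.leaf 2396)) (.node (.leaf 3679) (.leaf 1455))) (.node (.node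 (.leaf 3093) (.leaf 3138)) (.leaf 3398))) (.node (.node (.node (.leaf 3062) (.leaf 1588)) (.node (.leaf 42) (.leaf 1599))) (.node (.node (.leaf 437) (.leaf 1409)) (.leaf 3088)))))) (.node (.node (.node (.node (.node (.node (.leaf 2060) (.leaf 2114)) (.node (.leaf 2571) (.leaf 2470))) (.node (.node (.leaf 462) (.leaf 3066)) (.node (.leaf 2018) (.leaf 3393)))) (.node (.node (.node (.leaf 3053) (.leaf 1004)) (.node (.leaf 3146) (.leaf 494))) (.node (.node (.leaf 3599) (.leaf 3090)) (.leaf 2265)))) (.node (.node (.node (.node (.leaf 268) (.leaf 1488)) (.node (.leaf 2325) (.leaf 1110))) (.node (.node (.leaf 690) (.leaf 2726)) (.node (.leaf 2886) (.leaf 1043)))) (.node (.node (.node (.leaf 2001) (.leaf 1512)) (.node (.leaf 1459) (.leaf 1130))) (.node (.node (.leaf 1858) (.leaf 3746)) (.leaf 3568))))) (.node (.node (.node (.node (.node (.leaf 504) (.leaf 515)) (.node (.leaf 1268) (.leaf 1947))) (.node (.node (.leaf 489) (.leaf 3399)) (.node (.leaf 3701) (.leaf 263)))) (.node (.node (.node (.leaf 2482) (.leaf 3201)) (.node (.leaf 1258) (.leaf 2330))) (.node (.node (.leaf 1689)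 (.leaf 3660)) (.leaf 2751)))) (.node (.node (.node (.node (.leaf 2620) (.leaf 769)) (.node (.leaf 2192) (.leaf 3016))) (.node (.node (.leaf 514) (.leaf 1594)) (.leaf 2842))) (.node (.node (.node (.leaf 1553) (.leaf 1542)) (.node (.leaf 1362) (.leaf 531))) (.node (.node (.leaf 1560) (.leaf 1072)) (.leaf 2913))))))) (.node (.node (.node (.node (.node (.node (.node (.leaf 1077) (.leaf 2708)) (.node (.leaf 3444) (.leaf 2874))) (.node (.node (.leaf 404) (.leaf 2460)) (.node (.leaf 2548) (.leaf 2987)))) (.node (.node (.node (.leaf 576) (.leaf 1819)) (.node (.leaf 379) (.leaf 1935))) (.node (.node (.leaf 3315) (.leaf 2645)) (.leaf 713)))) (.node (.node (.node (.node (.leaf 3143) (.leaf 1168)) (.node (.leaf 1310) (.leaf 2468))) (.node (.node (.leaf 601) (.leaf 3462)) (.node (.leaf 2293) (.leaf 1111)))) (.node (.node (.node (.leaf 3612) (.leaf 1051)) (.node (.leaf 2740) (.leaf 2034))) (.node (.node (.leaf 2095) (.leaf 3004)) (.leaf 669))))) (.node (.node (.node (.node (.node (.leaf 2133) (.leaf 1383)) (.node (.leaf 3722) (.leaf 1192))) (.node (.node (.leaf 854) (.leaf 2437)) (.node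 (.leaf 3340) (.leaf 2346)))) (.node (.node (.node (.leaf 1025) (.leaf 2165)) (.node (.leaf 3174) (.leaf 3248))) (.node (.node (.leaf 2983) (.leaf 193)) (.leaf 1602)))) (.node (.node (.node (.node (.leaf 1483) (.leaf 2083)) (.node (.leaf 3333) (.leaf 3374))) (.node (.node (.leaf 2472) (.leaf 867)) (.leaf 2699))) (.node (.node (.node (.leaf 2773) (.leaf 3311)) (.node (.leaf 269) (.leaf 2307))) (.node (.node (.leaf 2172) (.leaf 1426)) (.leaf 1737)))))) (.node (.node (.node (.node (.node (.node (.leaf 1968) (.leaf 609)) (.node (.leaf 2258) (.leaf 377))) (.node (.node (.leaf 1630) (.leaf 2800)) (.node (.leaf 6) (.leaf 3637)))) (.node (.node (.node (.leaf 3196) (.leaf 1350)) (.node (.leaf 2300) (.leaf 1216))) (.node (.node (.leaf 1378) (.leaf 1172)) (.leaf 947)))) (.node (.node (.node (.node (.leaf 3092) (.leaf 2036)) (.node (.leaf 3461) (.leaf 3553))) (.node (.node (.leaf 1288) (.leaf 2403)) (.node (.leaf 1462) (.leaf 2971)))) (.node (.node (.node (.leaf 862) (.leaf 160)) (.node (.leaf 1282) (.leaf 613))) (.node (.node (.leaf 3348) (.leaf 2250)) (.leaf 486))))) (.node (.node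 (.node (.node (.node (.leaf 2431) (.leaf 2837)) (.node (.leaf 3086) (.leaf 1246))) (.node (.node (.leaf 1865) (.leaf 1020)) (.node (.leaf 2977) (.leaf 164)))) (.node (.node (.node (.leaf 3389) (.leaf 435)) (.node (.leaf 996) (.leaf 2319))) (.node (.node (.leaf 2142) (.leaf 2411)) (.leaf 2691)))) (.node (.node (.node (.node (.leaf 2641) (.leaf 1338)) (.node (.leaf 1955) (.leaf 882))) (.node (.node (.leaf 711) (.leaf 1116)) (.leaf 2362))) (.node (.node (.node (.leaf 3498) (.leaf 1958)) (.node (.leaf 3666) (.leaf 659))) (.node (.node (.leaf 3148) (.leaf 1325)) (.leaf 1474))))))))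

def lineOrder6 : Janko.Tree (ℕ) :=
  (.node (.node (.node (.node (.node (.node (.node (.node (.leaf 2332) (.leaf 2220)) (.node (.leaf 2511) (.leaf 51))) (.node (.node (.leaf 1514) (.leaf 2010)) (.node (.leaf 2506) (.leaf 1717)))) (.node (.node (.node (.leaf 691) (.leaf 2209)) (.node (.leaf 325) (.leaf 3366))) (.node (.node (.leaf 1979) (.leaf 1411)) (.leaf 249)))) (.node (.node (.node (.node (.leaf 3755) (.leaf 1651)) (.node (.leaf 2543) (.leaf 406))) (.node (.node (.leaf 2880) (.leaf 599)) (.node (.leaf 2917) (.leaf 714)))) (.node (.node (.node (.leaf 2289) (.leaf 695)) (.node (.leaf 1381) (.leaf 923))) (.node (.node (.leaf 3306) (.leaf 519)) (.leaf 677))))) (.node (.node (.node (.node (.node (.leaf 2044) (.leaf 2892)) (.node (.leaf 1385) (.leaf 136))) (.node (.node (.leaf 2577) (.leaf 29)) (.node (.leaf 1055) (.leaf 625)))) (.node (.node (.node (.leaf 2395) (.leaf 1384)) (.node (.leaf 963) (.leaf 1662))) (.node (.node (.leaf 710) (.leaf 2490)) (.leaf 1850)))) (.node (.node (.node (.node (.leaf 1705) (.leaf 1275)) (.node (.leaf 821) (.leaf 2407))) (.node (.node (.leaf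 624) (.leaf 2466)) (.leaf 464))) (.node (.node (.node (.leaf 1636) (.leaf 2182)) (.node (.leaf 3455) (.leaf 865))) (.node (.node (.leaf 563) (.leaf 2475)) (.leaf 2589)))))) (.node (.node (.node (.node (.node (.node (.leaf 375) (.leaf 777)) (.node (.leaf 684) (.leaf 721))) (.node (.node (.leaf 3183) (.leaf 3700)) (.node (.leaf 1640) (.leaf 3550)))) (.node (.node (.node (.leaf 1919) (.leaf 1521)) (.node (.leaf 2488) (.leaf 1952))) (.node (.node (.leaf 2435) (.leaf 1601)) (.leaf 3704)))) (.node (.node (.node (.node (.leaf 2027) (.leaf 3337)) (.node (.leaf 2806) (.leaf 2004))) (.node (.node (.leaf 3025) (.leaf 1965)) (.node (.leaf 3719) (.leaf 3362)))) (.node (.node (.node (.leaf 1152) (.leaf 2464)) (.node (.leaf 2000) (.leaf 3513))) (.node (.node (.leaf 997) (.leaf 1803)) (.leaf 1806))))) (.node (.node (.node (.node (.node (.leaf 3587) (.leaf 1424)) (.node (.leaf 603) (.leaf 2366))) (.node (.node (.leaf 3539) (.leaf 1367)) (.node (.leaf 1546) (.leaf 1613)))) (.node (.node (.node (.leaf 638) (.leaf 957)) (.node (.leaf 2761) (.leaf 1795))) (.node (.node (.leaf 2653) (.leaf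 80)) (.leaf 3712)))) (.node (.node (.node (.node (.leaf 2021) (.leaf 1878)) (.node (.leaf 2162) (.leaf 3571))) (.node (.node (.leaf 2853) (.leaf 806)) (.leaf 1132))) (.node (.node (.node (.leaf 2910) (.leaf 43)) (.node (.leaf 3018) (.leaf 2408))) (.node (.node (.leaf 1270) (.leaf 3061)) (.leaf 1276))))))) (.node (.node (.node (.node (.node (.node (.node (.leaf 2056) (.leaf 1617)) (.node (.leaf 2512) (.leaf 2895))) (.node (.node (.leaf 3303) (.leaf 2582)) (.node (.leaf 3431) (.leaf 3417)))) (.node (.node (.node (.leaf 1833) (.leaf 1460)) (.node (.leaf 1708) (.leaf 2738))) (.node (.node (.leaf 3401) (.leaf 166)) (.leaf 349)))) (.node (.node (.node (.node (.leaf 139) (.leaf 906)) (.node (.leaf 1999) (.leaf 1334))) (.node (.node (.leaf 34) (.leaf 1136)) (.node (.leaf 2205) (.leaf 206)))) (.node (.node (.node (.leaf 3621) (.leaf 1739)) (.node (.leaf 1123) (.leaf 2665))) (.node (.node (.leaf 3291) (.leaf 1776)) (.leaf 2311))))) (.node (.node (.node (.node (.node (.leaf 2981) (.leaf 2993)) (.node (.leaf 2789) (.leaf 2988))) (.node (.node (.leaf 3761) (.leaf 2623)) (.node (.leaf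 3664) (.leaf 593)))) (.node (.node (.node (.leaf 458) (.leaf 872)) (.node (.leaf 495) (.leaf 782))) (.node (.node (.leaf 3144) (.leaf 2958)) (.leaf 586)))) (.node (.node (.node (.node (.leaf 480) (.leaf 846)) (.node (.leaf 132) (.leaf 94))) (.node (.node (.leaf 3499) (.leaf 454)) (.leaf 633))) (.node (.node (.node (.leaf 516) (.leaf 151)) (.node (.leaf 202) (.leaf 1196))) (.node (.node (.leaf 2273) (.leaf 1647)) (.leaf 2933)))))) (.node (.node (.node (.node (.node (.node (.leaf 2553) (.leaf 2025)) (.node (.leaf 670) (.leaf 962))) (.node (.node (.leaf 1197) (.leaf 3601)) (.node (.leaf 3320) (.leaf 2390)))) (.node (.node (.node (.leaf 3675) (.leaf 2608)) (.node (.leaf 2197) (.leaf 3277))) (.node (.node (.leaf 1547) (.leaf 1065)) (.leaf 478)))) (.node (.node (.node (.node (.leaf 3159) (.leaf 3384)) (.node (.leaf 100) (.leaf 1186))) (.node (.node (.leaf 3634) (.leaf 401)) (.node (.leaf 342) (.leaf 752)))) (.node (.node (.node (.leaf 373) (.leaf 3618)) (.node (.leaf 1154) (.leaf 2417))) (.node (.node (.leaf 1449) (.leaf 2211)) (.leaf 1261))))) (.node (.node (.node (.node (.node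 (.leaf 184) (.leaf 1533)) (.node (.leaf 1277) (.leaf 2881))) (.node (.node (.leaf 2556) (.leaf 1243)) (.node (.leaf 312) (.leaf 2094)))) (.node (.node (.node (.leaf 2348) (.leaf 2794)) (.node (.leaf 2272) (.leaf 842))) (.node (.node (.leaf 1959) (.leaf 797)) (.leaf 970)))) (.node (.node (.node (.node (.leaf 2032) (.leaf 581)) (.node (.leaf 3) (.leaf 247))) (.node (.node (.leaf 1346) (.leaf 455)) (.leaf 1719))) (.node (.node (.node (.leaf 3433) (.leaf 892)) (.node (.leaf 113) (.leaf 3118))) (.node (.node (.leaf 405) (.leaf 2764)) (.leaf 1119))))))))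

def lineOrder7 : Janko.Tree (ℕ) :=
  (.node (.node (.node (.node (.node (.node (.node (.node (.leaf 2338) (.leaf 759)) (.node (.leaf 1165) (.leaf 452))) (.node (.node (.leaf 2868) (.leaf 2292)) (.node (.leaf 3460) (.leaf 3733)))) (.node (.node (.node (.leaf 3456) (.leaf 1012)) (.node (.leaf 3504) (.leaf 1129))) (.node (.node (.leaf 2066) (.leaf 1170)) (.leaf 3526)))) (.node (.node (.node (.node (.leaf 925) (.leaf 610)) (.node (.leaf 1185) (.leaf 3312))) (.node (.node (.leaf 443) (.leaf 652)) (.node (.leaf 331) (.leaf 483)))) (.node (.node (.node (.leaf 3067) (.leaf 1790)) (.node (.leaf 2771) (.leaf 2081))) (.node (.node (.leaf 3415) (.leaf 1507)) (.leaf 2945))))) (.node (.node (.node (.node (.node (.leaf 2115) (.leaf 3112)) (.node (.leaf 1597) (.leaf 2308))) (.node (.node (.leaf 3729) (.leaf 2294)) (.node (.leaf 2371) (.leaf 883)))) (.node (.node (.node (.leaf 2624) (.leaf 3254)) (.node (.leaf 3113) (.leaf 1002))) (.node (.node (.leaf 3517) (.leaf 1271)) (.leaf 3336)))) (.node (.node (.node (.node (.leaf 39) (.leaf 1920)) (.node (.leaf 79) (.leaf 1595))) (.node (.node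 (.leaf 2212) (.leaf 3387)) (.leaf 2349))) (.node (.node (.node (.leaf 2465) (.leaf 1238)) (.node (.leaf 473) (.leaf 1592))) (.node (.node (.leaf 2759) (.leaf 2974)) (.leaf 1510)))))) (.node (.node (.node (.node (.node (.node (.leaf 1641) (.leaf 1084)) (.node (.leaf 3070) (.leaf 388))) (.node (.node (.leaf 792) (.leaf 2141)) (.node (.leaf 199) (.leaf 1671)))) (.node (.node (.node (.leaf 2067) (.leaf 2486)) (.node (.leaf 3117) (.leaf 525))) (.node (.node (.leaf 3620) (.leaf 3064)) (.leaf 1328)))) (.node (.node (.node (.node (.leaf 1754) (.leaf 470)) (.node (.leaf 2147) (.leaf 3572))) (.node (.node (.leaf 2697) (.leaf 3723)) (.node (.leaf 3709) (.leaf 109)))) (.node (.node (.node (.leaf 2249) (.leaf 1799)) (.node (.leaf 1324) (.leaf 2441))) (.node (.node (.leaf 2847) (.leaf 3497)) (.leaf 2975))))) (.node (.node (.node (.node (.node (.leaf 3030) (.leaf 1506)) (.node (.leaf 2621) (.leaf 1769))) (.node (.node (.leaf 2922) (.leaf 2999)) (.node (.leaf 3001) (.leaf 2416)))) (.node (.node (.node (.leaf 2972) (.leaf 1039)) (.node (.leaf 1513) (.leaf 964))) (.node (.node (.leaf 2493)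 (.leaf 2686)) (.leaf 2508)))) (.node (.node (.node (.node (.leaf 361) (.leaf 1126)) (.node (.leaf 2703) (.leaf 1822))) (.node (.node (.leaf 904) (.leaf 2870)) (.leaf 2154))) (.node (.node (.node (.leaf 1358) (.leaf 2007)) (.node (.leaf 1009) (.leaf 1406))) (.node (.node (.leaf 3100) (.leaf 2516)) (.leaf 2701))))))) (.node (.node (.node (.node (.node (.node (.node (.leaf 2049) (.leaf 98)) (.node (.leaf 2193) (.leaf 2184))) (.node (.node (.leaf 1985) (.leaf 3317)) (.node (.leaf 799) (.leaf 2724)))) (.node (.node (.node (.leaf 2919) (.leaf 978)) (.node (.leaf 2560) (.leaf 3470))) (.node (.node (.leaf 551) (.leaf 116)) (.leaf 119)))) (.node (.node (.node (.node (.leaf 3077) (.leaf 409)) (.node (.leaf 2744) (.leaf 536))) (.node (.node (.leaf 2389) (.leaf 2343)) (.node (.leaf 940) (.leaf 493)))) (.node (.node (.node (.leaf 1509) (.leaf 3489)) (.node (.leaf 1281) (.leaf 1064))) (.node (.node (.leaf 861) (.leaf 1500)) (.leaf 1397))))) (.node (.node (.node (.node (.node (.leaf 2526) (.leaf 1760)) (.node (.leaf 575) (.leaf 2152))) (.node (.node (.leaf 1417) (.leaf 1434)) (.node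 (.leaf 1337) (.leaf 3749)))) (.node (.node (.node (.leaf 3747) (.leaf 2808)) (.node (.leaf 3011) (.leaf 1233))) (.node (.node (.leaf 2023) (.leaf 722)) (.leaf 3309)))) (.node (.node (.node (.node (.leaf 3522) (.leaf 566)) (.node (.leaf 1503) (.leaf 3261))) (.node (.node (.leaf 3260) (.leaf 983)) (.leaf 3139))) (.node (.node (.node (.leaf 1797) (.leaf 2101)) (.node (.leaf 396) (.leaf 879))) (.node (.node (.leaf 62) (.leaf 571)) (.leaf 3037)))))) (.node (.node (.node (.node (.node (.node (.leaf 570) (.leaf 564)) (.node (.leaf 335) (.leaf 834))) (.node (.node (.leaf 54) (.leaf 1363)) (.node (.leaf 3535) (.leaf 1499)))) (.node (.node (.node (.leaf 2595) (.leaf 1234)) (.node (.leaf 824) (.leaf 2982))) (.node (.node (.leaf 1551) (.leaf 3365)) (.leaf 1176)))) (.node (.node (.node (.node (.leaf 1091) (.leaf 476)) (.node (.leaf 294) (.leaf 2376))) (.node (.node (.leaf 3403) (.leaf 3286)) (.node (.leaf 3564) (.leaf 2310)))) (.node (.node (.node (.leaf 679) (.leaf 3002)) (.node (.leaf 3663) (.leaf 287))) (.node (.node (.leaf 2153) (.leaf 1448)) (.leaf 2817))))) (.node (.node (.node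 (.node (.node (.leaf 1686) (.leaf 3240)) (.node (.leaf 2594) (.leaf 3588))) (.node (.node (.leaf 182) (.leaf 392)) (.node (.leaf 1562) (.leaf 321)))) (.node (.node (.node (.leaf 2042) (.leaf 3262)) (.node (.leaf 3678) (.leaf 1556))) (.node (.node (.leaf 3321) (.leaf 2384)) (.leaf 634)))) (.node (.node (.node (.node (.leaf 2054) (.leaf 1804)) (.node (.leaf 3274) (.leaf 2765))) (.node (.node (.leaf 959) (.leaf 2085)) (.leaf 343))) (.node (.node (.node (.leaf 1924) (.leaf 1231)) (.node (.leaf 2047) (.leaf 616))) (.node (.node (.leaf 3631) (.leaf 47)) (.leaf 2189))))))))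

def lineOrder8 : Janko.Tree (ℕ) :=
  (.node (.node (.node (.node (.node (.node (.node (.node (.leaf 248) (.leaf 2970)) (.node (.leaf 467) (.leaf 1768))) (.node (.node (.leaf 23) (.leaf 2041)) (.node (.leaf 3736) (.leaf 1248)))) (.node (.node (.node (.leaf 944) (.leaf 1414)) (.node (.leaf 3481) (.leaf 3250))) (.node (.node (.leaf 912) (.leaf 1875)) (.leaf 3416)))) (.node (.node (.node (.node (.leaf 2793) (.leaf 2964)) (.node (.leaf 998) (.leaf 203))) (.node (.node (.leaf 393) (.leaf 873)) (.node (.leaf 85) (.leaf 1698)))) (.node (.node (.node (.leaf 1868) (.leaf 1930)) (.node (.leaf 2707) (.leaf 920))) (.node (.node (.leaf 191) (.leaf 3020)) (.leaf 149))))) (.node (.node (.node (.node (.node (.leaf 3714) (.leaf 2669)) (.node (.leaf 2093) (.leaf 3368))) (.node (.node (.leaf 92) (.leaf 1105)) (.node (.leaf 1494) (.leaf 3613)))) (.node (.node (.node (.leaf 1771) (.leaf 198)) (.node (.leaf 1454) (.leaf 2667))) (.node (.node (.leaf 2386) (.leaf 3094)) (.leaf 1570)))) (.node (.node (.node (.node (.leaf 2048) (.leaf 623)) (.node (.leaf 1219) (.leaf 2238))) (.node (.node (.leaf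 3717) (.leaf 266)) (.leaf 3432))) (.node (.node (.node (.leaf 1347) (.leaf 3528)) (.node (.leaf 682) (.leaf 3302))) (.node (.node (.leaf 2474) (.leaf 851)) (.leaf 1757)))))) (.node (.node (.node (.node (.node (.node (.leaf 1475) (.leaf 1666)) (.node (.leaf 3239) (.leaf 31))) (.node (.node (.leaf 1661) (.leaf 2031)) (.node (.leaf 654) (.leaf 2246)))) (.node (.node (.node (.leaf 2998) (.leaf 747)) (.node (.leaf 3765) (.leaf 1961))) (.node (.node (.leaf 3350) (.leaf 520)) (.leaf 474)))) (.node (.node (.node (.node (.leaf 3608) (.leaf 3683)) (.node (.leaf 3474) (.leaf 931))) (.node (.node (.leaf 315) (.leaf 3574)) (.node (.leaf 3046) (.leaf 1536)))) (.node (.node (.node (.leaf 3682) (.leaf 868)) (.node (.leaf 2643) (.leaf 2889))) (.node (.node (.leaf 2097) (.leaf 716)) (.leaf 2838))))) (.node (.node (.node (.node (.node (.leaf 1834) (.leaf 3132)) (.node (.leaf 314) (.leaf 2719))) (.node (.node (.leaf 457) (.leaf 496)) (.node (.leaf 1374) (.leaf 1847)))) (.node (.node (.node (.leaf 2890) (.leaf 216)) (.node (.leaf 1571) (.leaf 3323))) (.node (.node (.leaf 1683) (.leaf 1721))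 (.leaf 1486)))) (.node (.node (.node (.node (.leaf 2245) (.leaf 3051)) (.node (.leaf 3195) (.leaf 491))) (.node (.node (.leaf 2077) (.leaf 745)) (.leaf 187))) (.node (.node (.node (.leaf 993) (.leaf 1161)) (.node (.leaf 1357) (.leaf 951))) (.node (.node (.leaf 594) (.leaf 2080)) (.leaf 3569))))))) (.node (.node (.node (.node (.node (.node (.node (.leaf 319) (.leaf 1669)) (.node (.leaf 1585) (.leaf 2418))) (.node (.node (.leaf 1967) (.leaf 2901)) (.node (.leaf 3237) (.leaf 950)))) (.node (.node (.node (.leaf 608) (.leaf 1559)) (.node (.leaf 2538) (.leaf 2865))) (.node (.node (.leaf 3024) (.leaf 1447)) (.leaf 726)))) (.node (.node (.node (.node (.leaf 18) (.leaf 755)) (.node (.leaf 3363) (.leaf 3106))) (.node (.node (.leaf 1230) (.leaf 1306)) (.node (.leaf 228) (.leaf 1607)))) (.node (.node (.node (.leaf 300) (.leaf 1319)) (.node (.leaf 400) (.leaf 3727))) (.node (.node (.leaf 556) (.leaf 2074)) (.leaf 1545))))) (.node (.node (.node (.node (.node (.leaf 877) (.leaf 3247)) (.node (.leaf 3324) (.leaf 2251))) (.node (.node (.leaf 7) (.leaf 1650)) (.node (.leaf 3079) (.leaf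 1311)))) (.node (.node (.node (.leaf 3586) (.leaf 1963)) (.node (.leaf 354) (.leaf 2625))) (.node (.node (.leaf 3014) (.leaf 1183)) (.leaf 3282)))) (.node (.node (.node (.node (.leaf 1682) (.leaf 3482)) (.node (.leaf 3386) (.leaf 3083))) (.node (.node (.leaf 2613) (.leaf 3246)) (.leaf 2746))) (.node (.node (.node (.leaf 753) (.leaf 1973)) (.node (.leaf 158) (.leaf 3133))) (.node (.node (.leaf 1733) (.leaf 1668)) (.leaf 539)))))) (.node (.node (.node (.node (.node (.node (.leaf 2020) (.leaf 3689)) (.node (.leaf 952) (.leaf 1496))) (.node (.node (.leaf 1026) (.leaf 2963)) (.node (.leaf 3091) (.leaf 2179)))) (.node (.node (.node (.leaf 2630) (.leaf 986)) (.node (.leaf 235) (.leaf 832))) (.node (.node (.leaf 3358) (.leaf 1395)) (.leaf 811)))) (.node (.node (.node (.node (.leaf 1101) (.leaf 397)) (.node (.leaf 3288) (.leaf 1433))) (.node (.node (.leaf 416) (.leaf 125)) (.node (.leaf 223) (.leaf 905)))) (.node (.node (.node (.leaf 2545) (.leaf 2368)) (.node (.leaf 1464) (.leaf 2718))) (.node (.node (.leaf 1758) (.leaf 3672)) (.leaf 3142))))) (.node (.node (.node (.node (.node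 (.leaf 802) (.leaf 1087)) (.node (.leaf 3644) (.leaf 2059))) (.node (.node (.leaf 302) (.leaf 2554)) (.node (.leaf 337) (.leaf 2480)))) (.node (.node (.node (.leaf 958) (.leaf 663)) (.node (.leaf 991) (.leaf 3684))) (.node (.node (.leaf 1468) (.leaf 2758)) (.leaf 1884)))) (.node (.node (.node (.node (.leaf 2164) (.leaf 1103)) (.node (.leaf 884) (.leaf 1787))) (.node (.node (.leaf 2607) (.leaf 11)) (.leaf 3436))) (.node (.node (.node (.leaf 3215) (.leaf 3480)) (.node (.leaf 1143) (.leaf 2603))) (.node (.node (.leaf 1225) (.leaf 3360)) (.leaf 2592))))))))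

def lineOrder9 : Janko.Tree (ℕ) :=
  (.node (.node (.node (.node (.node (.node (.node (.node (.leaf 2424) (.leaf 3696)) (.node (.leaf 2253) (.leaf 2585))) (.node (.node (.leaf 1870) (.leaf 936)) (.node (.leaf 44) (.leaf 56)))) (.node (.node (.node (.leaf 1393) (.leaf 2288)) (.node (.leaf 3536) (.leaf 1962))) (.node (.node (.leaf 1015) (.leaf 916)) (.leaf 1986)))) (.node (.node (.node (.node (.leaf 3400) (.leaf 680)) (.node (.leaf 850) (.leaf 2199))) (.node (.node (.leaf 1401) (.leaf 1929)) (.node (.leaf 3647) (.leaf 946)))) (.node (.node (.node (.leaf 332) (.leaf 2741)) (.node (.leaf 502) (.leaf 751))) (.node (.node (.leaf 3342) (.leaf 374)) (.leaf 1660))))) (.node (.node (.node (.node (.node (.leaf 2606) (.leaf 1421)) (.node (.leaf 1904) (.leaf 1294))) (.node (.node (.leaf 3447) (.leaf 2583)) (.node (.leaf 3364) (.leaf 2627)))) (.node (.node (.node (.leaf 1839) (.leaf 1635)) (.node (.leaf 518) (.leaf 267))) (.node (.node (.leaf 2872) (.leaf 1722)) (.leaf 1587)))) (.node (.node (.node (.node (.leaf 3635) (.leaf 1008)) (.node (.leaf 686) (.leaf 3127))) (.node (.node (.leaf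 2754) (.leaf 1949)) (.leaf 82))) (.node (.node (.node (.leaf 866) (.leaf 597)) (.node (.leaf 1577) (.leaf 1104))) (.node (.node (.leaf 1193) (.leaf 2495)) (.leaf 1031)))))) (.node (.node (.node (.node (.node (.node (.leaf 3458) (.leaf 1010)) (.node (.leaf 1140) (.leaf 3490))) (.node (.node (.leaf 2670) (.leaf 3589)) (.node (.leaf 3379) (.leaf 2119)))) (.node (.node (.node (.leaf 1703) (.leaf 592)) (.node (.leaf 2626) (.leaf 1575))) (.node (.node (.leaf 3680) (.leaf 3622)) (.leaf 481)))) (.node (.node (.node (.node (.leaf 1583) (.leaf 3606)) (.node (.leaf 2735) (.leaf 2678))) (.node (.node (.leaf 3422) (.leaf 441)) (.node (.leaf 2453) (.leaf 2908)))) (.node (.node (.node (.leaf 644) (.leaf 2029)) (.node (.leaf 3120) (.leaf 336))) (.node (.node (.leaf 399) (.leaf 3453)) (.leaf 2518))))) (.node (.node (.node (.node (.node (.leaf 2120) (.leaf 2785)) (.node (.leaf 1289) (.leaf 3163))) (.node (.node (.leaf 2539) (.leaf 517)) (.node (.leaf 1340) (.leaf 2704)))) (.node (.node (.node (.leaf 3157) (.leaf 448)) (.node (.leaf 2135) (.leaf 1702))) (.node (.node (.leaf 402) (.leaf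 2834)) (.leaf 25)))) (.node (.node (.node (.node (.leaf 1543) (.leaf 2918)) (.node (.leaf 1977) (.leaf 488))) (.node (.node (.leaf 1032) (.leaf 459)) (.leaf 364))) (.node (.node (.node (.leaf 658) (.leaf 2128)) (.node (.leaf 3058) (.leaf 288))) (.node (.node (.leaf 2709) (.leaf 2058)) (.leaf 1563))))))) (.node (.node (.node (.node (.node (.node (.node (.leaf 1410) (.leaf 1407)) (.node (.leaf 133) (.leaf 1989))) (.node (.node (.leaf 3590) (.leaf 32)) (.node (.leaf 1029) (.leaf 1770)))) (.node (.node (.node (.leaf 2994) (.leaf 3334)) (.node (.leaf 1269) (.leaf 2019))) (.node (.node (.leaf 1134) (.leaf 2844)) (.leaf 2661)))) (.node (.node (.node (.node (.leaf 2219) (.leaf 3667)) (.node (.leaf 104) (.leaf 848))) (.node (.node (.leaf 1915) (.leaf 1869)) (.node (.leaf 3122) (.leaf 2628)))) (.node (.node (.node (.leaf 2875) (.leaf 2461)) (.node (.leaf 2123) (.leaf 1435))) (.node (.node (.leaf 2725) (.leaf 3193)) (.leaf 226))))) (.node (.node (.node (.node (.node (.leaf 913) (.leaf 275)) (.node (.leaf 159) (.leaf 899))) (.node (.node (.leaf 3275) (.leaf 1305)) (.node (.leaf 3510)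 (.leaf 1402)))) (.node (.node (.node (.leaf 2605) (.leaf 574)) (.node (.leaf 2391) (.leaf 2883))) (.node (.node (.leaf 3330) (.leaf 935)) (.leaf 1692)))) (.node (.node (.node (.node (.leaf 123) (.leaf 607)) (.node (.leaf 2934) (.leaf 2469))) (.node (.node (.leaf 3448) (.leaf 3427)) (.leaf 1531))) (.node (.node (.node (.leaf 1522) (.leaf 3370)) (.node (.leaf 57) (.leaf 2297))) (.node (.node (.leaf 1375) (.leaf 2099)) (.leaf 3772)))))) (.node (.node (.node (.node (.node (.node (.leaf 2171) (.leaf 2915)) (.node (.leaf 2068) (.leaf 1606))) (.node (.node (.leaf 1807) (.leaf 3214)) (.node (.leaf 2298) (.leaf 933)))) (.node (.node (.node (.leaf 1828) (.leaf 875)) (.node (.leaf 815) (.leaf 1664))) (.node (.node (.leaf 102) (.leaf 939)) (.leaf 2736)))) (.node (.node (.node (.node (.leaf 1596) (.leaf 1528)) (.node (.leaf 122) (.leaf 2285))) (.node (.node (.leaf 234) (.leaf 204)) (.node (.leaf 3708) (.leaf 127)))) (.node (.node (.node (.leaf 590) (.leaf 24)) (.node (.leaf 320) (.leaf 140))) (.node (.node (.leaf 671) (.leaf 960)) (.leaf 475))))) (.node (.node (.node (.node (.node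 (.leaf 439) (.leaf 200)) (.node (.leaf 3421) (.leaf 2369))) (.node (.node (.leaf 880) (.leaf 3103)) (.node (.leaf 1382) (.leaf 382)))) (.node (.node (.node (.leaf 1485) (.leaf 2857)) (.node (.leaf 2568) (.leaf 1138))) (.node (.node (.leaf 3129) (.leaf 1285)) (.leaf 3545)))) (.node (.node (.node (.node (.leaf 3552) (.leaf 653)) (.node (.leaf 1354) (.leaf 3033))) (.node (.node (.leaf 1877) (.leaf 3686)) (.leaf 1984))) (.node (.node (.node (.leaf 1255) (.leaf 2423)) (.node (.leaf 2949) (.leaf 2727))) (.node (.node (.leaf 3492) (.leaf 2848)) (.leaf 2043))))))))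

def lineOrder10 : Janko.Tree (ℕ) :=
  (.node (.node (.node (.node (.node (.node (.node (.node (.leaf 3220) (.leaf 3313)) (.node (.leaf 1028) (.leaf 1200))) (.node (.node (.leaf 2672) (.leaf 1724)) (.node (.leaf 1184) (.leaf 2479)))) (.node (.node (.node (.leaf 53) (.leaf 433)) (.node (.leaf 2618) (.leaf 1969))) (.node (.node (.leaf 1893) (.leaf 1284)) (.leaf 801)))) (.node (.node (.node (.node (.leaf 1864) (.leaf 1761)) (.node (.leaf 734) (.leaf 1517))) (.node (.node (.leaf 816) (.leaf 440)) (.node (.leaf 1895) (.leaf 2947)))) (.node (.node (.node (.leaf 2830) (.leaf 1750)) (.node (.leaf 3353) (.leaf 2952))) (.node (.node (.leaf 460) (.leaf 2105)) (.leaf 479))))) (.node (.node (.node (.node (.node (.leaf 3639) (.leaf 871)) (.node (.leaf 295) (.leaf 1451))) (.node (.node (.leaf 40) (.leaf 2381)) (.node (.leaf 1108) (.leaf 258)))) (.node (.node (.node (.leaf 3150) (.leaf 2804)) (.node (.leaf 2489) (.leaf 937))) (.node (.node (.leaf 651) (.leaf 2341)) (.leaf 2157)))) (.node (.node (.node (.node (.leaf 1946) (.leaf 2923)) (.node (.leaf 989) (.leaf 2811))) (.node (.node (.leaf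 1348) (.leaf 3038)) (.leaf 3263))) (.node (.node (.node (.leaf 3687) (.leaf 341)) (.node (.leaf 1198) (.leaf 2614))) (.node (.node (.leaf 1918) (.leaf 1360)) (.leaf 2951)))))) (.node (.node (.node (.node (.node (.node (.leaf 2714) (.leaf 3760)) (.node (.leaf 2502) (.leaf 27))) (.node (.node (.leaf 244) (.leaf 3289)) (.node (.leaf 987) (.leaf 1387)))) (.node (.node (.node (.leaf 984) (.leaf 1073)) (.node (.leaf 2732) (.leaf 1824))) (.node (.node (.leaf 1706) (.leaf 2098)) (.leaf 692)))) (.node (.node (.node (.node (.leaf 3297) (.leaf 3346)) (.node (.leaf 114) (.leaf 428))) (.node (.node (.leaf 538) (.leaf 3236)) (.node (.leaf 2616) (.leaf 2303)))) (.node (.node (.node (.leaf 2932) (.leaf 2996)) (.node (.leaf 2354) (.leaf 2790))) (.node (.node (.leaf 3438) (.leaf 2705)) (.leaf 774))))) (.node (.node (.node (.node (.node (.leaf 1725) (.leaf 3616)) (.node (.leaf 730) (.leaf 2644))) (.node (.node (.leaf 562) (.leaf 2716)) (.node (.leaf 2855) (.leaf 2242)))) (.node (.node (.node (.leaf 2) (.leaf 1555)) (.node (.leaf 2270) (.leaf 741))) (.node (.node (.leaf 3646) (.leaf 3084))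 (.leaf 2898)))) (.node (.node (.node (.node (.leaf 1094) (.leaf 120)) (.node (.leaf 1880) (.leaf 1419))) (.node (.node (.leaf 2544) (.leaf 1472)) (.leaf 2462))) (.node (.node (.node (.leaf 419) (.leaf 3347)) (.node (.leaf 2968) (.leaf 1229))) (.node (.node (.leaf 2937) (.leaf 2723)) (.leaf 2126))))))) (.node (.node (.node (.node (.node (.node (.node (.leaf 3730) (.leaf 3725)) (.node (.leaf 3472) (.leaf 795))) (.node (.node (.leaf 220) (.leaf 1925)) (.node (.leaf 358) (.leaf 2387)))) (.node (.node (.node (.leaf 2232) (.leaf 2121)) (.node (.leaf 2575) (.leaf 2045))) (.node (.node (.leaf 852) (.leaf 1069)) (.leaf 227)))) (.node (.node (.node (.node (.leaf 2604) (.leaf 1189)) (.node (.leaf 2006) (.leaf 2329))) (.node (.node (.leaf 928) (.leaf 1879)) (.node (.leaf 897) (.leaf 3267)))) (.node (.node (.node (.leaf 1975) (.leaf 344)) (.node (.leaf 941) (.leaf 3457))) (.node (.node (.leaf 887) (.leaf 3299)) (.leaf 1302))))) (.node (.node (.node (.node (.node (.leaf 2328) (.leaf 2532)) (.node (.leaf 2481) (.leaf 3703))) (.node (.node (.leaf 2088) (.leaf 1675)) (.node (.leaf 3199)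 (.leaf 3075)))) (.node (.node (.node (.leaf 3276) (.leaf 512)) (.node (.leaf 3651) (.leaf 3310))) (.node (.node (.leaf 345) (.leaf 2262)) (.leaf 803)))) (.node (.node (.node (.node (.leaf 3189) (.leaf 945)) (.node (.leaf 1912) (.leaf 3076))) (.node (.node (.leaf 2660) (.leaf 134)) (.leaf 95))) (.node (.node (.node (.leaf 605) (.leaf 3116)) (.node (.leaf 1418) (.leaf 3125))) (.node (.node (.leaf 1831) (.leaf 1214)) (.leaf 647)))))) (.node (.node (.node (.node (.node (.node (.leaf 3284) (.leaf 2799)) (.node (.leaf 3485) (.leaf 1637))) (.node (.node (.leaf 3538) (.leaf 1438)) (.node (.leaf 253) (.leaf 817)))) (.node (.node (.node (.leaf 2175) (.leaf 956)) (.node (.leaf 1295) (.leaf 86))) (.node (.node (.leaf 2969) (.leaf 2862)) (.leaf 3345)))) (.node (.node (.node (.node (.leaf 2843) (.leaf 2320)) (.node (.leaf 2229) (.leaf 2327))) (.node (.node (.leaf 1561) (.leaf 533)) (.node (.leaf 1983) (.leaf 985)))) (.node (.node (.node (.leaf 1826) (.leaf 3221)) (.node (.leaf 3776) (.leaf 2757))) (.node (.node (.leaf 2798) (.leaf 26)) (.leaf 2721))))) (.node (.node (.node (.node (.node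 (.leaf 3245) (.leaf 2012)) (.node (.leaf 2684) (.leaf 2588))) (.node (.node (.leaf 3268) (.leaf 279)) (.node (.leaf 3078) (.leaf 1482)))) (.node (.node (.node (.leaf 746) (.leaf 3008)) (.node (.leaf 1194) (.leaf 2750))) (.node (.node (.leaf 1894) (.leaf 1263)) (.leaf 1199)))) (.node (.node (.node (.node (.leaf 3611) (.leaf 1851)) (.node (.leaf 350) (.leaf 2674))) (.node (.node (.leaf 1195) (.leaf 855)) (.leaf 1520))) (.node (.node (.node (.leaf 1222) (.leaf 3726)) (.node (.leaf 3710) (.leaf 3169))) (.node (.node (.leaf 508) (.leaf 568)) (.leaf 2570))))))))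

def lineOrder11 : Janko.Tree (ℕ) :=
  (.node (.node (.node (.node (.node (.node (.node (.node (.leaf 1339) (.leaf 394)) (.node (.leaf 1837) (.leaf 1158))) (.node (.node (.leaf 1812) (.leaf 1114)) (.node (.leaf 3225) (.leaf 2925)))) (.node (.node (.node (.leaf 3685) (.leaf 619)) (.node (.leaf 3468) (.leaf 1371))) (.node (.node (.leaf 1903) (.leaf 414)) (.leaf 649)))) (.node (.node (.node (.node (.leaf 1867) (.leaf 1572)) (.node (.leaf 3777) (.leaf 3713))) (.node (.node (.leaf 3626) (.leaf 1379)) (.node (.leaf 3642) (.leaf 1753)))) (.node (.node (.node (.leaf 307) (.leaf 2405)) (.node (.leaf 1832) (.leaf 1164))) (.node (.node (.leaf 1777) (.leaf 1747)) (.leaf 2633))))) (.node (.node (.node (.node (.node (.leaf 2542) (.leaf 3385)) (.node (.leaf 3653) (.leaf 1805))) (.node (.node (.leaf 1620) (.leaf 3486)) (.node (.leaf 391) (.leaf 2638)))) (.node (.node (.node (.leaf 0) (.leaf 1265)) (.node (.leaf 55) (.leaf 1628))) (.node (.node (.leaf 2281) (.leaf 2777)) (.leaf 3414)))) (.node (.node (.node (.node (.leaf 3567) (.leaf 966)) (.node (.leaf 3593) (.leaf 934))) (.node (.node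 (.leaf 1011) (.leaf 3314)) (.leaf 1910))) (.node (.node (.node (.leaf 3428) (.leaf 3178)) (.node (.leaf 2011) (.leaf 3465))) (.node (.node (.leaf 764) (.leaf 2173)) (.leaf 3244)))))) (.node (.node (.node (.node (.node (.node (.leaf 2845) (.leaf 3126)) (.node (.leaf 28) (.leaf 3194))) (.node (.node (.leaf 856) (.leaf 3054)) (.node (.leaf 2225) (.leaf 1742)))) (.node (.node (.node (.leaf 3451) (.leaf 889)) (.node (.leaf 1369) (.leaf 3520))) (.node (.node (.leaf 3026) (.leaf 1549)) (.leaf 1070)))) (.node (.node (.node (.node (.leaf 3565) (.leaf 1250)) (.node (.leaf 2185) (.leaf 135))) (.node (.node (.leaf 3509) (.leaf 1102)) (.node (.leaf 2877) (.leaf 1524)))) (.node (.node (.node (.leaf 2075) (.leaf 2698)) (.node (.leaf 2648) (.leaf 378))) (.node (.node (.leaf 2602) (.leaf 550)) (.leaf 1716))))) (.node (.node (.node (.node (.node (.leaf 1691) (.leaf 2784)) (.node (.leaf 903) (.leaf 3085))) (.node (.node (.leaf 2720) (.leaf 499)) (.node (.leaf 3012) (.leaf 922)))) (.node (.node (.node (.leaf 3582) (.leaf 2102)) (.node (.leaf 1921) (.leaf 3484))) (.node (.node (.leaf 1063)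 (.leaf 924)) (.leaf 222)))) (.node (.node (.node (.node (.leaf 2202) (.leaf 584)) (.node (.leaf 1942) (.leaf 1403))) (.node (.node (.leaf 971) (.leaf 2499)) (.leaf 1809))) (.node (.node (.node (.leaf 3063) (.leaf 1042)) (.node (.leaf 3692) (.leaf 3464))) (.node (.node (.leaf 1957) (.leaf 1603)) (.leaf 3355))))))) (.node (.node (.node (.node (.node (.node (.node (.leaf 1297) (.leaf 2438)) (.node (.leaf 1213) (.leaf 3652))) (.node (.node (.leaf 2358) (.leaf 1322)) (.node (.leaf 3699) (.leaf 3392)))) (.node (.node (.node (.leaf 3019) (.leaf 1633)) (.node (.leaf 2831) (.leaf 1518))) (.node (.node (.leaf 2557) (.leaf 310)) (.leaf 1781)))) (.node (.node (.node (.node (.leaf 643) (.leaf 1980)) (.node (.leaf 694) (.leaf 2086))) (.node (.node (.leaf 2443) (.leaf 1887)) (.node (.leaf 676) (.leaf 217)))) (.node (.node (.node (.leaf 823) (.leaf 3473)) (.node (.leaf 12) (.leaf 1712))) (.node (.node (.leaf 450) (.leaf 385)) (.leaf 3551))))) (.node (.node (.node (.node (.node (.leaf 896) (.leaf 3705)) (.node (.leaf 1366) (.leaf 262))) (.node (.node (.leaf 954) (.leaf 1780)) (.node (.leaf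 2856) (.leaf 1707)))) (.node (.node (.node (.leaf 3477) (.leaf 1550)) (.node (.leaf 3325) (.leaf 138))) (.node (.node (.leaf 372) (.leaf 317)) (.leaf 3561)))) (.node (.node (.node (.node (.leaf 2762) (.leaf 3600)) (.node (.leaf 1137) (.leaf 1405))) (.node (.node (.leaf 3161) (.leaf 2768)) (.leaf 74))) (.node (.node (.node (.leaf 2046) (.leaf 501)) (.node (.leaf 59) (.leaf 3031))) (.node (.node (.leaf 3149) (.leaf 1720)) (.leaf 3636)))))) (.node (.node (.node (.node (.node (.node (.leaf 1470) (.leaf 1874)) (.node (.leaf 3111) (.leaf 1567))) (.node (.node (.leaf 2109) (.leaf 675)) (.node (.leaf 2340) (.leaf 1782)))) (.node (.node (.node (.leaf 2833) (.leaf 2671)) (.node (.leaf 2333) (.leaf 1842))) (.node (.node (.leaf 2210) (.leaf 2383)) (.leaf 3017)))) (.node (.node (.node (.node (.leaf 2178) (.leaf 3039)) (.node (.leaf 1058) (.leaf 1201))) (.node (.node (.leaf 2017) (.leaf 1709)) (.node (.leaf 3534) (.leaf 1389)))) (.node (.node (.node (.leaf 1638) (.leaf 783)) (.node (.leaf 2183) (.leaf 1590))) (.node (.node (.leaf 58) (.leaf 2688)) (.leaf 506))))) (.node (.node (.node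 (.node (.node (.leaf 1003) (.leaf 2268)) (.node (.leaf 1355) (.leaf 2812))) (.node (.node (.leaf 2151) (.leaf 965)) (.node (.leaf 1993) (.leaf 2597)))) (.node (.node (.node (.leaf 979) (.leaf 285)) (.node (.leaf 2635) (.leaf 3187))) (.node (.node (.leaf 2206) (.leaf 3483)) (.leaf 1643)))) (.node (.node (.node (.node (.leaf 3073) (.leaf 2503)) (.node (.leaf 2170) (.leaf 3181))) (.node (.node (.leaf 3519) (.leaf 1654)) (.leaf 804))) (.node (.node (.node (.leaf 3293) (.leaf 1744)) (.node (.leaf 3543) (.leaf 1931))) (.node (.node (.leaf 910) (.leaf 1988)) (.leaf 2600))))))))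

def lineOrder12 : Janko.Tree (ℕ) :=
  (.node (.node (.node (.node (.node (.node (.node (.node (.leaf 1445) (.leaf 3179)) (.node (.leaf 2851) (.leaf 2897))) (.node (.node (.leaf 367) (.leaf 2537)) (.node (.leaf 208) (.leaf 3661)))) (.node (.node (.node (.leaf 1290) (.leaf 2745)) (.node (.leaf 1089) (.leaf 3165))) (.node (.node (.leaf 2291) (.leaf 3000)) (.leaf 3412)))) (.node (.node (.node (.node (.leaf 1080) (.leaf 1940)) (.node (.leaf 291) (.leaf 420))) (.node (.node (.leaf 1331) (.leaf 1356)) (.node (.leaf 3443) (.leaf 833)))) (.node (.node (.node (.leaf 2534) (.leaf 88)) (.node (.leaf 2221) (.leaf 91))) (.node (.node (.leaf 2089) (.leaf 1259)) (.leaf 3287))))) (.node (.node (.node (.node (.node (.leaf 2962) (.leaf 1244)) (.node (.leaf 2802) (.leaf 30))) (.node (.node (.leaf 239) (.leaf 2130)) (.node (.leaf 3331) (.leaf 1527)))) (.node (.node (.node (.leaf 2013) (.leaf 2713)) (.node (.leaf 2439) (.leaf 1394))) (.node (.node (.leaf 2377) (.leaf 2695)) (.leaf 1364)))) (.node (.node (.node (.node (.leaf 2256) (.leaf 2073)) (.node (.leaf 1327) (.leaf 881))) (.node (.node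 (.leaf 19) (.leaf 969)) (.leaf 2989))) (.node (.node (.node (.leaf 2956) (.leaf 2110)) (.node (.leaf 655) (.leaf 1444))) (.node (.node (.leaf 1492) (.leaf 3028)) (.leaf 63)))))) (.node (.node (.node (.node (.node (.node (.leaf 3494) (.leaf 3375)) (.node (.leaf 2038) (.leaf 2640))) (.node (.node (.leaf 1688) (.leaf 1044)) (.node (.leaf 2143) (.leaf 1627)))) (.node (.node (.node (.leaf 999) (.leaf 426)) (.node (.leaf 3728) (.leaf 36))) (.node (.node (.leaf 3516) (.leaf 948)) (.leaf 648)))) (.node (.node (.node (.node (.leaf 370) (.leaf 1489)) (.node (.leaf 2710) (.leaf 2072))) (.node (.node (.leaf 2035) (.leaf 1693)) (.node (.leaf 847) (.leaf 2612)))) (.node (.node (.node (.leaf 1631) (.leaf 1481)) (.node (.leaf 598) (.leaf 672))) (.node (.node (.leaf 1679) (.leaf 255)) (.leaf 808))))) (.node (.node (.node (.node (.node (.leaf 1422) (.leaf 1377)) (.node (.leaf 1262) (.leaf 1785))) (.node (.node (.leaf 2729) (.leaf 2426)) (.node (.leaf 264) (.leaf 2208)))) (.node (.node (.node (.leaf 526) (.leaf 2263)) (.node (.leaf 1341) (.leaf 1994))) (.node (.node (.leaf 1245) (.leaf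 1945)) (.leaf 857)))) (.node (.node (.node (.node (.leaf 1021) (.leaf 2125)) (.node (.leaf 661) (.leaf 2145))) (.node (.node (.leaf 1659) (.leaf 2527)) (.leaf 172))) (.node (.node (.node (.leaf 1841) (.leaf 1515)) (.node (.leaf 2509) (.leaf 1205))) (.node (.node (.leaf 3180) (.leaf 3354)) (.leaf 436))))))) (.node (.node (.node (.node (.node (.node (.node (.leaf 176) (.leaf 254)) (.node (.leaf 3152) (.leaf 1751))) (.node (.node (.leaf 1622) (.leaf 3769)) (.node (.leaf 858) (.leaf 1764)))) (.node (.node (.node (.leaf 1741) (.leaf 1353)) (.node (.leaf 812) (.leaf 1299))) (.node (.node (.leaf 2677) (.leaf 2186)) (.leaf 637)))) (.node (.node (.node (.node (.leaf 3096) (.leaf 308)) (.node (.leaf 1535) (.leaf 33))) (.node (.node (.leaf 1916) (.leaf 3662)) (.node (.leaf 3327) (.leaf 2782)))) (.node (.node (.node (.leaf 1902) (.leaf 1203)) (.node (.leaf 48) (.leaf 188))) (.node (.node (.leaf 798) (.leaf 2326)) (.leaf 2936))))) (.node (.node (.node (.node (.node (.leaf 487) (.leaf 251)) (.node (.leaf 1701) (.leaf 773))) (.node (.node (.leaf 2786) (.leaf 1317)) (.node (.leaf 3349)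 (.leaf 2309)))) (.node (.node (.node (.leaf 1897) (.leaf 1085)) (.node (.leaf 1266) (.leaf 2809))) (.node (.node (.leaf 466) (.leaf 1830)) (.leaf 2252)))) (.node (.node (.node (.node (.leaf 2569) (.leaf 1749)) (.node (.leaf 1359) (.leaf 2528))) (.node (.node (.leaf 75) (.leaf 3751)) (.leaf 1461))) (.node (.node (.node (.leaf 2510) (.leaf 442)) (.node (.leaf 557) (.leaf 418))) (.node (.node (.leaf 238) (.leaf 1899)) (.leaf 3219)))))) (.node (.node (.node (.node (.node (.node (.leaf 2679) (.leaf 1933)) (.node (.leaf 2069) (.leaf 155))) (.node (.node (.leaf 724) (.leaf 365)) (.node (.leaf 2530) (.leaf 864)))) (.node (.node (.node (.leaf 2579) (.leaf 1075)) (.node (.leaf 2473) (.leaf 60))) (.node (.node (.leaf 3203) (.leaf 1473)) (.leaf 2722)))) (.node (.node (.node (.node (.leaf 1457) (.leaf 3361)) (.node (.leaf 606) (.leaf 3257))) (.node (.node (.leaf 2632) (.leaf 1173)) (.node (.leaf 492) (.leaf 3691)))) (.node (.node (.node (.leaf 3202) (.leaf 829)) (.node (.leaf 1038) (.leaf 2240))) (.node (.node (.leaf 5) (.leaf 1050)) (.leaf 819))))) (.node (.node (.node (.node (.node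 (.leaf 510) (.leaf 1092)) (.node (.leaf 826) (.leaf 1202))) (.node (.node (.leaf 3525) (.leaf 1408)) (.node (.leaf 15) (.leaf 788)))) (.node (.node (.node (.leaf 1642) (.leaf 2322)) (.node (.leaf 1978) (.leaf 2525))) (.node (.node (.leaf 973) (.leaf 2796)) (.leaf 689)))) (.node (.node (.node (.node (.leaf 3229) (.leaf 3228)) (.node (.leaf 1024) (.leaf 3508))) (.node (.node (.leaf 46) (.leaf 108)) (.leaf 3380))) (.node (.node (.node (.leaf 3505) (.leaf 105)) (.node (.leaf 1950) (.leaf 2087))) (.node (.node (.leaf 484) (.leaf 990)) (.leaf 1901))))))))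

def lineOrder13 : Janko.Tree (ℕ) :=
  (.node (.node (.node (.node (.node (.node (.node (.node (.leaf 2104) (.leaf 3778)) (.node (.leaf 894) (.leaf 3632))) (.node (.node (.leaf 1672) (.leaf 1926)) (.node (.leaf 683) (.leaf 3065)))) (.node (.node (.node (.leaf 1220) (.leaf 3292)) (.node (.leaf 245) (.leaf 1539))) (.node (.node (.leaf 2774) (.leaf 289)) (.leaf 2821)))) (.node (.node (.node (.node (.leaf 2427) (.leaf 1386)) (.node (.leaf 771) (.leaf 1796))) (.node (.node (.leaf 898) (.leaf 3104)) (.node (.leaf 68) (.leaf 1090)))) (.node (.node (.node (.leaf 3396) (.leaf 1345)) (.node (.leaf 800) (.leaf 2816))) (.node (.node (.leaf 2642) (.leaf 2207)) (.leaf 3235))))) (.node (.node (.node (.node (.node (.leaf 1006) (.leaf 1304)) (.node (.leaf 334) (.leaf 1236))) (.node (.node (.leaf 66) (.leaf 161)) (.node (.leaf 697) (.leaf 1800)))) (.node (.node (.node (.leaf 739) (.leaf 1820)) (.node (.leaf 2277) (.leaf 261))) (.node (.node (.leaf 1210) (.leaf 3540)) (.leaf 10)))) (.node (.node (.node (.node (.leaf 1437) (.leaf 1845)) (.node (.leaf 1249) (.leaf 2150))) (.node (.node (.leaf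 3676) (.leaf 463)) (.leaf 2753))) (.node (.node (.node (.leaf 2942) (.leaf 2547)) (.node (.leaf 3437) (.leaf 209))) (.node (.node (.leaf 1115) (.leaf 2264)) (.leaf 3042)))))) (.node (.node (.node (.node (.node (.node (.leaf 3258) (.leaf 118)) (.node (.leaf 2331) (.leaf 2795))) (.node (.node (.leaf 346) (.leaf 678)) (.node (.leaf 3658) (.leaf 1667)))) (.node (.node (.node (.leaf 1974) (.leaf 1823)) (.node (.leaf 1646) (.leaf 3698))) (.node (.node (.leaf 3036) (.leaf 3424)) (.leaf 83)))) (.node (.node (.node (.node (.leaf 1913) (.leaf 3109)) (.node (.leaf 807) (.leaf 707))) (.node (.node (.leaf 2978) (.leaf 3655)) (.node (.leaf 1279) (.leaf 3743)))) (.node (.node (.node (.leaf 967) (.leaf 657)) (.node (.leaf 3542) (.leaf 1681))) (.node (.node (.leaf 3603) (.leaf 270)) (.leaf 1987))))) (.node (.node (.node (.node (.node (.leaf 1013) (.leaf 3010)) (.node (.leaf 737) (.leaf 260))) (.node (.node (.leaf 3752) (.leaf 914)) (.node (.leaf 2448) (.leaf 3166)))) (.node (.node (.node (.leaf 1504) (.leaf 236)) (.node (.leaf 729) (.leaf 1191))) (.node (.node (.leaf 725) (.leaf 2191))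 (.leaf 1697)))) (.node (.node (.node (.node (.leaf 2617) (.leaf 1645)) (.node (.leaf 50) (.leaf 2864))) (.node (.node (.leaf 522) (.leaf 1755)) (.leaf 179))) (.node (.node (.node (.leaf 2364) (.leaf 2399)) (.node (.leaf 1399) (.leaf 3185))) (.node (.node (.leaf 3507) (.leaf 97)) (.leaf 3035))))))) (.node (.node (.node (.node (.node (.node (.node (.leaf 41) (.leaf 1684)) (.node (.leaf 2361) (.leaf 2734))) (.node (.node (.leaf 704) (.leaf 101)) (.node (.leaf 2176) (.leaf 2950)))) (.node (.node (.node (.leaf 2781) (.leaf 3556)) (.node (.leaf 3530) (.leaf 3029))) (.node (.node (.leaf 3115) (.leaf 844)) (.leaf 3524)))) (.node (.node (.node (.node (.leaf 786) (.leaf 3775)) (.node (.leaf 408) (.leaf 2196))) (.node (.node (.leaf 552) (.leaf 497)) (.node (.leaf 2596) (.leaf 1370)))) (.node (.node (.node (.leaf 688) (.leaf 2990)) (.node (.leaf 1591) (.leaf 1318))) (.node (.node (.leaf 1726) (.leaf 2694)) (.leaf 2160))))) (.node (.node (.node (.node (.node (.leaf 3307) (.leaf 3376)) (.node (.leaf 2820) (.leaf 1529))) (.node (.node (.leaf 423) (.leaf 756)) (.node (.leaf 558) (.leaf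 73)))) (.node (.node (.node (.leaf 1811) (.leaf 1532)) (.node (.leaf 2137) (.leaf 398))) (.node (.node (.leaf 219) (.leaf 3511)) (.leaf 1145)))) (.node (.node (.node (.node (.leaf 2204) (.leaf 874)) (.node (.leaf 1519) (.leaf 3558))) (.node (.node (.leaf 327) (.leaf 731)) (.leaf 3272))) (.node (.node (.node (.leaf 2829) (.leaf 2563)) (.node (.leaf 1798) (.leaf 3619))) (.node (.node (.leaf 2696) (.leaf 2587)) (.leaf 2420)))))) (.node (.node (.node (.node (.node (.node (.leaf 3759) (.leaf 744)) (.node (.leaf 2921) (.leaf 2227))) (.node (.node (.leaf 3420) (.leaf 1440)) (.node (.leaf 84) (.leaf 3356)))) (.node (.node (.node (.leaf 296) (.leaf 513)) (.node (.leaf 1938) (.leaf 3140))) (.node (.node (.leaf 282) (.leaf 3750)) (.leaf 2344)))) (.node (.node (.node (.node (.leaf 3578) (.leaf 2237)) (.node (.leaf 1784) (.leaf 421))) (.node (.node (.leaf 1169) (.leaf 1139)) (.node (.leaf 2345) (.leaf 3771)))) (.node (.node (.node (.leaf 1611) (.leaf 2372)) (.node (.leaf 3656) (.leaf 749))) (.node (.node (.leaf 1876) (.leaf 1253)) (.leaf 3197))))) (.node (.node (.node (.node (.node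 (.leaf 930) (.leaf 3397)) (.node (.leaf 1840) (.leaf 569))) (.node (.node (.leaf 2447) (.leaf 1466)) (.node (.leaf 1953) (.leaf 1772)))) (.node (.node (.node (.leaf 482) (.leaf 2050)) (.node (.leaf 2593) (.leaf 2689))) (.node (.node (.leaf 1700) (.leaf 2991)) (.leaf 3758)))) (.node (.node (.node (.node (.leaf 2619) (.leaf 1388)) (.node (.leaf 3471) (.leaf 702))) (.node (.node (.leaf 1943) (.leaf 277)) (.leaf 1343))) (.node (.node (.node (.leaf 3381) (.leaf 583)) (.node (.leaf 2235) (.leaf 2769))) (.node (.node (.leaf 3452) (.leaf 738)) (.leaf 1373))))))))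

def lineOrder14 : Janko.Tree (ℕ) :=
  (.node (.node (.node (.node (.node (.node (.node (.node (.leaf 1045) (.leaf 2478)) (.node (.leaf 1779) (.leaf 3607))) (.node (.node (.leaf 3071) (.leaf 3032)) (.node (.leaf 1927) (.leaf 3184)))) (.node (.node (.node (.leaf 953) (.leaf 1148)) (.node (.leaf 2531) (.leaf 3357))) (.node (.node (.leaf 2082) (.leaf 1146)) (.leaf 3175)))) (.node (.node (.node (.node (.leaf 3136) (.leaf 2692)) (.node (.leaf 1018) (.leaf 646))) (.node (.node (.leaf 3409) (.leaf 1150)) (.node (.leaf 2241) (.leaf 1223)))) (.node (.node (.node (.leaf 2231) (.leaf 2871)) (.node (.leaf 2520) (.leaf 2483))) (.node (.node (.leaf 602) (.leaf 322)) (.leaf 627))))) (.node (.node (.node (.node (.node (.leaf 1582) (.leaf 1273)) (.node (.leaf 3298) (.leaf 2960))) (.node (.node (.leaf 3531) (.leaf 2065)) (.node (.leaf 3099) (.leaf 1883)))) (.node (.node (.node (.leaf 736) (.leaf 3082)) (.node (.leaf 740) (.leaf 3585))) (.node (.node (.leaf 529) (.leaf 413)) (.leaf 3383)))) (.node (.node (.node (.node (.leaf 3344) (.leaf 412)) (.node (.leaf 3562) (.leaf 390))) (.node (.node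 (.leaf 2884) (.leaf 165)) (.leaf 750))) (.node (.node (.node (.leaf 2559) (.leaf 3617)) (.node (.leaf 1309) (.leaf 1439))) (.node (.node (.leaf 2360) (.leaf 3549)) (.leaf 3072)))))) (.node (.node (.node (.node (.node (.node (.leaf 2037) (.leaf 1286)) (.node (.leaf 712) (.leaf 3638))) (.node (.node (.leaf 3177) (.leaf 2428)) (.node (.leaf 1157) (.leaf 2659)))) (.node (.node (.node (.leaf 1584) (.leaf 1352)) (.node (.leaf 1728) (.leaf 1516))) (.node (.node (.leaf 1673) (.leaf 2636)) (.leaf 3445)))) (.node (.node (.node (.node (.leaf 3155) (.leaf 1215)) (.node (.leaf 2260) (.leaf 196))) (.node (.node (.leaf 1906) (.leaf 639)) (.node (.leaf 839) (.leaf 728)))) (.node (.node (.node (.leaf 181) (.leaf 2783)) (.node (.leaf 2825) (.leaf 2965))) (.node (.node (.leaf 1634) (.leaf 614)) (.leaf 2347))))) (.node (.node (.node (.node (.node (.leaf 1188) (.leaf 2148)) (.node (.leaf 1292) (.leaf 1657))) (.node (.node (.leaf 818) (.leaf 727)) (.node (.leaf 1685) (.leaf 2827)))) (.node (.node (.node (.leaf 1056) (.leaf 1112)) (.node (.leaf 919) (.leaf 3763))) (.node (.node (.leaf 3123)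 (.leaf 3402)) (.leaf 178)))) (.node (.node (.node (.node (.leaf 3707) (.leaf 1124)) (.node (.leaf 549) (.leaf 2492))) (.node (.node (.leaf 3322) (.leaf 2198)) (.leaf 3506))) (.node (.node (.node (.leaf 3434) (.leaf 338)) (.node (.leaf 1180) (.leaf 524))) (.node (.node (.leaf 243) (.leaf 780)) (.leaf 1821))))))) (.node (.node (.node (.node (.node (.node (.node (.leaf 2224) (.leaf 3459)) (.node (.leaf 2243) (.leaf 90))) (.node (.node (.leaf 306) (.leaf 1530)) (.node (.leaf 888) (.leaf 949)))) (.node (.node (.node (.leaf 2295) (.leaf 328)) (.node (.leaf 580) (.leaf 3770))) (.node (.node (.leaf 2561) (.leaf 1794)) (.leaf 424)))) (.node (.node (.node (.node (.leaf 765) (.leaf 3040)) (.node (.leaf 1242) (.leaf 2339))) (.node (.node (.leaf 2985) (.leaf 1221)) (.node (.leaf 2657) (.leaf 537)))) (.node (.node (.node (.leaf 2455) (.leaf 1732)) (.node (.leaf 787) (.leaf 3774))) (.node (.node (.leaf 2180) (.leaf 144)) (.leaf 3339))))) (.node (.node (.node (.node (.node (.leaf 1495) (.leaf 233)) (.node (.leaf 1274) (.leaf 1125))) (.node (.node (.leaf 3308) (.leaf 1162)) (.node (.leaf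 699) (.leaf 324)))) (.node (.node (.node (.leaf 195) (.leaf 1860)) (.node (.leaf 3217) (.leaf 2410))) (.node (.node (.leaf 3627) (.leaf 664)) (.leaf 2646)))) (.node (.node (.node (.node (.leaf 2373) (.leaf 3405)) (.node (.leaf 3463) (.leaf 1762))) (.node (.node (.leaf 106) (.leaf 2576)) (.leaf 938))) (.node (.node (.node (.leaf 2702) (.leaf 1792)) (.node (.leaf 2995) (.leaf 1118))) (.node (.node (.leaf 666) (.leaf 2214)) (.leaf 2282)))))) (.node (.node (.node (.node (.node (.node (.leaf 1400) (.leaf 1576)) (.node (.leaf 1694) (.leaf 1117))) (.node (.node (.leaf 611) (.leaf 3695)) (.node (.leaf 2414) (.leaf 2287)))) (.node (.node (.node (.leaf 1745) (.leaf 1863)) (.node (.leaf 3721) (.leaf 2567))) (.node (.node (.leaf 326) (.leaf 2846)) (.leaf 194)))) (.node (.node (.node (.node (.leaf 3171) (.leaf 2024)) (.node (.leaf 853) (.leaf 96))) (.node (.node (.leaf 645) (.leaf 256)) (.node (.leaf 3579) (.leaf 1083)))) (.node (.node (.node (.leaf 162) (.leaf 532)) (.node (.leaf 2752) (.leaf 2810))) (.node (.node (.leaf 2370) (.leaf 3009)) (.leaf 432))))) (.node (.node (.node (.node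 (.node (.leaf 2078) (.leaf 2398)) (.node (.leaf 2652) (.leaf 1574))) (.node (.node (.leaf 2278) (.leaf 274)) (.node (.leaf 1793) (.leaf 1759)))) (.node (.node (.node (.leaf 696) (.leaf 2907)) (.node (.leaf 3227) (.leaf 2076))) (.node (.node (.leaf 3285) (.leaf 1037)) (.leaf 2676)))) (.node (.node (.node (.node (.leaf 836) (.leaf 3102)) (.node (.leaf 163) (.leaf 1211))) (.node (.node (.leaf 3338) (.leaf 859)) (.leaf 2522))) (.node (.node (.node (.leaf 3570) (.leaf 2257)) (.node (.leaf 3296) (.leaf 3690))) (.node (.node (.leaf 3135) (.leaf 190)) (.leaf 81))))))))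

def lineOrder15 : Janko.Tree (ℕ) :=
  (.node (.node (.node (.node (.node (.node (.node (.node (.leaf 3523) (.leaf 214)) (.node (.leaf 2188) (.leaf 3643))) (.node (.node (.leaf 2581) (.leaf 2840)) (.node (.leaf 2926) (.leaf 2959)))) (.node (.node (.node (.leaf 1540) (.leaf 2629)) (.node (.leaf 3731) (.leaf 560))) (.node (.node (.leaf 3671) (.leaf 1432)) (.leaf 1179)))) (.node (.node (.node (.node (.leaf 544) (.leaf 3394)) (.node (.leaf 3533) (.leaf 1815))) (.node (.node (.leaf 909) (.leaf 2187)) (.node (.leaf 2803) (.leaf 2378)))) (.node (.node (.node (.leaf 1333) (.leaf 124)) (.node (.leaf 3259) (.leaf 3597))) (.node (.node (.leaf 2244) (.leaf 1871)) (.leaf 1735))))) (.node (.node (.node (.node (.node (.leaf 3650) (.leaf 376)) (.node (.leaf 171) (.leaf 453))) (.node (.node (.leaf 2112) (.leaf 3478)) (.node (.leaf 3373) (.leaf 1934)))) (.node (.node (.node (.leaf 2863) (.leaf 1788)) (.node (.leaf 213) (.leaf 1086))) (.node (.node (.leaf 1207) (.leaf 3694)) (.leaf 2497)))) (.node (.node (.node (.node (.leaf 893) (.leaf 1293)) (.node (.leaf 3378) (.leaf 395))) (.node (.node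 (.leaf 982) (.leaf 831)) (.leaf 3754))) (.node (.node (.node (.leaf 2578) (.leaf 1541)) (.node (.leaf 505) (.leaf 456))) (.node (.node (.leaf 212) (.leaf 878)) (.leaf 2885)))))) (.node (.node (.node (.node (.node (.node (.leaf 1081) (.leaf 2079)) (.node (.leaf 2158) (.leaf 1619))) (.node (.node (.leaf 3151) (.leaf 9)) (.node (.leaf 2261) (.leaf 2471)))) (.node (.node (.node (.leaf 240) (.leaf 2107)) (.node (.leaf 2071) (.leaf 2113))) (.node (.node (.leaf 3581) (.leaf 3739)) (.leaf 743)))) (.node (.node (.node (.node (.leaf 2318) (.leaf 1313)) (.node (.leaf 1000) (.leaf 1891))) (.node (.node (.leaf 1992) (.leaf 87)) (.node (.leaf 860) (.leaf 3158)))) (.node (.node (.node (.leaf 1412) (.leaf 3069)) (.node (.leaf 2778) (.leaf 1857))) (.node (.node (.leaf 3218) (.leaf 1450)) (.leaf 3404))))) (.node (.node (.node (.node (.node (.leaf 3316) (.leaf 272)) (.node (.leaf 554) (.leaf 316))) (.node (.node (.leaf 2639) (.leaf 246)) (.node (.leaf 2763) (.leaf 2124)))) (.node (.node (.node (.leaf 231) (.leaf 2335)) (.node (.leaf 205) (.leaf 1544))) (.node (.node (.leaf 2706) (.leaf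 265)) (.leaf 1888)))) (.node (.node (.node (.node (.leaf 2792) (.leaf 309)) (.node (.leaf 3124) (.leaf 2916))) (.node (.node (.leaf 1429) (.leaf 2655)) (.leaf 2203))) (.node (.node (.node (.leaf 1866) (.leaf 2302)) (.node (.leaf 3518) (.leaf 3610))) (.node (.node (.leaf 1534) (.leaf 1854)) (.leaf 943))))))) (.node (.node (.node (.node (.node (.node (.node (.leaf 902) (.leaf 1778)) (.node (.leaf 3395) (.leaf 845))) (.node (.node (.leaf 3022) (.leaf 2248)) (.node (.leaf 2394) (.leaf 3573)))) (.node (.node (.node (.leaf 2598) (.leaf 2355)) (.node (.leaf 1076) (.leaf 2352))) (.node (.node (.leaf 2711) (.leaf 3305)) (.leaf 2772)))) (.node (.node (.node (.node (.leaf 1254) (.leaf 3435)) (.node (.leaf 2457) (.leaf 1696))) (.node (.node (.leaf 1687) (.leaf 1537)) (.node (.leaf 1027) (.leaf 1178)))) (.node (.node (.node (.leaf 2144) (.leaf 99)) (.node (.leaf 1237) (.leaf 14))) (.node (.node (.leaf 591) (.leaf 2168)) (.leaf 3097))))) (.node (.node (.node (.node (.node (.leaf 111) (.leaf 632)) (.node (.leaf 2450) (.leaf 932))) (.node (.node (.leaf 2755) (.leaf 2296)) (.node (.leaf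 1581) (.leaf 168)))) (.node (.node (.node (.leaf 2591) (.leaf 3566)) (.node (.leaf 617) (.leaf 237))) (.node (.node (.leaf 2440) (.leaf 1390)) (.leaf 1074)))) (.node (.node (.node (.node (.leaf 1568) (.leaf 2818)) (.node (.leaf 2129) (.leaf 2906))) (.node (.node (.leaf 822) (.leaf 137)) (.leaf 980))) (.node (.node (.node (.leaf 2016) (.leaf 3156)) (.node (.leaf 1257) (.leaf 8))) (.node (.node (.leaf 2412) (.leaf 351)) (.leaf 1235)))))) (.node (.node (.node (.node (.node (.node (.leaf 2552) (.leaf 3265)) (.node (.leaf 2055) (.leaf 2824))) (.node (.node (.leaf 2658) (.leaf 1621)) (.node (.leaf 2415) (.leaf 1644)))) (.node (.node (.node (.leaf 2944) (.leaf 523)) (.node (.leaf 1113) (.leaf 1127))) (.node (.node (.leaf 45) (.leaf 3605)) (.leaf 3527)))) (.node (.node (.node (.node (.leaf 2935) (.leaf 1007)) (.node (.leaf 2675) (.leaf 589))) (.node (.node (.leaf 3521) (.leaf 3301)) (.node (.leaf 170) (.leaf 503)))) (.node (.node (.node (.leaf 1135) (.leaf 2814)) (.node (.leaf 3674) (.leaf 1096))) (.node (.node (.leaf 103) (.leaf 1526)) (.leaf 1209))))) (.node (.node (.node (.node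 (.node (.leaf 142) (.leaf 2766)) (.node (.leaf 1738) (.leaf 3732))) (.node (.node (.leaf 1391) (.leaf 1872)) (.node (.leaf 2928) (.leaf 78)))) (.node (.node (.node (.leaf 283) (.leaf 1838)) (.node (.leaf 2388) (.leaf 403))) (.node (.node (.leaf 3223) (.leaf 485)) (.leaf 662)))) (.node (.node (.node (.node (.leaf 2957) (.leaf 3372)) (.node (.leaf 2867) (.leaf 1280))) (.node (.node (.leaf 3382) (.leaf 1608)) (.leaf 1321))) (.node (.node (.node (.leaf 762) (.leaf 604)) (.node (.leaf 2323) (.leaf 1398))) (.node (.node (.leaf 150) (.leaf 410)) (.leaf 1005))))))))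

def lineOrder : Janko.Tree (ℕ) :=
  (.node (.node (.node (.node lineOrder0 lineOrder8) (.node lineOrder4 lineOrder12)) (.node (.node lineOrder2 lineOrder10) (.node lineOrder6 lineOrder14))) (.node (.node (.node lineOrder1 lineOrder9) (.node lineOrder5 lineOrder13)) (.node (.node lineOrder3 lineOrder11) (.node lineOrder7 lineOrder15))))

def baseVec : ℕ := 2251799947915265

end Cfsg.Agent.Lie.J2Cert
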