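import Cfsg.Agent.Lib.Lie.Ico.GroupData
import Cfsg.Agent.Lib.Lie.Ico.SchreierData
import Cfsg.Agent.Lib.Lie.Ico.ClassData

/-!
Boolean tests for the modular certificate of the double cover of the Hall–Janko group.
-/

set_option autoImplicit false
set_option maxRecDepth 100000
set_option maxHeartbeats 0

namespace Cfsg.Agent.Lie.J2Cert

open Cfsg.Agent.Lie.Janko (M7 red rowMul)

/-- Negation of a padded matrix where requested. -/
def sgn (f : Bool) (A : M7) : M7 := if f then negMat.mul A else A

/-- Breadth-first tree. -/
def treeCheck (i : ℕ) : Bool :=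
  Nat.blt (parents.get i).1 i &&
    (reps.get i).beq ((reps.get (parents.get i).1).mul (if (parents.get i).2 then yMat else xMat))

/-- The Schreier relation for the first generator. -/
def schXCheck (i : ℕ) : Bool :=
  ((reps.get i).mul xMat).beq (sgn (schX.get i).2.2 ((borel.get (schX.get i).2.1).mul (reps.get (schX.get i).1))) &&
    (Nat.blt (schX.get i).1 3780 && Nat.blt (schX.get i).2.1 160)

/-- The Schreier relation for the second generator. -/
def schYCheck (i : ℕ) : Bool :=
  ((reps.get i).mul yMat).beq (sgn (schY.get i).2.2 ((borel.get (schY.get i).2.1).mul (reps.get (schY.get i).1))) &&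
    (Nat.blt (schY.get i).1 3780 && Nat.blt (schY.get i).2.1 160)

/-- The borel element generating a step. -/
def bGen (n : Bool) : ℕ := borelGens.getD (if n then 1 else 0) 0

/-- Products with the two generators of the subgroup of order 320, and its tree. -/
def borelCheck (k : ℕ) : Bool :=
  ((borel.get k).mul (borel.get (bGen false))).beq
      (sgn (borelStep.get (2 * k)).2 (borel.get (borelStep.get (2 * k)).1)) &&
  (((borel.get k).mul (borel.get (bGen true))).beq
      (sgn (borelStep.get (2 * k + 1)).2 (borel.get (borelStep.get (2 * k + 1)).1)) &&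
  (Nat.blt (borelStep.get (2 * k)).1 160 && (Nat.blt (borelStep.get (2 * k + 1)).1 160 &&
  (Nat.beq k 0 || (Nat.blt (borelPar.get k).1 k &&
    Nat.beq (borelStep.get (2 * (borelPar.get k).1 + (if (borelPar.get k).2 then 1 else 0))).1 k)))))

/-- The subgroup fixes the base line and comes from the Schreier relations. -/
def borelLineCheck (k : ℕ) : Bool :=
  Nat.beq (rowMul baseVec (borel.get k)) (red (borelScalar.get k * baseVec)) &&
    (Nat.ble 1 (borelScalar.get k) && (Nat.blt (borelScalar.get k) 11 &&
      (Nat.beq (if (borelSch.get k).2 then (schY.get (borelSch.get k).1).2.1 else (schX.get (borelSch.get k).1).2.1) k &&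
        Nat.blt (borelSch.get k).1 3780)))

/-- A reduced first nonzero entry equal to one. -/
def normalised (N : ℕ) : Bool :=
  Nat.beq (red N) N && (
  let d0 := N % 4096
  let d1 := N / 4096 % 4096
  let d2 := N / 4096 ^ 2 % 4096
  let d3 := N / 4096 ^ 3 % 4096
  let d4 := N / 4096 ^ 4 % 4096
  let d5 := N / 4096 ^ 5 % 4096
  Nat.beq d0 1 || (Nat.beq d0 0 && (Nat.beq d1 1 || (Nat.beq d1 0 && (Nat.beq d2 1 || (Nat.beq d2 0 &&
    (Nat.beq d3 1 || (Nat.beq d3 0 && (Nat.beq d4 1 || (Nat.beq d4 0 && Nat.beq d5 1))))))))))

/-- The lines of the orbit. -/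
def lineCheck (i : ℕ) : Bool :=
  Nat.beq (rowMul baseVec (reps.get i)) (red (lineScalar.get i * lineNorm.get i)) &&
    (Nat.ble 1 (lineScalar.get i) && (Nat.blt (lineScalar.get i) 11 && normalised (lineNorm.get i)))

/-- The normalised lines are pairwise different. -/
def orderCheck (k : ℕ) : Bool :=
  Nat.blt (lineNorm.get (lineOrder.get k)) (lineNorm.get (lineOrder.get (k + 1))) &&
    (Nat.blt (lineOrder.get k) 3780 && Nat.blt (lineOrder.get (k + 1)) 3780)

/-- Conjugation relation. -/
def conjCheck (i : ℕ) : Bool :=
  (sgn (conjTab.get i).2.2.2 (((borel.get (conjTab.get i).2.1).mul (reps.get (classReps.getD (conjTab.get i).1 0))).mul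
      (borel.get (conjTab.get i).2.2.1))).beq (reps.get i) &&
    (Nat.blt (conjTab.get i).1 39 && (Nat.blt (conjTab.get i).2.1 160 && Nat.blt (conjTab.get i).2.2.1 160))

/-- Squares. -/
def sqr (A : M7) : M7 := A.mul A

/-- Powers with the admissible exponents. -/
def fastPow (A : M7) : ℕ → M7
  | 7 => (sqr ((sqr A).mul A)).mul A
  | 8 => sqr (sqr (sqr A))
  | 10 => sqr ((sqr (sqr A)).mul A)
  | 12 => sqr (sqr ((sqr A).mul A))
  | 15 => (sqr ((sqr ((sqr A).mul A)).mul A)).mul A
  | _ => A

/-- The allowed exponents. -/
def allowed : List ℕ := [7, 8, 10, 12, 15]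

/-- The identity up to sign. -/
def isPlusMinus (A : M7) : Bool := A.beq M7.one || A.beq negMat

/-- Power check. -/
def powCheck (k : ℕ) : Bool :=
  allowed.contains (classPow.get k) &&
    isPlusMinus (fastPow ((borel.get (k % 160)).mul (reps.get (classReps.getD (k / 160) 0))) (classPow.get k))

/-- Entries are reduced. -/
def goodCheck (i : ℕ) : Bool := (reps.get i).goodB

/-- Evaluation of a word. -/
def evalWord (w : List Bool) : M7 := w.foldl (fun g b => g.mul (if b then yMat else xMat)) M7.one

/-- The central candidates. -/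
def centerCheck (m : ℕ) : Bool :=
  let g := (borel.get (m % 160)).mul (reps.get (centerCand.getD (m / 160) 0))
  isPlusMinus g || !((g.mul xMat).beq (xMat.mul g)) || !((g.mul yMat).beq (yMat.mul g))

/-- Lines fixed by the two generators of the subgroup of order 320. -/
def candCheck (i : ℕ) : Bool :=
  centerCand.contains i ||
    !(Nat.beq (rowMul (rowMul baseVec (reps.get i)) (borel.get (bGen false)))
        (red (borelScalar.get (bGen false) * rowMul baseVec (reps.get i)))) ||
    !(Nat.beq (rowMul (rowMul baseVec (reps.get i)) (borel.get (bGen true)))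
        (red (borelScalar.get (bGen true) * rowMul baseVec (reps.get i))))

/-- The conjugation tree of the reflections. -/
def reflCheck (j : ℕ) : Bool :=
  Nat.blt (reflPar.get j).1 j &&
    ((reflMat.get j).mul (if (reflPar.get j).2 then yMat else xMat)).beq
      ((if (reflPar.get j).2 then yMat else xMat).mul (reflMat.get (reflPar.get j).1))

end Cfsg.Agent.Lie.J2Cert
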