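import Mathlib
import Cfsg.Agent.Lib.Lie.CentralTable

/-!
Data for the multiplier of the Hall–Janko group: coset tables with linear elimination certificates.
-/

set_option autoImplicit false
set_option maxRecDepth 40000
set_option maxHeartbeats 4000000

namespace Cfsg.Agent.Lie.J2Cert

open Cfsg.Agent.Lie

def certHNext0 : Janko.Tree (ℕ) :=
  (.node (.node (.node (.node (.leaf 0) (.leaf 220)) (.node (.leaf 411) (.leaf 784))) (.node (.node (.leaf 225) (.leaf 735)) (.leaf 576))) (.node (.node (.node (.leaf 94) (.leaf 738)) (.node (.leaf 503) (.leaf 652))) (.node (.node (.leaf 328) (.leaf 818)) (.leaf 458))))

def certHNext1 : Janko.Tree (ℕ) :=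
  (.node (.node (.node (.node (.leaf 1) (.leaf 583)) (.node (.leaf 291) (.leaf 771))) (.node (.node (.leaf 226) (.leaf 692)) (.leaf 247))) (.node (.node (.node (.leaf 117) (.leaf 739)) (.node (.leaf 235) (.leaf 860))) (.node (.node (.leaf 316) (.leaf 138)) (.leaf 641))))

def certHNext2 : Janko.Tree (ℕ) :=
  (.node (.node (.node (.node (.leaf 2) (.leaf 682)) (.node (.leaf 412) (.leaf 839))) (.node (.node (.leaf 227) (.leaf 586)) (.leaf 577))) (.node (.node (.node (.leaf 118) (.leaf 518)) (.node (.leaf 504) (.leaf 479))) (.node (.node (.leaf 329) (.leaf 642)) (.leaf 460))))

def certHNext3 : Janko.Tree (ℕ) :=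
  (.node (.node (.node (.node (.leaf 3) (.leaf 690)) (.node (.leaf 413) (.leaf 766))) (.node (.node (.leaf 31) (.leaf 656)) (.leaf 578))) (.node (.node (.node (.leaf 119) (.leaf 345)) (.node (.leaf 505) (.leaf 765))) (.node (.node (.leaf 330) (.leaf 459)) (.leaf 642))))

def certHNext4 : Janko.Tree (ℕ) :=
  (.node (.node (.node (.node (.leaf 4) (.leaf 177)) (.node (.leaf 380) (.leaf 251))) (.node (.node (.leaf 228) (.leaf 770)) (.leaf 344))) (.node (.node (.node (.leaf 5) (.leaf 740)) (.node (.leaf 15) (.leaf 813))) (.node (.node (.leaf 240) (.leaf 778)) (.leaf 643))))

def certHNext5 : Janko.Tree (ℕ) :=
  (.node (.node (.node (.node (.leaf 5) (.leaf 293)) (.node (.leaf 12) (.leaf 201))) (.node (.node (.leaf 229) (.leaf 573)) (.leaf 579))) (.node (.node (.node (.leaf 120) (.leaf 741)) (.node (.leaf 260) (.leaf 828))) (.node (.node (.leaf 8) (.leaf 541)) (.leaf 644))))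

def certHNext6 : Janko.Tree (ℕ) :=
  (.node (.node (.node (.node (.leaf 6) (.leaf 153)) (.node (.leaf 414) (.leaf 349))) (.node (.node (.leaf 230) (.leaf 650)) (.leaf 580))) (.node (.node (.node (.leaf 121) (.leaf 169)) (.node (.leaf 506) (.leaf 717))) (.node (.node (.leaf 331) (.leaf 819)) (.leaf 445))))

def certHNext7 : Janko.Tree (ℕ) :=
  (.node (.node (.node (.node (.leaf 7) (.leaf 691)) (.node (.leaf 415) (.leaf 178))) (.node (.node (.leaf 231) (.leaf 774)) (.leaf 581))) (.node (.node (.node (.leaf 2) (.leaf 742)) (.node (.leaf 493) (.leaf 848))) (.node (.node (.leaf 332) (.leaf 700)) (.leaf 645))))

def certHNext8 : Janko.Tree (ℕ) :=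
  (.node (.node (.node (.node (.leaf 8) (.leaf 692)) (.node (.leaf 416) (.leaf 826))) (.node (.node (.leaf 30) (.leaf 790)) (.leaf 193))) (.node (.node (.node (.leaf 122) (.leaf 743)) (.node (.leaf 507) (.leaf 466))) (.node (.node (.leaf 333) (.leaf 544)) (.leaf 105))))

def certHNext9 : Janko.Tree (ℕ) :=
  (.node (.node (.node (.node (.leaf 9) (.leaf 693)) (.node (.leaf 417) (.leaf 840))) (.node (.node (.leaf 232) (.leaf 727)) (.leaf 582))) (.node (.node (.node (.leaf 123) (.leaf 740)) (.node (.leaf 205) (.leaf 134))) (.node (.node (.leaf 334) (.leaf 464)) (.leaf 254))))

def certHNext10 : Janko.Tree (ℕ) :=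
  (.node (.node (.node (.node (.leaf 10) (.leaf 615)) (.node (.leaf 418) (.leaf 381))) (.node (.node (.leaf 233) (.leaf 598)) (.leaf 583))) (.node (.node (.node (.leaf 34) (.leaf 617)) (.node (.leaf 396) (.leaf 637))) (.node (.node (.leaf 307) (.leaf 701)) (.leaf 319))))

def certHNext11 : Janko.Tree (ℕ) :=
  (.node (.node (.node (.node (.leaf 11) (.leaf 694)) (.node (.leaf 369) (.leaf 275))) (.node (.node (.leaf 234) (.leaf 629)) (.leaf 219))) (.node (.node (.node (.leaf 124) (.leaf 720)) (.node (.leaf 271) (.leaf 850))) (.node (.node (.leaf 335) (.leaf 819)) (.leaf 627))))

def certHNext12 : Janko.Tree (ℕ) :=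
  (.node (.node (.node (.node (.leaf 12) (.leaf 695)) (.node (.leaf 365) (.leaf 841))) (.node (.node (.leaf 235) (.leaf 74)) (.leaf 340))) (.node (.node (.node (.leaf 125) (.leaf 744)) (.node (.leaf 508) (.leaf 861))) (.node (.node (.leaf 336) (.leaf 224)) (.leaf 26))))

def certHNext13 : Janko.Tree (ℕ) :=
  (.node (.node (.node (.node (.leaf 13) (.leaf 166)) (.node (.leaf 419) (.leaf 758))) (.node (.node (.leaf 236) (.leaf 90)) (.leaf 296))) (.node (.node (.node (.leaf 126) (.leaf 745)) (.node (.leaf 16) (.leaf 856))) (.node (.node (.leaf 304) (.leaf 65)) (.leaf 383))))

def certHNext14 : Janko.Tree (ℕ) :=
  (.node (.node (.node (.node (.leaf 14) (.leaf 124)) (.node (.leaf 420) (.leaf 712))) (.node (.node (.leaf 237) (.leaf 742)) (.leaf 584))) (.node (.node (.node (.leaf 127) (.leaf 604)) (.node (.leaf 399) (.leaf 859))) (.node (.node (.leaf 119) (.leaf 641)) (.leaf 646))))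

def certHNext15 : Janko.Tree (ℕ) :=
  (.node (.node (.node (.node (.leaf 15) (.leaf 33)) (.node (.leaf 421) (.leaf 490))) (.node (.node (.leaf 27) (.leaf 168)) (.leaf 308))) (.node (.node (.node (.leaf 128) (.leaf 746)) (.node (.leaf 489) (.leaf 862))) (.node (.node (.leaf 337) (.leaf 457)) (.leaf 394))))

def certHNext16 : Janko.Tree (ℕ) :=
  (.node (.node (.node (.node (.leaf 16) (.leaf 696)) (.node (.leaf 417) (.leaf 782))) (.node (.node (.leaf 238) (.leaf 780)) (.leaf 585))) (.node (.node (.node (.leaf 129) (.leaf 747)) (.node (.leaf 305) (.leaf 161))) (.node (.node (.leaf 259) (.leaf 820)) (.leaf 647))))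

def certHNext17 : Janko.Tree (ℕ) :=
  (.node (.node (.node (.node (.leaf 17) (.leaf 697)) (.node (.leaf 422) (.leaf 806))) (.node (.node (.leaf 239) (.leaf 577)) (.leaf 586))) (.node (.node (.node (.leaf 130) (.leaf 531)) (.node (.leaf 336) (.leaf 175))) (.node (.node (.leaf 338) (.leaf 754)) (.leaf 249))))

def certHNext18 : Janko.Tree (ℕ) :=
  (.node (.node (.node (.node (.leaf 18) (.leaf 212)) (.node (.leaf 285) (.leaf 842))) (.node (.node (.leaf 9) (.leaf 657)) (.leaf 376))) (.node (.node (.node (.leaf 131) (.leaf 748)) (.node (.leaf 509) (.leaf 505))) (.node (.node (.leaf 339) (.leaf 678)) (.leaf 327))))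

def certHNext19 : Janko.Tree (ℕ) :=
  (.node (.node (.node (.node (.leaf 19) (.leaf 397)) (.node (.leaf 423) (.leaf 843))) (.node (.node (.leaf 240) (.leaf 392)) (.leaf 557))) (.node (.node (.node (.leaf 132) (.leaf 749)) (.node (.leaf 510) (.leaf 838))) (.node (.node (.leaf 329) (.leaf 653)) (.leaf 517))))

def certHNext20 : Janko.Tree (ℕ) :=
  (.node (.node (.node (.node (.leaf 20) (.leaf 668)) (.node (.leaf 424) (.leaf 581))) (.node (.node (.leaf 241) (.leaf 50)) (.leaf 587))) (.node (.node (.node (.leaf 86) (.leaf 279)) (.node (.leaf 401) (.leaf 773))) (.node (.node (.leaf 297) (.leaf 821)) (.leaf 648))))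

def certHNext21 : Janko.Tree (ℕ) :=
  (.node (.node (.node (.node (.leaf 0) (.leaf 698)) (.node (.leaf 412) (.leaf 618))) (.node (.node (.leaf 242) (.leaf 648)) (.leaf 588))) (.node (.node (.node (.leaf 133) (.leaf 750)) (.node (.leaf 511) (.leaf 158))) (.node (.node (.leaf 340) (.leaf 710)) (.leaf 49))))

def certHNext22 : Janko.Tree (ℕ) :=
  (.node (.node (.node (.node (.leaf 21) (.leaf 547)) (.node (.leaf 425) (.leaf 832))) (.node (.node (.leaf 243) (.leaf 655)) (.leaf 374))) (.node (.node (.node (.leaf 134) (.leaf 751)) (.node (.leaf 151) (.leaf 426))) (.node (.node (.leaf 341) (.leaf 613)) (.leaf 649))))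

def certHNext23 : Janko.Tree (ℕ) :=
  (.node (.node (.node (.node (.leaf 22) (.leaf 609)) (.node (.leaf 426) (.leaf 844))) (.node (.node (.leaf 244) (.leaf 184)) (.leaf 589))) (.node (.node (.node (.leaf 135) (.leaf 752)) (.node (.leaf 485) (.leaf 516))) (.node (.node (.leaf 342) (.leaf 558)) (.leaf 650))))

def certHNext24 : Janko.Tree (ℕ) :=
  (.node (.node (.node (.node (.leaf 23) (.leaf 449)) (.node (.leaf 427) (.leaf 644))) (.node (.node (.leaf 245) (.leaf 791)) (.leaf 590))) (.node (.node (.node (.leaf 136) (.leaf 187)) (.node (.leaf 512) (.leaf 725))) (.node (.node (.leaf 343) (.leaf 676)) (.leaf 197))))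

def certHNext25 : Janko.Tree (ℕ) :=
  (.node (.node (.node (.node (.leaf 24) (.leaf 127)) (.node (.leaf 207) (.leaf 845))) (.node (.node (.leaf 246) (.leaf 221)) (.leaf 591))) (.node (.node (.node (.leaf 137) (.leaf 564)) (.node (.leaf 513) (.leaf 549))) (.node (.node (.leaf 344) (.leaf 109)) (.leaf 612))))

def certHNext26 : Janko.Tree (ℕ) :=
  (.node (.node (.node (.node (.leaf 25) (.leaf 699)) (.node (.leaf 428) (.leaf 846))) (.node (.node (.leaf 247) (.leaf 143)) (.leaf 592))) (.node (.node (.node (.leaf 138) (.leaf 532)) (.node (.leaf 514) (.leaf 845))) (.node (.node (.leaf 345) (.leaf 566)) (.leaf 651))))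

def certHNext27 : Janko.Tree (ℕ) :=
  (.node (.node (.node (.node (.leaf 26) (.leaf 519)) (.node (.leaf 429) (.leaf 842))) (.node (.node (.leaf 248) (.leaf 723)) (.leaf 468))) (.node (.node (.node (.leaf 139) (.leaf 747)) (.node (.leaf 515) (.leaf 643))) (.node (.node (.leaf 346) (.leaf 822)) (.leaf 652))))

def certHNext28 : Janko.Tree (ℕ) :=
  (.node (.node (.node (.node (.leaf 27) (.leaf 560)) (.node (.leaf 430) (.leaf 800))) (.node (.node (.leaf 249) (.leaf 594)) (.leaf 593))) (.node (.node (.node (.leaf 140) (.leaf 713)) (.node (.leaf 516) (.leaf 857))) (.node (.node (.leaf 347) (.leaf 703)) (.leaf 653))))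

def certHNext29 : Janko.Tree (ℕ) :=
  (.node (.node (.node (.node (.leaf 28) (.leaf 409)) (.node (.leaf 431) (.leaf 847))) (.node (.node (.leaf 250) (.leaf 673)) (.leaf 594))) (.node (.node (.node (.leaf 141) (.leaf 509)) (.node (.leaf 425) (.leaf 861))) (.node (.node (.leaf 348) (.leaf 823)) (.leaf 654))))

def certHNext30 : Janko.Tree (ℕ) :=
  (.node (.node (.node (.node (.leaf 29) (.leaf 114)) (.node (.leaf 231) (.leaf 474))) (.node (.node (.leaf 202) (.leaf 792)) (.leaf 595))) (.node (.node (.node (.leaf 142) (.leaf 429)) (.node (.leaf 517) (.leaf 854))) (.node (.node (.leaf 179) (.leaf 475)) (.leaf 185))))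

def certHNext31 : Janko.Tree (ℕ) :=
  (.node (.node (.node (.node (.leaf 30) (.leaf 223)) (.node (.leaf 432) (.leaf 804))) (.node (.node (.leaf 251) (.leaf 793)) (.leaf 225))) (.node (.node (.node (.leaf 143) (.leaf 753)) (.node (.leaf 326) (.leaf 855))) (.node (.node (.leaf 349) (.leaf 447)) (.leaf 655))))

def certHNext32 : Janko.Tree (ℕ) :=
  (.node (.node (.node (.node (.leaf 31) (.leaf 688)) (.node (.leaf 433) (.leaf 755))) (.node (.node (.leaf 252) (.leaf 511)) (.leaf 596))) (.node (.node (.node (.leaf 144) (.leaf 754)) (.node (.leaf 346) (.leaf 814))) (.node (.node (.leaf 141) (.leaf 824)) (.leaf 656))))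

def certHNext33 : Janko.Tree (ℕ) :=
  (.node (.node (.node (.node (.leaf 32) (.leaf 107)) (.node (.leaf 434) (.leaf 820))) (.node (.node (.leaf 253) (.leaf 400)) (.leaf 180))) (.node (.node (.node (.leaf 67) (.leaf 755)) (.node (.leaf 518) (.leaf 751))) (.node (.node (.leaf 194) (.leaf 808)) (.leaf 585))))

def certHNext34 : Janko.Tree (ℕ) :=
  (.node (.node (.node (.node (.leaf 33) (.leaf 700)) (.node (.leaf 435) (.leaf 787))) (.node (.node (.leaf 254) (.leaf 486)) (.leaf 597))) (.node (.node (.node (.leaf 97) (.leaf 477)) (.node (.leaf 519) (.leaf 860))) (.node (.node (.leaf 137) (.leaf 825)) (.leaf 393))))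

def certHNext35 : Janko.Tree (ℕ) :=
  (.node (.node (.node (.node (.leaf 34) (.leaf 701)) (.node (.leaf 436) (.leaf 797))) (.node (.node (.leaf 104) (.leaf 321)) (.leaf 598))) (.node (.node (.node (.leaf 145) (.leaf 756)) (.node (.leaf 520) (.leaf 651))) (.node (.node (.leaf 350) (.leaf 826)) (.leaf 657))))

def certHNext36 : Janko.Tree (ℕ) :=
  (.node (.node (.node (.node (.leaf 35) (.leaf 702)) (.node (.leaf 437) (.leaf 314))) (.node (.node (.leaf 213) (.leaf 794)) (.leaf 599))) (.node (.node (.node (.leaf 146) (.leaf 117)) (.node (.leaf 521) (.leaf 248))) (.node (.node (.leaf 351) (.leaf 827)) (.leaf 658))))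

def certHNext37 : Janko.Tree (ℕ) :=
  (.node (.node (.node (.node (.leaf 36) (.leaf 703)) (.node (.leaf 438) (.leaf 685))) (.node (.node (.leaf 203) (.leaf 792)) (.leaf 600))) (.node (.node (.node (.leaf 147) (.leaf 93)) (.node (.leaf 522) (.leaf 576))) (.node (.node (.leaf 352) (.leaf 430)) (.leaf 659))))

def certHNext38 : Janko.Tree (ℕ) :=
  (.node (.node (.node (.node (.leaf 24) (.leaf 704)) (.node (.leaf 439) (.leaf 431))) (.node (.node (.leaf 255) (.leaf 502)) (.leaf 601))) (.node (.node (.node (.leaf 148) (.leaf 92)) (.node (.leaf 523) (.leaf 847))) (.node (.node (.leaf 353) (.leaf 337)) (.leaf 660))))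

def certHNext39 : Janko.Tree (ℕ) :=
  (.node (.node (.node (.node (.leaf 37) (.leaf 437)) (.node (.leaf 440) (.leaf 827))) (.node (.node (.leaf 55) (.leaf 795)) (.leaf 590))) (.node (.node (.node (.leaf 149) (.leaf 757)) (.node (.leaf 524) (.leaf 799))) (.node (.node (.leaf 354) (.leaf 118)) (.leaf 414))))

def certHNext40 : Janko.Tree (ℕ) :=
  (.node (.node (.node (.node (.leaf 38) (.leaf 481)) (.node (.leaf 234) (.leaf 711))) (.node (.node (.leaf 256) (.leaf 236)) (.leaf 545))) (.node (.node (.node (.leaf 150) (.leaf 571)) (.node (.leaf 22) (.leaf 829))) (.node (.node (.leaf 36) (.leaf 828)) (.leaf 635))))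

def certHNext41 : Janko.Tree (ℕ) :=
  (.node (.node (.node (.node (.leaf 39) (.leaf 705)) (.node (.leaf 441) (.leaf 821))) (.node (.node (.leaf 257) (.leaf 503)) (.leaf 129))) (.node (.node (.node (.leaf 151) (.leaf 536)) (.node (.leaf 525) (.leaf 551))) (.node (.node (.leaf 355) (.leaf 812)) (.leaf 453))))

def certHNext42 : Janko.Tree (ℕ) :=
  (.node (.node (.node (.node (.leaf 40) (.leaf 706)) (.node (.leaf 442) (.leaf 750))) (.node (.node (.leaf 258) (.leaf 796)) (.leaf 421))) (.node (.node (.node (.leaf 152) (.leaf 419)) (.node (.leaf 37) (.leaf 852))) (.node (.node (.leaf 356) (.leaf 552)) (.leaf 181))))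

def certHNext43 : Janko.Tree (ℕ) :=
  (.node (.node (.node (.node (.leaf 18) (.leaf 658)) (.node (.leaf 443) (.leaf 278))) (.node (.node (.leaf 259) (.leaf 761)) (.leaf 602))) (.node (.node (.node (.leaf 153) (.leaf 364)) (.node (.leaf 23) (.leaf 539))) (.node (.node (.leaf 357) (.leaf 829)) (.leaf 596))))

def certHNext44 : Janko.Tree (ℕ) :=
  (.node (.node (.node (.node (.leaf 41) (.leaf 602)) (.node (.leaf 444) (.leaf 299))) (.node (.node (.leaf 260) (.leaf 797)) (.leaf 603))) (.node (.node (.node (.leaf 154) (.leaf 757)) (.node (.leaf 526) (.leaf 756))) (.node (.node (.leaf 338) (.leaf 734)) (.leaf 440))))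

def certHNext45 : Janko.Tree (ℕ) :=
  (.node (.node (.node (.node (.leaf 42) (.leaf 420)) (.node (.leaf 445) (.leaf 315))) (.node (.node (.leaf 14) (.leaf 786)) (.leaf 604))) (.node (.node (.node (.leaf 155) (.leaf 91)) (.node (.leaf 527) (.leaf 476))) (.node (.node (.leaf 258) (.leaf 830)) (.leaf 661))))

def certHNext46 : Janko.Tree (ℕ) :=
  (.node (.node (.node (.node (.leaf 43) (.leaf 54)) (.node (.leaf 446) (.leaf 759))) (.node (.node (.leaf 242) (.leaf 707)) (.leaf 56))) (.node (.node (.node (.leaf 156) (.leaf 758)) (.node (.leaf 528) (.leaf 835))) (.node (.node (.leaf 269) (.leaf 831)) (.leaf 289))))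

def certHNext47 : Janko.Tree (ℕ) :=
  (.node (.node (.node (.node (.leaf 44) (.leaf 707)) (.node (.leaf 77) (.leaf 841))) (.node (.node (.leaf 261) (.leaf 53)) (.leaf 255))) (.node (.node (.node (.leaf 157) (.leaf 759)) (.node (.leaf 529) (.leaf 863))) (.node (.node (.leaf 358) (.leaf 832)) (.leaf 182))))

def certHNext48 : Janko.Tree (ℕ) :=
  (.node (.node (.node (.node (.leaf 45) (.leaf 708)) (.node (.leaf 447) (.leaf 745))) (.node (.node (.leaf 262) (.leaf 588)) (.leaf 312))) (.node (.node (.node (.leaf 158) (.leaf 58)) (.node (.leaf 524) (.leaf 863))) (.node (.node (.leaf 359) (.leaf 334)) (.leaf 342))))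

def certHNext49 : Janko.Tree (ℕ) :=
  (.node (.node (.node (.node (.leaf 46) (.leaf 555)) (.node (.leaf 448) (.leaf 811))) (.node (.node (.leaf 263) (.leaf 798)) (.leaf 300))) (.node (.node (.node (.leaf 159) (.leaf 47)) (.node (.leaf 530) (.leaf 834))) (.node (.node (.leaf 266) (.leaf 768)) (.leaf 561))))

def certHNext50 : Janko.Tree (ℕ) :=
  (.node (.node (.node (.node (.leaf 47) (.leaf 488)) (.node (.leaf 128) (.leaf 783))) (.node (.node (.leaf 72) (.leaf 309)) (.leaf 253))) (.node (.node (.node (.leaf 160) (.leaf 749)) (.node (.leaf 531) (.leaf 406))) (.node (.node (.leaf 360) (.leaf 244)) (.leaf 662))))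

def certHNext51 : Janko.Tree (ℕ) :=
  (.node (.node (.node (.node (.leaf 48) (.leaf 709)) (.node (.leaf 449) (.leaf 403))) (.node (.node (.leaf 264) (.leaf 584)) (.leaf 605))) (.node (.node (.node (.leaf 161) (.leaf 760)) (.node (.leaf 532) (.leaf 805))) (.node (.node (.leaf 361) (.leaf 379)) (.leaf 407))))

def certHNext52 : Janko.Tree (ℕ) :=
  (.node (.node (.node (.node (.leaf 49) (.leaf 710)) (.node (.leaf 450) (.leaf 848))) (.node (.node (.leaf 265) (.leaf 795)) (.leaf 606))) (.node (.node (.node (.leaf 162) (.leaf 761)) (.node (.leaf 17) (.leaf 862))) (.node (.node (.leaf 362) (.leaf 384)) (.leaf 663))))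

def certHNext53 : Janko.Tree (ℕ) :=
  (.node (.node (.node (.node (.leaf 50) (.leaf 711)) (.node (.leaf 302) (.leaf 716))) (.node (.node (.leaf 6) (.leaf 501)) (.leaf 607))) (.node (.node (.node (.leaf 163) (.leaf 762)) (.node (.leaf 508) (.leaf 858))) (.node (.node (.leaf 363) (.leaf 245)) (.leaf 664))))

def certHNext54 : Janko.Tree (ℕ) :=
  (.node (.node (.node (.node (.leaf 51) (.leaf 491)) (.node (.leaf 451) (.leaf 267))) (.node (.node (.leaf 266) (.leaf 535)) (.leaf 226))) (.node (.node (.node (.leaf 164) (.leaf 763)) (.node (.leaf 533) (.leaf 628))) (.node (.node (.leaf 364) (.leaf 809)) (.leaf 665))))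

def certHNext55 : Janko.Tree (ℕ) :=
  (.node (.node (.node (.node (.leaf 52) (.leaf 712)) (.node (.leaf 452) (.leaf 359))) (.node (.node (.leaf 267) (.leaf 776)) (.leaf 595))) (.node (.node (.node (.leaf 165) (.leaf 718)) (.node (.leaf 356) (.leaf 599))) (.node (.node (.leaf 365) (.leaf 824)) (.leaf 666))))

def certHNext56 : Janko.Tree (ℕ) :=
  (.node (.node (.node (.node (.leaf 53) (.leaf 510)) (.node (.leaf 453) (.leaf 261))) (.node (.node (.leaf 268) (.leaf 799)) (.leaf 39))) (.node (.node (.node (.leaf 166) (.leaf 760)) (.node (.leaf 534) (.leaf 843))) (.node (.node (.leaf 218) (.leaf 816)) (.leaf 667))))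

def certHNext57 : Janko.Tree (ℕ) :=
  (.node (.node (.node (.node (.leaf 54) (.leaf 713)) (.node (.leaf 454) (.leaf 241))) (.node (.node (.leaf 269) (.leaf 800)) (.leaf 608))) (.node (.node (.node (.leaf 167) (.leaf 748)) (.node (.leaf 535) (.leaf 846))) (.node (.node (.leaf 366) (.leaf 833)) (.leaf 668))))

def certHNext58 : Janko.Tree (ℕ) :=
  (.node (.node (.node (.node (.leaf 55) (.leaf 626)) (.node (.leaf 455) (.leaf 789))) (.node (.node (.leaf 270) (.leaf 801)) (.leaf 605))) (.node (.node (.node (.leaf 168) (.leaf 452)) (.node (.leaf 330) (.leaf 303))) (.node (.node (.leaf 367) (.leaf 834)) (.leaf 669))))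

def certHNext59 : Janko.Tree (ℕ) :=
  (.node (.node (.node (.node (.leaf 56) (.leaf 471)) (.node (.leaf 456) (.leaf 810))) (.node (.node (.leaf 214) (.leaf 802)) (.leaf 252))) (.node (.node (.node (.leaf 169) (.leaf 764)) (.node (.leaf 339) (.leaf 450))) (.node (.node (.leaf 368) (.leaf 835)) (.leaf 164))))

def certHNext60 : Janko.Tree (ℕ) :=
  (.node (.node (.node (.node (.leaf 57) (.leaf 78)) (.node (.leaf 457) (.leaf 99))) (.node (.node (.leaf 271) (.leaf 803)) (.leaf 609))) (.node (.node (.node (.leaf 170) (.leaf 46)) (.node (.leaf 536) (.leaf 731))) (.node (.node (.leaf 369) (.leaf 70)) (.leaf 670))))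

def certHNext61 : Janko.Tree (ℕ) :=
  (.node (.node (.node (.node (.leaf 10) (.leaf 446)) (.node (.leaf 458) (.leaf 849))) (.node (.node (.leaf 272) (.leaf 631)) (.leaf 546))) (.node (.node (.node (.leaf 171) (.leaf 377)) (.node (.leaf 537) (.leaf 785))) (.node (.node (.leaf 370) (.leaf 467)) (.leaf 671))))

def certHNext62 : Janko.Tree (ℕ) :=
  (.node (.node (.node (.node (.leaf 48) (.leaf 355)) (.node (.leaf 459) (.leaf 807))) (.node (.node (.leaf 273) (.leaf 804)) (.leaf 434))) (.node (.node (.node (.leaf 163) (.leaf 765)) (.node (.leaf 498) (.leaf 844))) (.node (.node (.leaf 371) (.leaf 325)) (.leaf 522))))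

def certHNext63 : Janko.Tree (ℕ) :=
  (.node (.node (.node (.node (.leaf 58) (.leaf 35)) (.node (.leaf 460) (.leaf 639))) (.node (.node (.leaf 274) (.leaf 473)) (.leaf 610))) (.node (.node (.node (.leaf 172) (.leaf 478)) (.node (.leaf 538) (.leaf 831))) (.node (.node (.leaf 372) (.leaf 575)) (.leaf 672))))

def certHNext64 : Janko.Tree (ℕ) :=
  (.node (.node (.node (.node (.leaf 59) (.leaf 361)) (.node (.leaf 461) (.leaf 157))) (.node (.node (.leaf 275) (.leaf 694)) (.leaf 611))) (.node (.node (.node (.leaf 173) (.leaf 766)) (.leaf 539)) (.node (.node (.leaf 358) (.leaf 741)) (.leaf 673))))

def certHNext65 : Janko.Tree (ℕ) :=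
  (.node (.node (.node (.node (.leaf 60) (.leaf 714)) (.node (.leaf 256) (.leaf 680))) (.node (.node (.leaf 276) (.leaf 614)) (.leaf 435))) (.node (.node (.node (.leaf 174) (.leaf 767)) (.leaf 540)) (.node (.node (.leaf 268) (.leaf 743)) (.leaf 593))))

def certHNext66 : Janko.Tree (ℕ) :=
  (.node (.node (.node (.node (.leaf 61) (.leaf 126)) (.node (.leaf 462) (.leaf 850))) (.node (.node (.leaf 239) (.leaf 805)) (.leaf 612))) (.node (.node (.node (.leaf 3) (.leaf 768)) (.leaf 541)) (.node (.node (.leaf 373) (.leaf 753)) (.leaf 674))))

def certHNext67 : Janko.Tree (ℕ) :=
  (.node (.node (.node (.node (.leaf 62) (.leaf 715)) (.node (.leaf 371) (.leaf 636))) (.node (.node (.leaf 277) (.leaf 405)) (.leaf 196))) (.node (.node (.node (.leaf 121) (.leaf 333)) (.leaf 542)) (.node (.node (.leaf 374) (.leaf 428)) (.leaf 190))))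

def certHNext68 : Janko.Tree (ℕ) :=
  (.node (.node (.node (.node (.leaf 63) (.leaf 716)) (.node (.leaf 463) (.leaf 840))) (.node (.node (.leaf 278) (.leaf 775)) (.leaf 559))) (.node (.node (.node (.leaf 175) (.leaf 123)) (.leaf 543)) (.node (.node (.leaf 52) (.leaf 222)) (.leaf 675))))

def certHNext69 : Janko.Tree (ℕ) :=
  (.node (.node (.node (.node (.leaf 64) (.leaf 717)) (.node (.leaf 61) (.leaf 825))) (.node (.node (.leaf 279) (.leaf 442)) (.leaf 613))) (.node (.node (.node (.leaf 160) (.leaf 769)) (.leaf 499)) (.node (.node (.leaf 198) (.leaf 791)) (.leaf 111))))

def certHNext70 : Janko.Tree (ℕ) :=
  (.node (.node (.node (.node (.leaf 65) (.leaf 500)) (.node (.leaf 464) (.leaf 767))) (.node (.node (.leaf 280) (.leaf 806)) (.leaf 614))) (.node (.node (.node (.leaf 176) (.leaf 133)) (.leaf 465)) (.node (.node (.leaf 375) (.leaf 836)) (.leaf 110))))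

def certHNext71 : Janko.Tree (ℕ) :=
  (.node (.node (.node (.node (.leaf 66) (.leaf 543)) (.node (.leaf 465) (.leaf 839))) (.node (.node (.leaf 281) (.leaf 781)) (.leaf 615))) (.node (.node (.node (.leaf 177) (.leaf 85)) (.leaf 544)) (.node (.node (.leaf 376) (.leaf 562)) (.leaf 676))))

def certHNext72 : Janko.Tree (ℕ) :=
  (.node (.node (.node (.node (.leaf 67) (.leaf 677)) (.node (.leaf 135) (.leaf 849))) (.node (.node (.leaf 282) (.leaf 482)) (.leaf 422))) (.node (.node (.node (.leaf 178) (.leaf 317)) (.leaf 130)) (.node (.node (.leaf 377) (.leaf 89)) (.leaf 664))))

def certHNext73 : Janko.Tree (ℕ) :=
  (.node (.node (.node (.node (.leaf 68) (.leaf 663)) (.node (.leaf 466) (.leaf 98))) (.node (.node (.leaf 283) (.leaf 347)) (.leaf 416))) (.node (.node (.node (.leaf 179) (.leaf 328)) (.leaf 545)) (.node (.node (.leaf 45) (.leaf 470)) (.leaf 677))))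

def certHNext74 : Janko.Tree (ℕ) :=
  (.node (.node (.node (.node (.leaf 69) (.leaf 718)) (.node (.leaf 467) (.leaf 798))) (.node (.node (.leaf 284) (.leaf 264)) (.leaf 591))) (.node (.node (.node (.leaf 180) (.leaf 574)) (.leaf 546)) (.node (.node (.leaf 116) (.leaf 607)) (.leaf 32))))

def certHNext75 : Janko.Tree (ℕ) :=
  (.node (.node (.node (.node (.leaf 70) (.leaf 719)) (.node (.leaf 69) (.leaf 587))) (.node (.node (.leaf 285) (.leaf 71)) (.leaf 601))) (.node (.node (.node (.leaf 181) (.leaf 770)) (.leaf 547)) (.node (.node (.leaf 378) (.leaf 622)) (.leaf 227))))

def certHNext76 : Janko.Tree (ℕ) :=
  (.node (.node (.node (.node (.leaf 71) (.leaf 634)) (.node (.leaf 468) (.leaf 357))) (.node (.node (.leaf 286) (.leaf 640)) (.leaf 616))) (.node (.node (.node (.leaf 182) (.leaf 771)) (.leaf 529)) (.node (.node (.leaf 379) (.leaf 563)) (.leaf 672))))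

def certHNext77 : Janko.Tree (ℕ) :=
  (.node (.node (.node (.node (.leaf 72) (.leaf 170)) (.node (.leaf 469) (.leaf 533))) (.node (.node (.leaf 287) (.leaf 807)) (.leaf 617))) (.node (.node (.node (.leaf 183) (.leaf 772)) (.leaf 548)) (.node (.node (.leaf 243) (.leaf 836)) (.leaf 521))))

def certHNext78 : Janko.Tree (ℕ) :=
  (.node (.node (.node (.node (.leaf 73) (.leaf 720)) (.node (.leaf 87) (.leaf 830))) (.node (.node (.leaf 288) (.leaf 808)) (.leaf 582))) (.node (.node (.node (.leaf 184) (.leaf 159)) (.leaf 549)) (.node (.node (.leaf 13) (.leaf 769)) (.leaf 654))))

def certHNext79 : Janko.Tree (ℕ) :=
  (.node (.node (.node (.node (.leaf 74) (.leaf 616)) (.node (.leaf 75) (.leaf 733))) (.node (.node (.leaf 154) (.leaf 809)) (.leaf 192))) (.node (.node (.node (.leaf 185) (.leaf 773)) (.leaf 550)) (.node (.node (.leaf 380) (.leaf 122)) (.leaf 678))))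

def certHNext80 : Janko.Tree (ℕ) :=
  (.node (.node (.node (.node (.leaf 75) (.leaf 721)) (.node (.leaf 470) (.leaf 823))) (.node (.node (.leaf 183) (.leaf 810)) (.leaf 618))) (.node (.node (.node (.leaf 186) (.leaf 274)) (.leaf 551)) (.node (.node (.leaf 276) (.leaf 567)) (.leaf 147))))

def certHNext81 : Janko.Tree (ℕ) :=
  (.node (.node (.node (.node (.leaf 76) (.leaf 512)) (.node (.leaf 88) (.leaf 702))) (.node (.node (.leaf 289) (.leaf 788)) (.leaf 580))) (.node (.node (.node (.leaf 187) (.leaf 686)) (.leaf 552)) (.node (.node (.leaf 381) (.leaf 209)) (.leaf 679))))

def certHNext82 : Janko.Tree (ℕ) :=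
  (.node (.node (.node (.node (.leaf 77) (.leaf 697)) (.node (.leaf 471) (.leaf 762))) (.node (.node (.leaf 290) (.leaf 811)) (.leaf 619))) (.node (.node (.node (.leaf 188) (.leaf 206)) (.leaf 530)) (.node (.node (.leaf 84) (.leaf 167)) (.leaf 680))))

def certHNext83 : Janko.Tree (ℕ) :=
  (.node (.node (.node (.node (.leaf 78) (.leaf 722)) (.node (.leaf 472) (.leaf 796))) (.node (.node (.leaf 100) (.leaf 744)) (.leaf 188))) (.node (.node (.node (.leaf 189) (.leaf 507)) (.leaf 523)) (.node (.node (.leaf 382) (.leaf 695)) (.leaf 156))))

def certHNext84 : Janko.Tree (ℕ) :=
  (.node (.node (.node (.node (.leaf 79) (.leaf 415)) (.node (.leaf 473) (.leaf 719))) (.node (.node (.leaf 291) (.leaf 812)) (.leaf 494))) (.node (.node (.node (.leaf 190) (.leaf 774)) (.leaf 553)) (.node (.node (.leaf 383) (.leaf 208)) (.leaf 681))))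

def certHNext85 : Janko.Tree (ℕ) :=
  (.node (.node (.node (.node (.leaf 80) (.leaf 660)) (.node (.leaf 474) (.leaf 763))) (.node (.node (.leaf 292) (.leaf 813)) (.leaf 506))) (.node (.node (.node (.leaf 191) (.leaf 649)) (.leaf 554)) (.node (.node (.leaf 25) (.leaf 427)) (.leaf 682))))

def certHNext86 : Janko.Tree (ℕ) :=
  (.node (.node (.node (.node (.leaf 81) (.leaf 723)) (.node (.leaf 448) (.leaf 698))) (.node (.node (.leaf 293) (.leaf 659)) (.leaf 620))) (.node (.node (.node (.leaf 192) (.leaf 370)) (.leaf 525)) (.node (.node (.leaf 246) (.leaf 728)) (.leaf 456))))

def certHNext87 : Janko.Tree (ℕ) :=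
  (.node (.node (.node (.node (.leaf 82) (.leaf 142)) (.node (.leaf 475) (.leaf 667))) (.node (.node (.leaf 176) (.leaf 706)) (.leaf 621))) (.node (.node (.node (.leaf 193) (.leaf 418)) (.leaf 21)) (.node (.node (.leaf 384) (.leaf 790)) (.leaf 638))))

def certHNext88 : Janko.Tree (ℕ) :=
  (.node (.node (.node (.node (.leaf 83) (.leaf 724)) (.node (.leaf 476) (.leaf 389))) (.node (.node (.leaf 294) (.leaf 103)) (.leaf 622))) (.node (.node (.node (.leaf 194) (.leaf 443)) (.leaf 555)) (.node (.node (.leaf 277) (.leaf 195)) (.leaf 232))))

def certHNext89 : Janko.Tree (ℕ) :=
  (.node (.node (.node (.node (.leaf 84) (.leaf 665)) (.node (.leaf 477) (.leaf 837))) (.node (.node (.leaf 295) (.leaf 684)) (.leaf 606))) (.node (.node (.node (.leaf 140) (.leaf 775)) (.leaf 556)) (.node (.node (.leaf 238) (.leaf 148)) (.leaf 29))))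

def certHNext90 : Janko.Tree (ℕ) :=
  (.node (.node (.node (.node (.leaf 85) (.leaf 550)) (.node (.leaf 478) (.leaf 520))) (.node (.node (.leaf 296) (.leaf 752)) (.leaf 80))) (.node (.node (.node (.leaf 149) (.leaf 714)) (.leaf 19)) (.node (.node (.leaf 385) (.leaf 705)) (.leaf 283))))

def certHNext91 : Janko.Tree (ℕ) :=
  (.node (.node (.node (.node (.leaf 86) (.leaf 725)) (.node (.leaf 479) (.leaf 699))) (.node (.node (.leaf 297) (.leaf 814)) (.leaf 106))) (.node (.node (.node (.leaf 195) (.leaf 360)) (.leaf 40)) (.node (.node (.leaf 262) (.leaf 480)) (.leaf 624))))

def certHNext92 : Janko.Tree (ℕ) :=
  (.node (.node (.node (.node (.leaf 76) (.leaf 726)) (.node (.leaf 480) (.leaf 739))) (.node (.node (.leaf 298) (.leaf 484)) (.leaf 623))) (.node (.node (.node (.leaf 196) (.leaf 764)) (.leaf 557)) (.node (.node (.leaf 368) (.leaf 174)) (.leaf 671))))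

def certHNext93 : Janko.Tree (ℕ) :=
  (.node (.node (.node (.node (.leaf 87) (.leaf 483)) (.node (.leaf 481) (.leaf 851))) (.node (.node (.leaf 299) (.leaf 726)) (.leaf 526))) (.node (.node (.node (.leaf 197) (.leaf 451)) (.leaf 375)) (.node (.node (.leaf 386) (.leaf 625)) (.leaf 683))))

def certHNext94 : Janko.Tree (ℕ) :=
  (.node (.node (.node (.node (.leaf 88) (.leaf 727)) (.node (.leaf 348) (.leaf 540))) (.node (.node (.leaf 300) (.leaf 815)) (.leaf 172))) (.node (.node (.node (.leaf 198) (.leaf 776)) (.leaf 558)) (.node (.node (.leaf 363) (.leaf 709)) (.leaf 579))))

def certHNext95 : Janko.Tree (ℕ) :=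
  (.node (.node (.node (.node (.leaf 89) (.leaf 728)) (.node (.leaf 482) (.leaf 852))) (.node (.node (.leaf 301) (.leaf 816)) (.leaf 162))) (.node (.node (.node (.leaf 51) (.leaf 534)) (.leaf 559)) (.node (.node (.leaf 387) (.leaf 487)) (.leaf 343))))

def certHNext96 : Janko.Tree (ℕ) :=
  (.node (.node (.node (.node (.leaf 1) (.leaf 554)) (.node (.leaf 483) (.leaf 777))) (.node (.node (.leaf 302) (.leaf 62)) (.leaf 624))) (.node (.node (.node (.leaf 199) (.leaf 496)) (.leaf 410)) (.node (.node (.leaf 388) (.leaf 165)) (.leaf 684))))

def certHNext97 : Janko.Tree (ℕ) :=
  (.node (.node (.node (.node (.leaf 20) (.leaf 729)) (.node (.leaf 484) (.leaf 495))) (.node (.node (.leaf 303) (.leaf 463)) (.leaf 282))) (.node (.node (.node (.leaf 200) (.leaf 777)) (.leaf 560)) (.node (.node (.leaf 389) (.leaf 669)) (.leaf 102))))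

def certHNext98 : Janko.Tree (ℕ) :=
  (.node (.node (.node (.node (.leaf 90) (.leaf 730)) (.node (.leaf 485) (.leaf 630))) (.node (.node (.leaf 304) (.leaf 538)) (.leaf 625))) (.node (.node (.node (.leaf 120) (.leaf 542)) (.leaf 561)) (.node (.node (.leaf 390) (.leaf 645)) (.leaf 548))))

def certHNext99 : Janko.Tree (ℕ) :=
  (.node (.node (.node (.node (.leaf 73) (.leaf 731)) (.node (.leaf 150) (.leaf 620))) (.node (.node (.leaf 305) (.leaf 497)) (.leaf 173))) (.node (.node (.node (.leaf 4) (.leaf 778)) (.leaf 341)) (.node (.node (.leaf 391) (.leaf 444)) (.leaf 528))))

def certHNext100 : Janko.Tree (ℕ) :=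
  (.node (.node (.node (.node (.leaf 91) (.leaf 666)) (.node (.leaf 322) (.leaf 229))) (.node (.node (.leaf 306) (.leaf 793)) (.leaf 472))) (.node (.node (.node (.leaf 201) (.leaf 112)) (.leaf 562)) (.node (.node (.leaf 392) (.leaf 746)) (.leaf 281))))

def certHNext101 : Janko.Tree (ℕ) :=
  (.node (.node (.node (.node (.leaf 92) (.leaf 724)) (.node (.leaf 486) (.leaf 687))) (.node (.node (.leaf 307) (.leaf 794)) (.leaf 626))) (.node (.node (.node (.leaf 202) (.leaf 675)) (.leaf 563)) (.node (.node (.leaf 393) (.leaf 603)) (.leaf 492))))

def certHNext102 : Janko.Tree (ℕ) :=
  (.node (.node (.node (.node (.leaf 93) (.leaf 352)) (.node (.leaf 386) (.leaf 690))) (.node (.node (.leaf 308) (.leaf 366)) (.leaf 627))) (.node (.node (.node (.leaf 203) (.leaf 335)) (.leaf 564)) (.node (.node (.leaf 394) (.leaf 200)) (.leaf 132))))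

def certHNext103 : Janko.Tree (ℕ) :=
  (.node (.node (.node (.node (.leaf 94) (.leaf 732)) (.node (.leaf 367) (.leaf 681))) (.node (.node (.leaf 309) (.leaf 217)) (.leaf 318))) (.node (.node (.node (.leaf 204) (.leaf 306)) (.leaf 186)) (.node (.node (.leaf 395) (.leaf 216)) (.leaf 320))))

def certHNext104 : Janko.Tree (ℕ) :=
  (.node (.node (.node (.node (.leaf 44) (.leaf 633)) (.node (.leaf 487) (.leaf 589))) (.node (.node (.leaf 310) (.leaf 391)) (.leaf 600))) (.node (.node (.node (.leaf 205) (.leaf 387)) (.leaf 565)) (.node (.node (.leaf 215) (.leaf 556)) (.leaf 527))))

def certHNext105 : Janko.Tree (ℕ) :=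
  (.node (.node (.node (.node (.leaf 95) (.leaf 353)) (.node (.leaf 488) (.leaf 373))) (.node (.node (.leaf 311) (.leaf 779)) (.leaf 628))) (.node (.node (.node (.leaf 206) (.leaf 362)) (.leaf 566)) (.node (.node (.leaf 270) (.leaf 708)) (.leaf 623))))

def certHNext106 : Janko.Tree (ℕ) :=
  (.node (.node (.node (.node (.leaf 96) (.leaf 733)) (.node (.leaf 489) (.leaf 853))) (.node (.node (.leaf 301) (.leaf 60)) (.leaf 629))) (.node (.node (.node (.leaf 207) (.leaf 263)) (.leaf 210)) (.node (.node (.leaf 272) (.leaf 837)) (.leaf 685))))

def certHNext107 : Janko.Tree (ℕ) :=
  (.node (.node (.node (.node (.leaf 97) (.leaf 734)) (.node (.leaf 398) (.leaf 854))) (.node (.node (.leaf 312) (.leaf 323)) (.leaf 597))) (.node (.node (.node (.leaf 208) (.leaf 385)) (.leaf 567)) (.node (.node (.leaf 396) (.leaf 388)) (.leaf 313))))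

def certHNext108 : Janko.Tree (ℕ) :=
  (.node (.node (.node (.node (.leaf 98) (.leaf 679)) (.node (.leaf 490) (.leaf 822))) (.node (.node (.leaf 313) (.leaf 287)) (.leaf 621))) (.node (.node (.node (.leaf 209) (.leaf 779)) (.leaf 568)) (.node (.node (.leaf 11) (.leaf 683)) (.leaf 250))))

def certHNext109 : Janko.Tree (ℕ) :=
  (.node (.node (.node (.node (.leaf 99) (.leaf 146)) (.node (.leaf 491) (.leaf 565))) (.node (.node (.leaf 314) (.leaf 572)) (.leaf 630))) (.node (.node (.node (.leaf 210) (.leaf 390)) (.leaf 41)) (.node (.node (.leaf 57) (.leaf 670)) (.leaf 647))))

def certHNext110 : Janko.Tree (ℕ) :=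
  (.node (.node (.node (.node (.leaf 100) (.leaf 191)) (.node (.leaf 492) (.leaf 855))) (.node (.node (.leaf 7) (.leaf 292)) (.leaf 631))) (.node (.node (.node (.leaf 211) (.leaf 578)) (.leaf 569)) (.node (.node (.leaf 397) (.leaf 817)) (.leaf 686))))

def certHNext111 : Janko.Tree (ℕ) :=
  (.node (.node (.node (.node (.leaf 101) (.leaf 674)) (.node (.leaf 280) (.leaf 853))) (.node (.node (.leaf 265) (.leaf 411)) (.leaf 632))) (.node (.node (.node (.leaf 212) (.leaf 780)) (.leaf 514)) (.node (.node (.leaf 211) (.leaf 801)) (.leaf 273))))

def certHNext112 : Janko.Tree (ℕ) :=
  (.node (.node (.node (.node (.leaf 102) (.leaf 608)) (.node (.leaf 95) (.leaf 610))) (.node (.node (.leaf 315) (.leaf 372)) (.leaf 28))) (.node (.node (.node (.leaf 204) (.leaf 781)) (.leaf 441)) (.node (.node (.leaf 398) (.leaf 513)) (.leaf 413))))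

def certHNext113 : Janko.Tree (ℕ) :=
  (.node (.node (.node (.node (.leaf 103) (.leaf 38)) (.node (.leaf 43) (.leaf 433))) (.node (.node (.leaf 298) (.leaf 462)) (.leaf 237))) (.node (.node (.node (.leaf 213) (.leaf 782)) (.leaf 233)) (.node (.node (.leaf 399) (.leaf 721)) (.leaf 424))))

def certHNext114 : Janko.Tree (ℕ) :=
  (.node (.node (.node (.node (.leaf 104) (.leaf 515)) (.node (.leaf 145) (.leaf 856))) (.node (.node (.leaf 316) (.leaf 332)) (.leaf 354))) (.node (.node (.node (.leaf 214) (.leaf 404)) (.leaf 82)) (.node (.node (.leaf 400) (.leaf 838)) (.leaf 155))))

def certHNext115 : Janko.Tree (ℕ) :=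
  (.node (.node (.node (.node (.leaf 105) (.leaf 569)) (.node (.leaf 96) (.leaf 857))) (.node (.node (.leaf 317) (.leaf 736)) (.leaf 633))) (.node (.node (.node (.leaf 215) (.leaf 783)) (.leaf 570)) (.node (.node (.leaf 401) (.leaf 504)) (.leaf 288))))

def certHNext116 : Janko.Tree (ℕ) :=
  (.node (.node (.node (.node (.leaf 106) (.leaf 693)) (.node (.leaf 493) (.leaf 691))) (.node (.node (.leaf 318) (.leaf 101)) (.leaf 171))) (.node (.node (.node (.leaf 216) (.leaf 772)) (.leaf 537)) (.node (.node (.leaf 402) (.leaf 722)) (.leaf 687))))

def certHNext117 : Janko.Tree (ℕ) :=
  (.node (.node (.node (.node (.leaf 79) (.leaf 735)) (.node (.leaf 494) (.leaf 152))) (.node (.node (.leaf 319) (.leaf 290)) (.leaf 634))) (.node (.node (.node (.leaf 199) (.leaf 784)) (.leaf 571)) (.node (.node (.leaf 294) (.leaf 696)) (.leaf 228))))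

def certHNext118 : Janko.Tree (ℕ) :=
  (.node (.node (.node (.node (.leaf 107) (.leaf 42)) (.node (.leaf 432) (.leaf 858))) (.node (.node (.leaf 320) (.leaf 802)) (.leaf 295))) (.node (.node (.node (.leaf 217) (.leaf 785)) (.leaf 257)) (.node (.node (.leaf 403) (.leaf 632)) (.leaf 436))))

def certHNext119 : Janko.Tree (ℕ) :=
  (.node (.node (.node (.node (.leaf 108) (.leaf 568)) (.node (.leaf 230) (.leaf 859))) (.node (.node (.leaf 131) (.leaf 817)) (.leaf 402))) (.node (.node (.node (.leaf 218) (.leaf 730)) (.leaf 461)) (.node (.node (.leaf 404) (.leaf 803)) (.leaf 611))))

def certHNext120 : Janko.Tree (ℕ) :=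
  (.node (.node (.node (.node (.leaf 109) (.leaf 732)) (.node (.leaf 495) (.leaf 851))) (.node (.node (.leaf 321) (.leaf 689)) (.leaf 454))) (.node (.node (.node (.leaf 219) (.leaf 786)) (.leaf 570)) (.node (.node (.leaf 405) (.leaf 729)) (.leaf 423))))

def certHNext121 : Janko.Tree (ℕ) :=
  (.node (.node (.node (.node (.leaf 110) (.leaf 351)) (.node (.leaf 496) (.leaf 738))) (.node (.node (.leaf 322) (.leaf 63)) (.leaf 635))) (.node (.node (.node (.leaf 220) (.leaf 787)) (.leaf 81)) (.node (.node (.leaf 406) (.leaf 553)) (.leaf 284))))

def certHNext122 : Janko.Tree (ℕ) :=
  (.node (.node (.node (.node (.leaf 111) (.leaf 395)) (.node (.leaf 497) (.leaf 438))) (.node (.node (.leaf 323) (.leaf 139)) (.leaf 636))) (.node (.node (.node (.leaf 221) (.leaf 737)) (.leaf 572)) (.node (.node (.leaf 378) (.leaf 715)) (.leaf 108))))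

def certHNext123 : Janko.Tree (ℕ) :=
  (.node (.node (.node (.node (.leaf 112) (.leaf 646)) (.node (.leaf 498) (.leaf 704))) (.node (.node (.leaf 59) (.leaf 818)) (.leaf 637))) (.node (.node (.node (.leaf 222) (.leaf 310)) (.leaf 286)) (.node (.node (.leaf 115) (.leaf 125)) (.leaf 688))))

def certHNext124 : Janko.Tree (ℕ) :=
  (.node (.node (.node (.node (.leaf 113) (.leaf 736)) (.node (.leaf 499) (.leaf 833))) (.node (.node (.leaf 324) (.leaf 350)) (.leaf 638))) (.node (.node (.node (.leaf 223) (.leaf 788)) (.leaf 573)) (.node (.node (.leaf 407) (.leaf 382)) (.leaf 189))))

def certHNext125 : Janko.Tree (ℕ) :=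
  (.node (.node (.node (.node (.leaf 114) (.leaf 331)) (.node (.leaf 500) (.leaf 815))) (.node (.node (.leaf 325) (.leaf 136)) (.leaf 455))) (.node (.node (.node (.leaf 113) (.leaf 789)) (.leaf 574)) (.node (.node (.leaf 408) (.leaf 83)) (.leaf 619))))

def certHNext126 : Janko.Tree (ℕ) :=
  (.node (.node (.node (.node (.leaf 115) (.leaf 311)) (.node (.leaf 501) (.leaf 661))) (.node (.node (.leaf 326) (.leaf 68)) (.leaf 639))) (.node (.node (.node (.leaf 66) (.leaf 408)) (.leaf 575)) (.node (.node (.leaf 409) (.leaf 469)) (.leaf 64))))

def certHNext127 : Janko.Tree (ℕ) :=
  (.node (.node (.node (.node (.leaf 116) (.leaf 737)) (.node (.leaf 502) (.leaf 439))) (.node (.node (.leaf 327) (.leaf 144)) (.leaf 640))) (.node (.node (.node (.leaf 224) (.leaf 662)) (.leaf 324)) (.node (.node (.leaf 410) (.leaf 592)) (.leaf 689))))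

def certHNext : Janko.Tree (ℕ) :=
  (.node (.node (.node (.node (.node (.node (.node certHNext0 certHNext64) (.node certHNext32 certHNext96)) (.node (.node certHNext16 certHNext80) (.node certHNext48 certHNext112))) (.node (.node (.node certHNext8 certHNext72) (.node certHNext40 certHNext104)) (.node (.node certHNext24 certHNext88) (.node certHNext56 certHNext120)))) (.node (.node (.node (.node certHNext4 certHNext68) (.node certHNext36 certHNext100)) (.node (.node certHNext20 certHNext84) (.node certHNext52 certHNext116))) (.node (.node (.node certHNext12 certHNext76) (.node certHNext44 certHNext108)) (.node (.node certHNext28 certHNext92) (.node certHNext60 certHNext124))))) (.node (.node (.node (.node (.node certHNext2 certHNext66) (.node certHNext34 certHNext98)) (.node (.node certHNext18 certHNext82) (.node certHNext50 certHNext114))) (.node (.node (.node certHNext10 certHNext74) (.node certHNext42 certHNext106)) (.node (.node certHNext26 certHNext90) (.node certHNext58 certHNext122)))) (.node (.node (.node (.node certHNext6 certHNext70) (.node certHNext38 certHNext102)) (.node (.node certHNext22 certHNext86) (.node certHNext54 certHNext118))) (.node (.node (.node certHNext14 certHNext78) (.node certHNext46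 certHNext110)) (.node (.node certHNext30 certHNext94) (.node certHNext62 certHNext126)))))) (.node (.node (.node (.node (.node (.node certHNext1 certHNext65) (.node certHNext33 certHNext97)) (.node (.node certHNext17 certHNext81) (.node certHNext49 certHNext113))) (.node (.node (.node certHNext9 certHNext73) (.node certHNext41 certHNext105)) (.node (.node certHNext25 certHNext89) (.node certHNext57 certHNext121)))) (.node (.node (.node (.node certHNext5 certHNext69) (.node certHNext37 certHNext101)) (.node (.node certHNext21 certHNext85) (.node certHNext53 certHNext117))) (.node (.node (.node certHNext13 certHNext77) (.node certHNext45 certHNext109)) (.node (.node certHNext29 certHNext93) (.node certHNext61 certHNext125))))) (.node (.node (.node (.node (.node certHNext3 certHNext67) (.node certHNext35 certHNext99)) (.node (.node certHNext19 certHNext83) (.node certHNext51 certHNext115))) (.node (.node (.node certHNext11 certHNext75) (.node certHNext43 certHNext107)) (.node (.node certHNext27 certHNext91) (.node certHNext59 certHNext123)))) (.node (.node (.node (.node certHNext7 certHNext71) (.node certHNext39 certHNext103)) (.node (.node certHNext23 certHNext87) (.node certHNext55 certHNext119))) (.node (.node (.node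 certHNext15 certHNext79) (.node certHNext47 certHNext111)) (.node (.node certHNext31 certHNext95) (.node certHNext63 certHNext127)))))))

def certHLab0 : Janko.Tree (List Bool) :=
  (.node (.node (.node (.node (.leaf [false]) (.leaf [false, false])) (.node (.leaf []) (.leaf [false, false, false, false, false]))) (.node (.node (.leaf []) (.leaf [])) (.leaf []))) (.node (.node (.node (.leaf [false]) (.leaf [])) (.node (.leaf []) (.leaf [false]))) (.node (.node (.leaf []) (.leaf [false, false, false, false])) (.leaf [false, false, false, false]))))

def certHLab1 : Janko.Tree (List Bool) :=
  (.node (.node (.node (.node (.leaf []) (.leaf [false])) (.node (.leaf [false]) (.leaf [false, false]))) (.node (.node (.leaf []) (.leaf [false, false, false, false])) (.leaf [false, false, false]))) (.node (.node (.node (.leaf []) (.leaf [])) (.node (.leaf [false]) (.leaf []))) (.node (.node (.leaf [false]) (.leaf [false, false, false])) (.leaf []))))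

def certHLab2 : Janko.Tree (List Bool) :=
  (.node (.node (.node (.node (.leaf []) (.leaf [false])) (.node (.leaf []) (.leaf []))) (.node (.node (.leaf []) (.leaf [false, false, false, false, false])) (.leaf []))) (.node (.node (.node (.leaf []) (.leaf [false, false, false, false, false, false])) (.node (.leaf []) (.leaf []))) (.node (.node (.leaf []) (.leaf [false, false, false, false])) (.leaf [false, false, false, false, false, false]))))

def certHLab3 : Janko.Tree (List Bool) :=
  (.node (.node (.node (.node (.leaf []) (.leaf [])) (.node (.leaf []) (.leaf []))) (.node (.node (.leaf [false, false, false, false, false]) (.leaf [false, false, false, false, false])) (.leaf []))) (.node (.node (.node (.leaf []) (.leaf [false, false, false, false, false, false])) (.node (.leaf []) (.leaf [false]))) (.node (.node (.leaf []) (.leaf [false, false, false])) (.leaf []))))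

def certHLab4 : Janko.Tree (List Bool) :=
  (.node (.node (.node (.node (.leaf []) (.leaf [false, false, false, false])) (.node (.leaf []) (.leaf [false, false, false, false, false, false]))) (.node (.node (.leaf []) (.leaf [false, false, false, false, false, false])) (.leaf [false]))) (.node (.node (.node (.leaf [false, false, false, false, false, false]) (.leaf [])) (.node (.leaf []) (.leaf []))) (.node (.node (.leaf [false]) (.leaf [false, false, false])) (.leaf []))))

def certHLab5 : Janko.Tree (List Bool) :=
  (.node (.node (.node (.node (.leaf []) (.leaf [false, false, false])) (.node (.leaf []) (.leaf [false, false, false, false]))) (.node (.node (.leaf []) (.leaf [])) (.leaf []))) (.node (.node (.node (.leaf []) (.leaf [])) (.node (.leaf [false, false, false, false, false]) (.leaf [false, false]))) (.node (.node (.leaf []) (.leaf [false, false, false, false, false])) (.leaf []))))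

def certHLab6 : Janko.Tree (List Bool) :=
  (.node (.node (.node (.node (.leaf []) (.leaf [false])) (.node (.leaf []) (.leaf [false, false, false, false, false, false]))) (.node (.node (.leaf []) (.leaf [])) (.leaf []))) (.node (.node (.node (.leaf []) (.leaf [false])) (.node (.leaf []) (.leaf [false]))) (.node (.node (.leaf []) (.leaf [])) (.leaf [false, false]))))

def certHLab7 : Janko.Tree (List Bool) :=
  (.node (.node (.node (.node (.leaf []) (.leaf [])) (.node (.leaf []) (.leaf [false]))) (.node (.node (.leaf []) (.leaf [false, false, false])) (.leaf []))) (.node (.node (.node (.leaf []) (.leaf [])) (.node (.leaf []) (.leaf [false, false, false, false, false]))) (.node (.node (.leaf []) (.leaf [])) (.leaf []))))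

def certHLab8 : Janko.Tree (List Bool) :=
  (.node (.node (.node (.node (.leaf []) (.leaf [])) (.node (.leaf []) (.leaf [false, false, false]))) (.node (.node (.leaf [false, false, false, false, false, false]) (.leaf [])) (.leaf [false, false, false]))) (.node (.node (.node (.leaf []) (.leaf [])) (.node (.leaf []) (.leaf [false]))) (.node (.node (.leaf []) (.leaf [false, false, false])) (.leaf [false, false, false, false, false, false]))))

def certHLab9 : Janko.Tree (List Bool) :=
  (.node (.node (.node (.node (.leaf []) (.leaf [])) (.node (.leaf []) (.leaf []))) (.node (.node (.leaf []) (.leaf [])) (.leaf []))) (.node (.node (.node (.leaf []) (.leaf [])) (.node (.leaf [false, false, false, false]) (.leaf []))) (.node (.node (.leaf []) (.leaf [false, false, false, false])) (.leaf [false, false, false, false]))))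

def certHLab10 : Janko.Tree (List Bool) :=
  (.node (.node (.node (.node (.leaf []) (.leaf [false])) (.node (.leaf []) (.leaf [false, false, false, false, false]))) (.node (.node (.leaf []) (.leaf [false])) (.leaf []))) (.node (.node (.node (.leaf [false, false, false, false, false, false]) (.leaf [false, false, false])) (.node (.leaf [false, false, false]) (.leaf [false, false]))) (.node (.node (.leaf [false]) (.leaf [false, false, false, false, false])) (.leaf [false]))))

def certHLab11 : Janko.Tree (List Bool) :=
  (.node (.node (.node (.node (.leaf []) (.leaf [])) (.node (.leaf [false, false, false, false, false, false]) (.leaf [false, false, false, false, false, false]))) (.node (.node (.leaf []) (.leaf [false, false, false, false])) (.leaf [false]))) (.node (.node (.node (.leaf []) (.leaf [false, false])) (.node (.leaf [false, false]) (.leaf [false, false, false, false, false, false]))) (.node (.node (.leaf []) (.leaf [false, false, false, false, false])) (.leaf [false, false, false]))))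

def certHLab12 : Janko.Tree (List Bool) :=
  (.node (.node (.node (.node (.leaf []) (.leaf [])) (.node (.leaf [false, false, false, false, false, false]) (.leaf []))) (.node (.node (.leaf []) (.leaf [false, false, false])) (.leaf [false, false, false, false, false]))) (.node (.node (.node (.leaf []) (.leaf [])) (.node (.leaf []) (.leaf []))) (.node (.node (.leaf []) (.leaf [false, false, false, false, false, false])) (.leaf []))))

def certHLab13 : Janko.Tree (List Bool) :=
  (.node (.node (.node (.node (.leaf []) (.leaf [])) (.node (.leaf []) (.leaf [false]))) (.node (.node (.leaf []) (.leaf [false, false, false])) (.leaf [false, false, false, false, false, false]))) (.node (.node (.node (.leaf []) (.leaf [])) (.node (.leaf []) (.leaf [false, false, false, false, false]))) (.node (.node (.leaf [false]) (.leaf [])) (.leaf [false, false]))))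

def certHLab14 : Janko.Tree (List Bool) :=
  (.node (.node (.node (.node (.leaf []) (.leaf [false])) (.node (.leaf []) (.leaf [false, false, false]))) (.node (.node (.leaf []) (.leaf [false, false, false])) (.leaf []))) (.node (.node (.node (.leaf []) (.leaf [false, false, false, false, false, false])) (.node (.leaf [false, false, false, false, false]) (.leaf [false, false]))) (.node (.node (.leaf [false, false]) (.leaf [false, false, false, false, false, false])) (.leaf []))))

def certHLab15 : Janko.Tree (List Bool) :=
  (.node (.node (.node (.node (.leaf []) (.leaf [])) (.node (.leaf []) (.leaf [false, false, false]))) (.node (.node (.leaf [false]) (.leaf [false, false, false, false])) (.leaf [false, false]))) (.node (.node (.node (.leaf []) (.leaf [])) (.node (.leaf [false, false, false, false, false]) (.leaf []))) (.node (.node (.leaf []) (.leaf [false, false, false])) (.leaf [false, false, false, false, false]))))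

def certHLab16 : Janko.Tree (List Bool) :=
  (.node (.node (.node (.node (.leaf []) (.leaf [])) (.node (.leaf []) (.leaf [false, false]))) (.node (.node (.leaf []) (.leaf [false])) (.leaf []))) (.node (.node (.node (.leaf []) (.leaf [])) (.node (.leaf [false, false, false, false, false, false]) (.leaf [false, false, false]))) (.node (.node (.leaf [false, false, false]) (.leaf [])) (.leaf []))))

def certHLab17 : Janko.Tree (List Bool) :=
  (.node (.node (.node (.node (.leaf []) (.leaf [])) (.node (.leaf []) (.leaf [false, false]))) (.node (.node (.leaf []) (.leaf [false])) (.leaf []))) (.node (.node (.node (.leaf []) (.leaf [false, false, false, false])) (.node (.leaf [false, false, false, false, false]) (.leaf [false, false, false]))) (.node (.node (.leaf []) (.leaf [false, false, false, false, false])) (.leaf [false]))))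

def certHLab18 : Janko.Tree (List Bool) :=
  (.node (.node (.node (.node (.leaf []) (.leaf [])) (.node (.leaf [false, false, false]) (.leaf []))) (.node (.node (.leaf [false, false, false, false, false, false]) (.leaf [false, false, false, false, false])) (.leaf [false, false, false, false]))) (.node (.node (.node (.leaf []) (.leaf [])) (.node (.leaf []) (.leaf [false, false, false, false, false]))) (.node (.node (.leaf []) (.leaf [false, false])) (.leaf [false, false, false, false]))))

def certHLab19 : Janko.Tree (List Bool) :=
  (.node (.node (.node (.node (.leaf []) (.leaf [false, false, false, false, false, false])) (.node (.leaf []) (.leaf []))) (.node (.node (.leaf []) (.leaf [false, false, false])) (.leaf []))) (.node (.node (.node (.leaf []) (.leaf [])) (.node (.leaf []) (.leaf [false, false, false, false, false]))) (.node (.node (.leaf []) (.leaf [false])) (.leaf [false, false, false, false]))))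

def certHLab20 : Janko.Tree (List Bool) :=
  (.node (.node (.node (.node (.leaf []) (.leaf [false])) (.node (.leaf []) (.leaf [false, false, false, false, false, false]))) (.node (.node (.leaf []) (.leaf [])) (.leaf []))) (.node (.node (.node (.leaf [false]) (.leaf [])) (.node (.leaf [false, false, false, false]) (.leaf [false, false, false]))) (.node (.node (.leaf [false]) (.leaf [])) (.leaf []))))

def certHLab21 : Janko.Tree (List Bool) :=
  (.node (.node (.node (.node (.leaf [false, false, false, false, false, false]) (.leaf [])) (.node (.leaf []) (.leaf [false, false, false, false, false, false]))) (.node (.node (.leaf []) (.leaf [false, false, false, false])) (.leaf []))) (.node (.node (.node (.leaf []) (.leaf [])) (.node (.leaf []) (.leaf []))) (.node (.node (.leaf []) (.leaf [])) (.leaf [false, false, false]))))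

def certHLab22 : Janko.Tree (List Bool) :=
  (.node (.node (.node (.node (.leaf []) (.leaf [false, false, false, false, false, false])) (.node (.leaf []) (.leaf []))) (.node (.node (.leaf []) (.leaf [false, false])) (.leaf [false, false, false, false]))) (.node (.node (.node (.leaf []) (.leaf [])) (.node (.leaf [false, false, false, false]) (.leaf [false, false, false, false, false]))) (.node (.node (.leaf []) (.leaf [false, false, false])) (.leaf []))))

def certHLab23 : Janko.Tree (List Bool) :=
  (.node (.node (.node (.node (.leaf []) (.leaf [false])) (.node (.leaf []) (.leaf []))) (.node (.node (.leaf []) (.leaf [false, false, false, false, false])) (.leaf []))) (.node (.node (.node (.leaf []) (.leaf [])) (.node (.leaf [false, false, false, false, false, false]) (.leaf []))) (.node (.node (.leaf []) (.leaf [false, false, false])) (.leaf []))))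

def certHLab24 : Janko.Tree (List Bool) :=
  (.node (.node (.node (.node (.leaf []) (.leaf [false, false, false, false])) (.node (.leaf []) (.leaf [false]))) (.node (.node (.leaf []) (.leaf [])) (.leaf []))) (.node (.node (.node (.leaf []) (.leaf [false, false, false, false, false, false])) (.node (.leaf []) (.leaf [false]))) (.node (.node (.leaf []) (.leaf [false, false, false])) (.leaf [false, false, false, false, false]))))

def certHLab25 : Janko.Tree (List Bool) :=
  (.node (.node (.node (.node (.leaf []) (.leaf [false, false, false, false, false, false])) (.node (.leaf [false, false, false, false, false]) (.leaf []))) (.node (.node (.leaf []) (.leaf [false, false, false, false, false, false])) (.leaf []))) (.node (.node (.node (.leaf []) (.leaf [false, false, false])) (.node (.leaf []) (.leaf [false, false]))) (.node (.node (.leaf []) (.leaf [false, false, false, false, false, false])) (.leaf [false, false, false, false, false, false]))))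

def certHLab26 : Janko.Tree (List Bool) :=
  (.node (.node (.node (.node (.leaf []) (.leaf [])) (.node (.leaf []) (.leaf []))) (.node (.node (.leaf []) (.leaf [])) (.leaf []))) (.node (.node (.node (.leaf []) (.leaf [false])) (.node (.leaf []) (.leaf [false, false, false, false]))) (.node (.node (.leaf []) (.leaf [false, false])) (.leaf []))))

def certHLab27 : Janko.Tree (List Bool) :=
  (.node (.node (.node (.node (.leaf []) (.leaf [])) (.node (.leaf []) (.leaf [false, false, false, false, false]))) (.node (.node (.leaf []) (.leaf [false, false, false, false, false])) (.leaf [false, false, false, false, false, false]))) (.node (.node (.node (.leaf []) (.leaf [false, false, false, false])) (.node (.leaf []) (.leaf [false, false, false, false, false]))) (.node (.node (.leaf []) (.leaf [])) (.leaf []))))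

def certHLab28 : Janko.Tree (List Bool) :=
  (.node (.node (.node (.node (.leaf []) (.leaf [false, false, false, false, false, false])) (.node (.leaf []) (.leaf [false, false, false]))) (.node (.node (.leaf []) (.leaf [false, false])) (.leaf []))) (.node (.node (.node (.leaf []) (.leaf [false, false, false, false, false, false])) (.node (.leaf []) (.leaf [false, false, false, false, false]))) (.node (.node (.leaf []) (.leaf [false, false, false])) (.leaf []))))

def certHLab29 : Janko.Tree (List Bool) :=
  (.node (.node (.node (.node (.leaf []) (.leaf [])) (.node (.leaf []) (.leaf []))) (.node (.node (.leaf []) (.leaf [false, false])) (.leaf []))) (.node (.node (.node (.leaf []) (.leaf [false])) (.node (.leaf [false, false, false, false, false]) (.leaf []))) (.node (.node (.leaf []) (.leaf [])) (.leaf []))))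

def certHLab30 : Janko.Tree (List Bool) :=
  (.node (.node (.node (.node (.leaf []) (.leaf [false, false])) (.node (.leaf []) (.leaf [false, false, false, false]))) (.node (.node (.leaf [false, false, false, false, false]) (.leaf [])) (.leaf []))) (.node (.node (.node (.leaf []) (.leaf [false, false])) (.node (.leaf []) (.leaf [false, false, false]))) (.node (.node (.leaf [false, false]) (.leaf [])) (.leaf [false, false, false]))))

def certHLab31 : Janko.Tree (List Bool) :=
  (.node (.node (.node (.node (.leaf []) (.leaf [false, false])) (.node (.leaf []) (.leaf []))) (.node (.node (.leaf []) (.leaf [])) (.leaf [false, false, false, false]))) (.node (.node (.node (.leaf []) (.leaf [])) (.node (.leaf []) (.leaf [false, false, false]))) (.node (.node (.leaf []) (.leaf [])) (.leaf []))))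

def certHLab32 : Janko.Tree (List Bool) :=
  (.node (.node (.node (.node (.leaf []) (.leaf [false, false, false, false, false, false])) (.node (.leaf []) (.leaf [false, false, false, false, false]))) (.node (.node (.leaf []) (.leaf [false, false, false, false])) (.leaf []))) (.node (.node (.node (.leaf []) (.leaf [])) (.node (.leaf []) (.leaf [false, false, false, false, false]))) (.node (.node (.leaf [false, false, false]) (.leaf [])) (.leaf []))))

def certHLab33 : Janko.Tree (List Bool) :=
  (.node (.node (.node (.node (.leaf []) (.leaf [false, false])) (.node (.leaf []) (.leaf []))) (.node (.node (.leaf []) (.leaf [false])) (.leaf [false, false, false]))) (.node (.node (.node (.leaf []) (.leaf [])) (.node (.leaf []) (.leaf [false, false]))) (.node (.node (.leaf []) (.leaf [false])) (.leaf []))))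

def certHLab34 : Janko.Tree (List Bool) :=
  (.node (.node (.node (.node (.leaf []) (.leaf [])) (.node (.leaf []) (.leaf [false]))) (.node (.node (.leaf []) (.leaf [false, false])) (.leaf []))) (.node (.node (.node (.leaf []) (.leaf [false, false, false, false, false, false])) (.node (.leaf []) (.leaf [false]))) (.node (.node (.leaf [false]) (.leaf [])) (.leaf [false, false, false, false, false]))))

def certHLab35 : Janko.Tree (List Bool) :=
  (.node (.node (.node (.node (.leaf []) (.leaf [])) (.node (.leaf []) (.leaf [false, false]))) (.node (.node (.leaf [false, false]) (.leaf [false, false])) (.leaf []))) (.node (.node (.node (.leaf []) (.leaf [])) (.node (.leaf []) (.leaf [false, false]))) (.node (.node (.leaf []) (.leaf [])) (.leaf []))))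

def certHLab36 : Janko.Tree (List Bool) :=
  (.node (.node (.node (.node (.leaf []) (.leaf [])) (.node (.leaf []) (.leaf [false, false, false, false]))) (.node (.node (.leaf [false, false, false, false, false]) (.leaf [])) (.leaf []))) (.node (.node (.node (.leaf []) (.leaf [false, false, false, false])) (.node (.leaf []) (.leaf [false]))) (.node (.node (.leaf []) (.leaf [])) (.leaf []))))

def certHLab37 : Janko.Tree (List Bool) :=
  (.node (.node (.node (.node (.leaf []) (.leaf [])) (.node (.leaf []) (.leaf [false, false, false, false, false]))) (.node (.node (.leaf [false, false, false, false, false]) (.leaf [])) (.leaf []))) (.node (.node (.node (.leaf []) (.leaf [false, false, false, false, false])) (.node (.leaf []) (.leaf [false, false, false, false, false]))) (.node (.node (.leaf []) (.leaf [false, false, false, false, false, false])) (.leaf []))))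

def certHLab38 : Janko.Tree (List Bool) :=
  (.node (.node (.node (.node (.leaf [false]) (.leaf [])) (.node (.leaf []) (.leaf [false, false, false, false, false, false]))) (.node (.node (.leaf []) (.leaf [false])) (.leaf []))) (.node (.node (.node (.leaf []) (.leaf [false, false, false, false, false])) (.node (.leaf []) (.leaf [false, false]))) (.node (.node (.leaf []) (.leaf [false, false, false, false, false, false])) (.leaf []))))

def certHLab39 : Janko.Tree (List Bool) :=
  (.node (.node (.node (.node (.leaf []) (.leaf [false, false])) (.node (.leaf []) (.leaf []))) (.node (.node (.leaf [false, false, false]) (.leaf [])) (.leaf []))) (.node (.node (.node (.leaf []) (.leaf [])) (.node (.leaf []) (.leaf [false, false, false, false, false]))) (.node (.node (.leaf []) (.leaf [false])) (.leaf [false, false, false, false, false]))))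

def certHLab40 : Janko.Tree (List Bool) :=
  (.node (.node (.node (.node (.leaf []) (.leaf [false, false])) (.node (.leaf [false, false]) (.leaf [false, false, false]))) (.node (.node (.leaf []) (.leaf [false, false])) (.leaf [false, false, false, false, false]))) (.node (.node (.node (.leaf []) (.leaf [false, false, false, false])) (.node (.leaf [false, false]) (.leaf [false, false, false]))) (.node (.node (.leaf [false, false, false, false, false]) (.leaf [])) (.leaf [false, false, false, false, false, false]))))

def certHLab41 : Janko.Tree (List Bool) :=
  (.node (.node (.node (.node (.leaf []) (.leaf [])) (.node (.leaf []) (.leaf [false, false, false]))) (.node (.node (.leaf []) (.leaf [false])) (.leaf [false, false, false, false, false]))) (.node (.node (.node (.leaf []) (.leaf [false, false])) (.node (.leaf []) (.leaf [false, false]))) (.node (.node (.leaf []) (.leaf [false, false, false, false, false])) (.leaf [false, false, false, false, false, false]))))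

def certHLab42 : Janko.Tree (List Bool) :=
  (.node (.node (.node (.node (.leaf []) (.leaf [])) (.node (.leaf []) (.leaf [false, false, false, false, false]))) (.node (.node (.leaf []) (.leaf [])) (.leaf [false, false, false]))) (.node (.node (.node (.leaf []) (.leaf [false, false, false, false, false, false])) (.node (.leaf [false]) (.leaf [false, false]))) (.node (.node (.leaf []) (.leaf [false, false, false, false, false, false])) (.leaf [false]))))

def certHLab43 : Janko.Tree (List Bool) :=
  (.node (.node (.node (.node (.leaf [false]) (.leaf [false])) (.node (.leaf []) (.leaf [false, false, false, false, false]))) (.node (.node (.leaf []) (.leaf [false, false, false])) (.leaf []))) (.node (.node (.node (.leaf []) (.leaf [false, false, false, false, false])) (.node (.leaf [false, false]) (.leaf [false, false, false, false, false]))) (.node (.node (.leaf []) (.leaf [])) (.leaf [false, false, false, false, false]))))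

def certHLab44 : Janko.Tree (List Bool) :=
  (.node (.node (.node (.node (.leaf []) (.leaf [false, false, false])) (.node (.leaf []) (.leaf [false]))) (.node (.node (.leaf []) (.leaf [])) (.leaf []))) (.node (.node (.node (.leaf []) (.leaf [false])) (.node (.leaf []) (.leaf [false, false, false, false]))) (.node (.node (.leaf [false, false]) (.leaf [])) (.leaf []))))

def certHLab45 : Janko.Tree (List Bool) :=
  (.node (.node (.node (.node (.leaf []) (.leaf [false, false, false, false, false, false])) (.node (.leaf []) (.leaf [false]))) (.node (.node (.leaf [false, false]) (.leaf [false, false, false, false, false, false])) (.leaf []))) (.node (.node (.node (.leaf []) (.leaf [false, false, false, false, false, false])) (.node (.leaf []) (.leaf [false, false, false]))) (.node (.node (.leaf [false, false, false, false, false]) (.leaf [])) (.leaf []))))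

def certHLab46 : Janko.Tree (List Bool) :=
  (.node (.node (.node (.node (.leaf []) (.leaf [false, false, false])) (.node (.leaf []) (.leaf [false]))) (.node (.node (.leaf []) (.leaf [false, false, false, false])) (.leaf [false]))) (.node (.node (.node (.leaf []) (.leaf [])) (.node (.leaf []) (.leaf [false, false, false, false, false, false]))) (.node (.node (.leaf [false]) (.leaf [])) (.leaf [false]))))

def certHLab47 : Janko.Tree (List Bool) :=
  (.node (.node (.node (.node (.leaf []) (.leaf [])) (.node (.leaf []) (.leaf []))) (.node (.node (.leaf []) (.leaf [])) (.leaf [false, false, false, false, false]))) (.node (.node (.node (.leaf []) (.leaf [])) (.node (.leaf []) (.leaf []))) (.node (.node (.leaf []) (.leaf [])) (.leaf [false]))))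

def certHLab48 : Janko.Tree (List Bool) :=
  (.node (.node (.node (.node (.leaf []) (.leaf [])) (.node (.leaf []) (.leaf [false, false, false, false, false]))) (.node (.node (.leaf []) (.leaf [false, false, false, false, false])) (.leaf [false, false, false]))) (.node (.node (.node (.leaf []) (.leaf [false, false, false])) (.node (.leaf []) (.leaf [false, false]))) (.node (.node (.leaf []) (.leaf [false, false, false])) (.leaf [false, false, false, false]))))

def certHLab49 : Janko.Tree (List Bool) :=
  (.node (.node (.node (.node (.leaf []) (.leaf [false, false, false, false, false, false])) (.node (.leaf []) (.leaf [false, false]))) (.node (.node (.leaf []) (.leaf [])) (.leaf [false, false, false]))) (.node (.node (.node (.leaf []) (.leaf [false, false, false])) (.node (.leaf []) (.leaf [false]))) (.node (.node (.leaf [false]) (.leaf [false, false, false, false])) (.leaf [false, false, false, false, false]))))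

def certHLab50 : Janko.Tree (List Bool) :=
  (.node (.node (.node (.node (.leaf []) (.leaf [false, false, false, false])) (.node (.leaf [false, false]) (.leaf [false, false]))) (.node (.node (.leaf [false, false]) (.leaf [])) (.leaf [false, false, false, false]))) (.node (.node (.node (.leaf []) (.leaf [false, false, false, false])) (.node (.leaf []) (.leaf []))) (.node (.node (.leaf []) (.leaf [])) (.leaf []))))

def certHLab51 : Janko.Tree (List Bool) :=
  (.node (.node (.node (.node (.leaf []) (.leaf [])) (.node (.leaf []) (.leaf [false, false, false]))) (.node (.node (.leaf []) (.leaf [false, false, false, false, false])) (.leaf []))) (.node (.node (.node (.leaf []) (.leaf [])) (.node (.leaf []) (.leaf [false, false, false, false, false, false]))) (.node (.node (.leaf []) (.leaf [false, false])) (.leaf [false, false, false, false, false, false]))))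

def certHLab52 : Janko.Tree (List Bool) :=
  (.node (.node (.node (.node (.leaf []) (.leaf [])) (.node (.leaf []) (.leaf []))) (.node (.node (.leaf []) (.leaf [false])) (.leaf []))) (.node (.node (.node (.leaf []) (.leaf [])) (.node (.leaf []) (.leaf [false, false, false, false, false, false]))) (.node (.node (.leaf []) (.leaf [])) (.leaf []))))

def certHLab53 : Janko.Tree (List Bool) :=
  (.node (.node (.node (.node (.leaf []) (.leaf [])) (.node (.leaf [false]) (.leaf [false, false, false]))) (.node (.node (.leaf []) (.leaf [false, false])) (.leaf []))) (.node (.node (.node (.leaf []) (.leaf [])) (.node (.leaf []) (.leaf [false]))) (.node (.node (.leaf []) (.leaf [])) (.leaf []))))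

def certHLab54 : Janko.Tree (List Bool) :=
  (.node (.node (.node (.node (.leaf []) (.leaf [])) (.node (.leaf []) (.leaf []))) (.node (.node (.leaf []) (.leaf [false, false, false, false])) (.leaf [false, false, false, false]))) (.node (.node (.node (.leaf []) (.leaf [])) (.node (.leaf []) (.leaf []))) (.node (.node (.leaf []) (.leaf [false, false, false])) (.leaf []))))

def certHLab55 : Janko.Tree (List Bool) :=
  (.node (.node (.node (.node (.leaf []) (.leaf [])) (.node (.leaf []) (.leaf [false, false, false, false, false, false]))) (.node (.node (.leaf []) (.leaf [false, false, false, false, false, false])) (.leaf []))) (.node (.node (.node (.leaf []) (.leaf [])) (.node (.leaf [false]) (.leaf [false, false, false, false]))) (.node (.node (.leaf []) (.leaf [false, false])) (.leaf []))))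

def certHLab56 : Janko.Tree (List Bool) :=
  (.node (.node (.node (.node (.leaf []) (.leaf [false, false])) (.node (.leaf []) (.leaf [false]))) (.node (.node (.leaf []) (.leaf [])) (.leaf [false, false, false, false, false, false]))) (.node (.node (.node (.leaf []) (.leaf [])) (.node (.leaf []) (.leaf [false, false, false, false, false, false]))) (.node (.node (.leaf [false, false]) (.leaf [false, false, false, false, false, false])) (.leaf []))))

def certHLab57 : Janko.Tree (List Bool) :=
  (.node (.node (.node (.node (.leaf []) (.leaf [])) (.node (.leaf []) (.leaf [false]))) (.node (.node (.leaf []) (.leaf [])) (.leaf []))) (.node (.node (.node (.leaf []) (.leaf [false, false, false, false])) (.node (.leaf []) (.leaf [false]))) (.node (.node (.leaf []) (.leaf [])) (.leaf []))))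

def certHLab58 : Janko.Tree (List Bool) :=
  (.node (.node (.node (.node (.leaf []) (.leaf [])) (.node (.leaf []) (.leaf []))) (.node (.node (.leaf []) (.leaf [])) (.leaf []))) (.node (.node (.node (.leaf []) (.leaf [false, false, false, false, false])) (.node (.leaf [false, false, false, false, false]) (.leaf []))) (.node (.node (.leaf []) (.leaf [])) (.leaf []))))

def certHLab59 : Janko.Tree (List Bool) :=
  (.node (.node (.node (.node (.leaf []) (.leaf [false, false, false])) (.node (.leaf []) (.leaf [false]))) (.node (.node (.leaf [false, false]) (.leaf [])) (.leaf [false, false, false, false]))) (.node (.node (.node (.leaf []) (.leaf [])) (.node (.leaf [false, false, false, false, false]) (.leaf [false, false, false, false, false, false]))) (.node (.node (.leaf []) (.leaf [])) (.leaf []))))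

def certHLab60 : Janko.Tree (List Bool) :=
  (.node (.node (.node (.node (.leaf []) (.leaf [false, false, false, false, false, false])) (.node (.leaf []) (.leaf [false, false, false, false, false, false]))) (.node (.node (.leaf []) (.leaf [])) (.leaf []))) (.node (.node (.node (.leaf []) (.leaf [false, false, false])) (.node (.leaf []) (.leaf [false, false, false, false, false]))) (.node (.node (.leaf []) (.leaf [])) (.leaf []))))

def certHLab61 : Janko.Tree (List Bool) :=
  (.node (.node (.node (.node (.leaf [false]) (.leaf [false, false, false, false, false, false])) (.node (.leaf []) (.leaf []))) (.node (.node (.leaf []) (.leaf [false, false, false, false, false, false])) (.leaf [false, false, false, false, false]))) (.node (.node (.node (.leaf []) (.leaf [false, false, false, false, false])) (.node (.leaf []) (.leaf [false, false, false, false, false, false]))) (.node (.node (.leaf []) (.leaf [])) (.leaf []))))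

def certHLab62 : Janko.Tree (List Bool) :=
  (.node (.node (.node (.node (.leaf []) (.leaf [false, false])) (.node (.leaf []) (.leaf [false]))) (.node (.node (.leaf []) (.leaf [])) (.leaf [false, false, false, false, false, false]))) (.node (.node (.node (.leaf []) (.leaf [])) (.node (.leaf [false, false, false, false]) (.leaf [false, false, false, false, false]))) (.node (.node (.leaf []) (.leaf [false, false, false, false, false])) (.leaf [false, false]))))

def certHLab63 : Janko.Tree (List Bool) :=
  (.node (.node (.node (.node (.leaf []) (.leaf [])) (.node (.leaf []) (.leaf [false, false, false, false, false, false]))) (.node (.node (.leaf []) (.leaf [false, false, false, false])) (.leaf []))) (.node (.node (.node (.leaf []) (.leaf [false, false, false, false, false, false])) (.node (.leaf []) (.leaf [false, false, false, false, false]))) (.node (.node (.leaf []) (.leaf [false, false, false, false, false, false])) (.leaf []))))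

def certHLab64 : Janko.Tree (List Bool) :=
  (.node (.node (.node (.node (.leaf []) (.leaf [false, false, false])) (.node (.leaf []) (.leaf [false, false]))) (.node (.node (.leaf []) (.leaf [false, false, false])) (.leaf []))) (.node (.node (.node (.leaf []) (.leaf [])) (.leaf [])) (.node (.node (.leaf [false, false, false, false]) (.leaf [false])) (.leaf []))))

def certHLab65 : Janko.Tree (List Bool) :=
  (.node (.node (.node (.node (.leaf []) (.leaf [])) (.node (.leaf [false, false]) (.leaf [false, false]))) (.node (.node (.leaf []) (.leaf [false, false, false, false])) (.leaf [false, false, false, false, false, false]))) (.node (.node (.node (.leaf []) (.leaf [])) (.leaf [])) (.node (.node (.leaf [false, false, false, false, false]) (.leaf [false])) (.leaf []))))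

def certHLab66 : Janko.Tree (List Bool) :=
  (.node (.node (.node (.node (.leaf []) (.leaf [false, false, false, false, false, false])) (.node (.leaf []) (.leaf []))) (.node (.node (.leaf []) (.leaf [])) (.leaf []))) (.node (.node (.node (.leaf []) (.leaf [])) (.leaf [])) (.node (.node (.leaf []) (.leaf [false, false, false, false])) (.leaf []))))

def certHLab67 : Janko.Tree (List Bool) :=
  (.node (.node (.node (.node (.leaf []) (.leaf [])) (.node (.leaf []) (.leaf [false, false, false]))) (.node (.node (.leaf []) (.leaf [false])) (.leaf [false, false, false, false, false, false]))) (.node (.node (.node (.leaf []) (.leaf [false, false, false, false, false, false])) (.leaf [])) (.node (.node (.leaf []) (.leaf [false, false, false, false, false, false])) (.leaf [false]))))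

def certHLab68 : Janko.Tree (List Bool) :=
  (.node (.node (.node (.node (.leaf []) (.leaf [])) (.node (.leaf []) (.leaf [false, false, false, false]))) (.node (.node (.leaf []) (.leaf [false])) (.leaf []))) (.node (.node (.node (.leaf []) (.leaf [])) (.leaf [])) (.node (.node (.leaf [false, false, false, false, false]) (.leaf [])) (.leaf []))))

def certHLab69 : Janko.Tree (List Bool) :=
  (.node (.node (.node (.node (.leaf []) (.leaf [])) (.node (.leaf [false, false, false, false]) (.leaf []))) (.node (.node (.leaf []) (.leaf [false, false, false, false, false, false])) (.leaf []))) (.node (.node (.node (.leaf []) (.leaf [])) (.leaf [false, false, false, false])) (.node (.node (.leaf [false, false]) (.leaf [false])) (.leaf [false, false, false]))))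

def certHLab70 : Janko.Tree (List Bool) :=
  (.node (.node (.node (.node (.leaf []) (.leaf [false, false, false, false])) (.node (.leaf []) (.leaf [false, false]))) (.node (.node (.leaf []) (.leaf [])) (.leaf []))) (.node (.node (.node (.leaf []) (.leaf [])) (.leaf [false])) (.node (.node (.leaf []) (.leaf [])) (.leaf [false, false, false]))))

def certHLab71 : Janko.Tree (List Bool) :=
  (.node (.node (.node (.node (.leaf []) (.leaf [])) (.node (.leaf []) (.leaf [false, false]))) (.node (.node (.leaf []) (.leaf [])) (.leaf []))) (.node (.node (.node (.leaf []) (.leaf [false])) (.leaf [])) (.node (.node (.leaf []) (.leaf [false, false, false])) (.leaf []))))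

def certHLab72 : Janko.Tree (List Bool) :=
  (.node (.node (.node (.node (.leaf []) (.leaf [false, false, false, false, false, false])) (.node (.leaf [false, false, false, false, false, false]) (.leaf [false]))) (.node (.node (.leaf []) (.leaf [false, false, false])) (.leaf [false, false, false, false, false, false]))) (.node (.node (.node (.leaf []) (.leaf [false, false, false, false])) (.leaf [])) (.node (.node (.leaf []) (.leaf [])) (.leaf [false]))))

def certHLab73 : Janko.Tree (List Bool) :=
  (.node (.node (.node (.node (.leaf []) (.leaf [])) (.node (.leaf []) (.leaf []))) (.node (.node (.leaf []) (.leaf [])) (.leaf [false, false, false, false, false, false]))) (.node (.node (.node (.leaf []) (.leaf [false, false, false])) (.leaf [])) (.node (.node (.leaf [false, false, false, false, false]) (.leaf [false])) (.leaf []))))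

def certHLab74 : Janko.Tree (List Bool) :=
  (.node (.node (.node (.node (.leaf []) (.leaf [])) (.node (.leaf []) (.leaf [false]))) (.node (.node (.leaf []) (.leaf [false, false])) (.leaf [false, false, false]))) (.node (.node (.node (.leaf []) (.leaf [false])) (.leaf [])) (.node (.node (.leaf [false, false, false, false, false, false]) (.leaf [false, false])) (.leaf [false]))))

def certHLab75 : Janko.Tree (List Bool) :=
  (.node (.node (.node (.node (.leaf []) (.leaf [])) (.node (.leaf []) (.leaf [false, false, false, false, false, false]))) (.node (.node (.leaf []) (.leaf [false, false, false, false])) (.leaf [false, false, false]))) (.node (.node (.node (.leaf []) (.leaf [])) (.leaf [])) (.node (.node (.leaf []) (.leaf [false, false, false, false, false])) (.leaf [false, false, false]))))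

def certHLab76 : Janko.Tree (List Bool) :=
  (.node (.node (.node (.node (.leaf []) (.leaf [false])) (.node (.leaf []) (.leaf [false]))) (.node (.node (.leaf []) (.leaf [false, false, false, false, false])) (.leaf []))) (.node (.node (.node (.leaf []) (.leaf [])) (.leaf [])) (.node (.node (.leaf []) (.leaf [false, false, false, false, false])) (.leaf [false, false]))))

def certHLab77 : Janko.Tree (List Bool) :=
  (.node (.node (.node (.node (.leaf []) (.leaf [false])) (.node (.leaf []) (.leaf []))) (.node (.node (.leaf []) (.leaf [])) (.leaf []))) (.node (.node (.node (.leaf []) (.leaf [])) (.leaf [])) (.node (.node (.leaf [false, false, false, false, false]) (.leaf [false, false])) (.leaf [false, false, false, false]))))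

def certHLab78 : Janko.Tree (List Bool) :=
  (.node (.node (.node (.node (.leaf []) (.leaf [])) (.node (.leaf [false, false, false, false, false, false]) (.leaf []))) (.node (.node (.leaf []) (.leaf [])) (.leaf []))) (.node (.node (.node (.leaf []) (.leaf [false, false, false, false])) (.leaf [])) (.node (.node (.leaf []) (.leaf [false, false, false, false, false, false])) (.leaf [false, false, false, false, false, false]))))

def certHLab79 : Janko.Tree (List Bool) :=
  (.node (.node (.node (.node (.leaf []) (.leaf [false])) (.node (.leaf [false, false, false, false, false, false]) (.leaf []))) (.node (.node (.leaf []) (.leaf [])) (.leaf [false, false, false]))) (.node (.node (.node (.leaf []) (.leaf [])) (.leaf [])) (.node (.node (.leaf []) (.leaf [false, false, false, false, false, false])) (.leaf []))))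

def certHLab80 : Janko.Tree (List Bool) :=
  (.node (.node (.node (.node (.leaf []) (.leaf [])) (.node (.leaf []) (.leaf [false, false]))) (.node (.node (.leaf []) (.leaf [])) (.leaf []))) (.node (.node (.node (.leaf []) (.leaf [])) (.leaf [])) (.node (.node (.leaf [false]) (.leaf [false, false, false])) (.leaf [false, false, false, false]))))

def certHLab81 : Janko.Tree (List Bool) :=
  (.node (.node (.node (.node (.leaf []) (.leaf [false, false, false, false, false, false])) (.node (.leaf [false, false, false, false, false, false]) (.leaf [false, false, false, false, false]))) (.node (.node (.leaf []) (.leaf [false, false, false, false, false, false])) (.leaf []))) (.node (.node (.node (.leaf []) (.leaf [false, false, false])) (.leaf [])) (.node (.node (.leaf []) (.leaf [false, false, false, false, false, false])) (.leaf []))))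

def certHLab82 : Janko.Tree (List Bool) :=
  (.node (.node (.node (.node (.leaf []) (.leaf [false])) (.node (.leaf []) (.leaf []))) (.node (.node (.leaf []) (.leaf [])) (.leaf []))) (.node (.node (.node (.leaf []) (.leaf [false, false])) (.leaf [false, false, false])) (.node (.node (.leaf []) (.leaf [])) (.leaf []))))

def certHLab83 : Janko.Tree (List Bool) :=
  (.node (.node (.node (.node (.leaf []) (.leaf [])) (.node (.leaf []) (.leaf [false, false, false, false]))) (.node (.node (.leaf [false, false]) (.leaf [false, false, false])) (.leaf [false, false, false, false, false]))) (.node (.node (.node (.leaf []) (.leaf [false, false, false, false, false])) (.leaf [false, false, false])) (.node (.node (.leaf []) (.leaf [])) (.leaf []))))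

def certHLab84 : Janko.Tree (List Bool) :=
  (.node (.node (.node (.node (.leaf []) (.leaf [])) (.node (.leaf []) (.leaf []))) (.node (.node (.leaf []) (.leaf [])) (.leaf [false]))) (.node (.node (.node (.leaf []) (.leaf [])) (.leaf [])) (.node (.node (.leaf []) (.leaf [false, false, false, false, false, false])) (.leaf []))))

def certHLab85 : Janko.Tree (List Bool) :=
  (.node (.node (.node (.node (.leaf []) (.leaf [false, false])) (.node (.leaf []) (.leaf []))) (.node (.node (.leaf []) (.leaf [])) (.leaf [false]))) (.node (.node (.node (.leaf []) (.leaf [false, false, false, false])) (.leaf [])) (.node (.node (.leaf [false, false, false, false, false]) (.leaf [false])) (.leaf []))))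

def certHLab86 : Janko.Tree (List Bool) :=
  (.node (.node (.node (.node (.leaf []) (.leaf [])) (.node (.leaf []) (.leaf [false, false]))) (.node (.node (.leaf []) (.leaf [false, false, false, false, false, false])) (.leaf []))) (.node (.node (.node (.leaf []) (.leaf [false, false, false, false, false])) (.leaf [false, false, false, false])) (.node (.node (.leaf []) (.leaf [false])) (.leaf [false, false, false]))))

def certHLab87 : Janko.Tree (List Bool) :=
  (.node (.node (.node (.node (.leaf []) (.leaf [false, false])) (.node (.leaf []) (.leaf [false, false, false]))) (.node (.node (.leaf [false]) (.leaf [false, false, false, false, false])) (.leaf []))) (.node (.node (.node (.leaf []) (.leaf [false, false, false, false, false, false])) (.leaf [false, false, false, false, false, false])) (.node (.node (.leaf []) (.leaf [false])) (.leaf [false, false, false, false, false, false]))))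

def certHLab88 : Janko.Tree (List Bool) :=
  (.node (.node (.node (.node (.leaf []) (.leaf [])) (.node (.leaf []) (.leaf [false]))) (.node (.node (.leaf []) (.leaf [false, false, false, false, false])) (.leaf []))) (.node (.node (.node (.leaf []) (.leaf [false, false, false, false, false])) (.leaf [])) (.node (.node (.leaf [false, false, false, false, false]) (.leaf [false, false, false])) (.leaf [false]))))

def certHLab89 : Janko.Tree (List Bool) :=
  (.node (.node (.node (.node (.leaf []) (.leaf [false])) (.node (.leaf []) (.leaf [false, false]))) (.node (.node (.leaf []) (.leaf [false, false])) (.leaf [false, false, false, false]))) (.node (.node (.node (.leaf [false, false, false]) (.leaf [])) (.leaf [])) (.node (.node (.leaf [false, false, false, false, false]) (.leaf [false, false, false, false, false, false])) (.leaf []))))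

def certHLab90 : Janko.Tree (List Bool) :=
  (.node (.node (.node (.node (.leaf []) (.leaf [false])) (.node (.leaf []) (.leaf [false, false, false, false]))) (.node (.node (.leaf []) (.leaf [false, false, false, false])) (.leaf [false, false, false, false, false, false]))) (.node (.node (.node (.leaf [false, false, false]) (.leaf [false, false, false])) (.leaf [])) (.node (.node (.leaf []) (.leaf [false])) (.leaf [false]))))

def certHLab91 : Janko.Tree (List Bool) :=
  (.node (.node (.node (.node (.leaf []) (.leaf [])) (.node (.leaf []) (.leaf [false, false, false, false]))) (.node (.node (.leaf []) (.leaf [])) (.leaf [false, false]))) (.node (.node (.node (.leaf []) (.leaf [false, false, false, false, false, false])) (.leaf [false, false, false, false, false, false])) (.node (.node (.leaf [false, false]) (.leaf [false, false, false])) (.leaf [false, false, false, false, false]))))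

def certHLab92 : Janko.Tree (List Bool) :=
  (.node (.node (.node (.node (.leaf []) (.leaf [])) (.node (.leaf []) (.leaf [false]))) (.node (.node (.leaf []) (.leaf [false, false])) (.leaf []))) (.node (.node (.node (.leaf []) (.leaf [false])) (.leaf [])) (.node (.node (.leaf [false, false, false]) (.leaf [false, false])) (.leaf []))))

def certHLab93 : Janko.Tree (List Bool) :=
  (.node (.node (.node (.node (.leaf []) (.leaf [false, false, false])) (.node (.leaf []) (.leaf []))) (.node (.node (.leaf []) (.leaf [false, false, false, false, false, false])) (.leaf [false, false]))) (.node (.node (.node (.leaf []) (.leaf [false, false, false, false, false, false])) (.leaf [false, false, false, false])) (.node (.node (.leaf []) (.leaf [false])) (.leaf []))))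

def certHLab94 : Janko.Tree (List Bool) :=
  (.node (.node (.node (.node (.leaf []) (.leaf [])) (.node (.leaf [false, false, false, false]) (.leaf [false, false, false]))) (.node (.node (.leaf []) (.leaf [])) (.leaf [false]))) (.node (.node (.node (.leaf []) (.leaf [])) (.leaf [])) (.node (.node (.leaf [false]) (.leaf [false, false, false])) (.leaf [false, false, false]))))

def certHLab95 : Janko.Tree (List Bool) :=
  (.node (.node (.node (.node (.leaf []) (.leaf [])) (.node (.leaf []) (.leaf []))) (.node (.node (.leaf []) (.leaf [])) (.leaf [false]))) (.node (.node (.node (.leaf [false, false, false]) (.leaf [false, false, false, false, false])) (.leaf [])) (.node (.node (.leaf []) (.leaf [])) (.leaf [false, false, false, false]))))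

def certHLab96 : Janko.Tree (List Bool) :=
  (.node (.node (.node (.node (.leaf []) (.leaf [false, false])) (.node (.leaf []) (.leaf [false]))) (.node (.node (.leaf []) (.leaf [])) (.leaf []))) (.node (.node (.node (.leaf []) (.leaf [false, false, false, false, false, false])) (.leaf [false])) (.node (.node (.leaf []) (.leaf [false, false])) (.leaf []))))

def certHLab97 : Janko.Tree (List Bool) :=
  (.node (.node (.node (.node (.leaf [false, false]) (.leaf [])) (.node (.leaf []) (.leaf []))) (.node (.node (.leaf []) (.leaf [false, false, false])) (.leaf [false, false, false]))) (.node (.node (.node (.leaf []) (.leaf [])) (.leaf [])) (.node (.node (.leaf []) (.leaf [false, false])) (.leaf [false, false, false]))))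

def certHLab98 : Janko.Tree (List Bool) :=
  (.node (.node (.node (.node (.leaf []) (.leaf [])) (.node (.leaf []) (.leaf []))) (.node (.node (.leaf []) (.leaf [false, false, false, false, false, false])) (.leaf []))) (.node (.node (.node (.leaf [false]) (.leaf [false, false])) (.leaf [])) (.node (.node (.leaf []) (.leaf [false, false, false, false, false, false])) (.leaf [false, false]))))

def certHLab99 : Janko.Tree (List Bool) :=
  (.node (.node (.node (.node (.leaf []) (.leaf [])) (.node (.leaf [false, false, false, false, false]) (.leaf []))) (.node (.node (.leaf []) (.leaf [false, false, false])) (.leaf [false]))) (.node (.node (.node (.leaf []) (.leaf [])) (.leaf [false, false, false, false, false, false])) (.node (.node (.leaf []) (.leaf [false])) (.leaf [false, false]))))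

def certHLab100 : Janko.Tree (List Bool) :=
  (.node (.node (.node (.node (.leaf []) (.leaf [false])) (.node (.leaf []) (.leaf [false, false, false, false]))) (.node (.node (.leaf []) (.leaf [false, false, false, false, false])) (.leaf [false, false, false]))) (.node (.node (.node (.leaf []) (.leaf [false, false, false, false, false])) (.leaf [])) (.node (.node (.leaf []) (.leaf [false, false, false, false, false])) (.leaf [false, false, false, false, false]))))

def certHLab101 : Janko.Tree (List Bool) :=
  (.node (.node (.node (.node (.leaf []) (.leaf [])) (.node (.leaf []) (.leaf [false, false, false]))) (.node (.node (.leaf []) (.leaf [false, false, false, false, false])) (.leaf []))) (.node (.node (.node (.leaf []) (.leaf [false, false])) (.leaf [])) (.node (.node (.leaf []) (.leaf [false, false, false, false])) (.leaf []))))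

def certHLab102 : Janko.Tree (List Bool) :=
  (.node (.node (.node (.node (.leaf []) (.leaf [false, false, false])) (.node (.leaf [false, false, false, false]) (.leaf [false, false, false, false, false, false]))) (.node (.node (.leaf []) (.leaf [false, false])) (.leaf []))) (.node (.node (.node (.leaf []) (.leaf [false, false])) (.leaf [])) (.node (.node (.leaf []) (.leaf [false])) (.leaf [false]))))

def certHLab103 : Janko.Tree (List Bool) :=
  (.node (.node (.node (.node (.leaf []) (.leaf [])) (.node (.leaf []) (.leaf []))) (.node (.node (.leaf []) (.leaf [false, false, false, false])) (.leaf [false, false, false, false, false]))) (.node (.node (.node (.leaf []) (.leaf [false, false, false])) (.leaf [false, false, false])) (.node (.node (.leaf []) (.leaf [false])) (.leaf [false, false, false, false, false]))))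

def certHLab104 : Janko.Tree (List Bool) :=
  (.node (.node (.node (.node (.leaf [false, false, false, false, false]) (.leaf [false, false])) (.node (.leaf []) (.leaf []))) (.node (.node (.leaf []) (.leaf [false, false, false])) (.leaf [false, false, false, false]))) (.node (.node (.node (.leaf []) (.leaf [false, false, false, false, false, false])) (.leaf [])) (.node (.node (.leaf [false]) (.leaf [false, false, false, false, false, false])) (.leaf [false, false]))))

def certHLab105 : Janko.Tree (List Bool) :=
  (.node (.node (.node (.node (.leaf []) (.leaf [false, false, false])) (.node (.leaf []) (.leaf [false, false, false, false]))) (.node (.node (.leaf []) (.leaf [false])) (.leaf []))) (.node (.node (.node (.leaf []) (.leaf [])) (.leaf [])) (.node (.node (.leaf [false, false, false, false, false, false]) (.leaf [])) (.leaf []))))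

def certHLab106 : Janko.Tree (List Bool) :=
  (.node (.node (.node (.node (.leaf []) (.leaf [])) (.node (.leaf []) (.leaf []))) (.node (.node (.leaf []) (.leaf [])) (.leaf []))) (.node (.node (.node (.leaf []) (.leaf [false])) (.leaf [false, false, false])) (.node (.node (.leaf [false, false, false, false, false, false]) (.leaf [])) (.leaf []))))

def certHLab107 : Janko.Tree (List Bool) :=
  (.node (.node (.node (.node (.leaf []) (.leaf [])) (.node (.leaf []) (.leaf []))) (.node (.node (.leaf []) (.leaf [false, false])) (.leaf [false, false, false, false]))) (.node (.node (.node (.leaf []) (.leaf [false, false, false, false, false, false])) (.leaf [])) (.node (.node (.leaf []) (.leaf [false, false, false, false, false, false])) (.leaf [false, false, false, false, false, false]))))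

def certHLab108 : Janko.Tree (List Bool) :=
  (.node (.node (.node (.node (.leaf []) (.leaf [false, false, false])) (.node (.leaf []) (.leaf [false, false]))) (.node (.node (.leaf []) (.leaf [false, false])) (.leaf []))) (.node (.node (.node (.leaf []) (.leaf [])) (.leaf [])) (.node (.node (.leaf []) (.leaf [false, false, false, false, false, false])) (.leaf [false]))))

def certHLab109 : Janko.Tree (List Bool) :=
  (.node (.node (.node (.node (.leaf []) (.leaf [])) (.node (.leaf []) (.leaf [false, false, false, false]))) (.node (.node (.leaf []) (.leaf [false, false, false, false, false])) (.leaf []))) (.node (.node (.node (.leaf []) (.leaf [false, false])) (.leaf [false, false, false])) (.node (.node (.leaf [false, false, false, false, false, false]) (.leaf [false, false, false, false, false, false])) (.leaf []))))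

def certHLab110 : Janko.Tree (List Bool) :=
  (.node (.node (.node (.node (.leaf []) (.leaf [false, false, false, false, false])) (.node (.leaf []) (.leaf []))) (.node (.node (.leaf []) (.leaf [false, false])) (.leaf []))) (.node (.node (.node (.leaf []) (.leaf [])) (.leaf [])) (.node (.node (.leaf []) (.leaf [false, false, false, false, false])) (.leaf []))))

def certHLab111 : Janko.Tree (List Bool) :=
  (.node (.node (.node (.node (.leaf []) (.leaf [false, false, false, false])) (.node (.leaf [false, false, false, false, false]) (.leaf []))) (.node (.node (.leaf []) (.leaf [false])) (.leaf []))) (.node (.node (.node (.leaf []) (.leaf [])) (.leaf [])) (.node (.node (.leaf [false]) (.leaf [])) (.leaf [false, false, false, false]))))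

def certHLab112 : Janko.Tree (List Bool) :=
  (.node (.node (.node (.node (.leaf []) (.leaf [false])) (.node (.leaf [false, false, false, false, false, false]) (.leaf []))) (.node (.node (.leaf []) (.leaf [false, false, false])) (.leaf []))) (.node (.node (.node (.leaf []) (.leaf [])) (.leaf [false])) (.node (.node (.leaf []) (.leaf [false, false, false, false, false, false])) (.leaf [false, false, false]))))

def certHLab113 : Janko.Tree (List Bool) :=
  (.node (.node (.node (.node (.leaf []) (.leaf [])) (.node (.leaf [false, false, false, false]) (.leaf [false, false, false, false, false, false]))) (.node (.node (.leaf []) (.leaf [false, false, false])) (.leaf [false, false, false, false, false, false]))) (.node (.node (.node (.leaf []) (.leaf [])) (.leaf [false, false, false])) (.node (.node (.leaf []) (.leaf [])) (.leaf [false, false, false]))))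

def certHLab114 : Janko.Tree (List Bool) :=
  (.node (.node (.node (.node (.leaf []) (.leaf [false, false, false, false])) (.node (.leaf [false, false, false, false, false, false]) (.leaf []))) (.node (.node (.leaf []) (.leaf [false, false])) (.leaf [false]))) (.node (.node (.node (.leaf []) (.leaf [false])) (.leaf [false, false])) (.node (.node (.leaf []) (.leaf [])) (.leaf [false, false]))))

def certHLab115 : Janko.Tree (List Bool) :=
  (.node (.node (.node (.node (.leaf []) (.leaf [false, false, false, false])) (.node (.leaf [false, false, false, false, false, false]) (.leaf []))) (.node (.node (.leaf []) (.leaf [])) (.leaf []))) (.node (.node (.node (.leaf []) (.leaf [])) (.leaf [])) (.node (.node (.leaf []) (.leaf [])) (.leaf [false, false]))))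

def certHLab116 : Janko.Tree (List Bool) :=
  (.node (.node (.node (.node (.leaf []) (.leaf [false, false, false, false])) (.node (.leaf []) (.leaf [false, false, false]))) (.node (.node (.leaf []) (.leaf [false, false, false, false, false])) (.leaf []))) (.node (.node (.node (.leaf []) (.leaf [false, false, false, false])) (.leaf [false, false, false, false, false])) (.node (.node (.leaf []) (.leaf [])) (.leaf []))))

def certHLab117 : Janko.Tree (List Bool) :=
  (.node (.node (.node (.node (.leaf [false, false, false, false]) (.leaf [])) (.node (.leaf []) (.leaf [false, false, false, false]))) (.node (.node (.leaf []) (.leaf [false, false, false])) (.leaf []))) (.node (.node (.node (.leaf []) (.leaf [])) (.leaf [])) (.node (.node (.leaf [false, false, false, false, false, false]) (.leaf [false])) (.leaf [false]))))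

def certHLab118 : Janko.Tree (List Bool) :=
  (.node (.node (.node (.node (.leaf []) (.leaf [false, false, false])) (.node (.leaf [false, false, false]) (.leaf []))) (.node (.node (.leaf []) (.leaf [false, false])) (.leaf [false, false, false]))) (.node (.node (.node (.leaf []) (.leaf [])) (.leaf [false])) (.node (.node (.leaf []) (.leaf [false, false])) (.leaf []))))

def certHLab119 : Janko.Tree (List Bool) :=
  (.node (.node (.node (.node (.leaf []) (.leaf [])) (.node (.leaf [false, false, false]) (.leaf []))) (.node (.node (.leaf [false, false, false]) (.leaf [])) (.leaf [false, false, false, false]))) (.node (.node (.node (.leaf []) (.leaf [false, false, false, false, false, false])) (.leaf [false, false, false, false, false, false])) (.node (.node (.leaf []) (.leaf [false, false, false])) (.leaf [false]))))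

def certHLab120 : Janko.Tree (List Bool) :=
  (.node (.node (.node (.node (.leaf []) (.leaf [false, false, false, false, false, false])) (.node (.leaf []) (.leaf [false, false, false, false, false, false]))) (.node (.node (.leaf []) (.leaf [false, false, false, false, false])) (.leaf []))) (.node (.node (.node (.leaf []) (.leaf [])) (.leaf [])) (.node (.node (.leaf []) (.leaf [false, false, false, false])) (.leaf [false, false, false, false, false, false]))))

def certHLab121 : Janko.Tree (List Bool) :=
  (.node (.node (.node (.node (.leaf []) (.leaf [false, false])) (.node (.leaf []) (.leaf []))) (.node (.node (.leaf []) (.leaf [])) (.leaf []))) (.node (.node (.node (.leaf []) (.leaf [])) (.leaf [false, false])) (.node (.node (.leaf []) (.leaf [false, false, false, false, false, false])) (.leaf [false, false]))))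

def certHLab122 : Janko.Tree (List Bool) :=
  (.node (.node (.node (.node (.leaf []) (.leaf [false, false])) (.node (.leaf []) (.leaf [false, false, false, false, false, false]))) (.node (.node (.leaf []) (.leaf [false, false, false, false, false, false])) (.leaf []))) (.node (.node (.node (.leaf []) (.leaf [])) (.leaf [])) (.node (.node (.leaf [false, false, false, false]) (.leaf [])) (.leaf [false, false, false]))))

def certHLab123 : Janko.Tree (List Bool) :=
  (.node (.node (.node (.node (.leaf []) (.leaf [false, false, false, false])) (.node (.leaf []) (.leaf [false, false, false, false]))) (.node (.node (.leaf [false, false, false, false, false]) (.leaf [])) (.leaf []))) (.node (.node (.node (.leaf []) (.leaf [false, false, false])) (.leaf [false, false, false, false])) (.node (.node (.leaf [false, false, false]) (.leaf [false, false, false, false, false, false])) (.leaf []))))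

def certHLab124 : Janko.Tree (List Bool) :=
  (.node (.node (.node (.node (.leaf []) (.leaf [])) (.node (.leaf []) (.leaf [false, false, false]))) (.node (.node (.leaf []) (.leaf [false, false, false, false, false])) (.leaf []))) (.node (.node (.node (.leaf []) (.leaf [])) (.leaf [])) (.node (.node (.leaf []) (.leaf [])) (.leaf [false, false]))))

def certHLab125 : Janko.Tree (List Bool) :=
  (.node (.node (.node (.node (.leaf []) (.leaf [false, false])) (.node (.leaf []) (.leaf [false, false]))) (.node (.node (.leaf []) (.leaf [false, false, false, false, false, false])) (.leaf [false, false, false, false]))) (.node (.node (.node (.leaf []) (.leaf [])) (.leaf [])) (.node (.node (.leaf []) (.leaf [])) (.leaf [false, false, false, false]))))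

def certHLab126 : Janko.Tree (List Bool) :=
  (.node (.node (.node (.node (.leaf []) (.leaf [false, false, false])) (.node (.leaf []) (.leaf [false, false, false, false, false, false]))) (.node (.node (.leaf []) (.leaf [false, false, false, false])) (.leaf []))) (.node (.node (.node (.leaf [false]) (.leaf [false, false, false, false, false])) (.leaf [])) (.node (.node (.leaf []) (.leaf [false, false, false, false])) (.leaf [false, false]))))

def certHLab127 : Janko.Tree (List Bool) :=
  (.node (.node (.node (.node (.leaf []) (.leaf [])) (.node (.leaf []) (.leaf [false, false, false, false, false, false]))) (.node (.node (.leaf []) (.leaf [false, false, false, false])) (.leaf []))) (.node (.node (.node (.leaf []) (.leaf [false, false, false, false, false, false])) (.leaf [false, false, false, false, false, false])) (.node (.node (.leaf []) (.leaf [false, false, false, false, false])) (.leaf []))))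

def certHLab : Janko.Tree (List Bool) :=
  (.node (.node (.node (.node (.node (.node (.node certHLab0 certHLab64) (.node certHLab32 certHLab96)) (.node (.node certHLab16 certHLab80) (.node certHLab48 certHLab112))) (.node (.node (.node certHLab8 certHLab72) (.node certHLab40 certHLab104)) (.node (.node certHLab24 certHLab88) (.node certHLab56 certHLab120)))) (.node (.node (.node (.node certHLab4 certHLab68) (.node certHLab36 certHLab100)) (.node (.node certHLab20 certHLab84) (.node certHLab52 certHLab116))) (.node (.node (.node certHLab12 certHLab76) (.node certHLab44 certHLab108)) (.node (.node certHLab28 certHLab92) (.node certHLab60 certHLab124))))) (.node (.node (.node (.node (.node certHLab2 certHLab66) (.node certHLab34 certHLab98)) (.node (.node certHLab18 certHLab82) (.node certHLab50 certHLab114))) (.node (.node (.node certHLab10 certHLab74) (.node certHLab42 certHLab106)) (.node (.node certHLab26 certHLab90) (.node certHLab58 certHLab122)))) (.node (.node (.node (.node certHLab6 certHLab70) (.node certHLab38 certHLab102)) (.node (.node certHLab22 certHLab86) (.node certHLab54 certHLab118))) (.node (.node (.node certHLab14 certHLab78) (.node certHLab46 certHLab110)) (.node (.node certHLab30 certHLab94)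 (.node certHLab62 certHLab126)))))) (.node (.node (.node (.node (.node (.node certHLab1 certHLab65) (.node certHLab33 certHLab97)) (.node (.node certHLab17 certHLab81) (.node certHLab49 certHLab113))) (.node (.node (.node certHLab9 certHLab73) (.node certHLab41 certHLab105)) (.node (.node certHLab25 certHLab89) (.node certHLab57 certHLab121)))) (.node (.node (.node (.node certHLab5 certHLab69) (.node certHLab37 certHLab101)) (.node (.node certHLab21 certHLab85) (.node certHLab53 certHLab117))) (.node (.node (.node certHLab13 certHLab77) (.node certHLab45 certHLab109)) (.node (.node certHLab29 certHLab93) (.node certHLab61 certHLab125))))) (.node (.node (.node (.node (.node certHLab3 certHLab67) (.node certHLab35 certHLab99)) (.node (.node certHLab19 certHLab83) (.node certHLab51 certHLab115))) (.node (.node (.node certHLab11 certHLab75) (.node certHLab43 certHLab107)) (.node (.node certHLab27 certHLab91) (.node certHLab59 certHLab123)))) (.node (.node (.node (.node certHLab7 certHLab71) (.node certHLab39 certHLab103)) (.node (.node certHLab23 certHLab87) (.node certHLab55 certHLab119))) (.node (.node (.node certHLab15 certHLab79) (.node certHLab47 certHLab111)) (.node (.node certHLab31 certHLab95) (.node certHLab63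 certHLab127)))))))

def certHWord0 : Janko.Tree (List Bool) :=
  (.node (.node (.node (.node (.leaf []) (.leaf [true, false, false, false, false, true, true, false, true, true, false])) (.node (.leaf [true, true, false, false, false, true, false, false, false]) (.leaf [true, true, false, false, false, true, false, true, true, false, false, false]))) (.node (.node (.leaf [true, false, true, false, false, false, false, true]) (.leaf [true, true, false, true, true, false, false, true, false, false, true])) (.leaf [true, false, true, true, false, false, false, false, false, true]))) (.node (.node (.node (.leaf [true, false, false, false, true, true, true]) (.leaf [true, false, true, true, false, false, false, false, false, true, false])) (.node (.leaf [true, true, true, true, true, false, false, true, false]) (.leaf [true, false, false, true, true, true, true, false, false, false, true, false, true]))) (.node (.node (.leaf [true, false, false, false, false, true, false, false, false]) (.leaf [true, false, false, false, true, true, false, true, false, false, false, false])) (.leaf [true, true, false, true, true, false, false, true, false, true]))))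

def certHWord1 : Janko.Tree (List Bool) :=
  (.node (.node (.node (.node (.leaf [true]) (.leaf [true, false, false, false, false, true, true, false, true, true, true])) (.node (.leaf [true, true, false, false, false, true, false, false, true]) (.leaf [true, true, false, false, false, true, false, true, true, true, true, true]))) (.node (.node (.leaf [true, false, true, false, false, false, true, false]) (.leaf [true, true, false, true, true, false, false, true, false, true, true])) (.leaf [true, false, true, true, false, false, false, true, false, false]))) (.node (.node (.node (.leaf [true, false, false, true, false, false, false]) (.leaf [true, false, true, true, false, false, false, true, false, false, false])) (.node (.leaf [true, true, true, true, true, false, true, false, false]) (.leaf [true, false, false, true, true, true, true, false, true, true, true, true, true]))) (.node (.node (.leaf [true, false, false, false, false, true, false, false, true]) (.leaf [true, false, false, false, true, true, false, true, false, false, true, true])) (.leaf [true, true, false, true, true, false, false, true, true, true]))))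

def certHWord2 : Janko.Tree (List Bool) :=
  (.node (.node (.node (.node (.leaf [true, false]) (.leaf [true, false, false, false, false, true, true, true, false, false, false])) (.node (.leaf [true, true, false, false, false, true, false, true, false]) (.leaf [true, true, false, false, false, true, true, true, true, false, true, true]))) (.node (.node (.leaf [true, false, true, false, false, false, true, true]) (.leaf [true, true, false, true, true, false, false, true, true, true, true])) (.leaf [true, false, true, true, false, false, true, false, false, true]))) (.node (.node (.node (.leaf [true, false, false, true, false, false, true]) (.leaf [true, false, true, true, false, false, false, true, false, false, true])) (.node (.leaf [true, true, true, true, true, false, true, false, true]) (.leaf [true, false, false, true, true, true, true, true, false, true, false, false, false]))) (.node (.node (.leaf [true, false, false, false, false, true, false, true, false]) (.leaf [true, false, false, false, true, true, false, true, true, false, false, false])) (.leaf [true, true, false, true, true, true, false, false, false, false]))))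

def certHWord3 : Janko.Tree (List Bool) :=
  (.node (.node (.node (.node (.leaf [true, true]) (.leaf [true, false, false, false, false, true, true, true, false, false, true])) (.node (.leaf [true, true, false, false, false, true, false, true, true]) (.leaf [true, true, false, false, true, false, false, false, false, true, false, false]))) (.node (.node (.leaf [true, false, true, false, false, true, false, false]) (.leaf [true, true, false, true, true, true, false, false, false, false, false])) (.leaf [true, false, true, true, false, false, true, false, true, true]))) (.node (.node (.node (.leaf [true, false, false, true, false, true, false]) (.leaf [true, false, true, true, false, false, true, false, false, true, true])) (.node (.leaf [true, true, true, true, true, false, true, true, false]) (.leaf [true, false, false, true, true, true, true, true, false, true, false, false, true]))) (.node (.node (.leaf [true, false, false, false, false, true, true, false, true]) (.leaf [true, false, false, false, true, true, false, true, true, true, true, true])) (.leaf [true, true, false, true, true, true, false, false, true, false]))))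

def certHWord4 : Janko.Tree (List Bool) :=
  (.node (.node (.node (.node (.leaf [true, false, false]) (.leaf [true, false, false, false, false, true, true, true, false, true, false])) (.node (.leaf [true, true, false, false, false, true, true, false, false]) (.leaf [true, true, false, false, true, false, false, false, false, true, false, true]))) (.node (.node (.leaf [true, false, true, false, false, true, false, true]) (.leaf [true, true, false, true, true, true, false, false, false, false, true])) (.leaf [true, false, true, true, false, false, true, true, true, false]))) (.node (.node (.node (.leaf [true, false, false, true, false, true, true]) (.leaf [true, false, true, true, false, false, true, false, true, true, false])) (.node (.leaf [true, false, false, false, false, false, true, false, false, false]) (.leaf [true, false, true, true, false, false, false, false, false, true, false, true, false]))) (.node (.node (.leaf [true, false, false, false, false, true, true, true, false]) (.leaf [true, false, false, true, false, false, false, false, false, true, false, false])) (.leaf [true, true, false, true, true, true, false, false, true, true]))))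

def certHWord5 : Janko.Tree (List Bool) :=
  (.node (.node (.node (.node (.leaf [true, false, true]) (.leaf [true, false, false, false, false, true, true, true, true, true, false])) (.node (.leaf [true, true, false, false, false, true, true, true, true]) (.leaf [true, true, false, false, true, false, false, false, false, true, true, true]))) (.node (.node (.leaf [true, false, true, false, false, true, true, true]) (.leaf [true, true, false, true, true, true, false, false, true, false, true])) (.leaf [true, false, true, true, false, false, true, true, true, true]))) (.node (.node (.node (.leaf [true, false, false, true, true, true, false]) (.leaf [true, false, true, true, false, false, true, false, true, true, true])) (.node (.leaf [true, false, false, false, false, false, true, false, false, true]) (.leaf [true, false, true, true, true, false, true, true, true, true, false, true, false]))) (.node (.node (.leaf [true, false, false, false, false, true, true, true, true]) (.leaf [true, false, false, true, false, false, false, false, false, true, true, true])) (.leaf [true, true, false, true, true, true, false, true, false, false]))))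

def certHWord6 : Janko.Tree (List Bool) :=
  (.node (.node (.node (.node (.leaf [true, true, false]) (.leaf [true, false, false, false, true, false, false, false, false, false, true])) (.node (.leaf [true, true, false, false, true, false, false, false, false]) (.leaf [true, true, false, false, true, false, true, true, false, false, false, false]))) (.node (.node (.leaf [true, false, true, true, false, false, false, false]) (.leaf [true, true, false, true, true, true, false, true, true, false, false])) (.leaf [true, false, true, true, true, false, false, false, false, false]))) (.node (.node (.node (.leaf [true, false, false, true, true, true, true]) (.leaf [true, false, true, true, false, false, true, true, true, false, true])) (.node (.leaf [true, false, false, false, false, false, true, false, true, false]) (.leaf [true, false, true, true, true, true, true, false, false, false, true, false, false]))) (.node (.node (.leaf [true, false, false, false, true, false, false, false, false]) (.leaf [true, false, false, true, false, false, false, false, true, false, true, false])) (.leaf [true, true, false, true, true, true, false, true, false, true]))))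

def certHWord7 : Janko.Tree (List Bool) :=
  (.node (.node (.node (.node (.leaf [true, true, true]) (.leaf [true, false, false, false, true, false, false, true, false, true, false])) (.node (.leaf [true, true, false, false, true, false, false, false, true]) (.leaf [true, true, false, false, true, true, true, false, false, false, false, true]))) (.node (.node (.leaf [true, false, true, true, false, false, false, true]) (.leaf [true, true, false, true, true, true, false, true, true, true, false])) (.leaf [true, false, true, true, true, false, false, false, false, true]))) (.node (.node (.node (.leaf [true, false, true, false, false, false, false]) (.leaf [true, false, true, true, false, false, true, true, true, true, false])) (.node (.leaf [true, false, false, false, false, false, true, false, true, true]) (.leaf [true, true, false, false, false, true, false, true, true, true, true, true, false]))) (.node (.node (.leaf [true, false, false, false, true, false, false, true, false]) (.leaf [true, false, false, true, false, false, false, false, true, false, true, true])) (.leaf [true, true, false, true, true, true, false, true, true, false]))))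

def certHWord8 : Janko.Tree (List Bool) :=
  (.node (.node (.node (.node (.leaf [true, false, false, false]) (.leaf [true, false, false, false, true, false, false, true, false, true, true])) (.node (.leaf [true, true, false, false, true, false, false, true, true]) (.leaf [true, true, false, false, true, true, true, true, false, false, false, false]))) (.node (.node (.leaf [true, false, true, true, false, false, true, false]) (.leaf [true, true, false, true, true, true, true, false, false, true, false])) (.leaf [true, false, true, true, true, false, false, false, true, false]))) (.node (.node (.node (.leaf [true, false, true, false, false, false, true]) (.leaf [true, false, true, true, true, false, false, false, false, true, false])) (.node (.leaf [true, false, false, false, false, true, false, false, false, false]) (.leaf [true, true, false, false, true, false, false, false, false, true, false, true, true]))) (.node (.node (.leaf [true, false, false, false, true, false, false, true, true]) (.leaf [true, false, false, true, false, false, false, false, true, true, false, true])) (.leaf [true, true, false, true, true, true, false, true, true, true]))))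

def certHWord9 : Janko.Tree (List Bool) :=
  (.node (.node (.node (.node (.leaf [true, false, false, true]) (.leaf [true, false, false, false, true, false, false, true, true, true, false])) (.node (.leaf [true, true, false, false, true, false, true, false, false]) (.leaf [true, true, false, true, false, false, false, false, false, true, false, true]))) (.node (.node (.leaf [true, false, true, true, false, false, true, true]) (.leaf [true, true, false, true, true, true, true, false, true, false, false])) (.leaf [true, false, true, true, true, false, false, false, true, true]))) (.node (.node (.node (.leaf [true, false, true, false, false, true, false]) (.leaf [true, false, true, true, true, false, false, false, true, false, false])) (.node (.leaf [true, false, false, false, false, true, false, false, true, false]) (.leaf [true, true, false, false, true, false, true, true, false, false, false, false, false]))) (.node (.node (.leaf [true, false, false, false, true, false, true, true, false]) (.leaf [true, false, false, true, false, false, false, false, true, true, true, true])) (.leaf [true, true, false, true, true, true, true, false, false, false]))))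

def certHWord10 : Janko.Tree (List Bool) :=
  (.node (.node (.node (.node (.leaf [true, false, true, false]) (.leaf [true, false, false, false, true, false, false, true, true, true, true])) (.node (.leaf [true, true, false, false, true, false, true, true, false]) (.leaf [true, true, false, true, false, false, false, false, true, false, false, true]))) (.node (.node (.leaf [true, false, true, true, true, false, false, false]) (.leaf [true, true, false, true, true, true, true, false, true, false, true])) (.leaf [true, false, true, true, true, false, false, true, false, false]))) (.node (.node (.node (.leaf [true, false, true, false, false, true, true]) (.leaf [true, false, true, true, true, false, false, false, true, false, true])) (.node (.leaf [true, false, false, false, false, true, false, false, true, true]) (.leaf [true, true, false, true, false, false, false, false, false, true, false, true, false]))) (.node (.node (.leaf [true, false, false, false, true, false, true, true, true]) (.leaf [true, false, false, true, false, false, false, true, true, true, true, true])) (.leaf [true, true, false, true, true, true, true, false, false, true]))))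

def certHWord11 : Janko.Tree (List Bool) :=
  (.node (.node (.node (.node (.leaf [true, false, true, true]) (.leaf [true, false, false, false, true, false, true, true, false, false, false])) (.node (.leaf [true, true, false, false, true, false, true, true, true]) (.leaf [true, true, false, true, false, false, false, true, true, true, true, false]))) (.node (.node (.leaf [true, false, true, true, true, false, false, true]) (.leaf [true, true, false, true, true, true, true, true, false, false, false])) (.leaf [true, false, true, true, true, false, false, true, false, true]))) (.node (.node (.node (.leaf [true, false, true, true, false, false, false]) (.leaf [true, false, true, true, true, false, false, true, false, false, false])) (.node (.leaf [true, false, false, false, false, true, true, false, true, false]) (.leaf [true, true, false, true, false, false, false, false, false, true, false, true, true]))) (.node (.node (.leaf [true, false, false, false, true, true, false, false, false]) (.leaf [true, false, false, true, false, false, true, true, true, false, true, true])) (.leaf [true, true, false, true, true, true, true, false, true, false]))))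

def certHWord12 : Janko.Tree (List Bool) :=
  (.node (.node (.node (.node (.leaf [true, true, false, false]) (.leaf [true, false, false, false, true, false, true, true, false, false, true])) (.node (.leaf [true, true, false, false, true, true, true, false, false]) (.leaf [true, true, false, true, false, false, true, false, false, false, false, true]))) (.node (.node (.leaf [true, false, true, true, true, false, true, false]) (.leaf [true, true, false, true, true, true, true, true, false, false, true])) (.leaf [true, false, true, true, true, false, true, false, false, true]))) (.node (.node (.node (.leaf [true, false, true, true, false, false, true]) (.leaf [true, false, true, true, true, false, false, true, false, false, true])) (.node (.leaf [true, false, false, false, false, true, true, false, true, true]) (.leaf [true, true, false, true, false, false, false, true, true, true, true, false, true]))) (.node (.node (.leaf [true, false, false, false, true, true, false, false, true]) (.leaf [true, false, false, true, false, false, true, true, true, true, false, false])) (.leaf [true, true, false, true, true, true, true, false, true, true]))))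

def certHWord13 : Janko.Tree (List Bool) :=
  (.node (.node (.node (.node (.leaf [true, true, false, true]) (.leaf [true, false, false, false, true, false, true, true, true, true, true])) (.node (.leaf [true, true, false, false, true, true, true, false, true]) (.leaf [true, true, false, true, false, false, true, false, false, false, true, false]))) (.node (.node (.leaf [true, false, true, true, true, false, true, true]) (.leaf [true, true, true, false, false, false, false, false, true, false, false])) (.leaf [true, false, true, true, true, false, true, true, false, false]))) (.node (.node (.node (.leaf [true, false, true, true, true, false, false]) (.leaf [true, false, true, true, true, false, false, true, false, true, true])) (.node (.leaf [true, false, false, false, false, true, true, true, false, false]) (.leaf [true, true, false, true, false, false, true, false, false, false, false, true, true]))) (.node (.node (.leaf [true, false, false, false, true, true, false, true, false]) (.leaf [true, false, false, true, false, false, true, true, true, true, false, true])) (.leaf [true, true, false, true, true, true, true, true, false, false]))))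

def certHWord14 : Janko.Tree (List Bool) :=
  (.node (.node (.node (.node (.leaf [true, true, true, false]) (.leaf [true, false, false, false, true, true, false, false, false, true, false])) (.node (.leaf [true, true, false, false, true, true, true, true, false]) (.leaf [true, true, false, true, false, false, true, false, false, false, true, true]))) (.node (.node (.leaf [true, false, true, true, true, true, false, false]) (.leaf [true, true, true, false, false, false, false, false, true, false, true])) (.leaf [true, false, true, true, true, false, true, true, true, false]))) (.node (.node (.node (.leaf [true, false, true, true, true, false, true]) (.leaf [true, false, true, true, true, false, true, false, false, true, false])) (.node (.leaf [true, false, false, false, false, true, true, true, false, true]) (.leaf [true, true, false, true, false, false, true, false, false, false, true, false, false]))) (.node (.node (.leaf [true, false, false, false, true, true, false, true, true]) (.leaf [true, false, false, true, false, true, true, false, false, false, false, false])) (.leaf [true, true, true, false, false, false, false, false, true, false]))))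

def certHWord15 : Janko.Tree (List Bool) :=
  (.node (.node (.node (.node (.leaf [true, true, true, true]) (.leaf [true, false, false, false, true, true, false, false, false, true, true])) (.node (.leaf [true, true, false, true, false, false, false, false, false]) (.leaf [true, true, false, true, false, false, true, false, true, true, true, true]))) (.node (.node (.leaf [true, false, true, true, true, true, false, true]) (.leaf [true, true, true, false, false, false, false, true, false, false, true])) (.leaf [true, false, true, true, true, false, true, true, true, true]))) (.node (.node (.node (.leaf [true, false, true, true, true, true, false]) (.leaf [true, false, true, true, true, false, true, false, false, true, true])) (.node (.leaf [true, false, false, false, false, true, true, true, true, true]) (.leaf [true, true, false, true, false, false, true, false, false, false, true, true, true]))) (.node (.node (.leaf [true, false, false, false, true, true, true, true, false]) (.leaf [true, false, false, true, false, true, true, false, false, false, false, true])) (.leaf [true, true, true, false, false, false, false, true, false, false]))))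

def certHWord16 : Janko.Tree (List Bool) :=
  (.node (.node (.node (.node (.leaf [true, false, false, false, false]) (.leaf [true, false, false, false, true, true, false, false, true, false, false])) (.node (.leaf [true, true, false, true, false, false, false, false, true]) (.leaf [true, true, false, true, false, false, true, true, true, false, true, true]))) (.node (.node (.leaf [true, false, true, true, true, true, true, false]) (.leaf [true, true, true, false, false, false, true, false, false, false, false])) (.leaf [true, false, true, true, true, true, false, false, false, false]))) (.node (.node (.node (.leaf [true, false, true, true, true, true, true]) (.leaf [true, false, true, true, true, false, true, true, false, false, false])) (.node (.leaf [true, false, false, false, true, false, false, false, false, false]) (.leaf [true, true, true, false, false, false, true, false, true, true, false, false, false]))) (.node (.node (.leaf [true, false, false, false, true, true, true, true, true]) (.leaf [true, false, false, true, false, true, true, true, false, false, false, false])) (.leaf [true, true, true, false, false, false, true, false, false, false]))))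

def certHWord17 : Janko.Tree (List Bool) :=
  (.node (.node (.node (.node (.leaf [true, false, false, false, true]) (.leaf [true, false, false, false, true, true, false, false, true, false, true])) (.node (.leaf [true, true, false, true, false, false, false, true, false]) (.leaf [true, true, false, true, true, false, false, false, false, false, true, false]))) (.node (.node (.leaf [true, true, false, false, false, false, false, true]) (.leaf [true, true, true, false, false, false, true, false, false, true, true])) (.leaf [true, false, true, true, true, true, false, false, false, true]))) (.node (.node (.node (.leaf [true, true, false, false, false, false, false]) (.leaf [true, false, true, true, true, false, true, true, true, false, false])) (.node (.leaf [true, false, false, false, true, false, false, true, false, true]) (.leaf [true, true, true, false, true, false, false, true, false, true, true, true, true]))) (.node (.node (.leaf [true, false, false, true, false, false, false, false, false]) (.leaf [true, false, false, true, false, true, true, true, false, false, true, false])) (.leaf [true, true, true, false, false, false, true, false, false, true]))))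

def certHWord18 : Janko.Tree (List Bool) :=
  (.node (.node (.node (.node (.leaf [true, false, false, true, false]) (.leaf [true, false, false, false, true, true, false, false, true, true, true])) (.node (.leaf [true, true, false, true, false, false, false, true, true]) (.leaf [true, true, false, true, true, false, false, false, false, true, false, false]))) (.node (.node (.leaf [true, true, false, false, false, false, true, false]) (.leaf [true, true, true, false, false, false, true, false, true, true, false])) (.leaf [true, false, true, true, true, true, false, false, true, false]))) (.node (.node (.node (.leaf [true, true, false, false, false, false, true]) (.leaf [true, false, true, true, true, false, true, true, true, false, true])) (.node (.leaf [true, false, false, false, true, false, false, true, true, true]) (.leaf [true, true, true, false, true, true, false, false, false, true, false, false, false]))) (.node (.node (.leaf [true, false, false, true, false, false, false, false, true]) (.leaf [true, false, false, true, false, true, true, true, true, false, false, true])) (.leaf [true, true, true, false, false, false, true, false, true, true]))))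

def certHWord19 : Janko.Tree (List Bool) :=
  (.node (.node (.node (.node (.leaf [true, false, false, true, true]) (.leaf [true, false, false, false, true, true, false, true, false, false, false])) (.node (.leaf [true, true, false, true, false, false, true, false, false]) (.leaf [true, true, false, true, true, false, false, false, false, true, false, true]))) (.node (.node (.leaf [true, true, false, false, false, false, true, true]) (.leaf [true, true, true, false, false, false, true, false, true, true, true])) (.leaf [true, false, true, true, true, true, false, true, true, false]))) (.node (.node (.node (.leaf [true, true, false, false, false, true, false]) (.leaf [true, false, true, true, true, false, true, true, true, true, false])) (.node (.leaf [true, false, false, false, true, false, true, true, false, false]) (.leaf [true, true, true, true, true, false, false, false, true, false, false, true, true]))) (.node (.node (.leaf [true, false, false, true, false, false, false, true, false]) (.leaf [true, false, false, true, true, true, false, true, false, false, false, false])) (.leaf [true, true, true, false, false, false, true, true, false, false]))))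

def certHWord20 : Janko.Tree (List Bool) :=
  (.node (.node (.node (.node (.leaf [true, false, true, false, false]) (.leaf [true, false, false, false, true, true, false, true, false, false, true])) (.node (.leaf [true, true, false, true, false, false, true, false, true]) (.leaf [true, true, false, true, true, false, false, false, true, false, false, false]))) (.node (.node (.leaf [true, true, false, false, false, true, false, false]) (.leaf [true, true, true, false, false, false, true, true, false, false, false])) (.leaf [true, false, true, true, true, true, false, true, true, true]))) (.node (.node (.node (.leaf [true, true, false, false, false, true, true]) (.leaf [true, false, true, true, true, true, false, false, false, false, false])) (.node (.leaf [true, false, false, false, true, false, true, true, true, true]) (.leaf [true, true, true, true, true, false, true, true, false, false, false, false, true]))) (.node (.node (.leaf [true, false, false, true, false, false, false, true, true]) (.leaf [true, false, false, true, true, true, false, true, false, false, true, false])) (.leaf [true, true, true, false, false, true, true, true, false, false]))))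

def certHWord21 : Janko.Tree (List Bool) :=
  (.node (.node (.node (.node (.leaf [true, false, true, true, false]) (.leaf [true, false, false, false, true, true, false, true, true, false, false])) (.node (.leaf [true, true, false, true, false, false, true, true, true]) (.leaf [true, true, false, true, true, false, false, false, true, false, false, true]))) (.node (.node (.leaf [true, true, false, false, false, true, false, true]) (.leaf [true, true, true, false, true, false, false, false, false, false, true])) (.leaf [true, false, true, true, true, true, true, false, false, false]))) (.node (.node (.node (.leaf [true, true, false, false, true, false, false]) (.leaf [true, false, true, true, true, true, false, false, false, true, false])) (.node (.leaf [true, false, false, false, true, true, false, false, false, false]) (.leaf [true, false, false, true, false, false, false, true, true, true, true, true, false, false]))) (.node (.node (.leaf [true, false, false, true, false, false, true, true, true]) (.leaf [true, false, false, true, true, true, false, true, true, true, false, true])) (.leaf [true, true, true, false, false, true, true, true, false, true]))))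

def certHWord22 : Janko.Tree (List Bool) :=
  (.node (.node (.node (.node (.leaf [true, false, true, true, true]) (.leaf [true, false, false, false, true, true, false, true, true, true, false])) (.node (.leaf [true, true, false, true, true, false, false, false, false]) (.leaf [true, true, false, true, true, true, false, false, false, false, true, false]))) (.node (.node (.leaf [true, true, false, false, false, true, true, false]) (.leaf [true, true, true, false, true, false, false, true, false, false, false])) (.leaf [true, false, true, true, true, true, true, false, false, true]))) (.node (.node (.node (.leaf [true, true, false, false, true, false, true]) (.leaf [true, false, true, true, true, true, false, false, false, true, true])) (.node (.leaf [true, false, false, false, true, true, false, false, false, true]) (.leaf [true, false, false, true, false, false, false, true, true, true, true, true, false, true]))) (.node (.node (.leaf [true, false, false, true, false, true, false, false, false]) (.leaf [true, false, false, true, true, true, true, false, false, false, false, false])) (.leaf [true, true, true, false, true, false, false, false, false, false]))))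

def certHWord23 : Janko.Tree (List Bool) :=
  (.node (.node (.node (.node (.leaf [true, true, false, false, false]) (.leaf [true, false, false, false, true, true, false, true, true, true, true])) (.node (.leaf [true, true, false, true, true, false, false, false, true]) (.leaf [true, true, false, true, true, true, true, true, false, false, true, false]))) (.node (.node (.leaf [true, true, false, false, false, true, true, true]) (.leaf [true, true, true, false, true, false, false, true, false, true, false])) (.leaf [true, true, false, false, false, false, false, true, false, false]))) (.node (.node (.node (.leaf [true, true, false, false, true, true, true]) (.leaf [true, false, true, true, true, true, false, false, true, false, false])) (.node (.leaf [true, false, false, false, true, true, false, false, true, false]) (.leaf [true, false, false, true, false, true, true, false, false, false, false, false, true, false]))) (.node (.node (.leaf [true, false, false, true, false, true, false, false, true]) (.leaf [true, false, false, true, true, true, true, false, false, false, true, false])) (.leaf [true, true, true, false, true, false, false, false, true, false]))))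

def certHWord24 : Janko.Tree (List Bool) :=
  (.node (.node (.node (.node (.leaf [true, true, false, false, true]) (.leaf [true, false, false, true, false, false, false, false, false, true, false])) (.node (.leaf [true, true, false, true, true, false, false, true, false]) (.leaf [true, true, true, false, false, false, false, true, false, false, true, false]))) (.node (.node (.leaf [true, true, false, false, true, false, false, false]) (.leaf [true, true, true, false, true, false, false, true, false, true, true])) (.leaf [true, true, false, false, false, false, false, true, false, true]))) (.node (.node (.node (.leaf [true, true, false, true, false, false, false]) (.leaf [true, false, true, true, true, true, false, false, true, false, true])) (.node (.leaf [true, false, false, false, true, true, false, false, true, true]) (.leaf [true, false, false, true, false, true, true, true, false, false, true, false, false, false]))) (.node (.node (.leaf [true, false, false, true, false, true, true, false, false]) (.leaf [true, false, false, true, true, true, true, false, false, false, true, true])) (.leaf [true, true, true, false, true, false, false, false, true, true]))))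

def certHWord25 : Janko.Tree (List Bool) :=
  (.node (.node (.node (.node (.leaf [true, true, false, true, false]) (.leaf [true, false, false, true, false, false, false, false, false, true, true])) (.node (.leaf [true, true, false, true, true, false, false, true, true]) (.leaf [true, true, true, false, false, false, false, true, false, false, true, true]))) (.node (.node (.leaf [true, true, false, false, true, false, false, true]) (.leaf [true, true, true, false, true, false, false, true, true, true, false])) (.leaf [true, true, false, false, false, false, true, true, false, false]))) (.node (.node (.node (.leaf [true, true, false, true, false, false, true]) (.leaf [true, false, true, true, true, true, false, true, true, false, false])) (.node (.leaf [true, false, false, false, true, true, false, true, false, false]) (.leaf [true, false, false, true, false, true, true, true, false, false, true, false, false, true]))) (.node (.node (.leaf [true, false, false, true, false, true, true, true, false]) (.leaf [true, false, false, true, true, true, true, false, false, true, true, true])) (.leaf [true, true, true, false, true, false, false, true, false, false]))))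

def certHWord26 : Janko.Tree (List Bool) :=
  (.node (.node (.node (.node (.leaf [true, true, false, true, true]) (.leaf [true, false, false, true, false, false, false, false, true, false, true])) (.node (.leaf [true, true, false, true, true, true, false, false, false]) (.leaf [true, true, true, false, false, false, true, false, true, true, false, false]))) (.node (.node (.leaf [true, true, false, false, true, false, true, false]) (.leaf [true, true, true, false, true, false, false, true, true, true, true])) (.leaf [true, true, false, false, false, false, true, true, false, true]))) (.node (.node (.node (.leaf [true, true, false, true, true, false, false]) (.leaf [true, false, true, true, true, true, true, false, false, false, true])) (.node (.leaf [true, false, false, false, true, true, false, true, false, true]) (.leaf [true, false, false, true, false, true, true, true, true, false, false, true, false, false]))) (.node (.node (.leaf [true, false, false, true, false, true, true, true, true]) (.leaf [true, false, false, true, true, true, true, false, true, false, false, false])) (.leaf [true, true, true, false, true, false, false, true, false, true]))))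

def certHWord27 : Janko.Tree (List Bool) :=
  (.node (.node (.node (.node (.leaf [true, true, true, false, false]) (.leaf [true, false, false, true, false, false, false, false, true, true, false])) (.node (.leaf [true, true, false, true, true, true, false, false, true]) (.leaf [true, true, true, false, false, false, true, false, true, true, true, true]))) (.node (.node (.leaf [true, true, false, false, true, false, true, true]) (.leaf [true, true, true, false, true, true, false, false, false, false, false])) (.leaf [true, true, false, false, false, true, false, false, false, false]))) (.node (.node (.node (.leaf [true, true, false, true, true, true, false]) (.leaf [true, false, true, true, true, true, true, false, false, true, false])) (.node (.leaf [true, false, false, false, true, true, false, true, true, false]) (.leaf [true, false, false, true, false, true, true, true, true, false, false, true, false, true]))) (.node (.node (.leaf [true, false, false, true, true, true, false, true, false]) (.leaf [true, false, false, true, true, true, true, false, true, false, false, true])) (.leaf [true, true, true, false, true, false, false, true, true, true]))))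

def certHWord28 : Janko.Tree (List Bool) :=
  (.node (.node (.node (.node (.leaf [true, true, true, false, true]) (.leaf [true, false, false, true, false, false, false, false, true, true, true])) (.node (.leaf [true, true, false, true, true, true, false, true, false]) (.leaf [true, true, true, false, true, false, false, false, false, false, true, false]))) (.node (.node (.leaf [true, true, false, false, true, true, true, false]) (.leaf [true, true, true, false, true, true, false, false, false, false, true])) (.leaf [true, true, false, false, false, true, false, false, true, false]))) (.node (.node (.node (.leaf [true, true, false, true, true, true, true]) (.leaf [true, false, true, true, true, true, true, false, false, true, true])) (.node (.leaf [true, false, false, false, true, true, false, true, true, true]) (.leaf [true, false, false, true, true, true, true, false, false, false, true, false, true, true]))) (.node (.node (.leaf [true, false, false, true, true, true, false, true, true]) (.leaf [true, false, false, true, true, true, true, false, true, true, true, true])) (.leaf [true, true, true, false, true, true, false, false, false, false]))))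

def certHWord29 : Janko.Tree (List Bool) :=
  (.node (.node (.node (.node (.leaf [true, true, true, true, false]) (.leaf [true, false, false, true, false, false, false, true, false, false, false])) (.node (.leaf [true, true, false, true, true, true, false, true, true]) (.leaf [true, true, true, false, true, false, false, true, false, false, false, false]))) (.node (.node (.leaf [true, true, false, false, true, true, true, true]) (.leaf [true, true, true, false, true, true, false, false, false, true, false])) (.leaf [true, true, false, false, false, true, false, false, true, true]))) (.node (.node (.node (.leaf [true, true, true, false, false, false, false]) (.leaf [true, true, false, false, false, false, true, true, false, false, true])) (.node (.leaf [true, false, false, false, true, true, true, true, false, true]) (.leaf [true, false, true, true, true, true, true, false, false, false, true, false, false, false]))) (.node (.node (.leaf [true, false, false, true, true, true, true, false, false]) (.leaf [true, false, false, true, true, true, true, true, false, true, false, false])) (.leaf [true, true, true, false, true, true, false, false, false, true]))))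

def certHWord30 : Janko.Tree (List Bool) :=
  (.node (.node (.node (.node (.leaf [true, true, true, true, true]) (.leaf [true, false, false, true, false, false, false, true, false, false, true])) (.node (.leaf [true, true, false, true, true, true, true, false, false]) (.leaf [true, true, true, false, true, false, false, true, false, true, true, true]))) (.node (.node (.leaf [true, true, false, true, false, false, false, false]) (.leaf [true, true, true, false, true, true, false, false, true, false, false])) (.leaf [true, true, false, false, false, true, false, true, true, false]))) (.node (.node (.node (.leaf [true, true, true, false, false, false, true]) (.leaf [true, true, false, false, false, false, true, true, false, true, false])) (.node (.leaf [true, false, false, true, false, false, false, false, false, true]) (.leaf [true, true, false, false, false, true, false, true, true, true, true, true, false, true]))) (.node (.node (.leaf [true, false, false, true, true, true, true, false, true]) (.leaf [true, false, false, true, true, true, true, true, false, true, false, true])) (.leaf [true, true, true, false, true, true, false, false, true, false]))))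

def certHWord31 : Janko.Tree (List Bool) :=
  (.node (.node (.node (.node (.leaf [true, false, false, false, false, false]) (.leaf [true, false, false, true, false, false, false, true, false, true, false])) (.node (.leaf [true, true, false, true, true, true, true, false, true]) (.leaf [true, true, true, false, true, true, false, false, false, false, true, false]))) (.node (.node (.leaf [true, true, false, true, false, false, false, true]) (.leaf [true, true, true, false, true, true, false, false, true, false, true])) (.leaf [true, true, false, false, false, true, false, true, true, true]))) (.node (.node (.node (.leaf [true, true, true, false, false, true, true]) (.leaf [true, true, false, false, false, false, true, true, false, true, true])) (.node (.leaf [true, false, false, true, false, false, false, false, true, false]) (.leaf [true, false, false, true, false, true, true, false, false, false, false, false, true, false, true]))) (.node (.node (.leaf [true, false, false, true, true, true, true, true, false]) (.leaf [true, false, true, false, false, false, true, true, false, false, true, true])) (.leaf [true, true, true, false, true, true, false, false, true, true]))))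

def certHWord32 : Janko.Tree (List Bool) :=
  (.node (.node (.node (.node (.leaf [true, false, false, false, false, true]) (.leaf [true, false, false, true, false, false, false, true, true, true, true])) (.node (.leaf [true, true, false, true, true, true, true, true, false]) (.leaf [true, true, true, false, true, true, false, false, false, false, true, true]))) (.node (.node (.leaf [true, true, false, true, false, false, true, false]) (.leaf [true, true, true, false, true, true, false, false, true, true, true])) (.leaf [true, true, false, false, false, true, true, false, false, false]))) (.node (.node (.node (.leaf [true, true, true, false, true, false, false]) (.leaf [true, true, false, false, false, true, false, false, true, false, true])) (.leaf [true, false, false, true, false, false, false, false, true, true])) (.node (.node (.leaf [true, false, true, false, false, false, false, false, true]) (.leaf [true, false, true, false, false, true, true, true, false, true, true, false])) (.leaf [true, true, true, false, true, true, true, false, false, false]))))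

def certHWord33 : Janko.Tree (List Bool) :=
  (.node (.node (.node (.node (.leaf [true, false, false, false, true, false]) (.leaf [true, false, false, true, false, false, true, true, true, false, true])) (.node (.leaf [true, true, true, false, false, false, false, false, true]) (.leaf [true, true, true, false, true, true, false, false, false, true, false, false]))) (.node (.node (.leaf [true, true, false, true, false, false, true, true]) (.leaf [true, true, true, false, true, true, true, false, false, false, false])) (.leaf [true, true, false, false, false, true, true, false, false, true]))) (.node (.node (.node (.leaf [true, true, true, false, true, false, true]) (.leaf [true, true, false, false, false, true, false, true, true, false, false])) (.leaf [true, false, false, true, false, false, false, true, false, false])) (.node (.node (.leaf [true, false, true, false, false, false, false, true, false]) (.leaf [true, false, true, false, false, true, true, true, true, false, false, true])) (.leaf [true, true, true, false, true, true, true, false, false, true]))))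

def certHWord34 : Janko.Tree (List Bool) :=
  (.node (.node (.node (.node (.leaf [true, false, false, false, true, true]) (.leaf [true, false, false, true, false, false, true, true, true, true, false])) (.node (.leaf [true, true, true, false, false, false, false, true, false]) (.leaf [true, true, true, false, true, true, false, false, false, true, false, true]))) (.node (.node (.leaf [true, true, false, true, true, false, false, false]) (.leaf [true, true, true, false, true, true, true, false, false, true, false])) (.leaf [true, true, false, false, false, true, true, true, true, false]))) (.node (.node (.node (.leaf [true, true, true, false, true, true, false]) (.leaf [true, true, false, false, false, true, false, true, true, true, true])) (.leaf [true, false, false, true, false, false, false, true, false, true])) (.node (.node (.leaf [true, false, true, false, false, false, false, true, true]) (.leaf [true, false, true, true, false, false, false, false, false, true, false, false])) (.leaf [true, true, true, false, true, true, true, false, true, true]))))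

def certHWord35 : Janko.Tree (List Bool) :=
  (.node (.node (.node (.node (.leaf [true, false, false, true, false, false]) (.leaf [true, false, false, true, false, false, true, true, true, true, true])) (.node (.leaf [true, true, true, false, false, false, true, false, false]) (.leaf [true, true, true, false, true, true, false, false, true, false, false, false]))) (.node (.node (.leaf [true, true, false, true, true, false, false, true]) (.leaf [true, true, true, false, true, true, true, false, true, true, false])) (.leaf [true, true, false, false, true, false, false, false, false, true]))) (.node (.node (.node (.leaf [true, true, true, false, true, true, true]) (.leaf [true, true, false, false, false, true, true, false, false, false, false])) (.leaf [true, false, false, true, false, false, false, true, true, true])) (.node (.node (.leaf [true, false, true, false, false, false, true, false, false]) (.leaf [true, false, true, true, false, false, false, false, false, true, false, true])) (.leaf [true, true, true, false, true, true, true, true, false, false]))))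

def certHWord36 : Janko.Tree (List Bool) :=
  (.node (.node (.node (.node (.leaf [true, false, false, true, false, true]) (.leaf [true, false, false, true, false, true, false, false, true, true, true])) (.node (.leaf [true, true, true, false, false, false, true, false, true]) (.leaf [true, true, true, false, true, true, false, false, true, false, true, false]))) (.node (.node (.leaf [true, true, false, true, true, true, false, false]) (.leaf [true, true, true, false, true, true, true, true, false, false, true])) (.leaf [true, true, false, false, true, false, false, false, true, false]))) (.node (.node (.node (.leaf [true, true, true, true, false, false, false]) (.leaf [true, true, false, false, false, true, true, false, false, true, false])) (.leaf [true, false, false, true, false, false, true, true, true, false])) (.node (.node (.leaf [true, false, true, false, false, false, true, true, false]) (.leaf [true, false, true, true, false, false, false, true, false, false, true, false])) (.leaf [true, true, true, false, true, true, true, true, false, true]))))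

def certHWord37 : Janko.Tree (List Bool) :=
  (.node (.node (.node (.node (.leaf [true, false, false, true, true, true]) (.leaf [true, false, false, true, false, true, true, false, false, false, false])) (.node (.leaf [true, true, true, false, false, false, true, true, false]) (.leaf [true, true, true, false, true, true, true, false, false, false, false, false]))) (.node (.node (.leaf [true, true, false, true, true, true, false, true]) (.leaf [true, true, true, false, true, true, true, true, false, true, true])) (.leaf [true, true, false, false, true, false, false, false, true, true]))) (.node (.node (.node (.leaf [true, true, true, true, false, false, true]) (.leaf [true, true, false, false, false, true, true, true, true, false, true])) (.leaf [true, false, false, true, false, false, true, true, true, true])) (.node (.node (.leaf [true, false, true, false, false, false, true, true, true]) (.leaf [true, false, true, true, false, false, false, true, false, false, true, true])) (.leaf [true, true, true, false, true, true, true, true, true, false]))))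

def certHWord38 : Janko.Tree (List Bool) :=
  (.node (.node (.node (.node (.leaf [true, false, true, false, false, false]) (.leaf [true, false, false, true, false, true, true, false, false, false, true])) (.node (.leaf [true, true, true, false, false, true, true, true, false]) (.leaf [true, true, true, false, true, true, true, false, true, true, false, false]))) (.node (.node (.leaf [true, true, false, true, true, true, true, false]) (.leaf [true, true, true, true, false, false, false, true, false, false, true])) (.leaf [true, true, false, false, true, false, false, true, true, true]))) (.node (.node (.node (.leaf [true, true, true, true, false, true, false]) (.leaf [true, true, false, false, true, false, false, false, false, true, false])) (.leaf [true, false, false, true, false, true, false, false, true, true])) (.node (.node (.leaf [true, false, true, false, false, true, false, false, false]) (.leaf [true, false, true, true, false, false, true, false, false, true, true, true])) (.leaf [true, true, true, true, false, false, false, false, false, true]))))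

def certHWord39 : Janko.Tree (List Bool) :=
  (.node (.node (.node (.node (.leaf [true, false, true, false, false, true]) (.leaf [true, false, false, true, false, true, true, true, false, false, false])) (.node (.leaf [true, true, true, false, false, true, true, true, true]) (.leaf [true, true, true, true, false, false, false, true, false, false, true, true]))) (.node (.node (.leaf [true, true, false, true, true, true, true, true]) (.leaf [true, true, true, true, false, false, false, true, false, true, true])) (.leaf [true, true, false, false, true, false, true, false, false, true]))) (.node (.node (.node (.leaf [true, true, true, true, false, true, true]) (.leaf [true, true, false, false, true, false, false, false, false, true, true])) (.leaf [true, false, false, true, false, true, true, false, false, false])) (.node (.node (.leaf [true, false, true, false, false, true, false, false, true]) (.leaf [true, false, true, true, false, false, true, false, true, true, false, false])) (.leaf [true, true, true, true, false, false, false, true, false, false]))))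

def certHWord40 : Janko.Tree (List Bool) :=
  (.node (.node (.node (.node (.leaf [true, false, true, true, false, false]) (.leaf [true, false, false, true, false, true, true, true, false, false, true])) (.node (.leaf [true, true, true, false, true, false, false, false, false]) (.leaf [true, true, true, true, false, false, false, true, false, true, true, false]))) (.node (.node (.leaf [true, true, true, false, false, false, false, false]) (.leaf [true, true, true, true, false, false, false, true, true, false, false])) (.leaf [true, true, false, false, true, false, true, true, false, false]))) (.node (.node (.node (.leaf [true, true, true, true, true, false, false]) (.leaf [true, true, false, false, true, false, false, true, true, true, false])) (.leaf [true, false, false, true, false, true, true, true, false, false])) (.node (.node (.leaf [true, false, true, false, false, true, false, true, true]) (.leaf [true, false, true, true, false, false, true, true, true, false, true, false])) (.leaf [true, true, true, true, false, false, false, true, false, true]))))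

def certHWord41 : Janko.Tree (List Bool) :=
  (.node (.node (.node (.node (.leaf [true, false, true, true, true, false]) (.leaf [true, false, false, true, false, true, true, true, true, false, false])) (.node (.leaf [true, true, true, false, true, false, false, false, true]) (.leaf [true, true, true, true, false, false, false, true, false, true, true, true]))) (.node (.node (.leaf [true, true, true, false, false, false, false, true]) (.leaf [true, true, true, true, false, false, true, false, false, false, false])) (.leaf [true, true, false, false, true, false, true, true, true, false]))) (.node (.node (.node (.leaf [true, true, true, true, true, false, true]) (.leaf [true, true, false, false, true, false, false, true, true, true, true])) (.leaf [true, false, false, true, false, true, true, true, false, true])) (.node (.node (.leaf [true, false, true, false, false, true, true, true, false]) (.leaf [true, false, true, true, false, false, true, true, true, false, true, true])) (.leaf [true, true, true, true, false, false, false, true, true, false]))))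

def certHWord42 : Janko.Tree (List Bool) :=
  (.node (.node (.node (.node (.leaf [true, false, true, true, true, true]) (.leaf [true, false, false, true, false, true, true, true, true, false, true])) (.node (.leaf [true, true, true, false, true, false, false, true, false]) (.leaf [true, true, true, true, false, false, false, true, true, false, false, false]))) (.node (.node (.leaf [true, true, true, false, false, false, true, false]) (.leaf [true, true, true, true, false, false, true, false, false, false, true])) (.leaf [true, true, false, false, true, false, true, true, true, true]))) (.node (.node (.node (.leaf [true, false, false, false, false, false, true, false]) (.leaf [true, true, false, false, true, false, true, true, false, false, false])) (.leaf [true, false, false, true, false, true, true, true, true, false])) (.node (.node (.leaf [true, false, true, false, false, true, true, true, true]) (.leaf [true, false, true, true, false, false, true, true, true, true, false, true])) (.leaf [true, true, true, true, false, false, true, false, false, false]))))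

def certHWord43 : Janko.Tree (List Bool) :=
  (.node (.node (.node (.node (.leaf [true, true, false, false, false, false]) (.leaf [true, false, false, true, true, true, false, true, false, false, false])) (.node (.leaf [true, true, true, false, true, false, false, true, true]) (.leaf [true, true, true, true, false, false, true, false, false, false, false, false]))) (.node (.node (.leaf [true, true, true, false, false, false, true, true]) (.leaf [true, true, true, true, false, true, false, false, true, true, true])) (.leaf [true, true, false, false, true, true, true, false, false, false]))) (.node (.node (.node (.leaf [true, false, false, false, false, true, false, false]) (.leaf [true, true, false, false, true, false, true, true, true, false, false])) (.leaf [true, false, false, true, false, true, true, true, true, true])) (.node (.node (.leaf [true, false, true, true, false, false, false, false, false]) (.leaf [true, false, true, true, true, false, false, false, false, true, false, false])) (.leaf [true, true, true, true, false, false, true, false, false, true]))))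

def certHWord44 : Janko.Tree (List Bool) :=
  (.node (.node (.node (.node (.leaf [true, true, false, false, false, true]) (.leaf [true, false, false, true, true, true, false, true, false, false, true])) (.node (.leaf [true, true, true, false, true, true, false, false, false]) (.leaf [true, true, true, true, false, false, true, false, false, false, true, false]))) (.node (.node (.leaf [true, true, true, false, false, true, true, true]) (.leaf [true, true, true, true, false, true, true, true, false, true, false])) (.leaf [true, true, false, false, true, true, true, false, true, false]))) (.node (.node (.node (.leaf [true, false, false, false, false, true, false, true]) (.leaf [true, true, false, false, true, true, true, false, false, false, false])) (.leaf [true, false, false, true, true, true, false, true, false, false])) (.node (.node (.leaf [true, false, true, true, false, false, false, false, true]) (.leaf [true, false, true, true, true, false, false, false, true, false, false, false])) (.leaf [true, true, true, true, false, false, true, false, true, false]))))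

def certHWord45 : Janko.Tree (List Bool) :=
  (.node (.node (.node (.node (.leaf [true, true, false, false, true, false]) (.leaf [true, false, false, true, true, true, false, true, true, true, false])) (.node (.leaf [true, true, true, false, true, true, false, false, true]) (.leaf [true, true, true, true, false, false, true, false, false, false, true, true]))) (.node (.node (.leaf [true, true, true, false, true, false, false, false]) (.leaf [true, true, true, true, true, false, false, false, true, false, false])) (.leaf [true, true, false, false, true, true, true, false, true, true]))) (.node (.node (.node (.leaf [true, false, false, false, false, true, true, false]) (.leaf [true, true, false, false, true, true, true, false, false, false, true])) (.leaf [true, false, false, true, true, true, false, true, false, true])) (.node (.node (.leaf [true, false, true, true, false, false, false, true, false]) (.leaf [true, false, true, true, true, false, false, false, true, false, false, true])) (.leaf [true, true, true, true, false, true, false, false, true, false]))))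

def certHWord46 : Janko.Tree (List Bool) :=
  (.node (.node (.node (.node (.leaf [true, true, false, false, true, true]) (.leaf [true, false, false, true, true, true, true, false, false, false, false])) (.node (.leaf [true, true, true, false, true, true, true, false, false]) (.leaf [true, true, true, true, true, false, false, false, true, false, false, true]))) (.node (.node (.leaf [true, true, true, false, true, false, false, true]) (.leaf [true, true, true, true, true, false, false, true, false, false, false])) (.leaf [true, true, false, false, true, true, true, true, false, false]))) (.node (.node (.node (.leaf [true, false, false, false, false, true, true, true]) (.leaf [true, true, false, false, true, true, true, false, true, false, false])) (.leaf [true, false, false, true, true, true, false, true, true, true])) (.node (.node (.leaf [true, false, true, true, false, false, true, false, false]) (.leaf [true, false, true, true, true, false, false, false, true, false, true, true])) (.leaf [true, true, true, true, false, true, false, false, true, true]))))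

def certHWord47 : Janko.Tree (List Bool) :=
  (.node (.node (.node (.node (.leaf [true, true, false, true, false, false]) (.leaf [true, false, false, true, true, true, true, false, false, false, true])) (.node (.leaf [true, true, true, false, true, true, true, false, true]) (.leaf [true, true, true, true, true, false, true, true, false, false, false, false]))) (.node (.node (.leaf [true, true, true, false, true, true, false, false]) (.leaf [true, true, true, true, true, false, true, true, false, false, false])) (.leaf [true, true, false, false, true, true, true, true, false, true]))) (.node (.node (.node (.leaf [true, false, false, false, true, false, false, false]) (.leaf [true, true, false, false, true, true, true, true, false, false, false])) (.leaf [true, false, false, true, true, true, true, false, false, false])) (.node (.node (.leaf [true, false, true, true, false, false, true, false, true]) (.leaf [true, false, true, true, true, false, false, true, false, false, false, false])) (.leaf [true, true, true, true, false, true, true, true, false, false]))))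

def certHWord48 : Janko.Tree (List Bool) :=
  (.node (.node (.node (.node (.leaf [true, true, false, true, false, true]) (.leaf [true, false, false, true, true, true, true, false, false, true, true])) (.node (.leaf [true, true, true, false, true, true, true, true, false]) (.leaf [true, true, true, true, true, false, true, true, false, false, false, true]))) (.node (.node (.leaf [true, true, true, false, true, true, true, false]) (.leaf [true, false, false, false, false, true, false, false, true, false, false, true])) (.leaf [true, true, false, true, false, false, false, false, false, true]))) (.node (.node (.node (.leaf [true, false, false, false, true, false, false, true]) (.leaf [true, true, false, true, false, false, false, false, false, true, false])) (.leaf [true, false, false, true, true, true, true, false, false, true])) (.node (.node (.leaf [true, false, true, true, false, false, true, true, true]) (.leaf [true, false, true, true, true, false, false, true, false, false, false, true])) (.leaf [true, true, true, true, false, true, true, true, false, true]))))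

def certHWord49 : Janko.Tree (List Bool) :=
  (.node (.node (.node (.node (.leaf [true, true, false, true, true, false]) (.leaf [true, false, false, true, true, true, true, false, true, false, false])) (.node (.leaf [true, true, true, false, true, true, true, true, true]) (.leaf [true, false, false, false, true, false, true, true, true, true, true, false, true]))) (.node (.node (.leaf [true, true, true, false, true, true, true, true]) (.leaf [true, false, false, false, false, true, false, false, true, true, true, true])) (.leaf [true, true, false, true, false, false, false, false, true, false]))) (.node (.node (.node (.leaf [true, false, false, false, true, false, true, false]) (.leaf [true, true, false, true, false, false, false, false, true, false, false])) (.leaf [true, false, false, true, true, true, true, false, true, false])) (.node (.node (.leaf [true, false, true, true, true, false, false, false, false]) (.leaf [true, false, true, true, true, false, true, false, false, true, true, true])) (.leaf [true, true, true, true, false, true, true, true, true, false]))))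

def certHWord50 : Janko.Tree (List Bool) :=
  (.node (.node (.node (.node (.leaf [true, true, false, true, true, true]) (.leaf [true, false, false, true, true, true, true, false, true, true, false])) (.node (.leaf [true, true, true, true, false, false, false, false, false]) (.leaf [true, false, false, false, true, true, false, false, true, false, true, true, true]))) (.node (.node (.leaf [true, true, true, true, false, false, false, false]) (.leaf [true, false, false, false, false, true, true, false, true, true, true, true])) (.leaf [true, true, false, true, false, false, false, false, true, true]))) (.node (.node (.node (.leaf [true, false, false, false, true, false, true, true]) (.leaf [true, true, false, true, false, false, false, false, true, true, true])) (.leaf [true, false, false, true, true, true, true, false, true, true])) (.node (.node (.leaf [true, false, true, true, true, false, false, false, true]) (.leaf [true, false, true, true, true, false, true, true, false, false, false, false])) (.leaf [true, true, true, true, false, true, true, true, true, true]))))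

def certHWord51 : Janko.Tree (List Bool) :=
  (.node (.node (.node (.node (.leaf [true, true, true, false, false, false]) (.leaf [true, false, false, true, true, true, true, false, true, true, true])) (.node (.leaf [true, true, true, true, false, false, false, false, true]) (.leaf [true, false, false, false, true, true, false, true, true, true, true, true, false]))) (.node (.node (.leaf [true, true, true, true, false, false, false, true]) (.leaf [true, false, false, false, false, true, true, true, false, false, true, true])) (.leaf [true, true, false, true, false, false, false, true, false, false]))) (.node (.node (.node (.leaf [true, false, false, false, true, true, false, false]) (.leaf [true, true, false, true, false, false, false, true, false, false, false])) (.leaf [true, false, false, true, true, true, true, true, false, false])) (.node (.node (.leaf [true, false, true, true, true, false, false, true, false]) (.leaf [true, false, true, true, true, false, true, true, false, false, false, true])) (.leaf [true, true, true, true, true, false, false, false, false, false]))))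

def certHWord52 : Janko.Tree (List Bool) :=
  (.node (.node (.node (.node (.leaf [true, true, true, false, false, true]) (.leaf [true, false, false, true, true, true, true, true, false, false, false])) (.node (.leaf [true, true, true, true, false, false, false, true, false]) (.leaf [true, false, false, true, false, false, false, false, true, true, false, true, false]))) (.node (.node (.leaf [true, true, true, true, false, false, true, false]) (.leaf [true, false, false, false, false, true, true, true, false, true, false, false])) (.leaf [true, true, false, true, false, false, false, true, false, true]))) (.node (.node (.node (.leaf [true, false, false, false, true, true, false, true]) (.leaf [true, true, false, true, false, false, false, true, false, true, true])) (.leaf [true, false, false, true, true, true, true, true, false, true])) (.node (.node (.leaf [true, false, true, true, true, false, false, true, true]) (.leaf [true, false, true, true, true, false, true, true, true, false, false, true])) (.leaf [true, true, true, true, true, false, false, false, false, true]))))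

def certHWord53 : Janko.Tree (List Bool) :=
  (.node (.node (.node (.node (.leaf [true, true, true, false, true, false]) (.leaf [true, false, false, true, true, true, true, true, false, true, false])) (.node (.leaf [true, true, true, true, false, false, false, true, true]) (.leaf [true, false, false, true, false, false, false, true, true, true, true, true, false]))) (.node (.node (.leaf [true, true, true, true, false, false, true, true]) (.leaf [true, false, false, false, false, true, true, true, false, true, false, true])) (.leaf [true, true, false, true, false, false, false, true, true, false]))) (.node (.node (.node (.leaf [true, false, false, false, true, true, true, true]) (.leaf [true, true, false, true, false, false, false, true, true, false, false])) (.leaf [true, false, true, false, false, false, false, true, false, false])) (.node (.node (.leaf [true, false, true, true, true, false, true, false, false]) (.leaf [true, false, true, true, true, false, true, true, true, true, false, true])) (.leaf [true, true, true, true, true, false, false, false, true, false]))))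

def certHWord54 : Janko.Tree (List Bool) :=
  (.node (.node (.node (.node (.leaf [true, true, true, false, true, true]) (.leaf [true, false, false, true, true, true, true, true, false, true, true])) (.node (.leaf [true, true, true, true, false, false, true, false, false]) (.leaf [true, false, false, true, false, false, true, true, true, true, false, true, true]))) (.node (.node (.leaf [true, true, true, true, false, true, false, false]) (.leaf [true, false, false, false, false, true, true, true, true, true, false, true])) (.leaf [true, true, false, true, false, false, false, true, true, true]))) (.node (.node (.node (.leaf [true, false, false, true, false, false, false, false]) (.leaf [true, true, false, true, false, false, false, true, true, true, true])) (.leaf [true, false, true, false, false, false, false, true, false, true])) (.node (.node (.leaf [true, false, true, true, true, false, true, false, true]) (.leaf [true, false, true, true, true, true, false, false, true, false, false, false])) (.leaf [true, true, true, true, true, false, false, false, true, true]))))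

def certHWord55 : Janko.Tree (List Bool) :=
  (.node (.node (.node (.node (.leaf [true, true, true, true, false, false]) (.leaf [true, false, true, false, false, false, false, true, false, false, true])) (.node (.leaf [true, true, true, true, false, false, true, false, true]) (.leaf [true, false, false, true, false, true, true, false, false, false, false, false, true]))) (.node (.node (.leaf [true, true, true, true, false, true, false, true]) (.leaf [true, false, false, false, true, false, false, false, false, false, true, false])) (.leaf [true, true, false, true, false, false, true, false, false, false]))) (.node (.node (.node (.leaf [true, false, false, true, false, false, false, true]) (.leaf [true, true, false, true, false, false, true, false, false, false, false])) (.leaf [true, false, true, false, false, false, true, false, false, false])) (.node (.node (.leaf [true, false, true, true, true, false, true, true, false]) (.leaf [true, false, true, true, true, true, false, false, true, false, false, true])) (.leaf [true, true, true, true, true, false, false, true, false, false]))))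

def certHWord56 : Janko.Tree (List Bool) :=
  (.node (.node (.node (.node (.leaf [true, true, true, true, false, true]) (.leaf [true, false, true, false, false, false, false, true, false, true, false])) (.node (.leaf [true, true, true, true, false, false, true, true, true]) (.leaf [true, false, false, true, false, true, true, true, false, false, false, false, false]))) (.node (.node (.leaf [true, true, true, true, false, true, true, false]) (.leaf [true, false, false, false, true, false, false, true, false, true, true, false])) (.leaf [true, true, false, true, false, false, true, false, false, true]))) (.node (.node (.node (.leaf [true, false, false, true, false, false, true, true]) (.leaf [true, true, false, true, false, false, true, false, false, false, true])) (.leaf [true, false, true, false, false, false, true, false, false, true])) (.node (.node (.leaf [true, false, true, true, true, false, true, true, true]) (.leaf [true, false, true, true, true, true, false, true, true, false, false, true])) (.leaf [true, true, true, true, true, false, true, false, false, false]))))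

def certHWord57 : Janko.Tree (List Bool) :=
  (.node (.node (.node (.node (.leaf [true, true, true, true, true, false]) (.leaf [true, false, true, false, false, false, true, false, false, false, false])) (.node (.leaf [true, true, true, true, false, true, false, false, false]) (.leaf [true, false, false, true, false, true, true, true, false, false, true, false, false]))) (.node (.node (.leaf [true, true, true, true, false, true, true, true]) (.leaf [true, false, false, false, true, false, false, true, false, true, true, true])) (.leaf [true, true, false, true, false, false, true, false, true, true]))) (.node (.node (.node (.leaf [true, false, false, true, false, true, false, false]) (.leaf [true, true, false, true, false, false, true, false, true, true, true])) (.leaf [true, false, true, false, false, false, true, true, false, false])) (.node (.node (.leaf [true, false, true, true, true, true, false, false, false]) (.leaf [true, false, true, true, true, true, true, false, false, false, true, false])) (.leaf [true, true, true, true, true, false, true, false, false, true]))))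

def certHWord58 : Janko.Tree (List Bool) :=
  (.node (.node (.node (.node (.leaf [true, false, false, false, false, false, true]) (.leaf [true, false, true, false, false, false, true, true, false, false, true])) (.node (.leaf [true, true, true, true, false, true, false, false, true]) (.leaf [true, false, false, true, false, true, true, true, false, false, true, false, true]))) (.node (.node (.leaf [true, true, true, true, true, false, false, false]) (.leaf [true, false, false, false, true, false, false, true, true, true, true, true])) (.leaf [true, true, false, true, false, false, true, true, true, false]))) (.node (.node (.node (.leaf [true, false, false, true, false, true, true, false]) (.leaf [true, true, false, true, false, false, true, true, true, false, true])) (.leaf [true, false, true, false, false, false, true, true, true, true])) (.node (.node (.leaf [true, false, true, true, true, true, false, false, true]) (.leaf [true, false, true, true, true, true, true, false, false, false, true, true])) (.leaf [true, true, true, true, true, false, true, true, false, false]))))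

def certHWord59 : Janko.Tree (List Bool) :=
  (.node (.node (.node (.node (.leaf [true, false, false, false, false, true, false]) (.leaf [true, false, true, false, false, false, true, true, true, true, true])) (.node (.leaf [true, true, true, true, false, true, true, false, false]) (.leaf [true, false, false, true, false, true, true, true, true, false, false, true, false]))) (.node (.node (.leaf [true, true, true, true, true, false, false, true]) (.leaf [true, false, false, false, true, false, true, true, true, true, true, false])) (.leaf [true, true, false, true, false, false, true, true, true, true]))) (.node (.node (.node (.leaf [true, false, false, true, false, true, true, true]) (.leaf [true, true, false, true, true, false, false, false, false, false, true])) (.leaf [true, false, true, false, false, true, false, false, false, false])) (.node (.node (.leaf [true, false, true, true, true, true, false, true, true]) (.leaf [true, false, true, true, true, true, true, false, false, true, false, false])) (.leaf [true, false, false, false, false, false, true, false, false, false, false]))))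

def certHWord60 : Janko.Tree (List Bool) :=
  (.node (.node (.node (.node (.leaf [true, false, false, false, false, true, true]) (.leaf [true, false, true, false, false, true, false, true, true, true, false])) (.node (.leaf [true, true, true, true, false, true, true, true, false]) (.leaf [true, false, false, true, true, true, false, true, false, false, true, false, false]))) (.node (.node (.leaf [true, true, true, true, true, false, true, false]) (.leaf [true, false, false, false, true, true, false, false, true, false, true, false])) (.leaf [true, true, false, true, true, false, false, false, false, false]))) (.node (.node (.node (.leaf [true, false, false, true, true, true, false, true]) (.leaf [true, true, false, true, true, false, false, false, false, true, false])) (.leaf [true, false, true, false, false, true, false, false, true, true])) (.node (.node (.leaf [true, false, true, true, true, true, true, false, false]) (.leaf [true, true, false, false, false, false, true, true, false, false, true, true])) (.leaf [true, false, false, false, false, false, true, false, true, false, false]))))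

def certHWord61 : Janko.Tree (List Bool) :=
  (.node (.node (.node (.node (.leaf [true, false, false, false, true, false, false]) (.leaf [true, false, true, false, false, true, true, true, false, true, false])) (.node (.leaf [true, true, true, true, false, true, true, true, true]) (.leaf [true, false, false, true, true, true, false, true, true, true, false, true, true]))) (.node (.node (.leaf [true, true, true, true, true, false, true, true]) (.leaf [true, false, false, false, true, true, false, false, true, false, true, true])) (.leaf [true, true, false, true, true, false, false, false, false, true]))) (.node (.node (.node (.leaf [true, false, false, true, true, true, true, false]) (.leaf [true, true, false, true, true, false, false, false, false, true, true])) (.leaf [true, false, true, false, false, true, false, true, true, true])) (.node (.node (.leaf [true, false, true, true, true, true, true, false, true]) (.leaf [true, true, false, false, false, false, true, true, false, true, true, false])) (.leaf [true, false, false, false, false, true, false, false, true, false, false]))))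

def certHWord62 : Janko.Tree (List Bool) :=
  (.node (.node (.node (.node (.leaf [true, false, false, false, true, false, true]) (.leaf [true, false, true, false, false, true, true, true, false, true, true])) (.node (.leaf [true, true, true, true, true, false, false, false, false]) (.leaf [true, false, false, true, true, true, true, false, false, false, false, false, true]))) (.node (.node (.leaf [true, false, false, false, false, false, true, false, false]) (.leaf [true, false, false, false, true, true, false, false, true, true, true, false])) (.leaf [true, true, false, true, true, false, false, false, true, false]))) (.node (.node (.node (.leaf [true, false, false, true, true, true, true, true]) (.leaf [true, true, false, true, true, false, false, false, true, false, false])) (.leaf [true, false, true, false, false, true, true, true, false, true])) (.node (.node (.leaf [true, true, false, false, false, false, false, true, false]) (.leaf [true, true, false, false, false, true, false, false, true, false, true, false])) (.leaf [true, false, false, false, false, true, false, false, true, false, true]))))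

def certHWord63 : Janko.Tree (List Bool) :=
  (.node (.node (.node (.node (.leaf [true, false, false, false, true, true, false]) (.leaf [true, false, true, false, false, true, true, true, true, false, false])) (.node (.leaf [true, true, true, true, true, false, false, false, true]) (.leaf [true, false, false, true, true, true, true, false, false, false, true, false, false]))) (.node (.node (.leaf [true, false, false, false, false, false, true, false, true]) (.leaf [true, false, false, false, true, true, false, false, true, true, true, true])) (.leaf [true, true, false, true, true, false, false, true, false, false]))) (.node (.node (.node (.leaf [true, false, true, false, false, false, false, false]) (.leaf [true, true, false, true, true, false, false, true, false, false, false])) (.leaf [true, false, true, false, false, true, true, true, true, false])) (.node (.node (.leaf [true, true, false, false, false, false, true, true, false]) (.leaf [true, true, false, false, false, true, false, false, true, false, true, true])) (.leaf [true, false, false, false, false, true, false, false, true, true, true]))))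

def certHWord : Janko.Tree (List Bool) :=
  (.node (.node (.node (.node (.node (.node certHWord0 certHWord32) (.node certHWord16 certHWord48)) (.node (.node certHWord8 certHWord40) (.node certHWord24 certHWord56))) (.node (.node (.node certHWord4 certHWord36) (.node certHWord20 certHWord52)) (.node (.node certHWord12 certHWord44) (.node certHWord28 certHWord60)))) (.node (.node (.node (.node certHWord2 certHWord34) (.node certHWord18 certHWord50)) (.node (.node certHWord10 certHWord42) (.node certHWord26 certHWord58))) (.node (.node (.node certHWord6 certHWord38) (.node certHWord22 certHWord54)) (.node (.node certHWord14 certHWord46) (.node certHWord30 certHWord62))))) (.node (.node (.node (.node (.node certHWord1 certHWord33) (.node certHWord17 certHWord49)) (.node (.node certHWord9 certHWord41) (.node certHWord25 certHWord57))) (.node (.node (.node certHWord5 certHWord37) (.node certHWord21 certHWord53)) (.node (.node certHWord13 certHWord45) (.node certHWord29 certHWord61)))) (.node (.node (.node (.node certHWord3 certHWord35) (.node certHWord19 certHWord51)) (.node (.node certHWord11 certHWord43) (.node certHWord27 certHWord59))) (.node (.node (.node certHWord7 certHWord39) (.node certHWord23 certHWord55)) (.node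 (.node certHWord15 certHWord47) (.node certHWord31 certHWord63))))))

def certHPerm0 : Janko.Tree (ℕ) :=
  (.node (.node (.node (.node (.leaf 4100094770554042515533122004313285236735003534074830538881045787921142082201184208296423565880205964959118971074454247199955378650214568923506906026203450061729621922836307612900092799561144844784840892852764800) (.leaf 3797892848946416063179175320024544947500514097055049112509125519484344628320956469251776656860845878642772561909397106528417125994969384908871937412518200234742586586419881294858939163139105232538653706315515264)) (.node (.leaf 1974553943112685750642409407738392821378178232442285691854027574983980810595904200382255181866328853247838764771549783583569166770476207620387008033945492802438965857329866257454152642247785920457286277572740480) (.leaf 3290814156573537590552130009676779934834646633576540654790626120051930160317571293399902444183014912077280129944629540378543122641654845769154284997239588158453797028740991991419195158667447137217543828061116032))) (.node (.node (.leaf 4003065058427176595335788981991580269313690575911013125222106163362359659814450674399670511798797888842864095152140030427180941074545841714910351693883869413955964968670232182335381430891078156608133231715489408)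 (.leaf 3713026945085988952050923040672552950611405092349024851228495266139139848441744316670020482925271265294548953931758956994594985819117259540000851240215610004871810592747106413125751186797299161724524462244140800)) (.leaf 999994046326350245748180572363684994702334990916360907784340992632525069853488236542537580103849815819430863153723043235427438596141596001505773218171715623326294648175668487884915587851116604202751263431021184))) (.node (.node (.node (.leaf 3960415757554403421270014028768216392818098189518232411580491076913391659245634337799877330399820546284862997484083539257481496467796353032424845500654922192538963807563613677355012176772266883292543987340595968) (.leaf 1826979020165620771827425599575192298299256597948366526311827012446349444813349459661141258597012928314460538175161832105917406542148406483298743233944647672403677728746952530185209066968686147522795669209410304)) (.node (.leaf 128942346688938063158320885154037042661887437640106696218326900355890754391668303869594923606411738471899775007633915385021209817788937363728067678914871762776511002075868143654883894322153681901432862169646208) (.leaf 847039154403143402858220359177038129753782872868852366286504007679946794755079040503090584597103012423996299662697641200377204732957784195084178198493084002174180051820127689614695488552064037391927832720988800)))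 (.node (.node (.leaf 1339612685731616019223260370908255062729382957075208317495370803312659423535561066289324123288693172302363389029994592317123382024033444093610853993570058825340919979610000138532008095412825326712410024762808960) (.leaf 2733287973303319681516032746940729400362125303853131459754435901245440089646013543634515891397741307998399795905201615436562393080966103618539949600361168487890350862459673727409049232053728620167927536913565312)) (.leaf 2985326194524286919102813195990849558038326944536374336035589462755077245545765383891028218500048023134722276352818056474102065212040094275546550541038432013730894460547942489452157153445072574528716947987736064))))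

def certHPerm1 : Janko.Tree (ℕ) :=
  (.node (.node (.node (.node (.leaf 1702735042742670056156981895300359635345644653679565078146916351386040445736633697408223455740990694672896959725287099595260697148551524791484758144587525210686603426893036229412527842926530919212511831265476864) (.leaf 2441524909374727060038482874451058960698416067587146126590097956638139443420053402569220067116806101081410191635814275973771185261673132401269705623913155045463246514136535463513798251749009175382726403972387328)) (.node (.leaf 3173459701595940993520811779478686875291618635162252629116587526695594302560333768632946714482077771710603807406526550052737356746516685790155862986141335709467220603319740116275920114197809229482026735381087232) (.leaf 2219862552098083278595221473030786555644825847431981328518212710828321843435381830482531870535250639807874006974917545967683016898902438234224135172869090532585591885875899258807947615110547929261153764955033856))) (.node (.node (.leaf 2861880240633683336272080463321353811958563258910987518340692357797565558045514204654610611497313255071275233559672853596290058110972837094870529955365841785642453457691283663927927631604679745159699930610123520) (.leaf 2316297931122390055146717970487335746110933817285757064054469211539741206166787413711796291674250434965521621775178663271881058371778351936614820715064341124053311471343536186932406993094244815993989107486524160))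 (.leaf 1769124112015954149431768337569229934439207093022988494367922585944178472805885915817423698655624952264058060662327423609750881247659047817067611530231008723030292778129970987495617728599622502199517335867572352))) (.node (.node (.node (.leaf 2972390201418334782007781445579952422086859143839692856872814853571134823799437741945577480379665942272413757552305316592607017441210979414206003001133275931460303595907694118722121974658380721447789180272798720) (.leaf 672718271350630362624659700566174604554504172065237784260642869921539304963280549168113142502949637567204242576851461068482837844905180398657613365669664739303882019671874429233505584667694820127111653693804672)) (.node (.leaf 2722960544470487019164779532194456673021485402908657339718037201038588891594238914470748099885822073643534015544800473187948008105206147887502372012789328957880611679380380874230366519662616048404394785573896448) (.leaf 2016613960317508541002608149678121069570309745397979466216831006253473988225660603417599162313169297816717885346027039316578716690613250920972817170903284874425940245254709926302066472517554071728531625542550528))) (.node (.node (.leaf 1071434089638946580052123188310603974590813561074973527420324462726943237434483598567691496583913081069292255288050135898993175708838687136184473842108914544534201076828535871851523538764255399140674457133944320)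 (.leaf 2098735884421258072601991464092580937342264955017507175269466557568879177171696290263756628667678037451982875543326573014798049010691111407790619536516977346487886978807929542153517815635647172451617571704460544)) (.leaf 1051846123999983710914083223163909430165060818464921616521010048117467010850104618022800257421807905539607470213826943991753488743877133870272835498837477877420808929546345500500575092939229236406066174282268928))))

def certHPerm2 : Janko.Tree (ℕ) :=
  (.node (.node (.node (.node (.leaf 4089364539577884520965720306115133412372139990056647030533403324189250105464859420249778021051862512943382543925410067517098436758218467547346183123042684320363448270561182856676961886289448000111241966735615488) (.leaf 3988181126176622821251137116862879233634932433394232185345780538676059202340025084016184282897610976105827492918890626662692532040420429170578092417587324180842720417279954612563875115499525262621581334755551616)) (.node (.leaf 2759009773894732902850186477957116275191526129123005071873156463241730480921325120317547976667933156733656300421253802169524351522164657791498711236217734031887108000149151929046436710410900685390186859952657664) (.leaf 165215823473992383766259970445572865928437591888337963199607867895285322906531423061696689358786928866372424691172172936616307423889508183589495291032996759936218564912166475342586593651534403167471239900513280)))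 (.node (.node (.leaf 1247394861664861075565155483515290221520360719092309723615590108102569652300499123830232303164959923294544860658530907851777195228642565553546731443090862297546240525325147935436853545340017747297904453358846592) (.leaf 837157399270754731200738975857825600962828596455295883306269698023968365833003909219500062833043304670081634391071299346610952248516440688096536742404647593072979880051058630415092634408232081264140038127069952)) (.leaf 1218501174825204736401567217475441326374860686925031636290648650224477631310416384991555554258598400962319885240258259470657512165531004747810990230914550450574636662083653128396688659859462715016001810925378176))) (.node (.node (.node (.leaf 1327479009395202702089782336163918908058760501967467586382668276898931807423785708140404803850584978298272663808472179344894886490025248176984477112042718767046228811239994826912685617457808949263904706333268608) (.leaf 1617532832452311652511427355060508837150015040394370759824469840977595475225108214298308496510509959826371390158984456427805125425207150213652165480709275028577220418105648968263873234455158158025488965988075136)) (.node (.leaf 783557372237273435855926420752440904296827407431888227583844453570153027226517979814909230135804801610850235571799869277344446970323005800715500710434655811588199849770443507476916580111533790781010625628750976)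 (.leaf 826281079103779280083361070017179298893956733865181406328017045714273045889966186348623089035295365652831419274569520568964341764264950344450732478488987865415952958699172662695668718135747157962159621071917696))) (.node (.node (.leaf 1287617722365846976907605741644646740436878674779563688500558773098837774819185825945262571879326278325072048601095307694858512045755430818150513759010642886148946020867626284837112252305496264223122279265509248) (.leaf 2880862514644293118808591537944867627961170270381798947886270963883731265826274716872752940522040661143945177388931530729663823121041948495895549790896151444870754733279957919034837949993178381586554194134865664)) (.leaf 580792878034076271879869153507309169945425066988818194102872825817298858704626336547982605244380885551651115298308037463996338284199150335867836439914234684984558428686494938167273206024246373662279873604683392))))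

def certHPerm3 : Janko.Tree (ℕ) :=
  (.node (.node (.node (.node (.leaf 744060214392629195821502121402936491653273531941694825474472617811114516098896620793808602664548861950646782733642594743667466981699831356234709074718796002530381972573967080644974777274907943775491781433475840) (.leaf 2354104050239991808926257373560774531541189516348125924639974876378412002971594166319967350350719265191554515153484109362192423576912254883643176341404243638972161015900298477552824496448203186572480489223655552)) (.node (.leaf 906807586274636083259615421298014866291674493284492072288534758393209509807952662371551430168392765942067740245426750241090334157913110506456000861233185381909877571901571349030660789227817374919292998068185344) (.leaf 3468837443978131393176740777757552364508914476796344517275760727126748173225833196718838673942633846133866437225920149342838548632378032881897197030391197327867592958855764843738175455180040661153082427107530496))) (.node (.node (.leaf 2353745814024156025593569649219514968817937372826177396828007077584774589686016645112977794102395576203607997169424652527501675988125184988597983445848693021033987361626095365302089351883071177182917375851698048) (.leaf 881838452926896314858933576650702191994199881033855123418769322162342548303406826067939268042139142377658638488213828906174350941426401512215607188354358145366568648547747356886365960103169639450756821536620800))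 (.leaf 3510317179780319835012058793364464577020357946173571162717112759934561971526881050751579655905610932328825373258833417409580066804560116958338207741223521166867380405401005063180324042711508484196187387632910592))) (.node (.node (.node (.leaf 3989787084379675415942311623611196407481190285809943961787143168625158902554700409018515592406493159494425110556435342327573449304230603890991542357447076923124774838069813282020351410938875310767691367902810368) (.leaf 4011404572122601606268509640846632177364003338478251115149480608253216148958203680392011276078422586499785537643413771957299741782929035954387299966490759184323537531855426286176406502072179821622682139658602624)) (.node (.leaf 3046542156130878099405879621701467276647491570754562933449235420050682237136278001160666974605248305681408172572213053483363588919926730127230348975839180009081975257781822229793049046568195662407355671813889920) (.leaf 3110568671890995895053249941728428877506281806264083102035959473421056532204609723068285327795500252768679621917492720892557634020875129974654864961237537920148995537701075389121239245158535049844616567431171584))) (.node (.node (.leaf 3789854031832141741900037807242094783064211691254128241190291829521482609557221749622496588044951863606475701790892016300599741099132941949130239521560050014868719644304994184335252032009584671335311119484493696)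 (.leaf 3273055393989538662832207057597465059375453469777155055757541446388648074606605391505699580855508435829248143748203645694269613059141322789700559073091905421451575722095273851542465878421269001438718527847698560)) (.leaf 1327310952437778373773205196218578810777112386130647581028168429012696132442851987825240365675188116322289864908842915603733857304907759864984177820473384116405270766351155260661074916613545061537697800790525312))))

def certHPerm4 : Janko.Tree (ℕ) :=
  (.node (.node (.node (.node (.leaf 4014634276145280695901460857197579208233565711571383476051376449063425754139938135245530700271269004386681007707675317343768496806475484746602148874062732149283106639730100118847114312489064779174334858697213440) (.leaf 2319982603727807281444451005330580974651592816953378548734161539634361520874450916121003794539487043854843044717770374717088887776387652083649907735810972506291610929421153423932040340716023381977983785128886528)) (.node (.leaf 3093823181542797283934198653462290578076964493223849621497915916656686337356036130276551871748142410179086949682925857278462805143022838547485115860851610480226311518101454717965227115518283800742051208533892352) (.leaf 3271059030609295353645267191378588575315344838868270046431084010924896170124752471927867011111516708912187254681495998365433132821624327748869145846579836856426848795615824145048322256790755965790670323712164096)))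 (.node (.node (.leaf 836384970446768991686477886715474211532391882515509907149424538576968560592635763720206514925859435816029923132407115999016691758337284538637205653008419515567200346468687697523664356709773257055165642710172416) (.leaf 2354119275960980095659733481082341068075175720527442583679958150042355187890217973491149639373288584029625410496398309568273280421875258096871448637777108922126287276991810099031111218324763139904560701547256320)) (.leaf 2016656265395757086324693364312887843026871286719334725493553323106713614148534449388211602857415259771280325008671177013996165820093468648826922529744848288414742813248825302180737525152301042868624779264797056))) (.node (.node (.node (.leaf 3838900318706715356952406829068551113609843131288176266288790902925209222876492642695109983619124716721855833616507034139680593904465018287683495728032254182632802776716361215980906801997811607183725218233620352) (.leaf 1988678011471356865859629835988766579059096296399265881001815891711042356694082989384990130967460957138340222932909012292789221121867311944288209571515712523608888301303691214638934725708528170282125032010453504)) (.node (.leaf 2510739398066387127405622444913477975535175837775029116541057336588580786893452311510295893084744255145361940022005802822510091742994068484744985772251445181787285362544542130302354354969501373411564676776285952)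 (.leaf 1823479573968522726034252773617975955650657557634378845937457951905999586040297899809793077128659518339380183606422509112438003579698336923452999545360083036694711756094735023484612819358939941361341218360017152))) (.node (.node (.leaf 2314850533862204011176910412891795840027839574795437610830961855031061300262565000424431912514162583157532212512894709149842963176525407878952584761093435069580498017865287018903830967031003108146036314731005056) (.leaf 1085559454150470729390882447080041799703221106930663404203197641793654584438316905005337132259800724230412339540855519768738068244278985642119205007334830610009937797166898987826919287084060557725229933985308800)) (.leaf 962320600026068937401187275498468071485842668057140293401354844569179959817662064984005023305331769843305880610468817352009294026467690614617776175968053021992542703933105364419225361189154710973779140265371392))))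

def certHPerm5 : Janko.Tree (ℕ) :=
  (.node (.node (.node (.node (.leaf 3712120512409472473919189842719612925814366878613187615364910230984072215218001095457483371022380448194571462551800673901321697450444893720397270162699478544703089128753091178401776788317471317228807700725090432) (.leaf 881647823139895466237004637488805388672071534060009676972007837792696344846755843861789892491704248417395064099092611872767210330298111684005221534082402438660303422795915355807376030823478638666440440130916864)) (.node (.leaf 2315004825420578714054736254656704305749991701467098725762652526474672139541248397697020680510251257104793022482450255195901554580076423020612219716198253255623208291753680618295473386053651050446330266076669440) (.leaf 3041802479050055060503029800032115803694428726798830933328237873962367681286901291339246794174772513958822092712511156260219253929143710704929613356629595786895706409505059807678201846984400588192570195730878592))) (.node (.node (.leaf 2426581006282733153978190924435385807627725581403688055375390289000288598380417584640931873575460641994166716806022037369455665987183566338025564361424285153694529124204140992107104163204231302447874458062625024) (.leaf 2934671473313255599737844562180754791961798093545873028745349048739453965307638846324181225858025298066306089926410564661705289849568969258360318775092125571245705876445960366267049705139012103620945934562044288))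 (.leaf 1029152812303407401508721743689708190908027942007723546950283162441932395830757867465513814641532774931922381892776357473700664814922548492548957306401912661703248045794308174034241730674632497845022354532110592))) (.node (.node (.node (.leaf 3496699410919903134573207572583287470902827496653046576076000688173819398729567312760606763184709555228707238928421254996977044786720414903489838827905835798637586142239553610369703107804233501694450769693725440) (.leaf 2490246171414400218469333304400952943798982526505537018581925341387216653343324443616868951751099336548480979791904791798045130141700021219561083901554821305989147358287743760852633879028361740499984770828774144)) (.node (.leaf 2780193947138981732790256741527227857603436098645622367084052309098387030920547925687949590883444423980073787107900351300711388632720019747843948211285707929752478691529061313479412453764273291952934734462442368) (.leaf 3261395334258693170412413355467663180819779575079538613067774019611432476902425048144309399126996548112033725644462289044499251311696099541497646286373884436610391084739368594044770493048321912230158802863141120))) (.node (.node (.leaf 883440694596673464707016202930092650644241281816442676437315366124142376722252658242241280684990450848724309791606556793957193227089438538579455168988084166646161424479992350250312322106313695064172008963264896)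 (.leaf 3754225844817059247901968319059602161897030600911175397755335361572948110490474753230285387947603464257733095953271238130812201649211722621640010881392461232623852636081314532907590720685992916809206821755061504)) (.leaf 2920744825267537382279108402870486751162870759012360445668482571797443116077488451163389603762995880590265065181571592175177836956295448807098687593830234200834396213153202939493031613752611443382060361361484544))))

def certHPerm6 : Janko.Tree (ℕ) :=
  (.node (.node (.node (.node (.leaf 1695556430821116075709278262378430064801227935096412058144832688481708716529955084629887417335922583516693089963453485959162705345646005410457782414454999187576264580175406069020185211726140043653796773220614272) (.leaf 3824497869412485904593281933492186664161951408225945621660860047004682283836893172451807344216431350728514201632608974971644459471577064420902172938614887289126818800676599931381349476028891393001600287184294016)) (.node (.leaf 620807933903166358734089782004442422724478506431143406732392582885973568160944650075995907935448820404041020493422692595855691869995326663420917339519459082485773045981137683938922851056055730494815356482242048) (.leaf 2881044173673646809602334691941896138671488362429416910340717434021439852879273916034308311165154702860512307552207679617553115971558870662353903566311057212244800103675442766781380689025759430605408482675957888)))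 (.node (.node (.leaf 3838842514026630067391854671631452968174220372030310733409424468969980451368265687247300046506549200633548332149414969312253348990930324394853069480067280758893739499359038624279737158736140959407908816961176704) (.leaf 2469754947154778474623699105696852085213092422004583293492720748402740080864344611306562052290866889698895901494226705454820333207639747711682342895050535279279075335386143976997167959554077538450575124273983744)) (.leaf 2722925922206246778738000658397964174499102149821818118017430145331673214877564509603939690851680113444110379155525880613134608315880327192194073655157840881415540862651479190838033824911502984075436108830605440))) (.node (.node (.node (.leaf 3339815611680619666372200267560227501007411975156067668505122633232620482018459595689501396506325146588366986106653387819149234589625887665143885856788401263800206246470044425704774307397513592218853230427804032) (.leaf 3908021478096308792890684518314527016638974156873060142239431687614386632055449926444493142530913409106767468933488234482654034241256571617368040424672847813438513775446658527090269445490373403918790290906065920)) (.node (.leaf 3165121951022050661255777645712945965097081062394723257410481731645261003069478494793317217933304458546855706244047837087160612598560662128888794615553977788209028266107127897893378920737505168609945816590899072)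 (.leaf 3586305268026736387650142098735241959026028185891343690842852943883669876539085938369449231171599584162116129983182753035716149580908841581022611625607055461198786580859993262713494663538832843431771714769248384))) (.node (.node (.leaf 1829264673058369150604048723030756491049651764755823564005367964510316708930087171996094251721052234499321906567749254853008372128825872092571528756220739774774734183178731516952454423889459596667682108356519680) (.leaf 2016767274085458166097377355116618961659766532067739864974212070348743006200447677436604631480536543641338204498781334363402364813314092096012517908635425173114583626100602793100293143318040243424450385674635392)) (.leaf 3839061633778667750078261241545601804418226525352564857896779294969419420705402997715978383102864157192457593638292556067036477623578667322856694633942888799152044165828257780379778480441514560026614338598258048))))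

def certHPerm7 : Janko.Tree (ℕ) :=
  (.node (.node (.node (.node (.leaf 580941849401750157197280087293266425435573409139426817034592228414669110667665870003356856747057196549085826472779085059843793580400259808128716686352765423747107246089457558048545437172689084505700872949145472) (.leaf 929169250444474580964524310237552658280016413151006338207754315866097081440904834847645957833126849773500991458140627024927508291163090064312809057585278493996670114348832984509107966810113192656553297897838848)) (.node (.leaf 3712085396448450370865882541401330756131728611799753498359838582062802849955616146949198510330973912467141203776856340606208846117257708479455345324130131944864451976895447816794405364410512257331100004355575936) (.leaf 2977492981831214463673742210825909945710529664902439630405461637550965856663518317906851426559289243692627076881199420436663062853394691530200537981969348179529824447422355921994769759719759801293012129258182912))) (.node (.node (.leaf 3106615145796679119441373536478640060935379163312202507140372522259055892827303561907965610703223378830847815046006807721270975252467073090732122674798731599792217559017152430609377604619978648854533974115145472) (.leaf 3357166474237904400285631183893298674614318913984968744141397863902741040282233829255151292360381816475059269491814683000580002430808155894640646280391141002861570135633207032692324030502733588827699952878720896))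 (.leaf 3710591904664019301494272900867268404974514163183135689144964677351878734342769832372462312143768280307591330517324667012318046535276580078602046655338794161218902465455532242783668462270175465483570664224579456))) (.node (.node (.node (.leaf 3748836947529261638043701025316144560104635838999670013245168951026832743973440060556258891862437694678249209471801287306762819345649246750801619608732521308551910313837792845031357235413094048111260384449220736) (.leaf 2632160264957319567760101976458438858369877161792924163777673777855930051818249045628385937399701007240921895617064607250815498023288575966278989718495934127610554345818373059599881761580677872890257157003193088)) (.node (.leaf 3593088792042738360093265421703170772749869819884211613231916663844914590645084026405309325926536403237343626481234665937107709266129886178545339429853180978761599511666912199667848933430333704420801367125819520) (.leaf 3590096276636564702947507063229330086139769149336020959684013369427093435849427301358605775950689779175761451719001894539893018420697972084314309585977326620451577912737407116608876286776108106476868910124361472))) (.node (.node (.leaf 917804777880390905385159274972722129838497125393586831809921677182568026050477103396025364014917397061676150486713249661227092861635607321537271048156749265536042319334214428185920060680241371207348261380261376)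 (.leaf 3584394731014886751045774042796346643005589586791403035327847982724906170983627399278612549000786314897368802789551559888082471904500104730512319968449993353504194218745839095728580684272697639647624830528984704)) (.leaf 3752071610139183328319858318565007056227490188176474042523598932655715399004480780241384951892563035834045354113533801672754757252489794438027357058515739806875964972443533054742156464102054091004154805939376384))))

def certHPerm8 : Janko.Tree (ℕ) :=
  (.node (.node (.node (.node (.leaf 947805288101740188218050506320127878905850391856586767456437253570960856952539194048356574354992182533229991162574934401689080674650198095846725086212791296872606489455825149653390739960759409283080552402465024) (.leaf 2651166112593040056724871874987237393615942798048756146525130350714802704619515478606809960988588706487581666374472630108304776926538800699980875608202621605154310282731454196316350061984737034655050749975243008)) (.node (.leaf 832614390447772187870777491332689642263459180251636006194334750129478336683171240585539412342398544210175129754086422784457641665194303739279239451270796022131936225837386628855037156607354461351947224946114816) (.leaf 579379416099407621712321112753032998992476201415926772259168890943653287974411486209221280933618825707089687399826789613631658869984335104038610155192081349103820966755222532084067713250088299053267950837455488)))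 (.node (.node (.leaf 1705817277859415757738446405769918628054570234372595357682651519165238637753934593893147661220296368995824385812692383486539496685886558487261048379661386462287820084753576985428261775400762802141707230520070656) (.leaf 3850272686775285410507014364530750787930712273964732779881047032030741160621747484559996245615161803804881745374453803027735090747438325491306546302250517344286401930769576649914138265824735912585671818874295936)) (.leaf 2918434025612376145988388224415391338505156848518121538568019237203855596791599887784948074600745503264879079275154956787081712920773249276182998664479065364801197408117323804181115169790101123489150082465990144))) (.node (.node (.node (.leaf 1983575012431862389662150265699580832439528917439184609810456053913722673855291944073827530114321589129487803207021315514658444510965346129294012760950294141598967229521536428976550298408516661186290514160343936) (.leaf 758364625986829527889943603514555062882070957330239714276887656276161576669166813424488755571685579049481105459000977987223397899788013683561098902775220661023692927493292062225429885336492485792147502362104320)) (.node (.leaf 3480346634782040595527345438959510249798205939215341317096482100829694854286464624165486511442759541795548181141081828284425065823039995629242302022724925335416964548192853858107482168105379674835377326333117056)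 (.leaf 3838842624098694276359702030394881568151125757018621786504093735661106674113499666402153070546078141533066525442241258408954006026648562013697946233298350121251947898243080585125670037277087043265746650084459776))) (.node (.node (.leaf 603679714860694947446478310993657089096958572550822245437813538067101350822026708441627929509076528220082131475013813426555490306128780346173308307605789370525112434361296764598796013625664337246349475250426112) (.leaf 3296685918153177303567728549117064659826698615549747898321300278351481918529820953463393860689867092583916894895966196058314512319089799985314667386358093879326413487557327474020592619091021476267793158099044480)) (.leaf 2099507895801217325660853302705228471230591447552021441488052950877651561207552321370686162057589716827881418751572761963103695245248328622334554312214934772245661477241280135638815702951365421711527190005310976))))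

def certHPerm9 : Janko.Tree (ℕ) :=
  (.node (.node (.node (.node (.leaf 1973441453843925251028780324390487200475952295273628304714819191077334956030918058846039303004688375569909930562854114535298787113921960804983663417718534986272057823294478965033202017346976728055430293520421632) (.leaf 600380144960842116016693124294655711803184824537819922166921839568061936166083200376703327411781493677178828069755706199973069379867943237752676055912403321641350408266644538894091755517790544067484023794865920)) (.node (.leaf 3915688080028141655815742533359127214313258609118766892761492667662117049422624951502572690462651301069401061450072550366808073013484949084523114361224266535941504039594336351538822109776133734856239390780925440) (.leaf 3837972434921659361777287388469721012275655638434713304319276732094097937215243493164947808416801680491723882977591133828024375934851344583135846761843299152725756789522593602764108343469377882225432017487550336))) (.node (.node (.leaf 2028556236448938989007116966029380319963968083625879388359071448368740098773106812601811102394883464682437478213781637113991800975689697417078822525586377408882299935754753449088178587624143733325595860390669056) (.leaf 1770998395196398790297807020495235115869603026339782062013573632621836660250181093764729411570043146866488153174718319273442415032339915055605640773231694848111800571175895297193405451231938602702760010896851072))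 (.leaf 842342711474967302999536558978971154473666560492545714235093273042561428740613419669472993993156118795834910802662215799583190751315506284314245797609715559568443806113350066857576547221438122861637844389814400))) (.node (.node (.node (.leaf 1770833048098755303383164442186984245882659704148970321506490336916378126943395102858496298228823259742107810923137109837405346303977468017098572391565193973599508657480361689490587148026822977352635632024912128) (.leaf 1696313327623931553758836657096460455802533581821659059635868424230053652499084075398898055238252526079600277640744586069704485701243715520877976158432135958227174181863284811779176419971950235264371055854633600)) (.node (.leaf 2548568409738643768051976086739808734226972479418089470296986311366223886605358909595133355819490206562982167920999886478576582502059117270239427758861975193735933170182145166838583697544791472722724242271580416) (.leaf 3748811845605963605619079814752295782743896178379676865064133553536244887265426411721291468865874213846953257919600025713586980893489297283361436717308333198225038831324696071998477795166726401559760664896684160))) (.node (.node (.leaf 3013560069395951540557893492540016434748234522419853130210331644898258405453140682331690995927171447670401912785645954828288338368246877806140042102571428535912794949677820015818110939809937738765966307766083456)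 (.leaf 1608192386721865041513484397579618680835418406062437920922290561182556851200284192044806234390671568936240520172154157292797071551295192538592345439395974489864086355107253397110402457166236199924268780468384000)) (.leaf 1812426833599279275135431496392240946483357297682701197392826313660588285420966341324412019475345069047651627031119294613485353191140101017524992195589139136102089297973781602667029321982800927872797254336877824))))

def certHPerm10 : Janko.Tree (ℕ) :=
  (.node (.node (.node (.node (.leaf 4087058097491398047452230507100505278477671962836416577842116485519546966215853676951127482910720876209809211628546823192452507938864818673639084306048508996301147553418968368930137796974693437430261112137093376) (.leaf 797073564870392541111355593734184919049011314376869414210600339610081030561679449582849699033379434657806942188746102327148134884465977861438658051902210318226681468471175123676890297676316136290947515744912768)) (.node (.leaf 1197248354079631384250147454720575370457176077872274652284057005618306903168444154255032731268074230444840486931480879770049262667261517303609976874695872960010012850937968029058496189462445497858120276231116032) (.leaf 1071876702554944969034267006982813247279790805375370850576264693698313965677700897421407344720795459145514998925708448527226276962434296551150204140506369372118114564223178513635857865924004688121950167277601792)))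 (.node (.node (.leaf 2920725693885884180615476464676488616947353206742060227920754973420609125299525935830488834209574533067555705250261777778939440250555298368741412426070279635243457784294811072671318956808662118239811554811253504) (.leaf 795694089265173913774960760953436204976438363133258324694866184036627323847694427905549704201428941273939975938076561297065601961404429079964741536298023094844869522543086482659970417274574840282489226454734464)) (.leaf 1326168147213912016599753353649662111220846006535721147698491142944221184567052136332025759401979287698185947222568917933113903527658287339790232499255801077731410138673170625702454883864429162025325660595245440))) (.node (.node (.node (.leaf 1661637190894878410868394946907546483229376950255814219328730168210423281424605922907776086854595462645837876438179661293371253488594850635890867361565860404958770751473606101912279916576741969625699623667280640) (.leaf 1343472868163048225023215661464653134912128407695434857502154675630081008339036915726749732514623534974798530837311471284219697430346204276570446738701949347846404586717060288972899087943247998299334917068526080)) (.node (.leaf 3331480095074959192291175284180596680221250121358661171933428815042950709910212587361025994214544730995363215201485900105631015625124930700037447686496927786670605265292174402176357529850423749565338497320261888)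 (.leaf 1819169043462369335551637291608019999085680848703201693124358883041864844942741166744904055360744385438843567846084581582068701461799919083086246939986014788130965196607985973337340964510080408572580115308780032))) (.node (.node (.leaf 2428665030795839954549346873322890262017263222798544700390345584535045099499195428248363749547749874582440506376941421718025089468459272902223656414991964377480352954512075850247441321762804509013810568778410752) (.leaf 3495704498779942493101504033708717027201246243948092144887261028143422400820327703580866827070674886784166465803605923993300027550413184554114969457288260818898710440791855924030847453786606518935595159495400704)) (.leaf 2736808681175822617624999039269624956221444101342604929462487554119049255610449844939553588057811054148200938393198358538316604116105555771862934082094382444174868388095781178392562924217689105287408682477529344))))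

def certHPerm11 : Janko.Tree (ℕ) :=
  (.node (.node (.node (.node (.leaf 3340948880307551562187096190502081104778838197486896881470547528954097141896179191090557728484446992463207326775305972836719679504858178388230069316727639818379997896110528489755722114942293780063645211029510016) (.leaf 3754087062084609174144212397579105842919712953771444635757166528792963028732440433929831508165189900205632641942578739228920447083025683556845000195984094837605985206440662210148088878108510022189393387901626752)) (.node (.leaf 2466057816104292899402188101146944996375390648101942470184521496177793723188127009286753273669281256687708319572109922061309490538517697977093949063691969631135366158583042760049856573553592105107283146020088064) (.leaf 3465526551796385267837889653366742239951392359786720424879335131781928164204247623384804224316449439982321355942730736368692374473448843625943297214234613629350955878294814019845022613421554387479915200246126464))) (.node (.node (.leaf 906215795139909764778035953232703851932448034039285106973509654188062800172980585837427584559333003976025153255877740341155907565301571493265899005875781292820766225444609233597031076947774183182175447188608640) (.leaf 3495861285054671182019976231679060340422387031348901666530302622624603066132546802930304559297758869334942838692763406803629035085594183208986871771527174491954379998321672694890082118874710443855657749193179392))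 (.leaf 3102392985086182521488912812143040145407165696907973071438869566772966222553126380827689733855855187893359465696708889254079064553616992325847495418996768759795335507964539334222309917090044360128901254025381376))) (.node (.node (.node (.leaf 1079167796180710047562846515980132153279399309811364031375251501747145456859515219063418383721174900876885865350824468002645154451692131108472627427655319295712900201821285636823673408750512828516089069906400512) (.leaf 2369097937765538579219959633549544443694787918717481176039464234877859382176445650664919912424865732248671945037834644600874188687300490872934411929717626377794880697121846040487320506266674271105527177046173952)) (.node (.leaf 834175398181715165351366257628192293702009864662847171678738135294157862382772137614398378381243191602847378019456509338156547977399702552934350846709162804479085759422780262464402822224277072072306744858841728) (.leaf 916459540743882732838337565301069386494491618330083457583419586953501759031235893733019618096663446816602144149438695323520007287820712991896567307740127687978264338590868680427800843357291134684368948867137664))) (.node (.node (.leaf 2860641112365567158950513054951297223655716518623534580439683617835660362249887877014165581559469715900017136859344837333498931925209831579361132466481352788252147585693043605850934590682196883250620904646764032)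 (.leaf 3742254357204080264021782553611224168769815263626397314731933838651584862798923759367634033015705897035491088518973530262602489061809614348677842999852075094153289912639486738651488176952669630648298594169816320)) (.leaf 2477471232315255518206952378920069436344745738494227915948058126219517073315027250176659446357447757478577002787294720604245009008286324261310564366616859788954941500695323751522358699068921073895343603499880576))))

def certHPerm12 : Janko.Tree (ℕ) :=
  (.node (.node (.node (.node (.leaf 3085068868800305965933619147604803135467515820549776042957715683632658720590712152698882198290635182706335897368052204909368509962739912336952190148422953263183985827825854893068788739759665057665371189364009344) (.leaf 1341545197247719019733456557942364534308478674258302050233023916515231789447773177998923618172781823425345251949638574779443753332320874391871259731752226142036171022971152369793411261100815509615333951108452480)) (.node (.leaf 2737493655027999998519860840763966407616341544862776129111362138460235421682386993186085008237856884941952749018027317074969098302743461701460668829399772607328541265147900163508969431720532401521949294092901632) (.leaf 3016148184801850624623779064615172248228534185773084359168768610650339796573381139935238295934470068423692722408314140332156720360258672930233777478962975674878141760272841598344488121567495864950607255572104320)))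 (.node (.node (.leaf 3332117287746853400885971593385192802111399669884965453739523943849979901835130464514238462183329935487043623846860509151028896016946591642115391107571529101928608389629480001999864563472798405626069912362550656) (.leaf 3191108809910713343278434470663541527911787403785296807074775616886594826221766199631328156001850537100705569445221949747875299725546571033917843057043103684551305881506789959831509382758733526807306059191130624)) (.leaf 2960635332338400353537319747716799522869294934797987542760201137713459257218828249775752920475884154812760655346552408975490673479458000022440328199973143590687529761112444635345500957802728149701411790790870144))) (.node (.node (.node (.leaf 2974142914597294057695036449998045308650028816772989387744897980130157450803207020933798628278752913092518703828025991743181293166106815332578929481953287136414055702485548478634311757147281471179550870285429120) (.leaf 672033774883548230038017379933824550235016505424953602298135507714386872104276108250322946553769312599488033348756535338381032450538586624526804484163075985024248697948956319455676593257403587500098339224667776)) (.node (.leaf 3498685277990393181582070328467406774101604420435114878739919746394380684501820317313592855056054661490412644176785157842619386999567886133566844217781622656937887096293974186201732210112119727628495878011564288)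 (.leaf 1604544286696451248905511734376743154844002094455546085769983987359191851023883036400615372531991953824409506797554289274345592111305267355612058866774594522245973366294442989513577884224620867024501792299519488))) (.node (.node (.leaf 1342718421230678227218470727743596890702340678540444899174435989452947024423781855823131027985195956514954690149062362157729012945496922259708816220200058062073335916203431991073260585161891876698226320415949568) (.leaf 2809596106640605097995088808147976387563335214454580171053940688025800577979841913583926124788427510252923283610818725964970443421629435131243677132741123587441460494322248550020664822951317958868631572175344896)) (.leaf 3478412653718019048644710809678470686519710983447025807403273416589670699929742557882209511757430536560703115044795349605467332788661242285217495485361493998971967405664011754876680385135297626812915722843637120))))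

def certHPerm13 : Janko.Tree (ℕ) :=
  (.node (.node (.node (.node (.leaf 2354649874778127364819755366398526886234037370026575734066469890874354945318901356362214528436151863111236307588305758368546243561283791403931806028934713411000718000984134041385756777024088608965535509603193088) (.leaf 3822362143059535300059775733265263370804069998241345991903290999978871074377649058673058310535367117892642333050581264774752234546797922703236879460982627228278023400739059696447406632300475747381359979954735232)) (.node (.leaf 3956575097949687893589352904178570201186334737475239653102337932859921022362302202704901701625597892270425055820414349519162754190848374555070766268812144297028721486820634071775536055751666724384647112525169920) (.leaf 2850854805347089578521282682033474897980736487955047889649678110007035931889199633553357505246162364136407937148929497545304849910374738800530942648728198413229312358592237493747637525977150835337530279889540352))) (.node (.node (.leaf 2233641313420409655478805395072577434017738326162144341890440765499370555380450504372145262275599850675832992928474560738244566887430123784604500426279032929615712818212997601354745297609271803216241681540633088) (.leaf 660595433826071047092530445805788164685340593506186429811295202097744109095440647091766324047190221855463368909457149594591352085053237670041072462653449313175193438022489218728221485622830588306338985869073024))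 (.leaf 3881644255973502204445904092729113619573382626578715825512095297551600932637852501719416260646475246312105121807076712771107286097064862765806449560667744403692794214025617780434794944902536700588647300531103488))) (.node (.node (.node (.leaf 1135968420169520987014682104168673287636536636799490677340846460101719803709655938772622660068537196760109033228113966557386556919068450078259418177928765506420504382315650485989976996717657358665959297715491456) (.leaf 2100158889573233327261354165980691631996381359348011368985675399816934971756395750128920377336369371925304438220233157583884225570021710718291530228562872273489489904345114435941509804022554793988396411121930752)) (.node (.leaf 1778162596708279440314061219860435736820895863077948886500896183254350410524978083628734276333687890487073159166766667812444664229690508542652439466707772859759168019195017824668505177781415624236647598120265472) (.leaf 3042722158101452640040903525365696724752198679355133592671322546316972240215042099705402591212706529051644733437637468055301340541113933782659773471013018922487863001518191645954799888609021490269975809712394624))) (.node (.node (.leaf 1197266205707171718264258285885926573203814806727148163906564376718110955280906979153321444000844679259084205470832645277158648150988912568960167475397594217536042695368075607250265774483037141433933933411878144)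 (.leaf 989079087375679217520108420362065049605987918502269353963099865412014831253677643525909636547758969867424858399741610309253675884042240829425980402563160685615291021380059935288936136627340136705304970644017664)) (.leaf 782849473497642324202735536690761662326626642310482117491775462410571578820520663312121619402576577172844957236442184078832136646250977423699705952195332239271564557070450627025760773263098485032516993015416320))))

def certHPerm14 : Janko.Tree (ℕ) :=
  (.node (.node (.node (.node (.leaf 758554060139901777762289265620688002711328828682486940130862981846093097041072155514938778284717814234672142414063341393528518816328834048596958372069398164430538848832348501528998092047028686945256595768312064) (.leaf 2862102590130427110594209726803147217437508197411137974008914213797922358435459389047887015234084489531427912563816910782308996424299480322557741738314112300133845683000455356169616145179327542996261488912699776)) (.node (.leaf 3883261993552304141810562464538500537096018901289409054491170613597594271536606605973737663501874012562814665855461818511294637636875638413458505522161515231565763122102939999165098716428830653588045866402605312) (.leaf 1276931560676029376863456533754937950590766244786827620149938736734873358300823442182020989806250528827181096147492097142137868664259909318492077748624028590380044180531751246947506485714558823856762201135993344)))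 (.node (.node (.leaf 3595548093280050596302822000616458173170338706742049630232030537248233408384026086908262778659060736207634774849020605086053266949847609663736929643953836372985164784780686204770756487191073579258696183540132864) (.leaf 797708656363912407699182615746622669535578060666520799415528161517860716533674579895924123784842698120890987282011269605352907562792063425155678265683916660076291941300579760307612812309676008154368526650552576)) (.leaf 2231539889228494405964594573192646019566589547438778029851402284101529166462007330732455630965838079514678459874805325703938936656661506315863575098918280571867493193961856084573519880733511201120047673062228608))) (.node (.node (.node (.leaf 2328193500157265969822683253031527725259820970162947445146182975072959086718923774524776380034659582343981229846744858797122144551889839098373973969343450243505403244448561630133818021486396894057179268359193216) (.leaf 3100007855042171225611148800493393899359890026185690933714734476585818058348421607234673992962745515785787838529851842253476238968482646767810355651957014516801848856790470749467457505633765559537532558639678208)) (.node (.leaf 580921934153627532829255721521088199431601683533831442128957598376770023300428400768667728215260488474399709449974000837458541338190358058524499606907430689987077851485001268925011326774546293234206230895727232)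 (.leaf 3312728764871495097413959132259839963884584379848955979459751868907334610733171762298511281401905671154784959400184670556146056088104632793670438767757277166024267832661845767807649162867020427219158261245386624))) (.node (.node (.leaf 3330672704473689618606925051944748201551771839038207790291659435792697107288343224616199620709168092076460285765538631479711837726373081780048419425795456666811639118393299865412637725046411986366073991496041984) (.leaf 2313021793138481058431129735331349697512585059792276829893420341736789653563946879391726258616971754406651742846909597323806281636980407467748387013982227448522647858414039497281684507416369684936235950483498496)) (.leaf 2024406527881167630914210267712060004322590828396375461317799197983953751192487527752831465416994204140963907856715189585108065478643293429440442001081574948048872474171873851435458517064817966915994930105592064))))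

def certHPerm15 : Janko.Tree (ℕ) :=
  (.node (.node (.node (.node (.leaf 2640992879902220294605278642846391003452521401061549809598959080057358094877869400322424619227190146543175406479736488123520584780519157254518375424724159775414142526928687973322616221336618047947878551356234240) (.leaf 2548387852596770092469831760830615483206374545959450402908678901838488698649328227003199260035728250627379877435858040555200867428418839171615466740621074609176927649424516308629655080788319944088800242075538688)) (.node (.leaf 1823133359768014903911862367035415771856374119218153133284191722813275487826102111303030501973078673390188491099789050858252148027910871986149480649533552802075070984364071138812467278377766258189770024230611968) (.leaf 3874205752399835015933228633697916847677517498063056224318111687241768329027332377740385206354847320573173981702812740337331241702974723111603065960192133865062433116162721838999700641577046370301141022036234368))) (.node (.node (.leaf 1247327670114830723349551554311374154631914858225304728937006062847651154554724215655890924787427145210306350386076245701345434380117957993730199012069939910186890202944093266482108301249624304657828900832937344) (.leaf 2439813207944480252494420369182030306341359611387123213943581718724258758514594283200974150743787615371808512444700835428539059366916982200205502128412583073722897242440203199384377231069195958664839654151919360))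 (.leaf 302812618808989503422463494532250166269083900919802416312718428035832615104972231063874357427015351433112720563676374239388034335023975241962646575905570200765886785859087454855751700493788101049466728825316864))) (.node (.node (.node (.leaf 3879794510545420810357992694861214375973544661246559121945224770726036946824240085435751731374076498749041413903878486243145080634732477772976492065252865161241235045379357902423328070688402443917970483177510784) (.leaf 796975802782733091581031146176645857712805419707471932674719729295243921531497407450050908511378986643740753349001639174881370398197575916386247058590058829773316389847365119527249696755575807227074233524953216)) (.node (.leaf 3710601814952560021620476603225312454043032060869188130187105828078828462844530842262551417560165814608602787935104689541346646571736760890967829045694539103551080578498031167967919764644428431076515114245670528) (.leaf 838742949123619223966596565137293839959378247697979571222886085468934463224495249211904419466840872558288329423531426783864894263077514328861326340982671152536118556839730940701422122904135383077457968291666560))) (.node (.node (.leaf 3950657724951463390608933421495535621506033712749709993502518086997069629064852944665943175719290244755176623517975297724708971616698812757702168269900226516179676595833204298632309920722609215651698517582981888)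 (.leaf 3988965123126905887171467381643904396624317867730808665353346640809330009454740126117981488773604323023195815307280480575384152360785715609296458982420922085528224534407307600702905034171698474052140310148923520)) (.leaf 808494057149715928225902466697156801237189531703143022609291400938573908849229503260711769002581753554162320043488880381719092804878459215344728326637477166078216292753952423599115626517864509527168527746434176))))

def certHPerm16 : Janko.Tree (ℕ) :=
  (.node (.node (.node (.node (.leaf 1291112330721855630464824387878034558565422185874387360209580040673016153689746085719028485980429340530611579944121176862116846444372162515692558584929360933152141376405121942051962822534240894578651316619462016) (.leaf 2757073760784770639334033634196152292874293021453951379060159713172512465493836117598586253996724310291573322213824265535196002670028667728102081765168720355507327967988292621064422740123226624099895468576150272)) (.node (.leaf 3093532005585114529829775155864124093899493182631703762244733039147321200357143388723599000708076443599446664707750657822714880530245821278606374070550695410221966044128932064109504482163057909418135570163451136) (.leaf 2098914066691798293439613226709719883776104891281495603857272985707787425768633639940987832764951760642120625507386781268827060336469832723889272151305830487298686153941562906088655107455634874253062182744147200)))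 (.node (.node (.leaf 578678722102521823423351972836556171834526881016184123397016063309058562913016208836376569684889067676993057411113389750590975191379346369518186855353071831597438398036892089057445970596265355109979492346512128) (.leaf 2320171729764656616902750919989642056113165777604140873343619966802155506644309842780954754260716191501829625010863924619478902629374711089520285474924226088244174449528294118943768626658251088510619530482359168)) (.leaf 175032195172800571910392102021933145500380847166183002905221788508307971985274346491695933072449994603798413282840074925212384242261655793400167260884036088456166038680067262580808007508630101210326819821098752))) (.node (.node (.node (.leaf 289424948967374224321836842784109950371513160721248467024834407001748992475702510213507743685266868670774431398112308281085833722776257666807128742241099772227419776860507133313514809952727855343202831543338496) (.leaf 2441477249057535962977651983123699864400082436950847747251204650091377978285568711397667318054975443317603663630888104822189211514180171392475949351206885287734550660660095781957248274442484591636126001636338048)) (.node (.leaf 3296743601432528928563719381993976650859992605161568303737364959157501219937468192767862582057392958075438943990429439999218612824857275855632706540288330728002376675680334387292337021699947509344181684038812800)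 (.leaf 3801830720001858414035598271202170295129432188164378445379874675900358049634926070088121332125931731259539011087487770517786851168867509639563822790895209554641254067018850631765088185772897712295315497751905536))) (.node (.node (.leaf 743061713432755706539649865303128718150902433739993925652528856453791729778212678158976971475920668944563312102766220851244833031216438546413149855258420234883694430323511806847754756581156304580981066940007808) (.leaf 3504856970559718426163880439666735075332239921370920168958762952088155167436194832459017401411175230556603932576716492877385031222429481037185115562971341226052010218979375989238574537089167345501432733237526784)) (.leaf 2979177056021305966883302664994253032380547380541497451457318674465284213200158368655422491792082706618106868470133121634257698295466012432551041119576260974237529653913288431981148524068304282832377661125382784))))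

def certHPerm17 : Janko.Tree (ℕ) :=
  (.node (.node (.node (.node (.leaf 1216394594001524222331941319064104145053658567094485678901155205158744199585899968375054698540508959289062740075348653521267849891395580843530380721884544571059534544057653743663244614408378665314025834911470080) (.leaf 822298071053558215678528032547813544428505457737743075557417599220024819778902584787638960055088487068931984956522668587817277870868710162050524508891129940362216854306314682243091219971810295620107713869189504)) (.node (.leaf 3026266243796075771160149488049453219774994538256273712834493707108048033881463419797571763198025377478006425999738591861469697205477442137874080001110217161558630216269241422344529737035476661412357646058332032) (.leaf 3497021052155650233457125122248512208603999472033358937076617611540949427202655489546784452032412450675731718313829051474246000668656956509577230695922019770724880831710126283152558762325866672650620898124588800))) (.node (.node (.leaf 3921863986785514748330151671407022627071585948944613850481916843298564982558761751670281195778983591632859236445566927142366847038236307647351154645259506584459638478302624008619241307104784103027222839270151808) (.leaf 1029190132774638405636415300528764462333456191373828508623742612760148837923922538310095899375225974647754876078155846778875265426095010098609277350925171219688376867868066066240387074952545424159489005774874368))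 (.leaf 2316618175564477469916404248994355343104290121100995284156559133871501635899861592202835067191191420427870474400562387063509468634993871068268596582859933865644707845190522643907818407503159009149858627761904256))) (.node (.node (.node (.leaf 1235493474458581476857696750910990318604824525622128547354598415406511914599409912523841294741413196370665730643447887266720593204837977997779460131625255163543677835924904928876220453655473965155790055270992000) (.leaf 1219402042393284488640414573424197208606019022056214452965266019297697170758481254586469247075409517025929257454605432643892214433827092509334796913646511562471750159992456836851153391201427034791207544621537024)) (.node (.leaf 176412533161806897639967763794465054852946416702713719331401698335115182762846222686300629019955568234526849582164762709110296258294438282872108607913704821936813496043342557455428565718743895693314649532699392) (.leaf 2490333274788474592543747281437596058399899297115877323334745461135900636793856391898835644980885452723804409108852020331950044628756664296611309449624648993288908536732271409827136812360105817457028506048961792))) (.node (.node (.leaf 3795556881572378134596268170859658645694997271674531987202639630043958886585176535955982697061835010335822615720582859299931158838984791796115715642410065760291583463329811227991221247777100815053204836105933312)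 (.leaf 1071587085591991797838457206020027358860383007111035589411488818652612694181081961674455731123917026754595108832194191221525334985896661142437836409659276157110302706161413857658354821289878670288679401185973504)) (.leaf 1250013791393629651448864819987259230520340485301727119742410642093322735170449457035941976040498547873390984305955656707697014856636564035923111261648521066078898537544610636710234831746168554659899576962745728))))

def certHPerm18 : Janko.Tree (ℕ) :=
  (.node (.node (.node (.node (.leaf 4011257787249256476536987771127133326023712614992089857322612301054807064209285491980239705821905401310561635330563074025964423635613782843967083334206746866578269708169611820486407714518347674999181170749462784) (.leaf 2435934818824288357745038249926877229749897733490085899909606963623954443802327511235092892863768416969277692038448456579524086377067009328264287208291813044579326077831372465416703578045589747980537546507540736)) (.node (.leaf 2016902720554495666557478878838942587676339763268856143839096120643024488696881293872373846815065627807721362375515322512980270081846938823976076304859684860196143625044758872447964714449073164883835697089402752) (.leaf 781636964202897354328203939306523278548530890574907046571895022605351741829699754020481399345356820387024039052195909274713439250478311684396396142505845455080267489861490052723350653687839718810291953218705024)))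 (.node (.node (.leaf 3249737352547197603453322691394215316978927687224278007722668756791489229457065767179098072863613829460214559279413350972830359594864693159506638357667244961192824476024941003910031058206584738487805387002386688) (.leaf 1343362683247648475436859876796177530225338191538464571969942932752028009943235580725558215075829856355037250906253961149966650186669553622168556083763854721422688240405913572585488722457962223946321476291088768)) (.leaf 3587678056105200269564386925019422216453765843523319627054147565675174651385048273736092612878883619603070551279095283996109751546600291199751528033117840841605862369135932290164857867383824107074813739338869120))) (.node (.node (.node (.leaf 4095203482043442737627369839120850918150781864440791109150953071788283933099613290721436780877772051214669083733457964618749739071707643268568475745565335401832594651142551320056950312326027951957297911170105984) (.leaf 3316037252452302101946475152467815271120776250157850060248956585244084140661469279729884653770113934356477704948804898698747721033961143857516585389611714262933384391271294465604019850352999453200060660345929984)) (.node (.leaf 2231519817278849675368294529231329196027422585812220049055120380902991921331205704318051743102598798651295976876748843223844969333092704843684999579789452624771220246620771348503163698012960249811909258271446912)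 (.leaf 2972452573893656984778688563554213123759337629580693508745574449948227486990255551199070703676840103495003868658737929086843969228483387653110185059941923547156317573649304301676994955577962851830807942619219456))) (.node (.node (.leaf 947288929005194457613254984504989639821402484543730111042976272851015176783373803185835918890927576233372565810677908946434458542408556967206431986314894639599442862190607500834308267370059403089187835966850304) (.leaf 1264543492441414667323931149347295384038864484394699341717114933229684087086120464707629534716243325484158608811372340940966964260503392245039461932697345136699306960623783121966595344709206183113291995309359232)) (.leaf 3989921912014723709477632649485342926245280567135755461789896353259642677844149640505504261615377961748944821966336605665081385899735413493550934182651587900136021704113292383737204404416803191029790501802387712))))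

def certHPerm19 : Janko.Tree (ℕ) :=
  (.node (.node (.node (.node (.leaf 3504761065274925868491799319509316343724911533464944724015393325801746174693288320408294848919956100983974042610283548417911569390338086398752442994401572587394864969969459464166489076130853172228594171661019392) (.leaf 1782341363174022431215295477625764891533481421442825156758407169712267684516581465979591645597399454057433726452917857762566004607089671333029712496185416237843428644011507627725997058923715307339559018768258688)) (.node (.leaf 2736703957421900142420771030911032117118222750981253192649072694697924334228629071243484581055884265093377175122099420866508375150847289638738177106019261568914748875546459532324814364732421740711935004329728256) (.leaf 1218500432797464400420899911315105010883297901260390441939072115126657000116569148308970082331142629883400795880237211536268289395990048742931608437727097849810135675036250702117099062554978310817033623270156032))) (.node (.node (.leaf 3754149181455197379975161000814940922934065170469334745575843385213527616371893172086846177254958049623344276379453963994765305318978454879096387455764772546611746152914950729834400343895764161620682782034821376) (.leaf 2480272035908727476599673225625608095491533133632073491723679037093911815843394650441308374294760052714869309814949427391482880523704386822577241999831584581837010922551802129973356011676008942643165904291574016))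 (.leaf 1245187962833432022290201559363379524931576613611811921973107727844069306865549632935543802557228954407712204327274557470748691264440213111044388472694708640566016812236531862267808514995788234690207422139701120))) (.node (.node (.node (.leaf 2768460454596373616882401896365374065058532508471619743017350453884127632496482709934486299568942744780956631146070207589018439278623617509999024186149262369007358649423497889504664671103184896355890043309300224) (.leaf 3257527340785900732207698802422357407131750239281541025543050588473624141068749923183443069831218450287247852656428244838706987738675550705617196064116365354643937166860965522533490538737280675185452984451322368)) (.node (.leaf 1210620049842147590090787140937854441060681667223446053535087416863612616506756860022340371370727915582935517958025491291349806526011786319016541412587456042862067814931652414944837051060571346306251185807972992) (.leaf 4084667790766849845510290785382279405752571280890017169494665501664857070034387707769134223584115544840956141066823244992428430946969694185307091880029047943224739470307609346387154345852585596122681882279549824))) (.node (.node (.leaf 2986482555638142257204883798146487346207451209884182025768454010276607948189509829673831970458047708871798331272123671171203144599764438806078603965553771402993753561528834274971902125817817971909817987893020800)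 (.leaf 3302407617589846585196971672901728295349798132258564062075444250798502473698504093782888779997077263662200029419860294999446511861151820812388678683992393896391572547507558035831549755544520268159944831253316352)) (.leaf 2926915603196366486180599888406993047272254153468886608136489267876443424867291859729062625676399643427969468110476422895178238651702611403185960940723921166047414257194947632316290799092642176317216629338211840))))

def certHPerm20 : Janko.Tree (ℕ) :=
  (.node (.node (.node (.node (.leaf 1793867790641145389076753913853226886869367079679570884566351232699257190152794556231051447679031998851164435676805438603428072263208922718859072471830236006573308116004542315550756566355834399484322140498565632) (.leaf 2522910036061090955117060865198894918582408908173254043384490809947582691286017514171431679760161780568602187346984076736043636226405926784620769424545068033085359128881629748630229571139508927759923776429139712)) (.node (.leaf 4071718803380544064118552620905724132417049964417778538147733219941331676263694004489743761430694359717996765301270472221240044025415932918699317012701485008475574245475938134775526343677025603292263224349368192) (.leaf 1988818175870676928235667990512280709897048764101674315768796544848601246351886689801812334372109018367682823578072068933794975197224710214583477611016942639810143893547059016509352778950355423498440029927283968)))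 (.node (.node (.leaf 4006497583838962987564560729744012541525240144870546116810865186801277775116565645812784875439546353595548367388457060568157808066842670122949647586382782857487933543346149143118518376446885749144283295493787904) (.leaf 1127407264708362913111285833800820671322794873074207781597019041554512890721847839725772008188066276986681448900564929736278871599544593905272377498613224913421109352202925124597395833070623817184985820480946432)) (.leaf 2780129294112838317946658118900366497423548986239141515448016706036213757714493696488777817970106617442434088468288125964200808586184173811381284079170233401808769095471141376062308330086352834587627084826560000))) (.node (.node (.node (.leaf 3042799921291141340162026279338166150599379021396154609394628056365834888322022636462062375159970542091282473683130883305524981574874907320501500166263689693910382303075949282674399305571728607368003019737540352) (.leaf 1276869581720686964559578989411809723769164048878030850024829422575740989360590577835646517409175254123094867434610300739736731311938849337143486908251779441275713780380350647475634675529882376569438458157630080)) (.node (.leaf 3976804366964066485619958555870535562271746465443629054097864762383839570610770981571514682523510898271306405321947372161295875446808412166812225703223995594121639640845360735878063007659514169320752764460221824)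 (.leaf 2634071545144703938225523737673921351467943400911742337227428351152138383412428829805863500138486106629342488477955499843515434139063219491865140487536683287323087735032472702247721230562229014602242300575262976))) (.node (.node (.leaf 1606158100166744149575723488482377851439882430730673814440883299921061580892211343497121832571016033446321565334566600814587180157515958431320475731121096676348038942149304077085753269668861570616642922867414656) (.leaf 1788170408777807127172603881746192581616745792108155112900405608434071076397734741116822950862456183100654850888547490176497764452830370903704811290578590324119403566335980003179119991249753651112503526419908736)) (.leaf 894531403333364407368414072565177860467923772142239277086109807491448256368665222419480678505665156021433568039553728697984406836721103652582357300940263947410498009933578638735988734801689318106873258108798464))))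

def certHPerm21 : Janko.Tree (ℕ) :=
  (.node (.node (.node (.node (.leaf 3723697119528307638220001663656028780723717344770766216003295979715825571023699144180295526796220148014595261672735705480493589623945133929929584806813980759748223139006071725753826800815892625051014870595560960) (.leaf 880207911395877568979614096548049925476556926040052715385500479016362800165139752397167428370194871033121244990890274042985365536411356309041608800703814378875879517209340251914925486226826818182965275715863168)) (.node (.leaf 3883287601572391636407360808867186336767404903671349132369153282927953278642013228694550777301823548267327370641884250311364194832159982715194226595806780674868225566575524949798990906939365227003047142218847488) (.leaf 1810800932151667669958889075532120381152033563214917561322081385391103825112945711459842955420550344258084816244239735014605244086280740021796552495114685793768929059298149555036690614275532085272491186035869824))) (.node (.node (.leaf 1124234359486784760617487412900096795854658531877677822541672755135872912682123564091918446442223650903040749698367234937685920590941907937326358108304951716506374266703262396188606680943202729472977279577790720) (.leaf 3963955723500051880132712666070801168025308313051197506610618146176717768016952278366884227184472469119372124794471040385165930428477936919206340240709105313825651643379818111122269857883399055239427118977880192))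 (.leaf 1823159892592415439872617409142859057677488068471815175877020322008338567813355324490663785164829549804754166587017696602492457273534163310908543615973453727070523336962786109229130784742174540253062138184286336))) (.node (.node (.node (.leaf 1120976128883323836010394323052377203383543057119915609072844750296127584788912092336716290387664758197994274007090206348213368210167366938476227611549415570891556188322276597844157618473952308377812340614864768) (.leaf 1614450465672998033602395055846590840368015522235664349795192999441863289727478356764517076995217338636485532360722071764693222541318678028709578055980015309197483287881197919898702488732237946031685761086132480)) (.node (.leaf 132513314501639988703125124344669111410495911608674585150788697725350185701064173174534866192820470327337030413342070763660795767350896370154336127913665590552828834496452548912985280801400278638728001238358528) (.leaf 2796477956370548464778759846918683549079453136813469738064398538635914868946393703547068997126654004548959629978286110846477904537279845446361230021208182554786668554050262928778204982476027311954799044012829440))) (.node (.node (.leaf 3950731158799560936064537633789291538167909478347628594235652667934691031536965154608729614423485024029742152208525664837920219685147531729829188952548037585761690857923483017340294656235471217937449022586920832)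 (.leaf 619219696553666144909349298774161908502534882403930002748572327245733136681774170140181819105592965009116513759939364242831971486508173771073404362485467347357009965214499737161330102620549731885866755229083136)) (.leaf 3599799790273821510795633322614931935853061685900728058659359296268325954952367795195605540707875464189487148502655990887667608000686405232539586823279116394353781160116526213362956174513664582875817042403647616))))

def certHPerm22 : Janko.Tree (ℕ) :=
  (.node (.node (.node (.node (.leaf 3879184859328213605823740798019800592351627169621923413359766390083907741205701384270147086762797796815050239821387345615862217817649478917275699867846289997364389227456072308339948861481335308676202719110284032) (.leaf 3353269207960583890032152681681270042704389272050399564434772539522312079445854326738299114071129568845040134474504842217836038119210494718543686793607887913906586613958820854229013122095884208940307472666892544)) (.node (.leaf 2233937049229460296779060674079067658426851913849356954828852017290859912816537873866540000060465203188742039285330419668430126157241283481596643957073742373603054526693893958021276073639973151934865480015446656) (.leaf 579341303122784411305991236437367082957453308214334931901729776444767532114666904125626469012179803394616924974055839465773845884067164661614658600053043931554697948647477285572987184158548299285645132999921152)))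 (.node (.node (.leaf 3701992267677210748365112383695632812153367857558880524951079257711667638928433948178231605994426059018897147859178305339056065220199814175076983265551525708404441449777957585883163644567054967971105287699078016) (.leaf 3017169051702496832860579911345989008240928579293806976696747130472557048172529563765662392643920806564443573287193266825420778414695677385147004064401547071370283657694764665275294344784870346187170102646195456)) (.leaf 2510672076423267802999173067481566099192115787387443513006304430575558595613475125782799442310623377844375721744479406640899442828366632265310678067246655557678195458639233874931273526393201983007886986748206976))) (.node (.node (.node (.leaf 1193536031769823269871321692417602125318112392626268080440127022819049870361296585412030065328214288025766813135528625113168758702826253119958946596701427104018340976530511005347922250596551205130763367158159872) (.leaf 1973202536484326963365164768639662180080407875587539720379546222600564555688903476261978046214352994402424877567753638564807480449924797372199765379048179039301415395565498640077738534534799067857339959762785536)) (.node (.leaf 3031629027166120120497633985548186954184391946127621608423391931895721442520505411650404370327451920818437650947279053109120371831303827845260730966152656650652978896242356516264232941963449109653681559998995328)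 (.leaf 3908074895561033381324153521046436909065470766163291363087356326388148474142511597510806978471518384344754501634742020597553968908207394425878190826339283461605725730074288521237729674164654590923348709519693056))) (.node (.node (.leaf 2559618510467262432483892933119042829195987025015523200877017189986711839561094535167655803283767781668315664080334433286712565021438724633213261068330163404005177184516792386611912261030036485770440937528403712) (.leaf 3191030133860478693595592909970561351354955163806180571271272623606034590618037719872698554922990757017017018668152621742570166236105067223388849819749095522168273523230060478490422419899027197326928987701876352)) (.leaf 3495703053455996170931885765203046343266709951019716738748569006138125897501587667947416880878314183409000553989316296764175456972900459372084166613347521707220852675526215370466438097055333020862300591250490496))))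

def certHPerm23 : Janko.Tree (ℕ) :=
  (.node (.node (.node (.node (.leaf 2757127355792975971673590125413458843073667597853783142628094164869111053365973947304829412442786877576193380988149447207759907421518004802618314034043772929490375367495528130920215532083041694478440330451950464) (.leaf 3504761660335467647740345418161477585718746907993905767327851139339381112422829857392553314582866223832027350041744828650738366809124515462637410193663731238760541039939646117254788800652116095450261333511528320)) (.node (.leaf 2918099180420569379805661287312394227938882339240272644879682640552444471046347922304583586884060861631591458557603352420205690786982697477107735173874513713405726037163363123097613164665678132987478627897132032) (.leaf 794421605085954424201698994854083559063198840393804285989550007652594528981155882888277038048950540449624537563985591923043215143156591550490670609857643102147265392277662703396623947369932716076085384291828992))) (.node (.node (.leaf 3591403396731822831264558644208663268302897048017192960106685580711641655251691420138570085739040744204069742095268749724905920537609736908339554383197409368832394136224175854692493040204621422300058236780489728) (.leaf 3702455214960240255300668358342754703460749981318494099221629154639966247328395633905087195986928775828235059033439176698178388201643091539778882261837957618704969830919549296981236182658275751837165896751874816))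 (.leaf 1343531409209386433715451621088975193159396354410010260671015221220988136897754778639281245027061324217672391963206023991273363478799482923286585300028875099501467159295974408283674178024677975043152991779769856))) (.node (.node (.node (.leaf 3879819214664018936569962972684329357362396842088850625580660775504573504573713933685708382256600790193808145158305709417388644696938812150293195850873228433565999607553883390976005598960720584635569255988007168) (.leaf 1216159015091179965509537657186779680015671347185871092097719552428495094520538947693686515940111085410067177672038450234660872014445658982808134783394676811322452614021073309754853906408803850467800661048706560)) (.node (.leaf 3988965099857186364243464895396777343589962430370985426175269176756723343351063904894248061092437832374213407540661133366507338865607546319837185832866757630356044683625831146285972897089884586465175268741409152) (.leaf 2304897191413580119559881409476725056958521132299440968697381548404497053077074827987698629257466357557731056181987325301543971723268848602629556373792714264058037232065330308174031380985864954033878867163125376))) (.node (.node (.leaf 842367594269541120301758721491344262375682751724420001228970513415708463014380539363251192891615407908164549873287291680075711252070502188964149266300796955727660725950673172222480282384725173337885526729643264)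 (.leaf 3783791250051457886352864061164216158311240482277199190181106964467077486332009957522298738846954659957011788067869465594084669522597342230452219623904392008938837581955873487636119996510744044836094796203120896)) (.leaf 1136126150137465732508065701994775115483322290774971720679333871000168805036358191824969620418489292005539788603865281677918408622896729300796973290645251093134035289961179667884979530684579113373851353577216512))))

def certHPerm24 : Janko.Tree (ℕ) :=
  (.node (.node (.node (.node (.leaf 2960855983116615056789601518989729911176363345626205589132444139689737191099388603617342453474174649092865734186048917862520502912153489232688797845669095369668394186475819457738949311428855461126203761552043008) (.leaf 3783400421309086941754051578297957254434166247602988870575397279356079089722370969329040696987572088968809804189587763393015349840634902196472774173475498911918452597830370252932456499523262779247865927813513344)) (.node (.leaf 750449862892654851423124455657770713902949183497628574547627690531070544110335332802945920077438445998626223280737993104450001947463946935763579455601058520771869119701623178912345604386143200059666378324643328) (.leaf 801272497899290418439014896653812189392558140011261842157812082496326513758241618130517141421557904993587039321283034248690584195765829664519533951409128368530434258118248468531964406781115790176608197668587136)))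 (.node (.node (.leaf 2847941302111429052934726442960785806419785361773127737569979743364785742989154488737253759224701928791211753508720946355897567367883336222173717764873584614272813003156856508226439940998637342287632172998739072) (.leaf 1083295075617152702267942773396920188416246731852005598160470539473859877647558829828264085703213508916880172010950186184323141474853426928688087715607432777249737308729950005422535508368314088137292639213490560)) (.leaf 143749641115484870553564054957622717637791734898748290449942444232543630387076809822069529326683442351223169622763248401689836531922930127478941499470105655201930987063947543797616980592294067981471365399095040))) (.node (.node (.node (.leaf 3005547495045258947526915503856957147537927056417361453954857593268478398702207534374364092338898831313155341455795022256809959377677768010509570809980556665090543025442814469530551030825294822467472557827379328) (.leaf 3041801463297873299837561850225822146694313798497504138268777623622304426523382417388384658573192706349925080783396496043627893608654854701145365411620727890869983585000571948345156949512640132446760214080917760)) (.node (.leaf 3469685789143086692636023665514451184640185574714896173369902771116775616037442817707653432863132917864068309292067271364739802921970426705329330743778794991584698860079959263759704205074079670193313495462482176)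 (.leaf 1244937383727157777403529739260205453187639960854254852246816212074178913576548795009212431120476544214054698600822928297467853518208147948171585263032577329491735379829773159364149022681001025800907293025763456))) (.node (.node (.leaf 1983248978734599997962327567785355034916778239969423985183812856787460473031074360824194347599467803321109227882221239729874243460662201959947330433953604632274930340690198728225199489515896996556263340823364608) (.leaf 1216369711469667414346126614600333134495840117958346002787383699011554684213112709548453306502079244676454092502978972167947284858020939543257959219211510716089129468007490706169068872102901974458564778015424768)) (.leaf 637326246800236176375529973239062014397175460337631408086639064827914971682127072992881714622354663526784347840961950004125060403612513235972583005231118600798944706176766790857326792752891895035755030924318976))))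

def certHPerm25 : Janko.Tree (ℕ) :=
  (.node (.node (.node (.node (.leaf 1688989403694055661148632758576750564762280274047904918854683351749892026592481298322400344798993955169706971461964602940952641462330440734357437021915419578155604642219214884788589453878340617064581895830547200) (.leaf 2888063690384055786966944634046122674635040666140629383193784039149829007261578940758092157332378541251144459859644743236560655504930829125231653050254471412959458664733282348494372815580716685315354205880488192)) (.node (.leaf 619219862043960101960538699654355001682659579225882862928270413744396547463778906746257221739844563287190589810412862093786964910914946221872295585311741800133067411331855803319681692954170757472465568781084416) (.leaf 1655782989056291622822801951914493663241849708184477783531679382781666010570116326856333163883285861614490188738849074910743756371437177218828529600226284689368153831189629778261999814364024571826611832225043200))) (.node (.node (.leaf 685959620473033930766971732594836729150571904591681905232599329077927835046740290330335193665223845008124607301552787282663968074094962431591120620727036203711744261587165900590112477247214988348182101621774080) (.leaf 3579205549706197346892334388951196042655572114741740335913542074610187658955801242252666236581284588261141662527131149842754164052170652324031074694559263196046156434850519993840302074339748743400411918831653504))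 (.leaf 2772157065492789760844908965197440048076417028703988888885497614046486230017831487853816398188070665267177164003736810875182121966207622981624005705027370207744559490783404672633464557730340961409729237824865792))) (.node (.node (.node (.leaf 1983569987096127749079218429216864293772444569476799735942084466426362992166275661311587002402351104037276875401204736245083767021154317731448309048760292027494479916409600486374284905382437646803455761454433664) (.leaf 600536125468446661817233651376113639449190182401660434344883230378736064942693853947206139833859456277138749063107855559695429014757283457049273161343253017316699891823235069579268925873389329902550412658913536)) (.node (.leaf 840580649528287717928922855070513424735976853364757364716606139091802298213135946659220913524284256257363387839107657768538703729623374045617890090193542593023656565523419064383052022967653639671450359225877888) (.leaf 832556707474594225523018797580057247761907388869984718130851972158729081247139051270713730438645701146033459270743864670724063528576561658214057565678940999560896190447501976851596113695780657586790639986266624))) (.node (.node (.leaf 3850319794424397022906210377611567935075936088991478475949963540172386603017923152662168178697450011001818002212520234421941818956576226086674072439670937669735215727659899484721770058772111697513524262442737536)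 (.leaf 3755728768175814575511227153778701641516955628764405534895789847396600801933466545006713039530443638986448263072695929424249705037484613945151304401031686826858449106437392340381688460334024442230925474595964544)) (.leaf 863348597953240503128756375089618293283887557400021639281483344563003935102093191192901271452910543199378450513608646549034869867658850974731069925811285221216384551739088849055107283370381260912854192490255616))))

def certHPerm26 : Janko.Tree (ℕ) :=
  (.node (.node (.node (.node (.leaf 3685772535218980762049984372778282277585156376367838376324140946659043132534128181196234571349010555566063046125491739124531655790845009511317214438371640909482702594429765339858567079710667932793431485242661120) (.leaf 1285235667350189033870633492633347922668825024530623615494476981724265962405730512697472942309227812993595721225669011300881308647581521184567619268263386192407169319409766811353023240200682700274177946587709568)) (.node (.leaf 2549529526481704797309350638338386758319801181385072785715160158137034919841463885693504674574383518916526251919153183649704896191870403464053087668744296445677741715164749602403421523277559694325784017097288704) (.leaf 2369098412650740604930492740513122358474773508986421476634355244923784416520415767090583390530093262006590959039782630355533701423382862844828458350000430248950137265767381996469149629214023648556045575244678144)))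 (.node (.node (.leaf 3094159493596971382490242767691985563242829789468003851682838197056280306075073794071447604503510287782527876886952415291616942160573266244449855887346753026746307631664307022509482059737260264392093687884049152) (.leaf 289833818628919181716349308074111698516104434476640267080798602710269982529799042071386733277072110878996158661577579292002273521466965961503072837669427002757638318290561984833005438856811428199996062574745216)) (.leaf 1619942945762152591957868862505635654534926540138700407739231740079248648236775236255024026563990968113704033671824092640043834514139822590827160424388228643244497130360378818881343296956060220172609471365634560))) (.node (.node (.node (.leaf 743111868200087681708704090873990706896706183742154525571940852032102920526839814983473341833649043191477860145999925153600618122704759449787981922879309840036369229679821948872072921893815564842165107249864832) (.leaf 1234778686952129140572254976487214359334639841878118464000898565975578887992204244823931249925365189799491696683847247892917108603743759712679846405975369275267120965024204319552261717363569837847565860988356224)) (.node (.leaf 3099868495389390777352633795202570232330995469117575581072809331020667050395724168510232590208342235951408401179559246454607232418718544404282540599633654971141313740609847931418177833556576093676604779991198080)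 (.leaf 1208021856778571966348240230007832326671837473494326330815801641353338669527799992869996795135133368080995787124606892128001037491549509111214103316861647571053913968585628630861115694018723743514387940894655232))) (.node (.node (.leaf 2428666523271287619709985873094512962323770732713591193161758815675705386805541643488603216206680723835606310943792184163150873574447266233165690694710139866921982888459384433819210289470419254697730265009205504) (.leaf 2521461747964685883779858577362072785951109799889769016107685652960989224258823955341735141889440696121242882560328660184068777850152135967614854896722039840663687438590121153404934998363311593813593713724130048)) (.leaf 1705936927113796359909931324370469464278741634721916174324267031966136923423822543563900130403571933015831828110807047053548410393058794310952001065852096821636187297605466753319843813247344901363484711174330880))))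

def certHPerm27 : Janko.Tree (ℕ) :=
  (.node (.node (.node (.node (.leaf 2919419047207224636704662244602821670769329312362581864929389527057731149391824092236076714981628307429543336897999460289005299221466045026133623550244679151714627886863846638039885361232361067648771878125983360) (.leaf 947878929933200121593430409568084354305200059821968270607141756906148475349207561064683756587230558313106935450372047134059230120951339690704954250867171051145969718762281649275330392955300492464345457673657600)) (.node (.leaf 4006647638755670263997048424455108787005756913429225232687355420748220302743208302994478450849084935037069409669260289180537457780421348857373790380050186585131250063561566170921589292551761388740309874799510784) (.leaf 3826070296623787014917767334209119190842235620004617979407938339305338185208056020460429957924698389406902869898294741024029537718090026594068743163951814946425797588054236263906209830274433957596278155665314304))) (.node (.node (.leaf 2233950049794014262486893520584863584953925367234986303247298748913368106958004723886217002224350597677308218463635728731750411671156650573576184618260022089488460321027529087695882300491880806863186638503450880) (.leaf 2312346864393347357395444240483314094036003588527598634967348995344250072148990643956875782477405143350658843033685256578968779506945112336417070840237518662009565099539174137158877901070134978735890162107486976))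 (.leaf 3503754578878397349621801405030442629393454072485119441600962574649596341514279837639785483871114219338665496403431026845273533722363956142757616055800102558118604865260274083942204488717891241838997986660135168))) (.node (.node (.node (.leaf 3675275826726922233799285763034617936950652554279526370811914854108701583076056156016233415351626322805746447437395371236149118253140699331129076791081934277514129820933890451714586827695838504488467796067078400) (.leaf 139571629933233093641219018851557963307060846293633174104331688260924802970521955831906407834702227680905987776899017335544632504976875021168660039976317196251857838256067732351202553079080055348671617824921216)) (.node (.leaf 1605346825960887285555578902938248165744667825942044463143249451045381296523841656793915791079760133652747529812468382234102036502978803345538166885720631720064290436460228626787545243121735137256005217085370624) (.leaf 916361529902267940888660443151682583538054785885009947167304863505781547549368198962417243428505881284385863646078637526708251911603518245567195435154481832953947725568690534811666439421332786706552682407694592))) (.node (.node (.leaf 3505060212264644771702882767881848408002267716959422014222155367775214707054582152706584220642405433196971596303428563231783560000336661697313956717906504458960977672321867079890555638978223170595921498970343040)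 (.leaf 2552201439996948572643065076982231205234988658736023740353439253193844024405388567822538614155995935175037349626013076157410772359144665231872387173961395661625266748488238997359441517934936313787539060988878976)) (.leaf 2482619541504503951417860635156031523281912363367825638659552696262149160071090899553049765399267535112524686414190771564906522315296689777478057577799373008021673410108486792221918381231151850197743437574001408))))

def certHPerm28 : Janko.Tree (ℕ) :=
  (.node (.node (.node (.node (.leaf 2740547280846732769956326185450570006214003277625980719033987667730579525535635854759060977349742379797180364081144822879307234919857808335170635626223608140560199833826210429624530864591907305676754602269780736) (.leaf 863539212278140378336764310173059388634610418058365521625424600871394765673644715495576348361632721166881770243126221637637086893238716742364398837109795243398681435138318786870757196357153348789501945406070912)) (.node (.leaf 3678450172550112731114208479065179074756244640925705522438784978236106213713984493547380276769553880181834560369191761734345419492714747714968234378332393104270530615716172770237580708110934589625806978266878592) (.leaf 3494821227281697602478174527372316153875994379741356281375497829495490613438665328330785563483005206975763104118239344892995941857816995207315659504823931932508291903652911733832650255713040406921368440671088896)))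 (.node (.node (.leaf 2313261467761779078443042900842559738094718897442804838370071411508613793104677650199295851356280171024998307084142388899890911792430568227180215842207675608273365131384146440066606420132448147907124133214989312) (.leaf 750450323080937669698127849519937484762506514946987461496139034415878805997979723072922446292395383715711474832404455806088124063343045279513763309718585505560609023643035206609959397999293346427867704218462464)) (.leaf 3998533570500203847389135147951880775485002408456709164761943704720381864234728041727331178150928315439846387127487983459324140560516587161601815914776373642896460643497343934376131579875459151817480959671282048))) (.node (.node (.node (.leaf 2630757794101576145090765722168663557492667887362408237263624560230469330930220625327808318205665424392743294411680312738915378143036481274111744604850999382173912490107506549110515372704213854384779126761645568) (.leaf 3784948427685624411822739298934264564982319130352587134388821408857817552942019204410677363689078307022607830099181920138024459909130716931658190929582473738324116615692275565454719899179272424368043831671679744)) (.node (.leaf 3889721901006168510296736045801054690501674504260329063749712689054259736219951073013699129546545890667990793167346176398564901198058274679596209607121990463123128270160150209064963423560612922463980120712401664)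 (.leaf 4095245789080579315920308468905897013941118755284532178745643254973050452404303705412862259515735399216804391330355744479086363671166802761652167633502478824944514745404261514008891545268870383337801369092391040))) (.node (.node (.leaf 2879899078207180109857403711690651204610793836200772863574246278436128190461694943606068468513182822540745951827297398968520161022219712166319500099246393975960844706259138211077336347490555633194310439591789696) (.leaf 950823008379193035786374798850922181392344779987045998387404189431746690537921043456433524477421702878620543788892477492799929147446374918918820541716729652879978066638591038151342978697218198842152468665733888)) (.leaf 3331305146234058500591106337953109342805034436593057191024909121233299344685112521031510337543184774627781450697243073194337499788173414677368716958668889644707167520070090252919316855838592000521731379565991808))))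

def certHPerm29 : Janko.Tree (ℕ) :=
  (.node (.node (.node (.node (.leaf 579324529193326946263491951090543662030152645888711049400303453764516338401703070961930249753913527439976680417069064162670050859880845292775104060550711761939239781942198687074618028008961506315874618846708480) (.leaf 834327654250250590739226791976118648512620938063201229843363998074197586104545615687948754329784552290145631901042963093947365238117862547149580616739502881418460822882298842508160862160928305238736931558069504)) (.node (.leaf 3332116538371139079246645182357746501833660121869704146098055910505403571727277575783013363183896772488829126640957792936104863398617786221681464009949238389928318578985761340331645964895518707110180346928500224) (.leaf 3069505869465653639892669715324006763495660986578775452156603699147284467390444567697064339576609318807521043583372311590920726812775716305843401997396682332588107963847455102491029995733064472824942442198419072))) (.node (.node (.leaf 3685283152851305797523207565009054744226156648917532079107745705243981561474772160004906920434687765344936567677170827734767411237525185214707343266131201265881179656814235184078979380197993529345017452337948160) (.leaf 2436072810545144641124806962288115267703055508992152238440557527017927904186676231577299874151241953486613685026924532928844471505695182644339353224404493407438944611430935009447908825564812459396835355357331584))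 (.leaf 2633068975052308604634697811786633966733163943538071996867933415310929870289499737630671265121332500754978768446643614940115484462898623100956665685615969514913106998635444366577858997715269026818905341376113408))) (.node (.node (.node (.leaf 2098453081777575242391247645418596039867236166892562466520281058636223714844828287496307044133893708635156636554588782569208748540574453051783910402244045156464776062765742525583574414939820566277454633674461696) (.leaf 3165192316269436071090882605599572977345653640964014360089537312947045251860609063360401514818215673977617371818284285043324597205487190521677624944139625482579794228515736724696098194881074754405536566403043584)) (.node (.leaf 3792816759401100729912785545959241395030831709627949709182657547678464032207484862008520693066016069338713069632864801875530055445684659759532487253473885385688137533844865388882831794664685127201585070999311616) (.leaf 2346431176726330799058913896398123221691766237527257033943480747105991231051600642803084053081366876862897116043056913035278335626103315278351784127962965292930530883342449453003084479771677303241817461337659136))) (.node (.node (.leaf 3919146853744471906728815621670195522110948452459536984629314018014665471194231060783829162262595051727058310650833346351750756840676726656872927186042492502745764254980668226399134067610062100267280801889354752)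 (.leaf 1645416969921796791448141477085288603077678875109733690424795816512292915064680202459904505694505129074175200748775522998133406575028033236964826342030406079735685051304938969783384768997985616780401836185555712)) (.leaf 2548556064630784053311006291399797891139018171535365031377127046518931263137158680780523633250477071925111247986388369713894794483500658449253030467380584918125935251816003557211949814396383649721571472193422720))))

def certHPerm30 : Janko.Tree (ℕ) :=
  (.node (.node (.node (.node (.leaf 1055030270884102486492101041995358979338743711343709523039199974928551011482501953238218476183850337171765003672146114650609544846060849529163236320850218926414432451591407056840876836354646289960315396878963072) (.leaf 1705937680163983372826186312094377086875494593703119188421735451665622450226273270300791122611901649860063747689807995297769988619102788118975687434377499032693729581812921054292797649106687115634379689093011200)) (.node (.leaf 3838738444342758140332962491790556391069968713881988250403049238918600166050779655770786495126545714817493771653808970028694927098913133843958703971375705589063165482496405613958704810930577409128849361557816448) (.leaf 846995223043401648503166648050692939975643706336515489305652967697576259436053788239407963804776860769895879092285456682325239518651652893871206367671401460825683298871905055974913365633246182040366274763993344)))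 (.node (.node (.leaf 3304835360295795947899743620359455476997628728485642331466999160182733421404934458719861983994076694331973596545741553011300689498881948186476089753477902431984612409111048777119955346541572379403221061203041536) (.leaf 1247332371511945958109381799565722511830638187004526508051403836657645045927542433160744283424751970712716404018732514973774789537197563926901135739359526004457693508113753213579368102585154000782949784081275392)) (.leaf 1121954887795719521351603177378556348867404971480387322616923072814697084133144994198500105137173376675765414886109557823393379866872780792381740515791741948607260781313295629447897784456903470274527602785769984))) (.node (.node (.node (.leaf 2343225519684190577902244215988622817691643906149074901126769173490092157579425261127837095865376550895767799371815142560551379886992210768097385800543407511291558970760487704539126074774679150383554281246071424) (.leaf 4096838539896105817748142735795417015074427662084472703282966459388733495289695410481084088189200090512942774597852664764879552901412506673809651787877048515873607237300013352180568408028356633164573223531631104)) (.node (.leaf 2124211270142165578201272503650718593205866235058817705493735218095285876161549558877378646964215714359323428592482259198747094127002741128204287380768740623086304554428910804947533269382191321009649263263126144)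 (.leaf 1219496761383403318884652481644827727135734430567686906561855704350192506033281003210966646710600460196232103291103240090572503132860410963843964165679458304440459467731615645633195756456740290629612283146180480))) (.node (.node (.leaf 1606113307998513075258729882517453357447843606041834905612909568997509217678632935835092685232431904150191665507293266905501019353726164168525788579042852647195295142415292007870028151786929117335465222382372480) (.leaf 1123100773496315263286460841385444191710760392525315808818242724021923739183127150804008143379202986485838553891949472543650028542656065551394043875643771991146310717079173356725191257229954154015428988492776704)) (.leaf 594184695736570395034458613755726712073613131850543730506599824547458866756978817284632243363600174170979526698427972332911931138367662041024250962236333060940193059991290719546358946875054550946151598590548608))))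

def certHPerm31 : Janko.Tree (ℕ) :=
  (.node (.node (.node (.node (.leaf 3179137053285541266444828892924402197220184852314545335034555323492019533963364817245938680859317739496918621413624688588368883424843107037276569349146181739927780238060582335312194843577484450379831653430511232) (.leaf 2970509060683656918084052656485596360999970938293969959012618188816321772897791750440639149039749671393185938826207369056221789619142950735139603900016136347343652838054692037927703920846497539340602196000613888)) (.node (.leaf 2017017198431956418075899260922999912108342522656205241272723783969043277999272695703071551341354370617657478849687624758938243073140027419712925504055378646226838369374751197348944378793339775642888372511494784) (.leaf 3330461357136913704897058568926708139050915687188802766340993546271902286424427659228312221387031966365380767330478191579706738785729983552578175505107819697489664414424152799651776127653743170322197913330556800))) (.node (.node (.leaf 2986510199729931652065384170223124646782989465392478102503360065431573196932086358919000732518659333779105190098790531583471887240313615135880809315149838349624697873701798243718669673648014505110273569671857792) (.leaf 2862052426636959442185513483909321776579722316871412989274903183573346011405112840415096609066642303535469540621529132576439866058481600655612036294815592964465194617994294506801487165063306099316093022335123584))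 (.leaf 3889794242937853189815943473562829273596433964033220564610775171029341208199700638021251489840888647708992405624104140263318737766858369654937676502454451381758653187278978267467760439265155636833776583483942656))) (.node (.node (.node (.leaf 3756697696910835783427895129418453222066057227887737147937290657431010705192420895063417353099843294238468533379164308727157304690050195601269911880272164373929211136622077805662448269806143351478382609919486208) (.leaf 2312379215493764704149262930328839769345514562082887074008585139829698800868721942585642043320390790120489600788473575598252203666653727428962022704209769128453265057988195282479461470815762705475721688366128000)) (.node (.leaf 2024455033512656927982775086622080236868277372829801045541781385344355131722649282810513237684892100783052401344113030769786471932108333565174200337975759756002054759976802491656791034755757295873365435186435968) (.leaf 3601711068624126691389481837569231835103935885921203618281676329349651103771051556706973744107036902401744637451982330701857943873438334062701235609313893186400785513562888655147657390835270353037243655404903680))) (.node (.node (.leaf 3340660825932230554396447638413578893419596466414991001873182780277745961192445074702938772343932966381839947996602921578166303843342648866777907281340121613403719177309554745900292281361976967489227910821578880)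 (.leaf 3177803593478229820712445632686314561988368082461487857714849436727746559326513346469142406118588932539806556730859568529021131903875095988877319028247117613945874976172195071998089992227937905989591927063871616)) (.leaf 948912999690225621741018459915284514944659107582436395937732443046786588870748728133685218276743777058513152859027387031134351150991890226960842265135281512213893331478598741829966987209208340364516966491336960))))

def certHPerm32 : Janko.Tree (ℕ) :=
  (.node (.node (.node (.node (.leaf 825808439269089362872342055315616191191429728022746419503903431737167817273173015079889708383362487380868848919906307027808325923463433959464368656355600527390289435552271167379404145939231624557336626053792896) (.leaf 1051941431315521933549827639556912078214312223511600204555912095192705745945712497743899500992643152364469314193347411328695650268056859939343959467155674190143572896552682516072536362945799951381110149853655296)) (.node (.leaf 2651164940841580528657242955871230925219591011683333375719163869734499403063645940135917809991658210644879569937501699987606617138379941173163163261417595623725535047711739902804527543255560264453904737459789696) (.leaf 2762516290467234540842746834521490316493724803864905576120217434324913716033215112881350541248765139013778880806481603725949039902686330722003413967715928015033816017422099935342603259300820734756038159431297792)))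 (.node (.node (.leaf 1203730042246282810250218325634133458140242063866507281228479413866215885314987996859725498269954981651047913204000830840053788077987922005426022020759920922722225163021222679180279619317553512249223035657110272) (.leaf 822340827438993605989120648763449649187240970386061339244369701930151482512708321669820889849556660620223438622764162809214539582093680216446852645390382097367203656046237533752192974239105239312502360798102272)) (.leaf 3031628897804418878408973396237959519921446659859470282774126936559876221202760259368250164203401912400052655508764830179636807874804286698302844573417451117228662389391156770787059431943676472511409713911644288))) (.node (.node (.node (.leaf 3701798212506316297708972423280570733217428343994157006910559751888018700795674902762732055599309739849908974193396267997633435701669186447551175070270740596850736519428909336923545516306972074974828437527160320) (.leaf 299415930406579789540880497618486568137936006181723648905547370339844355701432798843927907752381040309333906350426082027925406901088158820439806431913849161137453083270856491071392698796385325403355655863315456)) (.leaf 1820070095688298959442942581292695945282895830167846685730268468178289368819778080052699436440949236319339757355035042355174826530703172290345329722971512115836021088769571674136227628952836920101579726011778560))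 (.node (.node (.leaf 3678535448483527777935805150096934121265948478832857420245605564020195538289555298279872209461617509008621682852688253228663204569708478133138453998892483625386304119047760780195545636666628466065473022155834624) (.leaf 2224797386657257873148697177723713147391290896344019861632543606148745786624216169395854857286961885055533154427796041565848974645111920001083524224137536020463469689436587155774322304728132328314397921767687168)) (.leaf 138410947367279057094945361362757639202770078468318550150107965971119338742125546032530353953995863165090249442083058508143876430716665999299095819658391592665125232618430706804872145153764397930326747519878272))))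

def certHPerm33 : Janko.Tree (ℕ) :=
  (.node (.node (.node (.node (.leaf 946797527671283581351256250608483907240058814704914390779909657594499486855884882598941265590508811507127068253636164965293436325396433742452609003233991276893819306158546602360162511150701974079148345655025536) (.leaf 2888115946761909826435677407979266530596713423620403349229504102057200181226372941568077576440652590202091066022809639863856881945772066623381773377615803270848073983729547451396893055639123257544691256802840704)) (.node (.leaf 3456267689001292048211636270571563050058829458626215830120830504217247742713354745840907226826765809771530360196116611828074698786265209852263022386358350024907401136100531953176153411868395162724482249124971776) (.leaf 3715402842255561111722498085607940375104741507118446457518568452528752513287325427681771319983467546384242126390101512126453996273816972568430600454194581263668934832562976411630917785635073451741371109550359296))) (.node (.node (.leaf 3949384846723025743388629185389323865507302161128382145879322565310168257682697044946806478628442020231272696777204712633345923040784965248055189612630667950964508916693548884116096725972702531149453432302774016) (.leaf 2641031560412872392899713925532573585060051658058343594560280452600262886264205632753596254013412456261925956081322789264976770815571472369136195978071012669759836220540625269598999588019199106293670337757890688))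 (.leaf 682786178580562821151925887144854769894394615967204451414685507963016176627194969213219110160485959166149142087420130025319391817765432025384444495532188309661057103861301117279983254334698406773247525690646400))) (.node (.node (.node (.leaf 2565060076269566887078972977558894118068480825278218490262753935393459631807864562676103699754055940202098249162671256647905597011159543969480907949584803235665638187863106468145726518716106049027228571204637440) (.leaf 3702490325563106766873701624116208563034968871569728267438284470201189663997934949832702244583644051227043222353865782233646212366903998670552964867487365806411995524097134956313828441492180509875342662173628160)) (.leaf 1300284909968837795752250447638448794448743021388359686055878347430559746255021330079241556784149269959848533042239204157040129822868574602209286365645924806758120401547297634950475195291297487349135126582501248)) (.node (.node (.leaf 3751710306166139937537197845302070346017442432724793097116560017948297447869789321936183944679197670589766114389485876422225243288783012281753950887603986165818888241055119483345782006404915733563814474503528320) (.leaf 1688889031367298028411303819115879249778897053711157077777428658991608476714972518105247580530446207245307080802787953619338762420889288824997525296615747428910687151451182792101407765290833633068182650873905792))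 (.leaf 3098907174990170659258631883896816103072228362555311253893080545249163394094367515997058727371140142707454547586913953234522728901984594426734378110307593235262239175349466159992500434567969800573334314009796736))))

def certHPerm34 : Janko.Tree (ℕ) :=
  (.node (.node (.node (.node (.leaf 866069903325611774809423117102342661760504935223905356087704134210906609914683849105802885309949673938799440378620718543159341821821155749709087565630177665938200139337819586204507486535991161042405067875527424) (.leaf 3971639522666980199672197296817307245724638434675451820410083906258029848234213891669736322385368004740596294401391950889234524913845127168661929421002289707831009241641652810879322502576145213120729823618596992)) (.node (.leaf 2116866197214716993751841476949202482971315451358265131639203077956299602300439646080013391438563662645175865820477498753719251742453504738188974912934824435199053973333348411634409099107833673954007188044551424) (.leaf 1241990926603525861610542573037206852193764065042838263540306901661375144042876772162977889667267806840605843495465093754120543397034898937501392547007351698181329579304965769472689593898271958166724964255309696))) (.node (.node (.leaf 1004969446068044181108183203158085186503016572603576940086784252642933639619676696361347244032447905184400981721962067094229819214680181297173174055971725790571735961460769604606231617729478089878295804354106112)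 (.leaf 685894411590375753475746069373289033805441854964782480366388683838642006357591687631070411251174028244119706999452467423251863762376982083323087337088791811429806963063673377957004670406553866915950119713723008)) (.leaf 3586275173574199750906148245830019623006808301387754711593612908263188229622155969723167661936551514718301002988974516846894746111785713339157199879201158506678612911773848315483934738577128955490117410802476800))) (.node (.node (.node (.leaf 2730089538368802907680434034013468568927046620071997721125658967003915496143683022046463068901124387427800866780775001124345388630685280397086808199714885672913007626102642222296245093951679182373918662679691520) (.leaf 3593118660963123198216702075909892916527107088998305218600372612381106214538231523883285254807110756853170395956302296074326813758877238576297840244375967373534212964169461039605896646903418986096801914978603648)) (.leaf 3094063177724173798590425676474481088807785883726830604927519699232079913933072586320953191468025529038124330194675375611668198248365731768119672186286504866547883830026313888433542389636241812711152895007938432)) (.node (.node (.leaf 2016907737470270675001045986117173213213875577968612654482842842030269213662887203433774746840985280150447527977088187596482397886057727737547484514769615841546978832794752609788914787817277495947261985801758208)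 (.leaf 1341790681158500611699060778163655195165407347879496231678994606525816177196272891435609397412450517237399312557426515369177617327956870642731931105587290651733285969652466818315257938645284734644255540155881216)) (.leaf 3678450149281246218146880865748831915296074486777289010745759530010327834585436404314947145978901216265169898662402494793207781057040079117393283147314576910410404958823627573131519905143002277511338115473627776))))

def certHPerm35 : Janko.Tree (ℕ) :=
  (.node (.node (.node (.node (.leaf 3016804425750299672874149108512767909382423886169786464342375545257546104343560277991040565146267202641953455807748320454599473765671340830242830022960794174407968077949325897877154111852650401961941402630570752) (.leaf 750367750413600592532724130765928118580434472822176010739707242189156190972106982627151450088574084011061092263565232606647736684631138246018762536768288718734998809723639582122887566200700593775547466239912960)) (.node (.leaf 3099032182691439425034954991506565173791997268634278206750891545828630788367818964518433793221715412770606552712680671617762645919046111407446702936983563375544225842783276427460957501055030334584719035368401664) (.leaf 3094193593044010672708547749902738076619530167263694467222868656176105307333585370531405083332742437339425089448950533395939434707184515697863788085698538940389475553284815225368096902874552366193618370691981440)))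 (.node (.node (.leaf 2851737712409180396327486876200449590571433075132876837729061107261131433286821414206722098768183585540293181267338252608760834099074512176981140582620704755284110057603829970302085049613824124035206261886916224) (.leaf 3316027199190811723142283177200934415752689562273590796285678654427217347284467509571252770469267386264341099200490682162559739598762601911588760946740318779254003491144282705908979247876034610662657189716077312)) (.leaf 2773752327435414297561558189993999003623072320315590870361844354840549260440086073680314640351447757662739990260921427489400439798934780944421778917032071711023094610514305829159149604483268304854907600103596160))) (.node (.node (.node (.leaf 2888974083404483085283417039435921558401896977567591818650981943949745430621230629004533453139861621189530919953085988076989522403114572777776578912781088034249850868253841291681248871708037581507054855709022720) (.leaf 798029721062025430173370915748184555074074840021418532511254540978305574702283497575778753417612170297025235419072829998515274649939012874602866748667648946216827187979615046521247951919719378354535304091701632)) (.leaf 3672563735965655773815143576028075101024129467523129241773162824619666693914622493694242050842749766201140393200552107617231105656475828401901753751132132640265744132963625502248460079425063023452606876213615232))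 (.node (.node (.leaf 960321346022844649500729899677295165399894434629211970078313347456504096292196815961044887936539609408422870248386560178471165498030706767791738062435423613988281245973068856733824913037389753948739960052734208) (.leaf 125271897172028742141514448777643799113466340278094838331342589807928771780228861968445152528302144108181510759835148689406998772278254043547937456377280812974697872887795375286877588472194370693721859205383552)) (.leaf 2230501575103363106484579310945472983937801872013927154540874232079419052315335656044871618985823338923482971984771941995321902796994592469048901219152288171335328604543408973704704725977495852755778326496576128))))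

def certHPerm36 : Janko.Tree (ℕ) :=
  (.node (.node (.node (.node (.leaf 1770087321572945505689395838895242437354261974379134361077351271195423835141834699340910903771132787327409191477274974750303971611130433302514252071714382140913438321154576653954321126527396455182972131581091712) (.leaf 3971565394858437648746698433203009486383370523960704144961167791014409836077754793414363448536361881608552867547647141642415366048049610667582977889221424947402542493284470499690023774978494516041476818673444352)) (.node (.leaf 1318387894124771938276781281161520381872596153209302467128428801957468497718484279376212588461909981473237234697577200388173674925607630082947801220174432007557910847054359838857816998420385853740761631306323200) (.leaf 590565001699567403060801159309629687885188467547667295431673340948076344121569929519546851982110170991273852623287421609144284423638237135939044228260832549769388819194872279136161845966205255607350414031231232))) (.node (.node (.leaf 1341402130209448403546417057382463595788274237114970095045849461468983691053165190211930511778905016929555072830809805024497276939395867205474509909045647607490087247247171767730815911449546365193260775810175488) (.leaf 863489442071163018801878602332902684171481537004049514490166847261981601833585238786940320944456229260135998098959902854436329565711222492609226068751099713844432567963922020954035309190551335980879577710373120))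 (.leaf 2860619718895739531564866000824271151162861252934216907211817605979004017332916372084479036107637557595183438602508730682571820864611234613598848008941106188699889212439787074081470417849911804559391592492601600))) (.node (.node (.node (.leaf 3176038366012542551673326950487841086046585703976507830734127213039169033315071628990653683119661248546703659463695073278818932623620902876352836891732634455449636163813914778963057510080793606638371802817726592) (.leaf 3085771955954912705420437051646062467493867771619499903081245999502961180141389983673384776225712028611052334238131784241274561570985152688375831133564001553162629589603236690137807765683908816796373551974389376)) (.leaf 1046010401980715639985201510657872008514141433831048796148660483454211879729343653410897832082353258109455363333534223453643295532286207170356008526172941270591851678121126856716421490049095310706759094554352256)) (.node (.node (.leaf 1984675006945534045022385831705794613461590317421482853099261996715040820739512412194062274521153339014051246487755332775397200247021030407698841821933822579801223973559505964521755900901816235057583623464067200) (.leaf 1769858962987044837190772996805508671518574049285779506196087265375092448238657654243211333667525870868830542323412845746178192276131294185723602146049371447235012095075868138463821420409299187106193539727672576))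 (.leaf 637353622925281183537979341154385626436423143152028718644760620079127572518251218937947514901687481308138222784205912116872147940719096162013632972121057820342030729809764887781884051143346710420920602473353728))))

def certHPerm37 : Janko.Tree (ℕ) :=
  (.node (.node (.node (.node (.leaf 2445058940950527728998491333279104650348877599385899425544245771252337149323920294405894609292183338264585872941251209771871343549410886381874701550109692271304260889488550671785824513783517067784202722891843712) (.leaf 2483565338842167404133702893868945290544012362058701250626555131342913896040179182595755743174977263545791426305958654516800559542172803254170048136059049818066720798769297236930506936097937284865013108044743936)) (.node (.leaf 2363375853138501522727527899274107354755011837149014378444465347555159860618531409203007383328950127939848622874077059137346687030602695693523170768457689342862843434023609128967157138265490785576957820441036416) (.leaf 3045013443543429260153745905270275541323821976808653112917632122473009146462366096163557216221232437643133197530558778484570667547854506059789768303932437388518604352174926142712876415663210626437196742056297216))) (.node (.node (.leaf 3754226327510008046043782297583220504382917320485030078221616760342174544220139097203891391156314385791289920953223551872699692788059251999791878601727191971949875603053258209776288533934078711208976122412210048)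 (.leaf 1300447954450095154388527668356814142487421882547189331315753388735945834351218495645796308739998896988416514367222699047576090922869716173791510158529031575230702751029365773651155662106776344093515530581529216)) (.leaf 1829144770583171986165351871229582368154471847337001750608056867129397447650249571603692558709123026083270455058988686056800795212717400562697413086590508691786123286156439803432357859297685436762322481791599872))) (.node (.node (.node (.leaf 3016653042607151531517335733749138879763626151258994228897144535962248021147983659270268742285541426400647979175752688578442948964187757466265044176594404909455474012585008843768153408200268580341309995230724736) (.leaf 1614397513337066304204270669896381329358604857732709188091752647110181234765144124293889995005286296135779906756290935663453471922563670616766990674755315586726391917464858901856391410371260826963863306259010304)) (.leaf 3832742007357959167030636458290862996540203766565067661200666022745550823812544492482716562501903271621800587481427230926479079748813346471006564999967690955286234633314486307278624570676985149924516333333393664)) (.node (.node (.leaf 3924297133512581791545069643903907897089640800831140240634761538332777678407674486275318016770577889371646212802204335781498428965640609189472944375910806779987387295190474276601726642922791452703873396881163264)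 (.leaf 589828617634269104010546813222325902751700194241073422239832778385023576813270242697705408554694582122604416595509506419372995284440460677402986394825754349079582742458801138216018246644522734726944513826259584)) (.leaf 1038166962486917518930119897767631615246534736999104320767063147473402131324399796635520181748872600702766658400113345004007764618316012595619069249404873083624402697993710660962126361149546534505000194840369664))))

def certHPerm38 : Janko.Tree (ℕ) :=
  (.node (.node (.node (.node (.leaf 2839773757522376586978160806785375018842872464632124880545660223956713875034291296630126770940757551342626682679737922957536282546317477120514298793969426684245305126662187751518260150550564957207683524302069888) (.leaf 4084561214650599145301525476399065016046461586697639920559887667033713965248255365748433483731006623074484427156670907552250260467278839083809576533454885843489991495898393378834731336650650637567271131920897792)) (.node (.leaf 3751411985335874590485044382495965356135609570476554711470231182467710552679013281297465899824468795144077716598809747669274210688437690723252296218804588678964279661525379846309821552593855893516656324776051840) (.leaf 2903426653211425559487785100229672586604055042256545945404041519241219740324482998523002814216777903620360968957658742311044508265953978016020913036630947247211587973850614727493544470051340717201514014716287872)))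 (.node (.node (.leaf 2477034489173379877945117338884722529198351695932151087722333939974197511401914253204223388546917983257565677696130240796715456273900113308415153925936644738037132873434979509890544924411195610571484850566027520) (.leaf 2028608904955772895131512406275337507001138303448774862730270897450940729114611462060063389319850085939480613968109715412712116154500601721850775040671643212399276375985644177420495059316797155263701380612264576)) (.leaf 3586230510991110652611381906145873646760378988850152849621007467129975176038103952194334653841324026322955984230290512998774722582205683197862584778695221109734472168160198126297289780476241128303584623958284800))) (.node (.node (.node (.leaf 589821091112422239947205043719912501561310693841003423628943407073377742900787042892866569075207710656155627401188093044255754275147897477689091564410819393327105002978138814445922452617450972705914628177539328) (.leaf 635184138697455831094873226446562043156768656393107272638099655677618511998787659970726241883487881838091833060171530126928444535034933216593295819816009999875932779999214954862700959260590992948965970435676416)) (.leaf 2877335368944853120739362931026998787205162527255795924707054179178676992675146444758144112758221175443341690216106556428470104966224847815901643663263542902616449513897863167063822432559175412409314601319208576))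 (.node (.node (.leaf 2970614088462151440928325385422092836634892365051626454614365081282123579982135359416949776479026038455253756621167013214575619247569457802593931926128386090710521091565789634016365233621567823152281493342955904) (.leaf 781293452033351767766165748736419440856042802316798611589604723473560396112761754394933825237367797014452862902095351611359102374452961977029843535610547369587956901842465999480746402008932808422993173506855296)) (.leaf 1279408815620219377961645845327120100886477821069076572832688197529794125731473501876413473016601885151875354101713781722241713250570961238814709144754857927401272076125700400961842803018876032662735795474964608))))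

def certHPerm39 : Janko.Tree (ℕ) :=
  (.node (.node (.node (.node (.leaf 663223269910864454335254936564929754493056871722906816661103445560287497893473992149898196757555309262939378868170413003920227955064450409162620398092970345039437856125347444845388343785233370793425908916388864) (.leaf 2345735472951295387584758278808287853405009406354692887102949217406842406923976672278600962471613138766274411931208737732833560457094953859008281525844718643395376230264389026540162348079672977932296645304064640)) (.node (.leaf 1668971661805295085232955178377786562755355920824811535381628062692513875803273352464350525587303358138788253683746094709806380866036372795362081346937424123305403021519617049672267721938699686337232542583963776) (.leaf 837127532707539937624314823188684857512179746800155500415788854833067274226181908880159888215112806664563279191854339547372435218193080815902397642219998876118858783895249405043220691840761888724110968223281408))) (.node (.node (.leaf 3919104533384754519441596989594743279751222508111826051751833685648618371200495327964378726477811528820759823636742761980246683490163229206271080418920268751355989521320939526885233084282814673180808161982261632) (.leaf 3094066422472638168130712228129684695691538622636120106968637729996367747479951419856799267092668453799906042276571108489616830055047945281646134043715683684631565717476518350044105161671871856328403980775188736))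 (.leaf 4085271071910078016745690847414378322849578332545872706785851648681296383134132385867721987351871491929758968074581321969715698972069834447924782978402528952901243127369426598150726756345000936489082077436875520))) (.node (.node (.node (.leaf 3946828063473332850557205466423438073334956835631773285849166661882106514908381322428217228315628387454722504305750917070140866298321652803083316405039865239997903871173303086952004600533798912276610301492253440) (.leaf 3504856379938785795112171149859151606101917151197841946722871046221256055208289257743058358366249038186602763371300691679752107890877046127248732499468646425315708065255161712850842612412739649107340853854628224)) (.leaf 3248113316247523937280671449087650516386677834641872738752285905994450922019622272868256311174479505865976330863041167206475574459189792712826642104989962132465194096458203227199558865134095839438591368071185536)) (.node (.node (.leaf 1317710638640825942851683614973757738285831433871241311402899042710727580587704372182806770863700123406645814014198064066979481914684716731892476194431859827830807869627291431718874954579517120848332068148678144) (.leaf 2990494265549705560565375122826730513487547101159088894872218159719204480203861886762959432032057364845911899412509811522639712573693581505298602206658223101150410370891311095975166514946766339128583326765273216))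 (.leaf 2929113349872288822030803838031120245603817893784311298628773567561128756919710911696295555743651420941232761697907582356808901743837145261531698972875012054569212270772766903839403727279965352544841003094861568))))

def certHPerm40 : Janko.Tree (ℕ) :=
  (.node (.node (.node (.node (.leaf 1699488746278825643642051103407912890945761614093213909068854532652939903202332456398200792990739714468341540269685107872120704492831023820414599714613589474605492283852419486134631625366731042403013838469645568) (.leaf 1300500216933803152699531263313865216002054131690946032746135116062329186568422586255134753779880369576670840646526348159870925468640229914566728364361546702542424609480498178514421641496548009277467047894929536)) (.node (.leaf 3795627091307610033042023962290758902507085069183708563319846685482709072173646417613030384061179073731849891917182551571761263277114533669391554467142175256366630649767201981091255138536906865426710378849519104) (.leaf 660530238261685596290618680076082949291742274136208071812382801667075993197891842484054569699365301999567588976009356565789446161364448767270759481046051791501943720830070205884687177077886601723109979646617088))) (.node (.node (.leaf 2017219396241492449105486718568376381601850551259447163773753898517627158590869729766551204057946294306080331853168043482414934563101573862857636266210324801352271562930024297651405782005753997815360709252518144)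 (.leaf 2564969910178786814871008101499980749967274016046236845707160967189782612735709168411447929747439567393476951587260057267198501672720064644072513806449609650098236419003939000364133623590760903067537356406450560)) (.leaf 2977494140570241229173093119593965225037872482670570802522342709881498268568374485488112485381270734132013252971951708364897692857529329061747164160542603954549465386320147545101854807693517943127813604984292736))) (.node (.node (.node (.leaf 139459327787532890310161459529718689476818671441978688370601492352126289834424069577364657103583941653541900490410931762168550569399683513707513885729089197028311707543830954212293880918184693173316417594581120) (.leaf 825988006777003188359789347301196683445956777744776527606765490934158096433874115608304126159523890876349216670893383405071291048865966536806933953556704871409236359243940494515547845136428199937161422405801728)) (.leaf 1068940506286854343166284274406216994021895005104714665327063636572244880683805126760665438982161132201580621592520443607733271030030414812008976570737059979878249784442656864903268068191635077169003326941456768)) (.node (.node (.leaf 2885797173327637736910006040503244101054264271014374287568563881638485300078932535076295114761579666294117942104658169760181313628786015186715819209746946771162292713816841317097682510310975838954108176580321152)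 (.leaf 2031485482094886638732287394785966221526953822740322248602256736297265248716380529067573676629434837528957309191080394767634535881071264960851300156640844815778944046602584797141885766047806539212085003794864384)) (.leaf 678552446727396193247897513857108836056004192633790905593029620645143860239223956898491080516985959907439128438938447340212067418793585232057497654539163771822464683282652520967357491169604924131754766580880128))))

def certHPerm41 : Janko.Tree (ℕ) :=
  (.node (.node (.node (.node (.leaf 3360332875657081058750784228001926861613754969432404874722504191117849229780934098632058591441382057605168497517015445537111636319652791130204789416721108524899964094209573568620851707972971063273161127522027648) (.leaf 128815622351767889176502109665877291413060575844618321433606764518412260478860758094336789208234224650908053364824124032264400621302086523021943379144662456956756220618505657525597890039993544862180632646670848)) (.node (.leaf 2860811811764672140467938101426554065759631270284462641353052384527208516263792109192101246684803979085306345317815113915423116088248436162650453477019345735094656782126941975162637233564214638382654593323272320) (.leaf 2880050926919491891519850184452678146972486695974690472804564509763518887081989546670283797121884625806515379662159195527777283742188283111232561077988656592940565603240244470057659973381191973523530551732411264)))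 (.node (.node (.leaf 1699488287927124216787220614142943508422010553164574907601393612640801239438246425472818340567957441251611699911729586598604755218749347852980087778803058547829326596766166718696045265439109832478406501994698624) (.leaf 2764466861536316760577766705731940671370894944770779785052584905182624591695258734217281615331264541965048438764011101409179760269869108147274869131093419905268836493081717077889871829621428079081877465834886784)) (.leaf 2222112574938197639579064188173778104619594790286812853222965085358266179389298288374449114160426856273105947397695184505647184699457639303185593001103651571902753380609515220749161294267244452566528776807356928))) (.node (.node (.node (.leaf 3042685434705763023986091619236298814316718953816157962539564096651771571764807015288691480845738452634113044763660579167315881924899988508602604565270776325614787727046814483432236044623178869464425861102317824) (.leaf 2246779442588235300958110200411761209654108295740668873369841051659830968238565406417892865488159990957462810431605680217635233147460772717186178501468974693023523210648942063991876297452871612785050493435140992)) (.leaf 1820286602002370411636058533245667889778958121840052029117703630258598248223890898012282505549913509534772663548527273193794762935721489288984745549299455461690249393636985261465210735075308648329380449146137344))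 (.node (.node (.leaf 1654438693134685100127684172615502307410928091725901892091086136769468327873534422408096008642564490481848887178608891213504659049738914215880941234220811739627602103965824438415875394503279834816259376959538176) (.leaf 2772222154045869820068214131629419877020360548090092245679086705276488017070254529065858935494673411427369505509308599855471705060600971819738026818052435655681821019847511592536300827392558091547532949417666816)) (.leaf 2722898738761718722797206345654189001721518497800111575966641572604808342900716756209829061405121454726530913841266254618786451464233982234157599431292320028108056177862924280672658933430865913200920158927194240))))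

def certHPerm42 : Janko.Tree (ℕ) :=
  (.node (.node (.node (.node (.leaf 575656944342920274121435508379389372461444096416779786904511026328964765437046941366608717012195516755348384365483009461198739109121929090227237986071609821149710835957071972203302748921336944768087713263063424) (.leaf 3462707875177209593055408414894588323192096094618315040608456169418791890529105797097668094359557765536682656655604735980759469940309926525534078505588240370469365526594671863161266437857962673439288566043286784)) (.node (.leaf 3710333284284246324906736417646111497532419869334650661322853399903520382506232946697902523070608571797997737228197407006744678748759558324153748543566908414810365037476305038541707671651424760225437420085911424) (.leaf 1319386174175351987162979865997335801455654020855866723331642671189893840142169986909175234505327450155870497203264679822896250365187834065859696855320670042765875435756770480090398822429670704957365730813707008))) (.node (.node (.leaf 2523074540569772060400511479773399806359839929907761720681298077988681867850127720654687452095493850234006430088699135450360624891022988271492004499882748286194524253711639786681225210314031185779893631384719744) (.leaf 2740552300977401966047587161249793643362251638084981951214520909986884937677506121820258529544163220515474754781173983012011517986450001123520746014632617551990255592950068370065514990617998393809708447714264576))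 (.leaf 3889794110515472375220287618799102081026718129684769535267783685089074541749262290086946397056678042417703544580004308823113584053342317519009970321536866002449358217914616274987577008728558440196330776444263296))) (.node (.node (.node (.leaf 3167737746031283698959364115417510141371422873967397577241335063277710373224549813969056119564186420135446897742790486965528740645352834730520739098662297096111515203762120144288614918276150583016253222137735424) (.leaf 2111163464156824989166802512488354981278980120348772985608488034705210374943682052128498071072703117386384222292882599332886136038328090693555840231725804273903457688705794606856439704142034359004355293205365376)) (.leaf 3874205531950462945583417853794607496920185068228475778292083818021142568831758485734681692249970615013093296219441555224892875992382030929808640819181004809313351143853314677750956620252035293873273857695979392)) (.node (.node (.leaf 2096205491107727382637245930616553612672085565063548485294417162611881711786116275646751912113446186319285639085813060844895290174906664656748366398955576333640138612968465419741663044095484124392980650598090240) (.leaf 881676608975831161868840043064385668248971109277909012928030234419356593540513457335181597557348689078298325481350964539027125707358633378053519125335427320599793521136152597574769564185744013072026424144910592))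 (.leaf 1112459851649144309051605167101408305388225212310530072694715009255229162369644497954005177090656705054949025192250140070237593765889780645533452943938545748931168939356777833649211282097436010311470966364116864))))

def certHPerm43 : Janko.Tree (ℕ) :=
  (.node (.node (.node (.node (.leaf 3261267169898043967385574161631938491301579099751753090551882444491026030298015190582181594379125019725659599101280015795763446345407061284951299213064339690111384223300185520061229323414367845375198423794406016) (.leaf 1079485353278638140483041490522598499111004400712458419511299222141769686155949597256227267141365440030748417465212026237874780274774746951396386052835727492406057052765873226174069378210774585144849668261266816)) (.node (.leaf 3580780607791365729699595403261058423437427120824392931157550697896928627911911817399155031426133810749270453525985703882749584603221113059908877999399776257605586892219899182601989628655454692416162059852034304) (.leaf 3505174693992789184640898336814762904818377530537330902809676516104067412321720380922399200159222217500638097921904259346620914554018723217240539123906722969878724805722976827961752055085743147192885605076653824))) (.node (.node (.leaf 1782322316272772262657951971650113572889759852566942759251591826726164424138975305354911381708126392588750660304869138787029322299451036678081515987242923590659463538170091260581950998899781018552816261553877248)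 (.leaf 2888024631588025242162383786934865281058171510097687370731915197959508160391065173221677200149609262497543021027862834867838598612331507109949092670643651101669543224069739538252512718228652499693955641505917952)) (.leaf 754256923818748499344316739188095339589393336575882424514597826089117231489736074841189645866269423416271730225099265129093347030218584755762347889696810896196641414881770942540003955289799583823396439517777408))) (.node (.node (.node (.leaf 2553521000843257174737281323081548559055642280481551135677699253575333401321661836639102949319748150839404245966132503639273592278605425514298268245316385847793833255643963814744316857286894598315380125263663872) (.leaf 987111237183609218278027995042566848872530536616575783477165102183672968728765889365233630918774003957614698541853172721601861622728711721378406191280194195590904238726018375638797425688862147184501650547971712)) (.leaf 2123684337833914387511614472210100415509516020100397705747070004000660501294225185896122234252934284373603034884913457735040664973710267241445123695331804304671620418101875212934571263627844111169900521588294400)) (.node (.node (.leaf 1812426126782483423695234568662062146355002428917638134996239058625778078999557110853711556767440996298907697310429005816103868221307057365872393458197340627848833552260673962553718008539732057067108593933310208)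 (.leaf 2549564161739662804899155385860710739561395056343797338399886293465912271143362767763632606034423171493366889569342418795997328532358894552216001156791637941059372184460770047089491006923849627007164791795832448)) (.leaf 2960588819538213874873423531745970349624023031584679382059008849891804674097063643973407011876260410450470959724119929246728133899312710170142492060196491340583139375453256476182489049412605475812028725739898240))))

def certHPerm44 : Janko.Tree (ℕ) :=
  (.node (.node (.node (.node (.leaf 3699044051324803219677663838674010896966772063864302721055241152929369806859797844236073264421658732779996794648618626599843332073557844776057794389831660708067087864682434798406498673111565240219415099842203136) (.leaf 672178192373192844182775241227510163950217475544373351844308278012217001258172048251454350593161882065659752804100531186223323508586850290880552764369883222302290379166065467973071790887199708226262397225412992)) (.node (.leaf 2428674142660807259009203338906952565174573423833736176432225837300427125129522214166330495346647471204901623738623402908627667419752227951559848297281112063690703137296053392219040795117348707394375754960792576) (.leaf 1127282025040220620481288628984493968394028699610415730302540429591434732758807716345370403233618603875186443972490279160683457032362624784169676999358126328798418310464064020937821566278949674054735628360853248)))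 (.node (.node (.leaf 2477004178999563010691429313905130376259547328648976739492671475682033633745268400210070765955313294048523032791752032470659543667810295837993223587262987814131885422360427657724391001973854442407282381131115264) (.leaf 3963777629189993244675358673664237388451517215417120074218080183937394788901447291603067991831836781939820489935086627573106559384684771734959581525258711610107888337700952198984772631185741645311736764183416320)) (.leaf 2313049151617889512068939051836308954044780420687098601669374390560136791221862306424316141349364794092289079245742781948437037991266442644168802990561576744587596092099522355013235385612649616142505455567734912))) (.node (.node (.node (.leaf 920832261942058128644339906466573677341585003391346182694888412093987765569490689125399291691437241068419825206008257266297658971791982790795786861213331345718074885562892634898589985074467559607620032494151936) (.leaf 2354685626522577370837391449377075366732959318021099816902335737874721570745089645510112724947423343620707412877821207624645518305115886939720918400016571883740545822262778931068215773074101878584968921270227072)) (.leaf 1769745065940700767165341557364747877727556737807761956925416439909670255305781960381313732386976416918287047254645119729812899924059809143173565344978830963271907249755741090173648485192091060914528154111236352))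 (.node (.node (.leaf 4071663630166527040613066204715917972816725821758938325135620932329792331343907644518235448627270409405579589234349904888996641075753182964443165472022703066523893300467794590053698413419279017458543560847812864) (.leaf 2960918741638521809382636730266891495561796506786964502714368576038606867878219966726346270490871839188145334952063621917243884647805440145582775999925509995417718680413859586461431093881333916165493617029579904)) (.leaf 2557061748178849378997754505405313646107329664220070751637645180005283624355052399386782687547987882744484406291990761029129003552395762619091792446047152009431325294100973428517415910793153216785179301503938816))))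

def certHPerm45 : Janko.Tree (ℕ) :=
  (.node (.node (.node (.node (.leaf 3113812898720522349743179778251161141479961977442422639550450824198729526723929039800721263306068225143926843419502933037081383697557038102003221657191214614515010870338052292802839926811126619406928014864094464) (.leaf 2888434589875207622143343358013320149368585020968407269219732112804432123498266744443555584406181453838456288347551273235358596014626827102323118697402129050904201156026404373481110786746788528840777791685465728)) (.node (.leaf 3013571415198590538578402146663967314233535453596860072433439186756146877877708026267314611957942266696795207219875280167159446630166867805323717729590920602321643119444187502162652396941695415688785844598506752) (.leaf 2319967554052096654320030046770053219755967244528276612984061665405207538208982910295600528322139987305651951051391925463958052897740097986400700149336240983803683411290430720582721878881913935914041747452383360))) (.node (.node (.leaf 1120629994608848865628631484179661834148264476202020332138816810492533433178472316285104110334027549690576595419730420113266068524053023114833635742441512035514468485490321109676073458362167049716714574413323520) (.leaf 2572445624634366964717000101728888257828998160445208551718102295300901626889368867880991819592378078701550406795445743487488588679928691282311741549201711828837670368107480628749251626893907325633459700223258880))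 (.leaf 2815564984850168083429307585756965606277241260365910501488465596426395259627489182767797945349086315206323530337879832858843072769206620843803206592464310188036572420812389839845100321505490454857587356830204544))) (.node (.node (.node (.leaf 825126275163086181148804074112884800236562925730980522369175677305331808834596477997454495073286959082740235374522481460000329276235767475946303870808621769518820078805143503604451623973878714480626505178137984) (.leaf 2042065465497109422251460565637588954500530055485183266255877372728246367070945710752860481494309920267611734878259883850865065372287664285539371857112342820490952485091272839185375020434821228573051254915352192)) (.leaf 3921765903465442621311302192951922150933304577508160640499857849901127949691346474435223362644542803724681497549781036518957001782384092152422438610328607998425223400856102334362900052147030641690759076020525696)) (.node (.node (.leaf 1088915053001024348071592882200912663285376035116304315613797904128239219023702748938997032271961682298994443581343635928576724364735052492397060861029023755960322107751200417112085800489620053266624212681920896) (.leaf 1817341086959990631458131032365298287613738415915582228961350590302149720479326913830549048827589496170519214591548938374913654327871923398301459691749837090122892075557295315171162667414025517757275956033278080))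 (.leaf 2351612574809973043962089732207628751900279295302035114393561308326491801996356345808916476704142831900015728357325911987122148381046450230793264884000657991395219532601167010013712748771880542833283469733845504))))

def certHPerm46 : Janko.Tree (ℕ) :=
  (.node (.node (.node (.node (.leaf 2310465864138240966795422006342179413499920147079195024184361465113056433380649984972159852239119654325379348345934479563294975630555522502971299273424857129020393194088670396998204588583127487406342832602523904) (.leaf 758405730834076179065026819816106363200134870577867248839317012206776959967986370539034356672888443578110462668792963708060600666006439806162983734789098037398795875227403823218952988746335836161651364265659904)) (.node (.leaf 683964368119282522887528876491661044867674736089478172751937471340871398778601912967273885181645156947141973611637140912847133940571665978618163915331658791354471529177656577479391845807401179774378977591840256) (.leaf 619066850934998062566567020448916160889109965936064739104255850336270273532837160486774360804949278845856430388145947520925583228683522283555345180784428880108878205860342668748168987630946426097297011506008576))) (.node (.node (.leaf 2986482602942434101399542764092085978240643200053673143582818661341726218739410528235831150599437173454794465079190822231963808200037589543849826524754414695294407423588534729503132530107458348077742595600061056)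 (.leaf 1316658260104664233726779593376982957099699232622279587060509753600335330793532229078987013140575455134735866879409096066491355823354850482894805916057302188271622757616737375830238846694935942413060875343943936)) (.leaf 3468265546542495738744649565404540919180341098415744875672622988813885710445877492925601389704602778881573950604453472546331320485897998916720355776496726243122085336191096085986179679273437221280531325778101632))) (.node (.node (.node (.leaf 2245574914031906761553049968354780696252686352243200381192795667585565148347472947360857324854240510459861049167047935204343861272206846768698006234315293191433404535172213648796287477933251087852860766681616896) (.leaf 1195392963337222253479979140613641743788922512849795816200500355670918788814146832629343673141577501245179012265469055330033003363976444209511795615414794263042137105005782700101897679628945255841341586769925376)) (.leaf 3756697668436220409907952338597121398250141612905285913005089271811540728975165985630261313904271656503324287798226922240367972864186931470960735260395074205683372789576290282129880553545254720414030758800462208)) (.node (.node (.leaf 2510704159479732930060569003075707161339730090758265706754416781959330711668970923508965203560820647363299332078437594525692440481519078633531054155208542253197832967756673502035115236713400869615099016804909824)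 (.leaf 1777770840945547036427423689797698938965786703603153933193394952400035138070439743502373583128365297293494398653860308508223247540903039726227588097589139145756702511121917945807676029868475467040926857964841728)) (.leaf 3832959557017626291667804232578550617016648990291345727741657693090896553776627844166582962223200949572671661346049300199876615059391306481093120645042151694020229714358067372862188501437139211303235712783358848))))

def certHPerm47 : Janko.Tree (ℕ) :=
  (.node (.node (.node (.node (.leaf 1206362879288235301477668596088511210487092147352279551561935744572729861439593463337013651896922199210314965267146708484986780201067233624075933775294094540915238457241080419245196543441112800400626696614760832) (.leaf 1670358949551340341751321429892532345699465339705965425730027470058202186728754313702774672544050274136968320746184701008863005514872106428922797526989972731073988138401494910616223203969316267055135742312355584)) (.node (.leaf 3290972821631444553157725023915281517606968043962710786334513661779116085852282389321832915850865993481553244954071793239374365585866421684145202973518225275729936966534717229344520271285571475316669944349677824) (.leaf 1655861371255807271388550326560328783283929796085431457109556142646870278911392258882844046255349311131364035790822388859271847410617503082722555808500750400284589844209590291409170858549542329224703816611697920)))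 (.node (.node (.leaf 596272817919566413544544986308035591302910994685074183172313461484776294412281014404270937151495933108554365978328945683133752483545928521698408531028856743953735600773170362340078846301810276389779539358814336) (.leaf 2480302252237868203026655758646008498751498431349668049844448484136068855079154504390906868488703071516691376773508600901443056531960722596939412972644957913931433699350632014727484129035965106379801531989426816)) (.leaf 1829264215624806012320894286898977438383812620835183740598843706565619036972643576037805814048938454694890298352886086740796865357441027153617871477273944089342088897250416648881802400605141643124543407289763968))) (.node (.node (.node (.leaf 658353168812730814787932667985540699715511172090802536471949790244482172817916167820952394508732247702207528739889207253727531361733669062784428244034306071930590075789267333398671640537830258208667419700233216) (.leaf 1613458466909820851203568421038035927492305858232521445914347697259194015055291898122925849300705144309233592310840494105864703449161224080497652209873820072509180791506177043078235738046614009431976821664127488)) (.leaf 3801735447744104900181966175639856736470966348775812689366630144934291013295413935354857074643278709151808680982784984653111314374046077509396629654189398507380755520319684545132470435289784380746981647198166912))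 (.node (.node (.leaf 1999058559205995100504784248840732307014103058892979672988057832073758511818080125213932659329713859326663465007947821515021287783471317963202449119854343277062379449397455187940681952479311278892613657612554624) (.leaf 2851824243222658196604785090837180252242690203779193552232479448259436500062872161906031336045017764642945751268540339299502347768102552309084036139457812906335257353959098897187113178020871377795843974828885248)) (.leaf 1999059475602725702120469064312084113813113057685857972390003771085295342196699740128113057754477423477808989249844571334068757617464464193350714121473693857943732164963853787830062896669829800453921500083804800))))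

def certHPerm48 : Janko.Tree (ℕ) :=
  (.node (.node (.node (.node (.leaf 2926864157573959047567297986284613622801842812287893587850718007072825595119705243672051812673151410393600188882768609671106124632114966851166748668016701468060324973690998275990661040558886564561833054014608640) (.leaf 631247363283088466239915290650681003589584934240037600401957350172990654433998918987142399265745540362015719569297469446238894285975977559897202025661815926137937223636470604003133535325407311632372263880441984)) (.node (.leaf 2901111201914576928475934345530763003274643568972491000841227687037907285273091951402365641940385997133803829293318889892228160082449616480432123078685768758196726368254732930594518103477062813497874278670472448) (.leaf 801091650725970290424929168120748243286750702063086141164033830542264160424207484559921090244108065683855683523686015172533000360639092796797467346015314874121580627217120005091680109826526786905950878436250112))) (.node (.node (.leaf 1648123477138099326166795269326924483233326889407639235925483790695954032002584531523614596939641326036245434336823027780683284217977378355305539012323248084431646406628049844072529908892743761508126783527758592) (.leaf 2762499261848939685586234391873394028201551213704869658877983720204792514037683818758222411382348064333125671150596123584070937976536627999832574256876713077545906454725003884894760882262233050982970400306293760))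 (.leaf 1654588280095262781935691735020153010869192871038141492440695363780141156333123252488638214065217792301989757600113672489216468194177064506261189376817215337249281659891868776893674342488621776007886803132522624))) (.node (.node (.node (.leaf 2518400993790755669107285975479191941922381936348562121372277291373453226017626619508322915860997318479391011529639691331410189457324936410166327829843055762759588466954894188898678238213529077094219455662692096) (.leaf 1811239700635374839268850845074682175764043028550265990284236374875305678982514597125722786176466191214131316779623235790459072890088019171819437755265528435247102073803014955716506660208882869345153917813253888)) (.leaf 3093497162586850592142989878921958740655253336723679599233124236692008509495129492581573632725167121936188006805004012424525350983311620851017204791002477707616401924720899437610147835618006078130858195618392832)) (.node (.node (.leaf 2641499380995789451600969553603875750823840518102200606250169085385626635556111576174102054152687346140916651037228006029096474371126670993172672136131264884546365208891693539155938246448455022229907371184390272) (.leaf 3043665211280187629411456049492234110178730070267132799124884729235994546558207005362371326770423403092940950208836884712388188252669601723269701291776219753554832444193112910673019300681584898902364628458582272))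 (.leaf 3801762821406034152447380661463849283662323898153000936956657524928154658934302541793626423789985646303152401350064228077937843261915444351900047362376821380192177272471736569978450473820403911555981583531611392))))

def certHPerm49 : Janko.Tree (ℕ) :=
  (.node (.node (.node (.node (.leaf 2374048678694714476348528243352160723527007005062971709691003164591004223468047537071489562696074726212096518683390618846713464645093487835035532929295136981697151890743085333880503259340032373358105196870271104) (.leaf 1257942637407416204449551907321706679183689690450411046314735610014707258619376872299924184906983540358070663645118519658204903421022893952504163053832497370847438783241076695578180162516127073766219610563036672)) (.node (.leaf 3468066457173203146535514393004788154051852942508330340307047151224559522102584310868540837028933819110800710289972217060663699270295362574938295752454470604825639773598875038414890570480003641450478247827707520) (.leaf 1778227296115436781519503866774203539375436713953720535518928374499931953850533545244776327956007570207782342255846049683775548054247832537617364188758316430134572385298946020929159762982523369911524753536467584))) (.node (.node (.leaf 1029351940588698405441577952081967453476755399423599470995928906152302904625906297438941922421020936716501066132706692368329756317697127347119790009355587860770416138074698374740110357787310202256714434886713472)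 (.leaf 143750914978119954193535030292794733000329952506644801045140211601637326498487286797051292406142843867175534507228100640884833174844845066722085463413197043582560797976239582734822257442283956710414244748543616)) (.leaf 3299366548054608851705528358259889371606644918533224676276709327030784526269719601006186385773251720371788256954056106982672085246490050383133926525440526153878478898313645219935154619366370458194780873406257664))) (.node (.node (.node (.leaf 949433496311563222499187358742799326769241123602407685893209470366491378839745304165740657360669273206499913395810155939151143670526444558975321516112330139100358639487012514538235709464160042899077950777530624) (.leaf 3835469164183404236413173954760270498379173101945546610592533789871270668822106872365585133833339432101991135272890485540629172740775266614362695236873477467191479661742441072759030972293318612884254251848697216)) (.leaf 2435403105027998579902662068086235718751407739781154757735710242497344182125478319987973267002864916080442087645273785501299593201359548314308730742862287736354197014902672781343828268098642981621853901812476928)) (.node (.node (.leaf 744036826664417201607442231649071133954754378544850943347965478441346302394317686043420301486517992821579296835807644847808818024299646461617907229966885556452679670700677678219940333674741224777955040853744512)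 (.leaf 2477086710044674524433097566335740824574353436668057252797349879323938472102123663692333036811997815152965253906101067436948738321435155515363250657959485172085061304153849662809210158555169319141134337084834816)) (.leaf 2794995739457232639257087103230175451477969975489422109825446670282642254962158250101218618245035597368914107525849082277548048291011081840812726014347942912566697164306613360967354725304768081489540949677118208))))

def certHPerm50 : Janko.Tree (ℕ) :=
  (.node (.node (.node (.node (.leaf 2479407309867582484265737993192390838048507102097730037819433942705480571786556919527469470728109348257424063583194060617040877847721124796221704787964378052377506542097161760093470483955661673154319318206586752) (.leaf 1614445213268105313325837149399060733622177379646022800208938556638499919878315928436270212798717538976227332209256403241476181388454184931761332867325888631190993500896717723733521334307178478245068548331563264)) (.node (.leaf 628423019905422059863331183136544074230850916628320837116848000838213091415055860622028927610522263154890620403804071005658386873747569938701224862219452285381635346693668446862564263333077873889443663267785472) (.leaf 3894519102023780003892013985805239829285470535613579385334821117335598643175148299399984611795246341952375370696476393574969729381821078402334437355757538333074311439831190244221734303170094678864978711787278592)))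 (.node (.node (.leaf 167967763366313604339303176256576143969364893425451123573051089229895147668257456483378224920458849056283822275074656852875407102937501246867724406921019919747373692182279634448889898542050213211395524005760512) (.leaf 866069591327831505303303340253300953871352661608793336148554801251902976824433980290859837666371550222703555720418732134811015068031883852432649913075935379541272758503326909341884635243030779848688440685008768)) (.leaf 637539444211745099663550114728902780982958790953914006010210882638979355263868453882219336027223651464682718209147757529839749345419177587424568673567943268952001092668647933236982495730031010991208717799866496))) (.node (.node (.node (.leaf 795738893658788328318322736243168079349806597370169900158287635001902695588614360572040311753999265753584382030170154593485532733964675955384386569749847547424568782603660401342660904300010343529355266787485952) (.leaf 2326388313736182633155855345360533991281224469150568843789272415130524414198439887910410298404300688299634989287863950713472732899341356692692680689026794608873535617597460425772198720851121681327625688361256576)) (.leaf 3685130145875769807624384947597651035545243689989622853064838991025378206115489763566913443197369078257974754287139332672480981125704105191328650613521635960177869652503756911711876879205720923563171135094299264))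 (.node (.node (.leaf 3046543375034578240845456481766606888705038207419278493398666486976947933752254986420984809607577165176505206134554276530161331075487773449278570531058239837136356829094227755662734228061809265139941858157284864) (.leaf 2100067086184084866214879546979474147835691030152447243970172849944710015413837104889376153402729989452304375407167506208592553768061118674807171220169221102991163761675571796857833734243373661866014673024163712)) (.leaf 1287479396118801214167807973412147203910306583246519125245449474247066708544143820841588933910016533007386953571542328418008896016742800509352839404945614578086787072849221640970899075238829669007859347025855744))))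

def certHPerm51 : Janko.Tree (ℕ) :=
  (.node (.node (.node (.node (.leaf 2518850739569769739890765379227217626231864040349092437975564636530658576177104539481519276484994120140819515526029520939445392805449729749480511186158636899283896526106796142469576024584831645867271900007057024) (.leaf 2852470338098975218654514728736899608094431543467938050823355242344985575319214601150338565698681116528472711705075092508415593362684890881682712796857000326614263238349779037062671693271258164942503892828664064)) (.node (.leaf 743111827172330085317678566222886127758776540134464246652894932324770490909338214464794166900143264899173199725660068552256756574977383072306859259165706038483721842753417132169919053459198082565718753206589696) (.leaf 3494851760662794559810639861272646830594475422438181819513803433673997599429687376286418708073349381227101788632911360643906307840498210476733240914734261697518178644939043704024948379805966471347475195246629632))) (.node (.node (.leaf 2714341000805729394197759376893118746244711022307410986554343979852587438830820789305547243973387605275401060615966271712352967142547849065532827836358242108350821490944375195796700290300380166796788151257782016) (.leaf 1261298011757147406141515321986423542414692813366413499153221904277988213574377821794489123388088516414117701750465934060044683978758201271140320654793317376956761849719360741135403668792780148909414985671203072))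 (.leaf 2769653450454355284702942581765567635671368330970861443836808145653631755948282059358805627605881935238597947605692703345716087399404010325823648359237188009506300387867116804769741891600738490038230838900659456))) (.node (.node (.node (.leaf 3998244947977241967664837787337842292572023724398094211396284279742731703671766417288183927222413689026015460004805343028583672834923527827995886680927769987836106432340952726663363365381667524882500065249300608) (.leaf 3709560170747612691033035034184451674010588457133047159470149661279550481591802494193129303979569605725898671978255928447835692873827441157476951190218870809905282444686839608621900479989654794178712490360916096)) (.leaf 3599730118570468129417005378478919076688859900734152758737323406360008288022730324285039889189040980024086093959942687607370635362513698568391737411577978832670604742336163829071728838268930677950055927193003776)) (.node (.node (.leaf 1123239170471578027698073996766573977919964928321699338498656178353389723739370901454297948758570752674884529155151844166474707422705439802654916405849890690949791181282895643663125846484613564006631548576269312) (.leaf 3580943639566147660952521998107152605170354653297740315473261097391435842046734926325041987635796115970652903519906009126175377701779125582170374634460355379180282178111582481515719329411509531948604866945732736))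 (.leaf 956920578779951774464532817393920947947266248685188932527313352804438115893156066625837476834133181300573249931209179066396020916728447411681869378451174119821093019040449835612644846651032428934946354773911296))))

def certHPerm52 : Janko.Tree (ℕ) :=
  (.node (.node (.node (.node (.leaf 2855813941771117870078712810175605053740085208315535504622954540894572341179866582399617892586207044928809317565862063326730773864310072198804466748396360945641821513904723041316331486651658647834251684067181696) (.leaf 3461193358917440830947937576652034596680557612129853213162866492323206115705054435154307483039113237169739750371690409513356666851878833956985039420477682817649372067236294413892886053023616292333106633149944064)) (.node (.leaf 3177995570487009251845627093914516088181059380321790929087275014754715251175097919828642715799797025462010338023128470698061314009998802356032695554765713018924908079475271877274901564975186435518161732128843264) (.leaf 962321187126843951149903114055436024436384337742197781243125673624917101890726402328961234910573427461203853212510350929763001332283789964742669510537851778425776860079202623826021701376891995721422604260141440))) (.node (.node (.leaf 2552130936580064948513457171371422200313038273457944367201487904470898214851100199238009094198588515335712931101976331078997703579102483788135560420850694435307219308474442015340890707880000055994560734571998208)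 (.leaf 919055574154934892639751313254237788411560847898043061774918596665766338337352842709887126783516197809980028759232846930670221431129356504747956997027803523314332042067440689210111314127590078160775962203101056)) (.leaf 2733307482474998943545344591688619638962223601309567587515074244829043610468845090788519810459098646934443180326886216224994738927104744256879910577198765365746369024242948453465909274281200461599065580141517312))) (.node (.node (.node (.leaf 1617520290851764339055079429751058494583719043297824784069471357821150971076066923382440795532522737083930971876598065631093499036313700197614304466439369438833829956874187098155539244044481427726171238039755008) (.leaf 138113496299240981952442681737817233113389984042060923002415998312436199980927067602377021739556853439977612644608431201000796679818491875325999099419606805389878220982318854384410093560723342510153719603783424)) (.leaf 931707595656525532771408037694784384052954779849770392774976565635981927122868943373648306320962401913547482045628136373224549686889322136082969339740940559028373477475442892092714758108222208715637549890874368)) (.node (.node (.leaf 625488236450934758138534853209291263151853275971973788789439922124996522062035404975049337172795621048886966046586228786910156351834274560109062707894584703987940823003521911493707117914646239525329773747333888)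 (.leaf 1696260982710212942642428016846904354794990644381785396297695143132155970579121481033941626746144227314066063140776567440274120565233841792682566389386254138576118909691736002234791860126980238998245265751694592)) (.leaf 596272079413378272716409695955974140927793441580119992569497744316122139546241292823821473908988080635791302404152902219715377962776152035359041461795012728700210913083519461265056783963049845373535397746644224))))

def certHPerm53 : Janko.Tree (ℕ) :=
  (.node (.node (.node (.node (.leaf 766458721742863685898779134249854974569721833155240165165448418622527492124410798133315391309273354473853947953745374333160492239634910793137685800682372137009237013106435450282417078398335973258714120358307584) (.leaf 3331397958946363283492614133754159823969196548661604446451200256949258436835397378781178135889013320048725649390082527052758102901705911581562480172745798422067323292920375850342159393571592251747920155288699136)) (.node (.leaf 1207811679681511672893017555190499082446275135471155143275080362154776873219661937834149720314588740361300671544466213191106034807280969011121716809742825101344032541019793180188580885676131343135147013213084544) (.leaf 1028986230688040434507937169266951914214314267514068368603196507693858422402938821384473566343194479958636788029357304398522714107792550811737659944062104551508618821192255203657011710785794070764773827045661312)))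 (.node (.node (.leaf 3302539515112764876286938967619577812740311155367106430589537645170194772119941209045792719849773949587159669517073494959849945851251773581637308260216483096683453162291316812368878451578983568389344165773945088) (.leaf 2124124678619026346388904153018347661598843464579753617750413117285956719155863886649276385776931265963502418482041013661697146177404129130193482240808784053802971580852179346538813132399627733400789840805711360)) (.leaf 2970573603164925283200907676194041207690526921795889629573486365505589914065367425041408902615031371226739839422408259012967536613759469725984854960158686715110267598227645299755948970667506189141353537481052288))) (.node (.node (.node (.leaf 3509350319411419994070943566066006988013143728152372695330075127756785852712884946756595526002194359421968916449225724911059877382911541587943681147904835175321245526920868749380831023692113851201043537718333824) (.leaf 1193416378994412713500829105824377678555820992649441700757431046699545213528747508053401071893787903794892301634500470834165988722489320638075089662214044839401176585093990361162611585883904777107317939157905664)) (.leaf 3591445038801681260128088318264204257474304340398207613953998902862242730115331050307261402887471070097619576908216896221312720569733591869434875191762685454920708784857298271218478773625814786592479138452046848))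 (.node (.node (.leaf 3110440755771059749944445497854031088377542682572575871265046741691465041801775742292266736327679967744806864267882912998897358568104286986642735538236930008822633495103490906942659204250540760008079563645145344) (.leaf 1292579652670922167713879058112593664374117273537487745589889240557006126603266418650834886335428182120000043431315464571187411953078185781968470735156022591505012189926808301962020110334250411774200002214255488)) (.leaf 1245123999952485174412957937776266551511276816675778571999691662100327601415139611986539003157411650575679368709704611592323140735900420572551710072182599259879584136043477380271953647550166865915714039425925248))))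

def certHPerm54 : Janko.Tree (ℕ) :=
  (.node (.node (.node (.node (.leaf 1646722603408779246102924691963142912525893836939785322843280336224360051809184036049325195445429249163201292408517332591492935151822114254994071322762929418812682521627871117213263588045264455773581394012083456) (.leaf 138415957853273953000642242596217580586061949306659522455962037410102794249173882195075685309009696624927477228425748946970009934233669981912283981926516378280413635314163526166157232506476530388236265163889152)) (.node (.leaf 657845962486765928464954079766911347606131448940139255973938570534377165562421002160075702602608645093336847410968460255368778314968914308613040679468895718369022410976741391453342521723191684004976129120326016) (.leaf 589928180785889592076091682625252393153909111922853241486453468739631896903428660938957855559513618259852038529101575355242963188526858624545194234853022790376093099624708487748289469182114190409602174740208512))) (.node (.node (.leaf 2363459144759422720225695780621945214613276637028288431046133736982005341815730807005919564080314799390635472355419818100132548956841124620869009198248992295149932429047342171723511007432223679576397299963199616) (.leaf 1120702314221015249469229199471158385697169103702559600123390643452012805503094633664898077680526916479117297447445180907597082241238669990007946773166775569724285731973112411997515315333845875091051950704450176))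 (.leaf 3468709414146155233657128355333276982006423781826301190300196928918961370851692139310830713460505102497432396853507888238966378209159008347349139333713588312934590466313819426573869410320665192021990287045084544))) (.node (.node (.node (.leaf 2031543169354583425172387511552478440012473197868914155277250281203540844946455737212909034102481851185210321848441729187978035808334821056010212893450085379855548667860052980387756536285310879074671569899003136) (.leaf 3947176297091301284903754024177812008204603158811316871964411014790509923001660495512874698215664003247973143079969070889337672772975606415772492112685656862699628222518739456393337410416529454906469887293434240)) (.leaf 956661638766572167800985876790103988777576639263529731187314294107109710921810538699914017288512555504455063256801519303569703565278747949733900995619323726018340210938472545241563365232833496953781219972180736)) (.node (.node (.leaf 3584379792559046676202515050772888291966664718097345059770858081219534178256329122364637791325653733405435026058918715507555139409308439170733876678052598656591580227704154565110429360819941746643927041537410048) (.leaf 2521241537489035621827523389570438745031069380465659186021245660188664269268205291563329265568106578609512208639654063965854492270514407095264482497995925096351543438868332214593521560437590910601206339392577408))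 (.leaf 3712065762949925888039243792436793034151632788629056519592618995909508245413004120198157104754779201905770733692021955319410467695473560240419047314072455728737642343516180323994670956337250105235932964866213504))))

def certHPerm55 : Janko.Tree (ℕ) :=
  (.node (.node (.node (.node (.leaf 2563009674072278091250354090914382163092212364265808493799133504453547919343661537933170810467518494921383091444654521756600476691908147638770970355502298583666587915962619712627892412637477575709505511101646080) (.leaf 2809123334204674924081816764476673881398780257110700888108669823320171306990410296757337181839670755213880462424183879433445469443241109236095400143305019746320623676111715592065800166196113453435415868142032640)) (.node (.leaf 2358640983870285774109921620495464093282378560463609956005840100978536464301256503381156595820759863235399980891249687964495250154926777151176166870965249374525644088779344008303377380165654958509214375260825088) (.leaf 2222160224998347349452171481324271190987482257690466399306847708583144505247681113605659409091338688949478326944480099734477353918946560856345896040118282407152223585959568487915779056810355122979227029445388672))) (.node (.node (.leaf 138105995658412872747894386629952097688477439399889647580460424997828338531811671907067397481640994402537307641084974793149188960236594269460751167510998230844137794661164364145423462271224679534627104935324672)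 (.leaf 3304784460592165360814841597337541180190004649209371548159684547489432927023167971977037936604552851185244149224438807773777523987687016953948384269818709872484640292556671880904029652436081749199498442421997824)) (.leaf 2844733549597583870342332203010257107183768953467308639454260973314094677163617087383606602796437068461153921168429869347335176281915022958362943438243682250349661026439268208447485865132286687908442195596875392))) (.node (.node (.node (.leaf 1207985367937300910368486120007981288495261469672367493585798451183362016780279956275606626056291518008011778746965429348178219743010491083448800861941792432656462094016544952929697044991277964982634105140895872) (.leaf 875340439690109724856675892789745627184933998688131450602006795562215186472644286683527832462127666285154569806586961023119515770694421176374527459932305866498092558372631153584339558550489290783002065199324032)) (.leaf 1197305579869343016734382235258795948922091287917731145923250947761985672644513902079734887229677646749800133092446345752109581474363747366989711773875755830487579623622043261587493141748499270484868301241763456)) (.node (.node (.leaf 2314850175631273438138771530150846940348292194167681576827506944754305873899800646267013211475201026877440812086928496125125683280737890231825631602985475973720046020040502731887100013856952682938183709795010688)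 (.leaf 2985372034906079962635622959344891981224413132151468319129033290654951662923268126444756381534481096294325072453070477247896605656435100162370496338614584233673277137484773746659849164353853712409792234309914752)) (.leaf 1973242668289498473023134039723893434406794435001550367734033819368960377801934822955497025301008200340121690228063417403935496944518330542096170913252225132115244907217357715723803950423685183932057199655347712))))

def certHPerm56 : Janko.Tree (ℕ) :=
  (.node (.node (.node (.node (.leaf 866042523899121239730659988196170396214349296437177021688018784088293222867747437406161638843820521447899372968912784137592437153785915384401218481310948095444033457299976278699352850557217286304366736297273088) (.leaf 3751284790758439484136725120103916676596362389460619494516665111582906679684702999068193040317690629721360258166096245339759254993256396412751632356701158293489390554730311957150933510133284979341965754884965120)) (.node (.leaf 2901235595447290665568662440272881353572350530212765964201231030297792360278777384865782396805340517267432544678864766478701688640395162080668675192277883887791845680608359531955816554127199717142876289216063232) (.leaf 1645470620602203122271972849754917308647057871030181648775063620615036435560432963570816744312174666546398450194768220493538409658786342114549419929517218585225469939509794818328191348253949684240331743884543488)))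 (.node (.node (.leaf 867348143513479720787587461004157814259492333674505562673810635639330153447960067186069240143622473447762740795970023999500811053585513288572172237249428661828686243618939363518108814486524806379263412333953792) (.leaf 167334241606496257288190896376217378163897618449875949733350831362831964670518210678739325429879297462007248048348241122199231525428964784278512995567375150036990137559135205690744833886341023067843682820703744)) (.leaf 661121749385746589838674651829867111897418623679648269569691001406102073558322383601849092237487599061995999487387694633231509505831992850990513607267246372967812056661106180404133819238293444445803677529168512))) (.node (.node (.node (.leaf 1048315264723185093318016022580745725127570003367006786089591589452453726838745684819054501610567460118395931879111913649108226509064028811770934939448064029370256585790307383774413678566961120333226031990161536) (.leaf 2960918686679732829570967072178887087913966567124853491903038639641721699632761869068732844388744350340905708350245900201862323211824146155617341898380107661438115635659672132400080312060946919984323411044795904)) (.leaf 2935563104173508651838332504215217484010809803869108162687042433803771642893824918793010580604330281688416504786453383755661384736452589010097736272988251758680786892637151312823958382400781340888880930873170560))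 (.node (.node (.leaf 3249272053659909539112839870489145785813755546955714422177237160575306467258716213282460807838303736133426063238628716179653820779486379310119704824995437233299971500431368433119509687030319344829304618490204544) (.leaf 2509427646776450473077310646413095167574895029000137782780782336884580309929269683369707935957910838311209073121346827100691024433769196161523122653052737833365061889059415159416979855693293947619905610967588096)) (.leaf 682634783556206764406674446815131789271714959490663967444187047216069341021973236958157190750355511527691100525785697073250611125713964798865258693722118346177948871287883434061102782707749425591856269383543168))))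

def certHPerm57 : Janko.Tree (ℕ) :=
  (.node (.node (.node (.node (.leaf 2656881920958836083528773853299076394007992026258729996869219876880928368711406207527739264314999992443267850139096494939385518449491345830482533692451536313118635653562540586311373554586192007759132976670613376) (.leaf 881675124154819438755316401687045206810970648117938471354869376010562460313795918219437903573530277298508509677147315627381748777880090663896042217023436980556717568322215097598768426116916846767048644844733824)) (.node (.leaf 1342838189191653939808391281756393066736919227422517667591615519267415363315896232677209815610062104647078835194999974995092887541263380983082643259647093502702676899173357125989776404789819301829730411823531520) (.leaf 2517707855304719879383796243681905590878355560794331201193001433105011333100833396122031029020472828142600880274106848488194954186107732809580491096328375626559187237393203168101780993437979045443013598639632640))) (.node (.node (.leaf 2822904628555139119524107367718260294439262643464387798324388670762013592434781855977194152797889149414481813122822003704784923759585448623607237685689077212489728042415573021331984373794787260900784556908515712) (.leaf 2445058893646397676294674919343467854584404040115481707019543089212433787797777857129634482765378866802632891419816213007566440420374940483761891601948578429466563250233251497320835038503437626090653651830968576))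 (.leaf 2811528696747226370336422373543122604994242963185602678921832963923391474472634042640034893214208509600738358550191809667952317412859888742644061057991428526329081562169897767158941428973489816672670311859329536))) (.node (.node (.node (.leaf 299617986716172599635554320700371401014571644206371698319507867757029351224221376009403556496068189492491001837468567162745749254605850870272137990158317209388568714878104246817073658409663000347638060894818688) (.leaf 1055030398560414215077547757745066112836725713335252990109451106540084045335069447890038205925610234040762890573670918513738375005438820219067656255270178664287129418568421752629729960738140969008929777000146688)) (.leaf 1770032775416373525184258122506402611888315085194980643770248406824569229768099117597532302068355608184457693283867818143786361174044080343226633714332714170212831794349677451750773451524679267854844947572975360)) (.node (.node (.leaf 1620423790594737356653131610677912873397812051732841467855930300631848115607337085455025279588786327178943039193652327819907838795272756958476571437940673033368124185117020114882702675552561741135537516330178816) (.leaf 1810968870097455171216354228842566269315750449563758056585372385410046705654237669543670374914876457032777966365156818070130449611056572378047514109072421690286548091394417746211758799063092885625699754938000896))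 (.leaf 3031546478998078096054042413309964646229670830530004353744616365808368278408711967824074234861248630578761081433907607146082356760494457401391077849323961736845174209175284415477990732735588262547181661663219200))))

def certHPerm58 : Janko.Tree (ℕ) :=
  (.node (.node (.node (.node (.leaf 319206411390519374102837369975106194744629603977542098052776330692670255724213445255753517518396267973933558898830492316813842519419207970938601197300982331634243202448889438428165901528159421119182270766819712) (.leaf 1316761090420981300822812952024590307284372370722464750369932253147862477201690798481778637240879245787936754964677424391226200388060934901431988262319076053467976971723310304932638322319035668460517129027868544)) (.node (.leaf 2860621183661664257444286087593553853824530709135755356942637810625461276894232368819722268932911763876903167990010688933990991595767425315686073274230492371476708978139663662431585401429881849401895688568951296) (.leaf 4073922595441929984076198398718538398252125824253257751800722845231809605734361303656866437465626820769846617198797943876130684548828331683683697775122311509254108514674637599935192108422183589068210788004545280))) (.node (.node (.leaf 1241991012793406335576517664006916604386356060233118086255770706197491689487269691405301242263661068669580973358477573637419268693212868440287846178540955183159327939112211801100159712308687890336233746293985536)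 (.leaf 3717324078088647883312510812296929126372701980793414907730256326073005572477607201523769498153354434313719331202552480549607725207955288206568394082321051390151557204654267477271051029733850644238705418725164032)) (.leaf 3963971742745336185919131056671693534928904460699529764870033580862135211548375434308833013781353053838304787649519957320057405394749380871042656275300884435627321992104574610138138051336926289444421159310919040))) (.node (.node (.node (.leaf 1771332677094318999940837304111409802712906877999163763977328507161415640398926847253407892123027991992528085380725051865351058890766018891717761329698262140510899153108269509783025806206973811227721460586060032) (.leaf 3353316865675236598569723354631497110631016789443909634451643405095983347134395992726823031334544521342250611953796379417756114041350393775302183108426791738960212322812396935341534443997300344813296117331694080)) (.leaf 1644495990536291787287694353283437971912372304170495497918069592625500999503241413285149540331660696620855451554343618959607496075722706828857836765281945725127239223962388637999905968819250970214832735561205248)) (.node (.node (.leaf 2353877756915263181070988320822720612344433332422809089245939704389014638385068247971896745395923006573425005952855169764491238412502530345178494569687964570551355060972646959820433865615854027442548354632231168)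 (.leaf 3093826081694990026249089495778213982362716085953684471812776783575022120491926474134530144425773616978236807682792227525871543924664217701119345884699218305784384323511254081612046442054319212104635172141388544)) (.leaf 1046030898851789652073277693199578624360956085424454586501370443667806963030090503542499634500834481881139248758912882304928211041502535899367271777686372526033943972283781848153010242892446155374230845585376768))))

def certHPerm59 : Janko.Tree (ℕ) :=
  (.node (.node (.node (.node (.leaf 1288433498918427112508587870241132502255055782960545634645681593542618341468343345045833587943239138273557253148943291479639561545117408227725422680934300422215166292175887567424969708928135996818998989553964928) (.leaf 3357119053103023383757388561927468221420055926813508829177724718723104377360911072722960423273325391970585914646141525462653687013844190591834052422487759870210651295515811719010839329895370545847395180515266688)) (.node (.leaf 2640786402992857293602912791033799511692973285540711452516998089468706045830723648316318093796202596934684992359038553970252346288117094415807578408417334197328077051801613412860768436636966221458503459469810944) (.leaf 140467683207756308666534982219218457395040721346787800592609139833088556954787305223400128811146723021558223865460969244988592050940873371269290769371823008446802341772719450402598743576643626846172400472068736)))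 (.node (.node (.leaf 1120958779006695292514550679014479331709961744637058336301050642282688360539402020205558043411687935489360122528423738896119906195778786308286536103839412554741301717312697001982479915066311025977533637479143296) (.leaf 3962328849870292983695048891578760421618434032948610559390947016322946293028781664900682639470120179280795291953561499629175876899670349987507816165545641455396363033423834091885480408418176370792487398240512768)) (.leaf 165077877809017075891745183560544637003984898751602488992459463555712909435429779964562395757586811331529204232654413224683213982700557330574922230295486861717058313815621229337020790952528834837287300871252352))) (.node (.node (.node (.leaf 3887320371003455073757597718010728319280536379640116837750747597640564689718652270966394453575742752934655921374525293499249373813279292772531502790331319848810247499786974092669994480081450249270718098686126336) (.leaf 2436930948699155967967236640674721751050287736281613164631129956053300804791652205017972748543752409699247145131316377017653480317395630214029160524363187560467213014574135503543587700206188076307124806411342336)) (.leaf 2725803191148728266769506023055904163835066471369583657982543987492450406389225446512128558171060074324539938502357857859245326824240549981255594533075636453018045977884838703715930636395357478131756495900389632))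 (.node (.node (.leaf 3930375503985021239775078234749372569426223649858152544836932186198017520384239446252882509650819321576996204228159122186320374036034874670918413528669901487568698498404325070285055893358308907380876805098636288) (.leaf 663132347007940251143685832207409189124905435996157915335210214031486484544964798741957106710952459066719362215396589805408764426059301981206385337245831860191845427155907647342189655753071997476333179205996800)) (.leaf 989078334631428399200833827084641720122980538459589516543483644120377947678579163547828902519980189002852380406556181593319932598293466108179639333467443103096596501983074070685380469045959638003403335190615680))))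

def certHPerm60 : Janko.Tree (ℕ) :=
  (.node (.node (.node (.node (.leaf 2328066582616449842783836086704823778393368254101621485822611398517823222247446529802771414001362163662822970108193059755568578567837440615803065287344575307902630314079792345928736323180182486356256214584197248) (.leaf 2903533657964079798042436489843296302296932482440396133559324812129066956913840171727238384943036116737947086283273789924700256511013461253084894758968183046590866425918615126182977832652100408144716540659450624)) (.node (.leaf 3950568134985471556727129570856679439489749938610553125999085505859408602628486324626877688365834709830464971876071703611533852557654743312655806602332929795621182293682461163583678857190914275590715012104759040) (.leaf 1606700079946832918510192474180322766777334947394149182323911579082304218597589527659572132793944782063877513358138089549324876137270861071854428057633332497485162877962267169636179473544013336058520229349393536))) (.node (.node (.leaf 2633314982343152692940805406855790209213508768906501495993271271102812318006094371165795788195152979927363125149609086165959097707686731638427091436033338113047713695838228644251062827057733214771818928005077888) (.leaf 4003064954479205561196970581612002167469703852579643268734557469430386857024682160999006648577291086731060762142874979116921146012953977773471105411620765306596994213560725225804059128008102621319877844799096064))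 (.leaf 3498558358456921121438470405693835253461648331633139716161685337503471548675489545374070190974136416732157690428644811237732254866884512752969686434659201534101650017514336996427778246144984948148351635831723264))) (.node (.node (.node (.leaf 1660636663852309115405268530055338872666930703853996683687647005841162057198071740186838755274619716421200756387062594018279554015423007036976481740717950305068355788254022550569804633253847189841800441614194304) (.leaf 2222161616740695305376807115996221255993678235682310745198918402076031137575226858633328563143575812420720287702316088851171164713071326359888524305911777245982104397101392582028323539371307846932003520903348992)) (.leaf 306395416305271114465632432626857862718843871336591919872079513759627664900560418689827826487655115585106590087739808264616565893803367120577277975567837814643504699442933891929816948000546940603350068628661760)) (.node (.node (.leaf 123968054845238070960299500493965013912258331297397893816566434189290583478517353121251171473741722376102365429575782055592003419352357349539075226443908489862945074950843526209144610660056927369491227605982464) (.leaf 2435350843305912733759034878174696112186463905543531860105964658606842855995025110364764815080545931090247478052180864733356146176977219853101102555434559704780237006826160942506913857543345160249732316275741952))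 (.leaf 3723776808038002798549703847058421977692472382217827902890311326022824581914639277468765742768611267747076719621271109568708433975489646709378386928583490459762959558731770792129701334083698323142995795563975040))))

def certHPerm61 : Janko.Tree (ℕ) :=
  (.node (.node (.node (.node (.leaf 906121629525605794476757340952553541136724781197505275636078968940078050811984573044519770167599214834455027141629784778162227977737768977086431788377981322145614316038233562155964542160211809275021118636001408) (.leaf 1646723343140851057942166260234139524722102790501108289883966958740523406768935019434976638870349351872410446139097049386954331426460208344646616187738354816090623651468963110985539968272873850314277253397549824)) (.node (.leaf 842367750880304209666494291360415953585105356551904406241175798887597758321651196220709677182229370153108358534792246590794191243673327642435230796700135526163537587368729046606761356021873061061077846504669440) (.leaf 600445828791994863793170812308141826844939232329662161730769694274489525931561624406908752765527873135154924658363059147232681951545259482662517110080731334714244201581046333033714609732718184998405168498416512))) (.node (.node (.leaf 3590519877187283367648396757712288481927632359509333983928141432708887575046803779027792543445271302909917855048940889322469291277899323071496198902992251639334623739848536579391949157715225033516736564648160256)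 (.leaf 2310475830453334214080290025475747513791726357763916213813719886170447578326533178682374637779266739210194172186907553802950386659252932527660999335895491755308426001267460407041544990557610116266457754084345344)) (.leaf 1705816534147724871262409648118195984194715792262645351802327171718801977120334728079745916259075037010290106901186441322104260111405011678316931617861445450027798832899671294295436979991177512017647050097731840))) (.node (.node (.node (.leaf 2426595840496906791317780434944707834919774400546394962551603781784281553936803071170701620043855617152229182808700842198254645947150491130884647023042828157612956160371952315096570856632614552452525759551203584) (.leaf 956920562092524435324811616335741086669321683506917578356038854807865074631082891810179492645116248278347588028814838708622011687611629866463687138350146418606799191535301423212927729797455946119312344256483584)) (.leaf 2640991431210236560827652408908415962884165142052486729779653854501770800764906796559212796310225442749789762619948726955246658744531932549736463626353730648903132537519742140992629527246986828147972134767979264)) (.node (.node (.leaf 3026265717472958027611654862717181525857759770050475874538613885614837874667671372832929567681061935375465587752769723965154089657349017912644206447973255922666448530371598081983749113601081289873100624423608448)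 (.leaf 1617659761943520122773633735434204199885888993614584132918421504003739148262579465263712839351523993356698858023427238771413100045462891794249097905907898282018795492582158995509741034442366220793647754039612032)) (.leaf 3011216875184274280182724901549027900480570762922765325913255692852227732373614543470309102839237171715227245037185239370332378315856376856420578532244937772065715033788347155450875395797534044578212965804015744))))

def certHPerm62 : Janko.Tree (ℕ) :=
  (.node (.node (.node (.node (.leaf 3026642541258086788787756111407662436884951057847897557791434569362652320006232928679522796550296517006646461154564303365918621225591853057673551704700309703495094371911801864300029145329335819933396181380798336) (.leaf 3274987942671436231603534712197180974767929944274525865502622891828368732536285421290057861530356038910522186962740485726866693322336867131672764648595159686495679378755698145526380844665553645138816754480518784)) (.node (.leaf 299786739927031712131641850807509382923447593265015566283222503102462892043289678104707501809736329927546807769866690979591686988425979903458632329918393751171291207350001913335799117122224785620894053600762496) (.leaf 2033917348924580046681539159408211555799423075954025399783663404804944700681575047591679692353083368091648444165658860926387767105379021316024795993318475053451018388099452392259181061772065119378672295066609408)))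 (.node (.node (.leaf 1121815536457631927723940783669282047621096184335836131193142306215116674293262220838326431745864643324057746138349256761932381381734380194445188012386816430038494505489544804211086602157070659868758578314465792) (.leaf 3468710522978186754573728823040625530795618948101286247857683737337416601727930953640885927641157181534516273269373254940761985110367881351084521669426230315240982176718754830907230054462612137404955097079563008)) (.leaf 1003070861630824256560528135115182713171797061911584968434096944247744067407678955625180676970511267034377848938783579018443241680287694508587230262997103668065515804606178102847994596499513305088831664846644736))) (.node (.node (.node (.leaf 178894640993907564786170493390600945947400125644242818389200691940785947427285233407112576142770982910089195875539647346608230692034180865884268181949237765563938188123882301287603004050820493094055192212320512) (.leaf 1212156892068656529665984657158297794622404639724087624872453097886475232924143207547308028481796317327420252650033413707710525697993193225925397282091435306415372230468750067346892534609428071449204904956281088)) (.leaf 2230505809663234378095864002471204733100823763509711664195001328496274139984858623061255092173686064422658210266830078909105804266647101449423714101121847404856964555152622844402465427886800695950279321261396608))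 (.node (.node (.leaf 1253856077887390382492794304636417507514653127602591029730358640871480610397132926346581539316390874301001083319834782025929097194756322568212530896097833445488502167731775194103366378648143285694369223855548672) (.leaf 4017782144995838868887582927019696141776326699926429937940653751352546120753639811988936051306331515420277552148007932092345994642191313217271965769248791109995743322877531420837781612587499852362638969084384512)) (.leaf 750367943460931428069850892717595933783706952320392160782106379126951180451621624361913220368578362185667291254168036101556105722305429384473118611927506996286750306145378867258410384375556629518006901452149248))))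

def certHPerm63 : Janko.Tree (ℕ) :=
  (.node (.node (.node (.node (.leaf 1206247911214714848624948375942881526452919222904900612553978779778319820327426079546005329499704160586635231354863108042654252988236617674103408198005475439831564181887140492879757794195390414051210224508645632) (.leaf 1006745205687181139813981358818710488379428744873324235021708817099003622883015219050569644827619585085530381195989109166088537691420379581780950131122960155006769463068190892677058006880758443668228436878509696)) (.node (.leaf 883226671542500190471137593435443946324592771025677264542535600865257194767234675341104994530189070486907535513852801917356740018573699517488214053496683963067739332314174477487521265739286708742614631760217088) (.leaf 2373944478829625300073803374214642389673280998616880671056716827969124929962189393471893019029943443208662103099933340111705938096157144339661834853151366956083434920384998519688734540625777730578893880870356608))) (.node (.node (.leaf 2549823057037657417870577048748187657310711297057054074419093206926746642498449847418602121580091723655186831765333206963253919572440594882930536521815477374783110592704712671372357342791118708876250827416693504) (.leaf 3332051912351834360225238463829330182931003701008339010961561393974857668670917294918931127340456442856287042917994759710180639267357026343700047347847645572406213589975520122704973038134229965386533090960285568))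 (.leaf 3191029447863764686531464033302795932446049439472446335285122799773582375496784252103559726480994100953979557119549186552241324238375301451397387435727361791654764380359622965361439487815007453457330290916302720))) (.node (.node (.node (.leaf 1619867705038108135714665256582062700171034922953090364139447352983385445798447562294005212496392411056051392967834138600680776201103070665011761061164157857808026294157219478205772567149922755571983098524635904) (.leaf 3989864620492491313647077963376681844731685305099388422485991655957484844296328087603427727556372977921771455571678748732462415895286063289572146341135572383505190863272163399682577507304822763189975143199311104)) (.leaf 2439794972464142153152544850318103593450337340007603090166642241149361186827948387275596215375617262058068177263256275364024973633919582242430008433319100235433264034964526439393352545136386225064957327966841600)) (.node (.node (.leaf 4089493916015736239265796565849680539433108673177902227823971352434716109532760274601981066372845220293516306994083938023488812149126536191643976867484637598201236616605703527957508999157761085501384337256157824) (.leaf 1038166553429852913897033333966146348564460299084646324589351837163954103140719236260414190765326010979529926003556292511508177089464640170380702663278491890892243366025354256706951818530098084875696377265760512))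 (.leaf 2888424564922878814372930202792039483174627259810199627310604590758271766889181338105574524699821961104953575591986400850163861645081890992483520631482396599729698103965763274191533502039116288732316344365836544))))

def certHPerm : Janko.Tree (ℕ) :=
  (.node (.node (.node (.node (.node (.node certHPerm0 certHPerm32) (.node certHPerm16 certHPerm48)) (.node (.node certHPerm8 certHPerm40) (.node certHPerm24 certHPerm56))) (.node (.node (.node certHPerm4 certHPerm36) (.node certHPerm20 certHPerm52)) (.node (.node certHPerm12 certHPerm44) (.node certHPerm28 certHPerm60)))) (.node (.node (.node (.node certHPerm2 certHPerm34) (.node certHPerm18 certHPerm50)) (.node (.node certHPerm10 certHPerm42) (.node certHPerm26 certHPerm58))) (.node (.node (.node certHPerm6 certHPerm38) (.node certHPerm22 certHPerm54)) (.node (.node certHPerm14 certHPerm46) (.node certHPerm30 certHPerm62))))) (.node (.node (.node (.node (.node certHPerm1 certHPerm33) (.node certHPerm17 certHPerm49)) (.node (.node certHPerm9 certHPerm41) (.node certHPerm25 certHPerm57))) (.node (.node (.node certHPerm5 certHPerm37) (.node certHPerm21 certHPerm53)) (.node (.node certHPerm13 certHPerm45) (.node certHPerm29 certHPerm61)))) (.node (.node (.node (.node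 certHPerm3 certHPerm35) (.node certHPerm19 certHPerm51)) (.node (.node certHPerm11 certHPerm43) (.node certHPerm27 certHPerm59))) (.node (.node (.node certHPerm7 certHPerm39) (.node certHPerm23 certHPerm55)) (.node (.node certHPerm15 certHPerm47) (.node certHPerm31 certHPerm63))))))

def certHPar0 : Janko.Tree (ℕ × Bool) :=
  (.node (.node (.node (.node (.leaf (0, false)) (.leaf (332, false))) (.node (.leaf (148, false)) (.leaf (609, false)))) (.node (.node (.leaf (71, true)) (.leaf (447, true))) (.leaf (235, true)))) (.node (.node (.node (.leaf (34, true)) (.leaf (384, false))) (.node (.leaf (187, false)) (.leaf (727, true)))) (.node (.node (.leaf (107, false)) (.leaf (531, false))) (.leaf (280, true)))))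

def certHPar1 : Janko.Tree (ℕ × Bool) :=
  (.node (.node (.node (.node (.leaf (0, true)) (.leaf (332, true))) (.node (.leaf (148, true)) (.leaf (610, true)))) (.node (.node (.leaf (72, false)) (.leaf (448, true))) (.leaf (237, false)))) (.node (.node (.node (.leaf (35, false)) (.leaf (385, false))) (.node (.leaf (188, false)) (.leaf (732, true)))) (.node (.node (.leaf (107, true)) (.leaf (532, true))) (.leaf (281, true)))))

def certHPar2 : Janko.Tree (ℕ × Bool) :=
  (.node (.node (.node (.node (.leaf (1, false)) (.leaf (333, false))) (.node (.leaf (149, false)) (.leaf (613, true)))) (.node (.node (.leaf (72, true)) (.leaf (449, true))) (.leaf (238, true)))) (.node (.node (.node (.leaf (35, true)) (.leaf (385, true))) (.node (.leaf (188, true)) (.leaf (733, false)))) (.node (.node (.leaf (108, false)) (.leaf (533, false))) (.leaf (282, false)))))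

def certHPar3 : Janko.Tree (ℕ × Bool) :=
  (.node (.node (.node (.node (.leaf (1, true)) (.leaf (333, true))) (.node (.leaf (149, true)) (.leaf (614, false)))) (.node (.node (.leaf (73, false)) (.leaf (450, false))) (.leaf (239, true)))) (.node (.node (.node (.leaf (36, false)) (.leaf (386, true))) (.node (.leaf (189, false)) (.leaf (733, true)))) (.node (.node (.leaf (109, true)) (.leaf (535, true))) (.leaf (283, false)))))

def certHPar4 : Janko.Tree (ℕ × Bool) :=
  (.node (.node (.node (.node (.leaf (2, false)) (.leaf (334, false))) (.node (.leaf (150, false)) (.leaf (614, true)))) (.node (.node (.leaf (73, true)) (.leaf (450, true))) (.leaf (240, false)))) (.node (.node (.node (.leaf (36, true)) (.leaf (387, false))) (.node (.leaf (190, false)) (.leaf (739, false)))) (.node (.node (.leaf (110, false)) (.leaf (536, false))) (.leaf (283, true)))))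

def certHPar5 : Janko.Tree (ℕ × Bool) :=
  (.node (.node (.node (.node (.leaf (2, true)) (.leaf (335, false))) (.node (.leaf (151, true)) (.leaf (615, true)))) (.node (.node (.leaf (74, true)) (.leaf (451, true))) (.leaf (240, true)))) (.node (.node (.node (.leaf (37, false)) (.leaf (387, true))) (.node (.leaf (190, true)) (.leaf (757, false)))) (.node (.node (.leaf (110, true)) (.leaf (537, true))) (.leaf (284, false)))))

def certHPar6 : Janko.Tree (ℕ × Bool) :=
  (.node (.node (.node (.node (.leaf (3, false)) (.leaf (336, true))) (.node (.leaf (152, false)) (.leaf (618, false)))) (.node (.node (.leaf (75, false)) (.leaf (455, false))) (.leaf (241, false)))) (.node (.node (.node (.leaf (37, true)) (.leaf (388, true))) (.node (.leaf (191, false)) (.leaf (761, false)))) (.node (.node (.leaf (111, false)) (.leaf (538, false))) (.leaf (284, true)))))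

def certHPar7 : Janko.Tree (ℕ × Bool) :=
  (.node (.node (.node (.node (.leaf (3, true)) (.leaf (337, false))) (.node (.leaf (152, true)) (.leaf (620, true)))) (.node (.node (.leaf (75, true)) (.leaf (456, false))) (.leaf (241, true)))) (.node (.node (.node (.leaf (38, false)) (.leaf (389, false))) (.node (.leaf (191, true)) (.leaf (769, false)))) (.node (.node (.leaf (112, false)) (.leaf (538, true))) (.leaf (285, false)))))

def certHPar8 : Janko.Tree (ℕ × Bool) :=
  (.node (.node (.node (.node (.leaf (4, false)) (.leaf (337, true))) (.node (.leaf (153, true)) (.leaf (623, false)))) (.node (.node (.leaf (76, false)) (.leaf (458, false))) (.leaf (242, false)))) (.node (.node (.node (.leaf (38, true)) (.leaf (391, false))) (.node (.leaf (192, false)) (.leaf (772, true)))) (.node (.node (.leaf (112, true)) (.leaf (539, true))) (.leaf (285, true)))))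

def certHPar9 : Janko.Tree (ℕ × Bool) :=
  (.node (.node (.node (.node (.leaf (4, true)) (.leaf (338, false))) (.node (.leaf (154, false)) (.leaf (624, true)))) (.node (.node (.leaf (76, true)) (.leaf (459, false))) (.leaf (242, true)))) (.node (.node (.node (.leaf (39, false)) (.leaf (392, false))) (.node (.leaf (193, false)) (.leaf (774, false)))) (.node (.node (.leaf (114, false)) (.leaf (540, true))) (.leaf (286, false)))))

def certHPar10 : Janko.Tree (ℕ × Bool) :=
  (.node (.node (.node (.node (.leaf (5, false)) (.leaf (338, true))) (.node (.leaf (155, false)) (.leaf (625, true)))) (.node (.node (.leaf (77, false)) (.leaf (459, true))) (.leaf (243, false)))) (.node (.node (.node (.leaf (39, true)) (.leaf (392, true))) (.node (.leaf (193, true)) (.leaf (777, false)))) (.node (.node (.leaf (114, true)) (.leaf (544, true))) (.leaf (286, true)))))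

def certHPar11 : Janko.Tree (ℕ × Bool) :=
  (.node (.node (.node (.node (.leaf (5, true)) (.leaf (339, false))) (.node (.leaf (155, true)) (.leaf (630, false)))) (.node (.node (.leaf (77, true)) (.leaf (461, false))) (.leaf (243, true)))) (.node (.node (.node (.leaf (40, false)) (.leaf (394, false))) (.node (.leaf (195, false)) (.leaf (777, true)))) (.node (.node (.leaf (115, false)) (.leaf (545, true))) (.leaf (287, false)))))

def certHPar12 : Janko.Tree (ℕ × Bool) :=
  (.node (.node (.node (.node (.leaf (6, false)) (.leaf (339, true))) (.node (.leaf (156, false)) (.leaf (631, true)))) (.node (.node (.leaf (78, false)) (.leaf (461, true))) (.leaf (245, true)))) (.node (.node (.node (.leaf (40, true)) (.leaf (394, true))) (.node (.leaf (195, true)) (.leaf (779, true)))) (.node (.node (.leaf (115, true)) (.leaf (546, false))) (.leaf (287, true)))))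

def certHPar13 : Janko.Tree (ℕ × Bool) :=
  (.node (.node (.node (.node (.leaf (6, true)) (.leaf (340, true))) (.node (.leaf (156, true)) (.leaf (632, false)))) (.node (.node (.leaf (78, true)) (.leaf (462, false))) (.leaf (247, false)))) (.node (.node (.node (.leaf (41, false)) (.leaf (395, true))) (.node (.leaf (196, false)) (.leaf (780, true)))) (.node (.node (.leaf (116, false)) (.leaf (546, true))) (.leaf (288, false)))))

def certHPar14 : Janko.Tree (ℕ × Bool) :=
  (.node (.node (.node (.node (.leaf (7, false)) (.leaf (342, false))) (.node (.leaf (157, false)) (.leaf (632, true)))) (.node (.node (.leaf (79, false)) (.leaf (462, true))) (.leaf (248, false)))) (.node (.node (.node (.leaf (41, true)) (.leaf (396, false))) (.node (.leaf (196, true)) (.leaf (781, false)))) (.node (.node (.leaf (116, true)) (.leaf (549, false))) (.leaf (289, false)))))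

def certHPar15 : Janko.Tree (ℕ × Bool) :=
  (.node (.node (.node (.node (.leaf (7, true)) (.leaf (342, true))) (.node (.leaf (158, false)) (.leaf (633, true)))) (.node (.node (.leaf (79, true)) (.leaf (463, true))) (.leaf (248, true)))) (.node (.node (.node (.leaf (42, false)) (.leaf (396, true))) (.node (.leaf (197, true)) (.leaf (782, true)))) (.node (.node (.leaf (117, false)) (.leaf (549, true))) (.leaf (290, false)))))

def certHPar16 : Janko.Tree (ℕ × Bool) :=
  (.node (.node (.node (.node (.leaf (8, false)) (.leaf (343, false))) (.node (.leaf (158, true)) (.leaf (634, true)))) (.node (.node (.leaf (80, false)) (.leaf (464, false))) (.leaf (249, false)))) (.node (.node (.node (.leaf (42, true)) (.leaf (397, false))) (.node (.leaf (198, false)) (.leaf (794, false)))) (.node (.node (.leaf (117, true)) (.leaf (551, false))) (.leaf (291, false)))))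

def certHPar17 : Janko.Tree (ℕ × Bool) :=
  (.node (.node (.node (.node (.leaf (8, true)) (.leaf (343, true))) (.node (.leaf (159, false)) (.leaf (635, false)))) (.node (.node (.leaf (81, true)) (.leaf (465, true))) (.leaf (249, true)))) (.node (.node (.node (.leaf (43, false)) (.leaf (398, false))) (.node (.leaf (199, true)) (.leaf (798, true)))) (.node (.node (.leaf (118, false)) (.leaf (552, false))) (.leaf (291, true)))))

def certHPar18 : Janko.Tree (ℕ × Bool) :=
  (.node (.node (.node (.node (.leaf (9, false)) (.leaf (344, true))) (.node (.leaf (159, true)) (.leaf (636, false)))) (.node (.node (.leaf (82, false)) (.leaf (466, false))) (.leaf (250, false)))) (.node (.node (.node (.leaf (43, true)) (.leaf (398, true))) (.node (.leaf (200, true)) (.leaf (801, false)))) (.node (.node (.leaf (118, true)) (.leaf (553, true))) (.leaf (292, true)))))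

def certHPar19 : Janko.Tree (ℕ × Bool) :=
  (.node (.node (.node (.node (.leaf (9, true)) (.leaf (345, false))) (.node (.leaf (160, false)) (.leaf (636, true)))) (.node (.node (.leaf (82, true)) (.leaf (466, true))) (.leaf (251, false)))) (.node (.node (.node (.leaf (44, false)) (.leaf (399, false))) (.node (.leaf (201, false)) (.leaf (814, true)))) (.node (.node (.leaf (119, false)) (.leaf (555, false))) (.leaf (293, false)))))

def certHPar20 : Janko.Tree (ℕ × Bool) :=
  (.node (.node (.node (.node (.leaf (10, false)) (.leaf (345, true))) (.node (.leaf (160, true)) (.leaf (638, false)))) (.node (.node (.leaf (83, false)) (.leaf (467, false))) (.leaf (251, true)))) (.node (.node (.node (.leaf (44, true)) (.leaf (400, false))) (.node (.leaf (202, true)) (.leaf (815, true)))) (.node (.node (.leaf (119, true)) (.leaf (556, false))) (.leaf (294, false)))))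

def certHPar21 : Janko.Tree (ℕ × Bool) :=
  (.node (.node (.node (.node (.leaf (11, false)) (.leaf (347, false))) (.node (.leaf (161, true)) (.leaf (638, true)))) (.node (.node (.leaf (83, true)) (.leaf (470, true))) (.leaf (252, false)))) (.node (.node (.node (.leaf (45, false)) (.leaf (401, false))) (.node (.leaf (203, false)) (.leaf (821, false)))) (.node (.node (.leaf (120, true)) (.leaf (557, true))) (.leaf (294, true)))))

def certHPar22 : Janko.Tree (ℕ × Bool) :=
  (.node (.node (.node (.node (.leaf (11, true)) (.leaf (348, false))) (.node (.leaf (162, false)) (.leaf (644, false)))) (.node (.node (.leaf (84, false)) (.leaf (473, false))) (.leaf (252, true)))) (.node (.node (.node (.leaf (45, true)) (.leaf (401, true))) (.node (.leaf (203, true)) (.leaf (821, true)))) (.node (.node (.leaf (121, false)) (.leaf (558, false))) (.leaf (296, false)))))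

def certHPar23 : Janko.Tree (ℕ × Bool) :=
  (.node (.node (.node (.node (.leaf (12, false)) (.leaf (348, true))) (.node (.leaf (162, true)) (.leaf (652, false)))) (.node (.node (.leaf (84, true)) (.leaf (474, false))) (.leaf (254, false)))) (.node (.node (.node (.leaf (46, true)) (.leaf (402, false))) (.node (.leaf (204, false)) (.leaf (823, false)))) (.node (.node (.leaf (121, true)) (.leaf (559, false))) (.leaf (297, false)))))

def certHPar24 : Janko.Tree (ℕ × Bool) :=
  (.node (.node (.node (.node (.leaf (12, true)) (.leaf (350, false))) (.node (.leaf (163, false)) (.leaf (655, false)))) (.node (.node (.leaf (85, false)) (.leaf (474, true))) (.leaf (254, true)))) (.node (.node (.node (.leaf (47, false)) (.leaf (402, true))) (.node (.leaf (204, true)) (.leaf (825, false)))) (.node (.node (.leaf (122, false)) (.leaf (559, true))) (.leaf (297, true)))))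

def certHPar25 : Janko.Tree (ℕ × Bool) :=
  (.node (.node (.node (.node (.leaf (13, false)) (.leaf (350, true))) (.node (.leaf (163, true)) (.leaf (655, true)))) (.node (.node (.leaf (85, true)) (.leaf (475, false))) (.leaf (255, false)))) (.node (.node (.node (.leaf (47, true)) (.leaf (403, false))) (.node (.leaf (205, false)) (.leaf (825, true)))) (.node (.node (.leaf (123, false)) (.leaf (560, true))) (.leaf (298, false)))))

def certHPar26 : Janko.Tree (ℕ × Bool) :=
  (.node (.node (.node (.node (.leaf (13, true)) (.leaf (351, true))) (.node (.leaf (164, false)) (.leaf (658, false)))) (.node (.node (.leaf (86, false)) (.leaf (475, true))) (.leaf (255, true)))) (.node (.node (.node (.leaf (49, false)) (.leaf (405, true))) (.node (.leaf (205, true)) (.leaf (827, false)))) (.node (.node (.leaf (123, true)) (.leaf (561, false))) (.leaf (298, true)))))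

def certHPar27 : Janko.Tree (ℕ × Bool) :=
  (.node (.node (.node (.node (.leaf (14, false)) (.leaf (352, false))) (.node (.leaf (164, true)) (.leaf (659, true)))) (.node (.node (.leaf (86, true)) (.leaf (476, false))) (.leaf (256, false)))) (.node (.node (.node (.leaf (50, false)) (.leaf (406, false))) (.node (.leaf (206, false)) (.leaf (827, true)))) (.node (.node (.leaf (124, false)) (.leaf (561, true))) (.leaf (299, true)))))

def certHPar28 : Janko.Tree (ℕ × Bool) :=
  (.node (.node (.node (.node (.leaf (14, true)) (.leaf (352, true))) (.node (.leaf (165, false)) (.leaf (661, false)))) (.node (.node (.leaf (87, false)) (.leaf (476, true))) (.leaf (257, false)))) (.node (.node (.node (.leaf (50, true)) (.leaf (406, true))) (.node (.leaf (206, true)) (.leaf (832, true)))) (.node (.node (.leaf (124, true)) (.leaf (563, true))) (.leaf (300, false)))))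

def certHPar29 : Janko.Tree (ℕ × Bool) :=
  (.node (.node (.node (.node (.leaf (15, false)) (.leaf (353, false))) (.node (.leaf (165, true)) (.leaf (662, false)))) (.node (.node (.leaf (87, true)) (.leaf (477, false))) (.leaf (257, true)))) (.node (.node (.node (.leaf (51, false)) (.leaf (409, true))) (.node (.leaf (207, true)) (.leaf (838, false)))) (.node (.node (.leaf (125, false)) (.leaf (565, false))) (.leaf (300, true)))))

def certHPar30 : Janko.Tree (ℕ × Bool) :=
  (.node (.node (.node (.node (.leaf (15, true)) (.leaf (353, true))) (.node (.leaf (166, false)) (.leaf (664, true)))) (.node (.node (.leaf (88, false)) (.leaf (478, false))) (.leaf (259, false)))) (.node (.node (.node (.leaf (51, true)) (.leaf (410, false))) (.node (.leaf (209, true)) (.leaf (839, true)))) (.node (.node (.leaf (125, true)) (.leaf (565, true))) (.leaf (301, false)))))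

def certHPar31 : Janko.Tree (ℕ × Bool) :=
  (.node (.node (.node (.node (.leaf (16, false)) (.leaf (354, false))) (.node (.leaf (166, true)) (.leaf (668, false)))) (.node (.node (.leaf (88, true)) (.leaf (478, true))) (.leaf (259, true)))) (.node (.node (.node (.leaf (52, true)) (.leaf (410, true))) (.node (.leaf (210, false)) (.leaf (855, true)))) (.node (.node (.leaf (126, false)) (.leaf (570, true))) (.leaf (301, true)))))

def certHPar32 : Janko.Tree (ℕ × Bool) :=
  (.node (.node (.node (.node (.leaf (16, true)) (.leaf (355, true))) (.node (.leaf (167, false)) (.leaf (668, true)))) (.node (.node (.leaf (89, false)) (.leaf (479, true))) (.leaf (260, false)))) (.node (.node (.node (.leaf (53, false)) (.leaf (412, true))) (.leaf (210, true))) (.node (.node (.leaf (127, true)) (.leaf (574, false))) (.leaf (302, false)))))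

def certHPar33 : Janko.Tree (ℕ × Bool) :=
  (.node (.node (.node (.node (.leaf (17, false)) (.leaf (356, true))) (.node (.leaf (168, true)) (.leaf (669, false)))) (.node (.node (.leaf (89, true)) (.leaf (480, false))) (.leaf (260, true)))) (.node (.node (.node (.leaf (53, true)) (.leaf (414, false))) (.leaf (211, false))) (.node (.node (.leaf (128, false)) (.leaf (575, true))) (.leaf (302, true)))))

def certHPar34 : Janko.Tree (ℕ × Bool) :=
  (.node (.node (.node (.node (.leaf (17, true)) (.leaf (357, false))) (.node (.leaf (169, false)) (.leaf (669, true)))) (.node (.node (.leaf (90, false)) (.leaf (481, false))) (.leaf (261, false)))) (.node (.node (.node (.leaf (54, false)) (.leaf (415, true))) (.leaf (211, true))) (.node (.node (.leaf (128, true)) (.leaf (576, false))) (.leaf (303, true)))))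

def certHPar35 : Janko.Tree (ℕ × Bool) :=
  (.node (.node (.node (.node (.leaf (18, false)) (.leaf (357, true))) (.node (.leaf (170, false)) (.leaf (670, false)))) (.node (.node (.leaf (90, true)) (.leaf (482, false))) (.leaf (262, true)))) (.node (.node (.node (.leaf (54, true)) (.leaf (416, false))) (.leaf (212, true))) (.node (.node (.leaf (129, false)) (.leaf (576, true))) (.leaf (304, false)))))

def certHPar36 : Janko.Tree (ℕ × Bool) :=
  (.node (.node (.node (.node (.leaf (18, true)) (.leaf (358, true))) (.node (.leaf (170, true)) (.leaf (671, false)))) (.node (.node (.leaf (91, false)) (.leaf (483, true))) (.leaf (263, false)))) (.node (.node (.node (.leaf (55, false)) (.leaf (417, false))) (.leaf (213, false))) (.node (.node (.leaf (130, false)) (.leaf (578, false))) (.leaf (304, true)))))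

def certHPar37 : Janko.Tree (ℕ × Bool) :=
  (.node (.node (.node (.node (.leaf (19, true)) (.leaf (359, false))) (.node (.leaf (171, false)) (.leaf (673, false)))) (.node (.node (.leaf (91, true)) (.leaf (484, true))) (.leaf (263, true)))) (.node (.node (.node (.leaf (55, true)) (.leaf (418, true))) (.leaf (213, true))) (.node (.node (.leaf (130, true)) (.leaf (578, true))) (.leaf (305, false)))))

def certHPar38 : Janko.Tree (ℕ × Bool) :=
  (.node (.node (.node (.node (.leaf (20, false)) (.leaf (359, true))) (.node (.leaf (172, false)) (.leaf (675, false)))) (.node (.node (.leaf (92, false)) (.leaf (487, true))) (.leaf (264, true)))) (.node (.node (.node (.leaf (56, false)) (.leaf (419, false))) (.leaf (215, true))) (.node (.node (.leaf (131, false)) (.leaf (579, true))) (.leaf (306, true)))))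

def certHPar39 : Janko.Tree (ℕ × Bool) :=
  (.node (.node (.node (.node (.leaf (20, true)) (.leaf (360, false))) (.node (.leaf (172, true)) (.leaf (678, true)))) (.node (.node (.leaf (92, true)) (.leaf (488, true))) (.leaf (265, true)))) (.node (.node (.node (.leaf (56, true)) (.leaf (419, true))) (.leaf (216, false))) (.node (.node (.leaf (131, true)) (.leaf (580, false))) (.leaf (308, false)))))

def certHPar40 : Janko.Tree (ℕ × Bool) :=
  (.node (.node (.node (.node (.leaf (21, false)) (.leaf (360, true))) (.node (.leaf (173, false)) (.leaf (679, false)))) (.node (.node (.leaf (93, false)) (.leaf (489, false))) (.leaf (266, false)))) (.node (.node (.node (.leaf (57, false)) (.leaf (422, false))) (.leaf (217, false))) (.node (.node (.leaf (132, true)) (.leaf (582, false))) (.leaf (308, true)))))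

def certHPar41 : Janko.Tree (ℕ × Bool) :=
  (.node (.node (.node (.node (.leaf (22, false)) (.leaf (362, false))) (.node (.leaf (173, true)) (.leaf (679, true)))) (.node (.node (.leaf (93, true)) (.leaf (490, false))) (.leaf (267, false)))) (.node (.node (.node (.leaf (57, true)) (.leaf (422, true))) (.leaf (217, true))) (.node (.node (.leaf (133, false)) (.leaf (582, true))) (.leaf (309, false)))))

def certHPar42 : Janko.Tree (ℕ × Bool) :=
  (.node (.node (.node (.node (.leaf (22, true)) (.leaf (362, true))) (.node (.leaf (174, false)) (.leaf (680, false)))) (.node (.node (.leaf (94, false)) (.leaf (490, true))) (.leaf (267, true)))) (.node (.node (.node (.leaf (58, false)) (.leaf (424, false))) (.leaf (218, false))) (.node (.node (.leaf (133, true)) (.leaf (583, true))) (.leaf (310, false)))))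

def certHPar43 : Janko.Tree (ℕ × Bool) :=
  (.node (.node (.node (.node (.leaf (23, false)) (.leaf (364, false))) (.node (.leaf (174, true)) (.leaf (681, false)))) (.node (.node (.leaf (94, true)) (.leaf (494, true))) (.leaf (268, false)))) (.node (.node (.node (.leaf (59, false)) (.leaf (425, false))) (.leaf (218, true))) (.node (.node (.leaf (134, false)) (.leaf (584, false))) (.leaf (310, true)))))

def certHPar44 : Janko.Tree (ℕ × Bool) :=
  (.node (.node (.node (.node (.leaf (23, true)) (.leaf (364, true))) (.node (.leaf (175, false)) (.leaf (682, false)))) (.node (.node (.leaf (95, true)) (.leaf (496, false))) (.leaf (269, false)))) (.node (.node (.node (.leaf (59, true)) (.leaf (427, false))) (.leaf (219, false))) (.node (.node (.leaf (134, true)) (.leaf (585, false))) (.leaf (311, false)))))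

def certHPar45 : Janko.Tree (ℕ × Bool) :=
  (.node (.node (.node (.node (.leaf (24, false)) (.leaf (366, false))) (.node (.leaf (175, true)) (.leaf (682, true)))) (.node (.node (.leaf (96, false)) (.leaf (501, false))) (.leaf (269, true)))) (.node (.node (.node (.leaf (60, false)) (.leaf (427, true))) (.leaf (219, true))) (.node (.node (.leaf (135, false)) (.leaf (585, true))) (.leaf (314, false)))))

def certHPar46 : Janko.Tree (ℕ × Bool) :=
  (.node (.node (.node (.node (.leaf (24, true)) (.leaf (367, false))) (.node (.leaf (176, false)) (.leaf (685, true)))) (.node (.node (.leaf (96, true)) (.leaf (503, false))) (.leaf (270, false)))) (.node (.node (.node (.leaf (60, true)) (.leaf (428, false))) (.leaf (220, true))) (.node (.node (.leaf (136, false)) (.leaf (586, true))) (.leaf (314, true)))))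

def certHPar47 : Janko.Tree (ℕ × Bool) :=
  (.node (.node (.node (.node (.leaf (25, false)) (.leaf (367, true))) (.node (.leaf (176, true)) (.leaf (687, false)))) (.node (.node (.leaf (98, false)) (.leaf (506, false))) (.leaf (270, true)))) (.node (.node (.node (.leaf (61, false)) (.leaf (430, false))) (.leaf (221, false))) (.node (.node (.leaf (136, true)) (.leaf (587, false))) (.leaf (316, false)))))

def certHPar48 : Janko.Tree (ℕ × Bool) :=
  (.node (.node (.node (.node (.leaf (25, true)) (.leaf (368, true))) (.node (.leaf (177, false)) (.leaf (687, true)))) (.node (.node (.leaf (99, false)) (.leaf (509, true))) (.leaf (271, true)))) (.node (.node (.node (.leaf (61, true)) (.leaf (432, false))) (.leaf (221, true))) (.node (.node (.leaf (137, true)) (.leaf (587, true))) (.leaf (316, true)))))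

def certHPar49 : Janko.Tree (ℕ × Bool) :=
  (.node (.node (.node (.node (.leaf (26, false)) (.leaf (369, false))) (.node (.leaf (177, true)) (.leaf (699, true)))) (.node (.node (.leaf (99, true)) (.leaf (511, true))) (.leaf (272, false)))) (.node (.node (.node (.leaf (62, false)) (.leaf (433, false))) (.leaf (222, false))) (.node (.node (.leaf (138, false)) (.leaf (591, true))) (.leaf (317, false)))))

def certHPar50 : Janko.Tree (ℕ × Bool) :=
  (.node (.node (.node (.node (.leaf (26, true)) (.leaf (370, false))) (.node (.leaf (178, false)) (.leaf (701, true)))) (.node (.node (.leaf (100, false)) (.leaf (513, true))) (.leaf (272, true)))) (.node (.node (.node (.leaf (62, true)) (.leaf (434, true))) (.leaf (222, true))) (.node (.node (.leaf (138, true)) (.leaf (592, false))) (.leaf (317, true)))))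

def certHPar51 : Janko.Tree (ℕ × Bool) :=
  (.node (.node (.node (.node (.leaf (27, false)) (.leaf (370, true))) (.node (.leaf (178, true)) (.leaf (707, false)))) (.node (.node (.leaf (100, true)) (.leaf (515, true))) (.leaf (273, false)))) (.node (.node (.node (.leaf (63, false)) (.leaf (435, false))) (.leaf (223, false))) (.node (.node (.leaf (139, false)) (.leaf (592, true))) (.leaf (318, false)))))

def certHPar52 : Janko.Tree (ℕ × Bool) :=
  (.node (.node (.node (.node (.leaf (27, true)) (.leaf (371, false))) (.node (.leaf (179, false)) (.leaf (712, false)))) (.node (.node (.leaf (101, false)) (.leaf (516, false))) (.leaf (273, true)))) (.node (.node (.node (.leaf (63, true)) (.leaf (436, true))) (.leaf (223, true))) (.node (.node (.leaf (139, true)) (.leaf (593, true))) (.leaf (318, true)))))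

def certHPar53 : Janko.Tree (ℕ × Bool) :=
  (.node (.node (.node (.node (.leaf (28, false)) (.leaf (372, false))) (.node (.leaf (179, true)) (.leaf (714, false)))) (.node (.node (.leaf (101, true)) (.leaf (516, true))) (.leaf (274, false)))) (.node (.node (.node (.leaf (64, true)) (.leaf (437, false))) (.leaf (225, false))) (.node (.node (.leaf (140, false)) (.leaf (595, true))) (.leaf (319, false)))))

def certHPar54 : Janko.Tree (ℕ × Bool) :=
  (.node (.node (.node (.node (.leaf (28, true)) (.leaf (372, true))) (.node (.leaf (180, false)) (.leaf (717, true)))) (.node (.node (.leaf (102, false)) (.leaf (517, true))) (.leaf (274, true)))) (.node (.node (.node (.leaf (65, false)) (.leaf (438, true))) (.leaf (225, true))) (.node (.node (.leaf (140, true)) (.leaf (599, false))) (.leaf (319, true)))))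

def certHPar55 : Janko.Tree (ℕ × Bool) :=
  (.node (.node (.node (.node (.leaf (29, false)) (.leaf (373, true))) (.node (.leaf (180, true)) (.leaf (718, true)))) (.node (.node (.leaf (102, true)) (.leaf (518, false))) (.leaf (275, false)))) (.node (.node (.node (.leaf (65, true)) (.leaf (439, false))) (.leaf (227, false))) (.node (.node (.leaf (141, false)) (.leaf (599, true))) (.leaf (320, false)))))

def certHPar56 : Janko.Tree (ℕ × Bool) :=
  (.node (.node (.node (.node (.leaf (29, true)) (.leaf (374, false))) (.node (.leaf (181, true)) (.leaf (720, false)))) (.node (.node (.leaf (103, false)) (.leaf (520, false))) (.leaf (275, true)))) (.node (.node (.node (.leaf (66, true)) (.leaf (439, true))) (.leaf (227, true))) (.node (.node (.leaf (141, true)) (.leaf (601, true))) (.leaf (321, false)))))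

def certHPar57 : Janko.Tree (ℕ × Bool) :=
  (.node (.node (.node (.node (.leaf (30, false)) (.leaf (375, false))) (.node (.leaf (182, false)) (.leaf (721, false)))) (.node (.node (.leaf (103, true)) (.leaf (520, true))) (.leaf (276, true)))) (.node (.node (.node (.leaf (67, false)) (.leaf (441, true))) (.leaf (228, false))) (.node (.node (.leaf (142, false)) (.leaf (602, false))) (.leaf (321, true)))))

def certHPar58 : Janko.Tree (ℕ × Bool) :=
  (.node (.node (.node (.node (.leaf (31, true)) (.leaf (377, true))) (.node (.leaf (182, true)) (.leaf (721, true)))) (.node (.node (.leaf (104, false)) (.leaf (522, true))) (.leaf (277, false)))) (.node (.node (.node (.leaf (68, false)) (.leaf (442, true))) (.leaf (229, true))) (.node (.node (.leaf (142, true)) (.leaf (602, true))) (.leaf (323, false)))))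

def certHPar59 : Janko.Tree (ℕ × Bool) :=
  (.node (.node (.node (.node (.leaf (32, false)) (.leaf (378, true))) (.node (.leaf (184, false)) (.leaf (722, false)))) (.node (.node (.leaf (104, true)) (.leaf (525, false))) (.leaf (277, true)))) (.node (.node (.node (.leaf (68, true)) (.leaf (444, true))) (.leaf (230, false))) (.node (.node (.leaf (143, true)) (.leaf (603, false))) (.leaf (324, false)))))

def certHPar60 : Janko.Tree (ℕ × Bool) :=
  (.node (.node (.node (.node (.leaf (32, true)) (.leaf (381, false))) (.node (.leaf (185, false)) (.leaf (724, false)))) (.node (.node (.leaf (105, false)) (.leaf (529, false))) (.leaf (278, false)))) (.node (.node (.node (.leaf (69, true)) (.leaf (445, false))) (.leaf (231, true))) (.node (.node (.leaf (144, false)) (.leaf (605, true))) (.leaf (326, false)))))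

def certHPar61 : Janko.Tree (ℕ × Bool) :=
  (.node (.node (.node (.node (.leaf (33, false)) (.leaf (382, false))) (.node (.leaf (185, true)) (.leaf (725, true)))) (.node (.node (.leaf (105, true)) (.leaf (529, true))) (.leaf (278, true)))) (.node (.node (.node (.leaf (70, false)) (.leaf (445, true))) (.leaf (232, true))) (.node (.node (.leaf (144, true)) (.leaf (607, false))) (.leaf (329, false)))))

def certHPar62 : Janko.Tree (ℕ × Bool) :=
  (.node (.node (.node (.node (.leaf (33, true)) (.leaf (382, true))) (.node (.leaf (186, false)) (.leaf (726, true)))) (.node (.node (.leaf (106, false)) (.leaf (530, false))) (.leaf (279, false)))) (.node (.node (.node (.leaf (70, true)) (.leaf (446, false))) (.leaf (233, true))) (.node (.node (.leaf (145, false)) (.leaf (608, false))) (.leaf (329, true)))))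

def certHPar63 : Janko.Tree (ℕ × Bool) :=
  (.node (.node (.node (.node (.leaf (34, false)) (.leaf (383, false))) (.node (.leaf (186, true)) (.leaf (727, false)))) (.node (.node (.leaf (106, true)) (.leaf (530, true))) (.leaf (280, false)))) (.node (.node (.node (.leaf (71, false)) (.leaf (447, false))) (.leaf (234, false))) (.node (.node (.leaf (147, false)) (.leaf (608, true))) (.leaf (330, true)))))

def certHPar : Janko.Tree (ℕ × Bool) :=
  (.node (.node (.node (.node (.node (.node certHPar0 certHPar32) (.node certHPar16 certHPar48)) (.node (.node certHPar8 certHPar40) (.node certHPar24 certHPar56))) (.node (.node (.node certHPar4 certHPar36) (.node certHPar20 certHPar52)) (.node (.node certHPar12 certHPar44) (.node certHPar28 certHPar60)))) (.node (.node (.node (.node certHPar2 certHPar34) (.node certHPar18 certHPar50)) (.node (.node certHPar10 certHPar42) (.node certHPar26 certHPar58))) (.node (.node (.node certHPar6 certHPar38) (.node certHPar22 certHPar54)) (.node (.node certHPar14 certHPar46) (.node certHPar30 certHPar62))))) (.node (.node (.node (.node (.node certHPar1 certHPar33) (.node certHPar17 certHPar49)) (.node (.node certHPar9 certHPar41) (.node certHPar25 certHPar57))) (.node (.node (.node certHPar5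 certHPar37) (.node certHPar21 certHPar53)) (.node (.node certHPar13 certHPar45) (.node certHPar29 certHPar61)))) (.node (.node (.node (.node certHPar3 certHPar35) (.node certHPar19 certHPar51)) (.node (.node certHPar11 certHPar43) (.node certHPar27 certHPar59))) (.node (.node (.node certHPar7 certHPar39) (.node certHPar23 certHPar55)) (.node (.node certHPar15 certHPar47) (.node certHPar31 certHPar63))))))

def certHL0 : Janko.Tree (List ℤ) :=
  (.node (.node (.node (.node (.leaf [1, (-1), 0, 0, 0, 0, 0, 0, 0, 0]) (.leaf [17, (-24), 4, 3, 0, 0, 3, (-1), 0, 0])) (.node (.leaf []) (.leaf [1208600, (-1047628), 80569, 105223, 133409, 28593, 16730, (-28556), 5197, 16465]))) (.node (.node (.leaf []) (.leaf [(-29), 11, 11, 12, 3, 0, 0, 1, 0, 0])) (.leaf []))) (.node (.node (.node (.leaf [(-5), 5, 0, (-1), 0, 0, 1, 0, 0, 0]) (.leaf [])) (.node (.leaf []) (.leaf [9, (-10), 3, 2, 1, (-1), 0, 0, 0, 0]))) (.node (.node (.leaf []) (.leaf [171600, (-161551), 14537, 14337, 22398, 3698, 1402, (-986), 1330, 1999])) (.leaf [76, (-41), (-6), (-4), 0, (-1), (-5), (-5), (-3), 0]))))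

def certHL1 : Janko.Tree (List ℤ) :=
  (.node (.node (.node (.node (.leaf []) (.leaf [(-4), 6, (-1), 0, (-1), 0, 0, (-1), 0, 0])) (.node (.leaf [324, (-317), 9, 25, 43, 10, (-5), 5, 9, 2]) (.leaf [70988, (-71591), 6779, 5124, 10228, 1432, 386, 779, 710, 674]))) (.node (.node (.leaf []) (.leaf [(-88380), 84173, (-13413), (-22805), (-12222), (-2451), (-1502), 1398, (-1965), (-1043)])) (.leaf [(-15), 16, (-2), 1, (-4), 0, 0, (-2), 0, 0]))) (.node (.node (.node (.leaf []) (.leaf [])) (.node (.leaf [(-4), 4, 0, 0, (-1), 0, 0, 0, 0, 0]) (.leaf []))) (.node (.node (.leaf [(-2627), 2417, 419, 2619, (-504), (-100), 49, (-305), 110, (-95)]) (.leaf [(-2710), 2447, (-170), (-119), (-304), (-80), (-16), 31, (-5), (-55)])) (.leaf []))))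

def certHL2 : Janko.Tree (List ℤ) :=
  (.node (.node (.node (.node (.leaf []) (.leaf [144, (-173), 19, (-27), 35, 5, 3, 11, 0, 6])) (.node (.leaf []) (.leaf []))) (.node (.node (.leaf []) (.leaf [(-400), 371, (-18), (-9), (-49), (-2), 11, 0, (-2), (-1)])) (.leaf []))) (.node (.node (.node (.leaf []) (.leaf [(-207), 316, (-53), 2, (-70), (-9), (-21), (-19), (-13), (-5)])) (.node (.leaf []) (.leaf [2230, (-2520), 218, 18, 288, 59, 39, 59, 33, 32]))) (.node (.node (.leaf []) (.leaf [(-113), 103, (-2), 5, (-31), 14, 22, (-4), 3, 6])) (.leaf [(-355), 266, 3, 34, (-51), 4, 18, 3, 7, 2]))))

def certHL3 : Janko.Tree (List ℤ) :=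
  (.node (.node (.node (.node (.leaf []) (.leaf [])) (.node (.leaf []) (.leaf [(-1), 0, 0, 0, 0, 0, 0, 0, 0, 0]))) (.node (.node (.leaf [(-5), 7, 0, 0, (-1), 0, 0, 0, 0, 0]) (.leaf [(-84), 110, (-23), (-2), (-20), 4, 0, (-4), 0, 0])) (.leaf []))) (.node (.node (.node (.leaf []) (.leaf [28775, (-31835), 3525, 2652, 4900, 483, 20, 886, 421, 191])) (.node (.leaf []) (.leaf [16, (-19), 3, 1, 1, (-1), 0, 0, 0, 0]))) (.node (.node (.leaf []) (.leaf [(-123), 124, (-16), 14, (-41), 20, 28, (-6), 8, 7])) (.leaf []))))

def certHL4 : Janko.Tree (List ℤ) :=
  (.node (.node (.node (.node (.leaf []) (.leaf [569029, (-477200), 24640, 27257, 56518, 12145, 6370, (-15635), (-1294), 7272])) (.node (.leaf [(-5), 6, (-1), 0, (-1), 0, 0, 0, 0, 0]) (.leaf [(-421), 403, (-27), 12, (-61), (-11), (-5), (-9), (-3), (-5)]))) (.node (.node (.leaf []) (.leaf [393, (-347), 10, (-19), 49, 12, 5, 6, 2, 5])) (.leaf [(-36), 38, (-2), 4, (-7), 1, 2, (-1), 0, 0]))) (.node (.node (.node (.leaf [0, 0, 1, 0, 0, 0, 0, 0, 0, 0]) (.leaf [])) (.node (.leaf [1, 0, 0, 0, 0, 0, 0, 0, 0, 0]) (.leaf [(-60), 82, (-20), (-6), (-17), 0, (-2), (-4), (-2), 0]))) (.node (.node (.leaf [(-4), 5, 0, 0, (-1), 0, 0, (-1), 0, 0]) (.leaf [904806, (-905271), 79364, 54909, 127205,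 19068, 4876, 8168, 7209, 9399])) (.leaf []))))

def certHL5 : Janko.Tree (List ℤ) :=
  (.node (.node (.node (.node (.leaf []) (.leaf [933, (-1061), 116, 28, 192, 28, 20, 40, 26, 11])) (.node (.leaf [1, 0, 0, 0, 0, 0, 0, 0, 0, 0]) (.leaf [(-259), 209, (-4), 17, (-34), (-10), (-7), (-3), (-2), (-3)]))) (.node (.node (.leaf []) (.leaf [208, (-37), (-67), (-34), 5, (-21), (-31), (-15), (-1), (-12)])) (.leaf []))) (.node (.node (.node (.leaf []) (.leaf [])) (.node (.leaf [(-1), 2, 0, (-1), 1, 0, 0, 0, 0, 0]) (.leaf [(-55), 60, (-5), (-5), (-1), 0, 3, (-2), (-2), 0]))) (.node (.node (.leaf [1, 0, 0, 0, 0, 0, 0, 0, 0, 0]) (.leaf [3571066, (-3129568), 281811, 330879, 426481, 90099, 52750, (-73568), 28727, 54989])) (.leaf []))))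

def certHL6 : Janko.Tree (List ℤ) :=
  (.node (.node (.node (.node (.leaf []) (.leaf [635655, (-640371), 56551, 45442, 88927, 13298, 3331, 5702, 5351, 6209])) (.node (.leaf []) (.leaf [15, (-21), 0, 15, 7, 5, 0, 2, 4, 1]))) (.node (.node (.leaf []) (.leaf [(-1), 0, 0, 0, 0, 0, 0, 0, 0, 0])) (.leaf []))) (.node (.node (.node (.leaf []) (.leaf [(-37), (-31), 30, 54, (-23), (-6), 2, 1, 3, 0])) (.node (.leaf []) (.leaf [1459, (-2059), 300, 243, 359, (-27), (-68), 134, 32, (-24)]))) (.node (.node (.leaf []) (.leaf [])) (.leaf [15, (-28), 11, 3, 4, (-2), (-1), 0, 1, 0]))))

def certHL7 : Janko.Tree (List ℤ) :=
  (.node (.node (.node (.node (.leaf []) (.leaf [])) (.node (.leaf []) (.leaf [4883, (-5066), 421, 75, 764, 94, 4, 107, 39, 45]))) (.node (.node (.leaf []) (.leaf [3991268, (-3827771), 348462, 334775, 529734, 89425, 34767, (-9510), 34121, 46993])) (.leaf []))) (.node (.node (.node (.leaf [1, 0, 0, 0, 0, 0, 0, 0, 0, 0]) (.leaf [])) (.node (.leaf [4880, (-5063), 420, 74, 763, 93, 6, 106, 39, 45]) (.leaf [62587, (-48532), 3161, 5380, 5883, 1592, 1097, (-2537), 125, 956]))) (.node (.node (.leaf []) (.leaf [(-1), 0, 0, 0, 0, 0, 0, 0, 0, 0])) (.leaf []))))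

def certHL8 : Janko.Tree (List ℤ) :=
  (.node (.node (.node (.node (.leaf []) (.leaf [])) (.node (.leaf []) (.leaf [(-84), 74, (-8), (-2), (-6), 1, (-2), 1, 2, 0]))) (.node (.node (.leaf [1, 1, 0, 0, 0, 0, 0, 0, 0, 0]) (.leaf [])) (.leaf [27, (-23), 4, 7, 2, (-1), (-3), (-1), (-2), 0]))) (.node (.node (.node (.leaf []) (.leaf [])) (.node (.leaf []) (.leaf [17310, (-18927), 1792, 890, 2701, 364, 36, 539, 233, 144]))) (.node (.node (.leaf []) (.leaf [9, (-3), (-2), (-6), (-1), (-1), (-1), 0, (-1), 0])) (.leaf [154, (-38), (-37), (-15), 0, 2, (-11), (-14), 2, (-4)]))))

def certHL9 : Janko.Tree (List ℤ) :=
  (.node (.node (.node (.node (.leaf []) (.leaf [])) (.node (.leaf []) (.leaf []))) (.node (.node (.leaf []) (.leaf [(-458368), 510901, (-51873), (-34473), (-74965), (-8994), 783, (-15284), (-5813), (-3042)])) (.leaf []))) (.node (.node (.node (.leaf []) (.leaf [0, 1, (-1), 0, 0, 0, 0, 0, 0, 0])) (.node (.leaf [188, (-533), 118, 87, 25, 26, 33, 43, 23, 18]) (.leaf [1, 0, 0, 0, 0, 0, 0, 0, 0, 0]))) (.node (.node (.leaf []) (.leaf [16, (-20), (-1), 22, 3, 6, 1, 1, 6, 1])) (.leaf [53, (-57), 13, (-13), 45, (-22), (-27), 9, (-8), (-8)]))))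

def certHL10 : Janko.Tree (List ℤ) :=
  (.node (.node (.node (.node (.leaf []) (.leaf [17, (-19), 3, 1, 1, (-1), 0, 0, 0, 0])) (.node (.leaf []) (.leaf [(-111), 93, (-5), (-1), (-8), 1, 3, 4, 3, 0]))) (.node (.node (.leaf []) (.leaf [296, (-180), (-25), (-49), 38, (-2), (-17), (-4), (-6), (-2)])) (.leaf []))) (.node (.node (.node (.leaf [9, (-11), 2, 1, 1, 0, 0, 0, 0, 0]) (.leaf [(-596), 553, (-78), (-567), (-25), 27, 22, 78, (-16), 28])) (.node (.leaf [(-19), 22, (-2), 0, (-3), 0, (-1), (-2), 0, 0]) (.leaf [(-3182), 3193, (-213), (-92), (-460), (-56), 7, (-49), (-29), (-26)]))) (.node (.node (.leaf [888, (-1145), 132, 38, 140, 40, 48, 37, 32, 17]) (.leaf [8629, (-9629), 1062, 730, 1397, 129, (-2), 260, 114, 64])) (.leaf [(-8404), 9292, (-998), (-695), (-1353), (-126), 15, (-258), (-112), (-54)]))))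

def certHL11 : Janko.Tree (List ℤ) :=
  (.node (.node (.node (.node (.leaf []) (.leaf [])) (.node (.leaf [(-18), 18, (-2), (-1), (-1), 1, 0, 0, 0, 0]) (.leaf [(-15), 14, (-2), (-1), 0, 1, 1, 0, 0, 0]))) (.node (.node (.leaf []) (.leaf [(-1737), 2964, (-459), (-10), (-486), (-31), 65, (-307), (-50), (-13)])) (.leaf [(-5), 5, (-1), 0, (-1), 0, 0, 0, 0, 0]))) (.node (.node (.node (.leaf []) (.leaf [66, (-116), 19, 25, 10, 4, 8, 5, 6, 1])) (.node (.leaf [(-16), 12, 1, 1, (-3), 0, 2, 0, 1, 0]) (.leaf [(-369090), 402971, (-39935), (-35491), (-56403), (-6863), 225, (-8894), (-4026), (-2199)]))) (.node (.node (.leaf []) (.leaf [0, 7, (-1), (-2), (-10), (-2), 3, 1, (-2), 0])) (.leaf [(-210), 72, 37, 41, (-20), 9, 14, 14, 7, 8]))))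

def certHL12 : Janko.Tree (List ℤ) :=
  (.node (.node (.node (.node (.leaf []) (.leaf [])) (.node (.leaf [(-13), 13, (-2), (-1), 0, 1, 0, 0, 0, 0]) (.leaf []))) (.node (.node (.leaf []) (.leaf [346, (-327), 24, 23, 46, 8, 4, 4, 4, 0])) (.leaf [11, (-15), 3, 1, 3, 0, 0, 1, 0, 0]))) (.node (.node (.node (.leaf []) (.leaf [])) (.node (.leaf []) (.leaf []))) (.node (.node (.leaf []) (.leaf [18, (-20), 3, 1, 0, 0, 1, 0, 0, 0])) (.leaf [1, 0, 0, 0, 0, 0, 0, 0, 0, 0]))))

def certHL13 : Janko.Tree (List ℤ) :=
  (.node (.node (.node (.node (.leaf []) (.leaf [240, (-240), 21, (-8), 28, (-4), (-3), 0, (-2), 2])) (.node (.leaf []) (.leaf [37467, (-41837), 4551, 2688, 6501, 632, (-32), 1344, 567, 249]))) (.node (.node (.leaf []) (.leaf [(-113), 97, (-1), 23, (-24), 5, 9, (-6), 3, (-1)])) (.leaf [145903, (-155849), 15211, 12669, 22063, 2781, 247, 3015, 1597, 1055]))) (.node (.node (.node (.leaf []) (.leaf [])) (.node (.leaf [1, 0, 0, 0, 0, 0, 0, 0, 0, 0]) (.leaf [(-25061), (-38795), 8212, (-11750), 10946, (-2114), (-4413), 14725, 1497, (-1990)]))) (.node (.node (.leaf [(-1546419), 1411082, (-115577), (-132153), (-185762), (-35240), (-17353), 20921, (-8976), (-19073)]) (.leaf [1, 0, 0, 0, 0, 0, 0, 0, 0, 0])) (.leaf [6, (-5),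 0, 0, 2, 0, 0, 0, 0, 0]))))

def certHL14 : Janko.Tree (List ℤ) :=
  (.node (.node (.node (.node (.leaf []) (.leaf [(-6), 9, (-2), (-1), (-2), 0, 0, 0, 0, 0])) (.node (.leaf []) (.leaf [97, (-111), 15, 4, 18, (-2), 1, 4, (-4), 0]))) (.node (.node (.leaf []) (.leaf [(-23896), 23864, (-1688), 833, (-3564), (-366), 144, (-520), (-51), (-257)])) (.leaf []))) (.node (.node (.node (.leaf []) (.leaf [(-8), 36, (-11), 11, (-15), (-3), (-3), (-5), (-2), (-3)])) (.node (.leaf [6, (-6), (-1), 0, 1, 0, 0, 0, 1, 0]) (.leaf [(-6536), 6033, (-289), 4, (-849), (-146), (-45), 2, (-31), (-76)]))) (.node (.node (.leaf [5, (-5), 3, (-3), 0, (-1), 1, 1, (-1), 0]) (.leaf [138, (-176), 27, 27, 26, 2, 4, 5, 6, 1])) (.leaf []))))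

def certHL15 : Janko.Tree (List ℤ) :=
  (.node (.node (.node (.node (.leaf []) (.leaf [1, 0, 0, 0, 0, 0, 0, 0, 0, 0])) (.node (.leaf []) (.leaf [61, (-65), 9, (-10), 15, (-2), 2, 1, (-4), 0]))) (.node (.node (.leaf [0, 0, 0, 0, 0, 0, 1, 0, 0, 0]) (.leaf [(-7204), 7815, (-916), (-838), (-1337), (-29), 46, (-170), (-88), (-47)])) (.leaf [37394, (-40473), 4114, 2857, 6056, 620, (-45), 1021, 467, 250]))) (.node (.node (.node (.leaf []) (.leaf [])) (.node (.leaf [461, (-303), (-11), (-74), 83, 8, (-2), (-18), (-10), 8]) (.leaf []))) (.node (.node (.leaf []) (.leaf [255308, (-267575), 25904, 25187, 36671, 5151, 833, 3671, 2546, 1929])) (.leaf [(-2), 4, (-2), 1, (-1), 0, 0, 0, 0, 0]))))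

def certHL16 : Janko.Tree (List ℤ) :=
  (.node (.node (.node (.node (.leaf []) (.leaf [])) (.node (.leaf [87235, (-129601), 13478, (-1719), 21281, 716, (-2221), 10695, 1743, (-314)]) (.leaf [11139, (-10079), 921, 1215, 1261, 373, 408, (-263), 151, 211]))) (.node (.node (.leaf []) (.leaf [11137790, (-10584715), 1004520, 1006564, 1476507, 265220, 111488, (-48803), 106401, 141554])) (.leaf []))) (.node (.node (.node (.leaf []) (.leaf [])) (.node (.leaf [(-16218), 18297, (-2081), (-1513), (-2652), (-266), (-12), (-539), (-239), (-118)]) (.leaf [19, (-16), (-1), 0, 3, 0, (-2), 1, (-1), 0]))) (.node (.node (.leaf [9, (-23), 10, 7, (-3), 0, 4, 2, (-1), 1]) (.leaf [])) (.leaf []))))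

def certHL17 : Janko.Tree (List ℤ) :=
  (.node (.node (.node (.node (.leaf []) (.leaf [])) (.node (.leaf []) (.leaf [74951, (-37020), 3887, 16454, 2602, 2754, 2844, (-8721), 233, 1985]))) (.node (.node (.leaf []) (.leaf [176273, (-157200), 18941, 27410, 21721, 4969, 3277, (-3962), 2332, 2759])) (.leaf []))) (.node (.node (.node (.leaf []) (.leaf [2761, (-2305), 90, 86, 282, 66, (-5), (-51), 6, 45])) (.node (.leaf [(-180), 210, (-30), (-5), (-29), 2, (-2), (-2), 2, (-2)]) (.leaf [15148, (-15867), 1515, 745, 2467, 208, (-86), 364, 113, 101]))) (.node (.node (.leaf []) (.leaf [(-165), 188, (-14), (-28), (-14), (-2), 2, (-5), (-1), (-1)])) (.leaf [(-84748), 87388, (-4798), 2018, (-10909), (-1799), (-237), (-1724), 148, (-817)]))))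

def certHL18 : Janko.Tree (List ℤ) :=
  (.node (.node (.node (.node (.leaf []) (.leaf [28, (-41), 11, 4, (-2), (-1), 4, 3, (-2), 1])) (.node (.leaf [22207, (-24558), 2543, 1644, 3612, 369, 30, 669, 318, 177]) (.leaf []))) (.node (.node (.leaf [0, 0, 0, 0, 0, 0, 0, 1, 0, 0]) (.leaf [(-130), 196, (-43), (-2), 3, 4, (-8), 1, 0, (-4)])) (.leaf [352, (-314), 13, 3, 48, 2, (-13), 0, 2, 1]))) (.node (.node (.node (.leaf []) (.leaf [])) (.node (.leaf []) (.leaf [3, (-5), 0, 1, 4, 1, 0, 1, 0, 0]))) (.node (.node (.leaf []) (.leaf [(-5310075), 5230763, (-541428), (-495531), (-760744), (-126653), (-44769), (-20100), (-65873), (-66712)])) (.leaf [11, (-15), 1, 1, 3, 1, (-1), 1, 0, 0]))))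

def certHL19 : Janko.Tree (List ℤ) :=
  (.node (.node (.node (.node (.leaf []) (.leaf [(-40), 37, 1, 3, (-10), 0, 2, 0, 0, 0])) (.node (.leaf []) (.leaf []))) (.node (.node (.leaf []) (.leaf [914, (-1173), 111, 2, 197, 3, (-25), 76, 23, (-3)])) (.leaf [138, (-216), 33, 43, 27, 8, 8, 10, 10, 2]))) (.node (.node (.node (.leaf []) (.leaf [])) (.node (.leaf []) (.leaf [12046, 2162, (-2152), (-7149), 127, 602, 407, (-1704), (-533), 774]))) (.node (.node (.leaf [0, 1, (-1), 0, 0, 0, 0, 0, 0, 0]) (.leaf [39, (-45), 5, 3, 5, 0, (-1), 1, 1, 0])) (.leaf [(-4), 1, 1, 1, 4, 1, (-1), 1, 0, 0]))))

def certHL20 : Janko.Tree (List ℤ) :=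
  (.node (.node (.node (.node (.leaf []) (.leaf [12943, (-12034), 918, 519, 1776, 199, (-39), 9, 20, 113])) (.node (.leaf []) (.leaf [(-171198), 186742, (-18264), (-10151), (-27618), (-3193), (-39), (-5032), (-1941), (-1280)]))) (.node (.node (.leaf []) (.leaf [1, 0, 0, 0, 0, 0, 0, 0, 0, 0])) (.leaf []))) (.node (.node (.node (.leaf [(-3), 7, (-1), (-1), (-4), (-1), 0, (-1), 0, 0]) (.leaf [3, (-5), 2, 1, 1, 0, 0, 0, 0, 0])) (.node (.leaf [(-24), 21, (-4), (-8), (-2), 1, 3, 1, 2, 0]) (.leaf [10828, (-11944), 1246, 745, 1755, 170, 17, 315, 141, 92]))) (.node (.node (.leaf [(-5069), 5168, (-355), 94, (-809), (-111), (-23), (-121), (-44), (-54)]) (.leaf [])) (.leaf []))))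

def certHL21 : Janko.Tree (List ℤ) :=
  (.node (.node (.node (.node (.leaf [0, 1, 0, 0, 0, 0, 0, 0, 0, 0]) (.leaf [])) (.node (.leaf [0, 1, (-1), 0, 0, 0, 0, 0, 0, 0]) (.leaf [123910, (-143913), 15809, 15216, 20687, 2109, (-282), 4450, 1880, 457]))) (.node (.node (.leaf []) (.leaf [(-5677342), 5221166, (-495141), (-546530), (-721306), (-143185), (-71224), 67427, (-53892), (-80707)])) (.leaf []))) (.node (.node (.node (.leaf []) (.leaf [])) (.node (.leaf []) (.leaf [1, 0, 0, 0, 0, 0, 0, 0, 0, 0]))) (.node (.node (.leaf []) (.leaf [(-1), 0, 0, 0, 0, 0, 0, 0, 0, 0])) (.leaf [(-83), 52, 4, 3, (-1), 1, 4, 5, 3, 0]))))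

def certHL22 : Janko.Tree (List ℤ) :=
  (.node (.node (.node (.node (.leaf []) (.leaf [(-12), 16, (-3), (-2), (-2), 0, 1, (-1), (-1), 0])) (.node (.leaf []) (.leaf [(-38), 36, (-6), (-3), 1, 2, 1, 1, 1, 0]))) (.node (.node (.leaf []) (.leaf [19765, (-22554), 2335, 1069, 3483, 323, (-61), 824, 285, 124])) (.leaf [8, (-7), 0, 0, 0, 0, 0, 0, (-1), 0]))) (.node (.node (.node (.leaf []) (.leaf [])) (.node (.leaf [(-6980), 7914, (-772), (-221), (-1271), (-116), 13, (-295), (-94), (-45)]) (.leaf [87386, (-93484), 9359, 6651, 13391, 1623, 213, 1981, 1002, 706]))) (.node (.node (.leaf []) (.leaf [437, (-425), 32, (-9), 62, 11, 7, 9, 4, 5])) (.leaf []))))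

def certHL23 : Janko.Tree (List ℤ) :=
  (.node (.node (.node (.node (.leaf []) (.leaf [(-567170), 522054, (-45762), (-48535), (-70564), (-12604), (-5342), 6068, (-3694), (-6956)])) (.node (.leaf []) (.leaf []))) (.node (.node (.leaf []) (.leaf [(-530), 511, (-36), 2, (-79), (-5), 10, (-6), (-2), (-4)])) (.leaf []))) (.node (.node (.node (.leaf []) (.leaf [])) (.node (.leaf [(-72450), 100150, (-10536), (-1230), (-15800), (-876), 1287, (-6892), (-1202), 28]) (.leaf [(-34970), 7062, (-1629), (-12120), 460, (-1451), (-2634), 6802, (-244), (-1343)]))) (.node (.node (.leaf []) (.leaf [(-155777), 165538, (-16352), (-15093), (-22927), (-3030), (-736), (-2755), (-1714), (-1162)])) (.leaf []))))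

def certHL24 : Janko.Tree (List ℤ) :=
  (.node (.node (.node (.node (.leaf []) (.leaf [12, (-36), 14, 6, 8, (-1), 0, 2, 1, 0])) (.node (.leaf []) (.leaf [74822, (-84390), 8014, 1107, 13154, 1862, (-163), 3580, 966, 776]))) (.node (.node (.leaf []) (.leaf [])) (.leaf []))) (.node (.node (.node (.leaf []) (.leaf [6, (-5), 1, 0, 1, 0, 0, 0, 0, 0])) (.node (.leaf []) (.leaf [15, (-20), 3, 0, 3, 0, 0, 1, 0, 0]))) (.node (.node (.leaf []) (.leaf [(-563354), 598161, (-57566), (-45159), (-85984), (-10727), (-903), (-11318), (-5966), (-4307)])) (.leaf [280, (-180), (-17), (-26), 34, 0, (-17), (-6), (-7), (-2)]))))

def certHL25 : Janko.Tree (List ℤ) :=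
  (.node (.node (.node (.node (.leaf []) (.leaf [6, 0, (-4), (-2), (-3), 0, 0, (-1), (-1), 0])) (.node (.leaf [43, (-62), 8, 7, 15, 5, 6, 6, 6, 1]) (.leaf []))) (.node (.node (.leaf []) (.leaf [(-8), 10, (-3), (-2), (-1), 1, 0, 0, 0, 0])) (.leaf []))) (.node (.node (.node (.leaf []) (.leaf [(-163), 193, (-24), (-10), (-28), 0, 5, (-3), 1, (-2)])) (.node (.leaf []) (.leaf [298, (-726), 147, 62, 71, 32, 56, 69, 39, 12]))) (.node (.node (.leaf []) (.leaf [7, 3, (-3), (-9), 2, 1, 1, 0, 0, 0])) (.leaf [3386, (-4858), 638, 147, 806, 45, (-14), 368, 97, 8]))))

def certHL26 : Janko.Tree (List ℤ) :=
  (.node (.node (.node (.node (.leaf []) (.leaf [])) (.node (.leaf []) (.leaf []))) (.node (.node (.leaf []) (.leaf [(-35), 42, (-6), (-4), (-6), 0, 1, (-2), (-1), 0])) (.leaf []))) (.node (.node (.node (.leaf []) (.leaf [38, (-37), 9, (-5), 33, (-18), (-22), 7, (-3), (-8)])) (.node (.leaf []) (.leaf [2267680, (-2314438), 229424, 188132, 333193, 48586, 11570, 28331, 25031, 22547]))) (.node (.node (.leaf []) (.leaf [10, 6, (-7), (-9), (-1), 1, (-1), 0, 1, 0])) (.leaf []))))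

def certHL27 : Janko.Tree (List ℤ) :=
  (.node (.node (.node (.node (.leaf []) (.leaf [(-1), 0, 0, 0, 0, 0, 0, 0, 0, 0])) (.node (.leaf []) (.leaf [(-45507), 47548, (-4507), (-3089), (-6814), (-908), (-232), (-775), (-490), (-429)]))) (.node (.node (.leaf []) (.leaf [(-61), 67, (-8), 0, (-7), 1, 1, (-2), 0, 0])) (.leaf [73, (-71), 4, (-8), 18, 0, 0, 1, (-1), 0]))) (.node (.node (.node (.leaf []) (.leaf [1320129, (-1352250), 125682, 100259, 190462, 26738, 5724, 16444, 12396, 12190])) (.node (.leaf []) (.leaf [(-6037330), 5850960, (-539637), (-481371), (-819762), (-134541), (-47239), (-4771), (-53234), (-69733)]))) (.node (.node (.leaf []) (.leaf [])) (.leaf []))))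

def certHL28 : Janko.Tree (List ℤ) :=
  (.node (.node (.node (.node (.leaf []) (.leaf [94, (-125), 13, (-18), 28, 2, 5, 8, 3, 3])) (.node (.leaf []) (.leaf [3944, (-5441), 481, (-581), 1132, (-140), (-469), 598, (-42), (-107)]))) (.node (.node (.leaf []) (.leaf [(-11984), 14576, (-1635), (-813), (-2007), (-311), (-97), (-621), (-253), (-106)])) (.leaf []))) (.node (.node (.node (.leaf []) (.leaf [27, (-34), 6, 3, 3, 0, 2, 1, 0, 0])) (.node (.leaf []) (.leaf [(-489050), 573943, (-43446), (-26293), (-75242), (-6141), 4222, (-20790), (-1516), 595]))) (.node (.node (.leaf []) (.leaf [13, (-9), 0, (-1), 3, 0, 0, 0, (-1), 0])) (.leaf []))))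

def certHL29 : Janko.Tree (List ℤ) :=
  (.node (.node (.node (.node (.leaf []) (.leaf [(-15), (-16), 6, 3, 11, 3, 6, 7, 7, 1])) (.node (.leaf []) (.leaf []))) (.node (.node (.leaf []) (.leaf [265313, (-279615), 27715, 24395, 39685, 5055, 803, 4556, 2973, 2034])) (.leaf []))) (.node (.node (.node (.leaf []) (.leaf [64, (-62), 7, 7, 4, (-1), (-2), 0, (-2), 0])) (.node (.leaf [(-146233), 155579, (-14826), (-10464), (-22224), (-2900), (-280), (-3182), (-1515), (-1164)]) (.leaf [3683695, (-3110027), 214202, 270094, 391131, 87195, 51839, (-101219), 8928, 52905]))) (.node (.node (.leaf []) (.leaf [])) (.leaf []))))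

def certHL30 : Janko.Tree (List ℤ) :=
  (.node (.node (.node (.node (.leaf []) (.leaf [(-2), 1, 0, 1, 0, 0, (-1), 1, 1, 0])) (.node (.leaf [(-1), 1, (-1), 0, 0, 0, 0, 0, 0, 0]) (.leaf [(-544), 493, (-22), (-3), (-68), (-3), 16, 1, 3, (-2)]))) (.node (.node (.leaf [12, (-15), 3, 1, 3, 0, 0, 1, 0, 0]) (.leaf [])) (.leaf []))) (.node (.node (.node (.leaf []) (.leaf [(-9), 8, 0, (-1), (-2), (-1), (-1), 2, 1, 0])) (.node (.leaf []) (.leaf [6845, (-12453), 1642, 166, 2295, (-132), (-678), 1472, 138, (-201)]))) (.node (.node (.leaf [(-27), 33, (-6), (-23), (-4), (-2), (-8), 0, (-4), 2]) (.leaf [433, (-878), 166, 78, 83, 33, 48, 71, 36, 15])) (.leaf [(-2034), 3112, (-902), (-2361), (-404), (-28), (-118), 41, (-184), 38]))))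

def certHL31 : Janko.Tree (List ℤ) :=
  (.node (.node (.node (.node (.leaf []) (.leaf [4, (-4), 0, 1, 1, 0, (-1), 1, 1, 0])) (.node (.leaf []) (.leaf [(-1), (-1), 1, 0, 0, 0, 0, 0, 0, 0]))) (.node (.node (.leaf []) (.leaf [])) (.leaf [0, 0, 0, 0, 0, 0, 0, 0, (-1), 0]))) (.node (.node (.node (.leaf []) (.leaf [])) (.node (.leaf [(-1), 0, 0, 0, 0, 0, 0, 0, 0, 0]) (.leaf [(-12928), 8498, (-359), (-1373), (-1020), (-381), (-371), 904, 24, (-226)]))) (.node (.node (.leaf []) (.leaf [(-369100), 418438, (-45859), (-41718), (-60329), (-6874), 557, (-12147), (-5528), (-1874)])) (.leaf []))))

def certHL32 : Janko.Tree (List ℤ) :=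
  (.node (.node (.node (.node (.leaf []) (.leaf [51, (-66), 10, 0, 12, (-1), 2, 1, 0, 0])) (.node (.leaf []) (.leaf [27, (-84), 22, 22, 18, 5, 8, 6, 7, 1]))) (.node (.node (.leaf []) (.leaf [(-12), 14, 8, (-9), 0, (-6), (-2), (-3), (-7), (-1)])) (.leaf []))) (.node (.node (.node (.leaf []) (.leaf [])) (.node (.leaf [(-1), 0, 0, 0, 0, 0, 0, 0, 0, 0]) (.leaf [(-37467), 41584, (-3688), 1066, (-6692), (-732), 80, (-1736), (-452), (-357)]))) (.node (.node (.leaf [(-10), 10, (-1), 1, (-3), 0, 0, (-2), 0, 0]) (.leaf [])) (.leaf []))))

def certHL33 : Janko.Tree (List ℤ) :=
  (.node (.node (.node (.node (.leaf []) (.leaf [81, (-95), 17, 8, 14, (-2), 1, 0, (-2), 0])) (.node (.leaf []) (.leaf [992576, (-1008801), 89962, 61199, 142953, 20805, 4697, 12356, 8780, 9943]))) (.node (.node (.leaf []) (.leaf [(-19), 24, 0, (-19), (-3), (-5), (-1), (-2), (-5), (-1)])) (.leaf [0, 3, (-1), 0, 1, 0, (-1), 0, (-1), 0]))) (.node (.node (.node (.leaf [(-1), 0, 0, 0, 0, 0, 0, 0, 0, 0]) (.leaf [])) (.node (.leaf []) (.leaf [2188420, (-1970875), 172165, 191890, 266773, 53211, 27414, (-33771), 16180, 30699]))) (.node (.node (.leaf [(-1), 0, 0, 0, 0, 0, 0, 0, 0, 0]) (.leaf [(-13), 50, (-6), 24, 1, (-3), (-6), (-5), (-4), (-3)])) (.leaf [1557,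 (-2155), 241, 15, 361, 2, (-32), 156, 49, (-6)]))))

def certHL34 : Janko.Tree (List ℤ) :=
  (.node (.node (.node (.node (.leaf []) (.leaf [])) (.node (.leaf []) (.leaf [20, (-43), 14, 12, (-6), (-2), 3, (-1), (-1), 1]))) (.node (.node (.leaf []) (.leaf [(-110), 103, 2, (-14), (-41), (-3), 6, (-9), (-6), 1])) (.leaf []))) (.node (.node (.node (.leaf [(-1), 0, 0, 0, 0, 0, 0, 0, 0, 0]) (.leaf [(-1032787), 972743, (-82427), (-85221), (-130061), (-23781), (-10696), 6405, (-7335), (-12117)])) (.node (.leaf []) (.leaf [22714, (-25404), 3222, 4414, 4038, 286, (-21), 507, 507, 67]))) (.node (.node (.leaf [7, (-7), 0, 0, 0, 0, 0, (-1), 0, 0]) (.leaf [])) (.leaf [401, (-563), 87, 74, 104, 9, 19, 27, 18, 5]))))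

def certHL35 : Janko.Tree (List ℤ) :=
  (.node (.node (.node (.node (.leaf []) (.leaf [])) (.node (.leaf []) (.leaf [(-92814), 109570, (-10756), (-3452), (-16522), (-1670), 512, (-4709), (-1171), (-507)]))) (.node (.node (.leaf [(-3), 4, (-1), 0, (-1), 0, 0, 0, 0, 0]) (.leaf [118, (-220), 56, 17, 6, (-2), 14, 1, 0, 5])) (.leaf []))) (.node (.node (.node (.leaf []) (.leaf [])) (.node (.leaf []) (.leaf [936, (-908), 66, 24, 136, 13, (-15), 11, 9, 5]))) (.node (.node (.leaf []) (.leaf [])) (.leaf []))))

def certHL36 : Janko.Tree (List ℤ) :=
  (.node (.node (.node (.node (.leaf []) (.leaf [])) (.node (.leaf []) (.leaf [(-2099789), 1920646, (-172587), (-182922), (-262843), (-50434), (-24552), 25226, (-16724), (-28699)]))) (.node (.node (.leaf [(-5), (-10), 7, 10, 2, 0, 0, 1, 0, 0]) (.leaf [])) (.leaf []))) (.node (.node (.node (.leaf []) (.leaf [11, (-10), 1, (-1), 3, 0, 0, 2, 0, 0])) (.node (.leaf []) (.leaf [145804, (-170354), 17932, 13560, 24980, 2255, (-942), 6038, 1945, 490]))) (.node (.node (.leaf []) (.leaf [])) (.leaf []))))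

def certHL37 : Janko.Tree (List ℤ) :=
  (.node (.node (.node (.node (.leaf []) (.leaf [])) (.node (.leaf []) (.leaf [341705, (-373052), 39662, 37470, 53048, 6922, 720, 8320, 4883, 2352]))) (.node (.node (.leaf [0, 0, 0, 0, 0, 1, 0, 0, 0, 0]) (.leaf [4788, (-5050), 414, 152, 776, 103, 23, 116, 59, 42])) (.leaf []))) (.node (.node (.node (.leaf []) (.leaf [14825, (-16507), 1601, 812, 2291, 357, 67, 513, 231, 132])) (.node (.leaf []) (.leaf [390609, (-428160), 43003, 37638, 60572, 7195, (-141), 9863, 4521, 2367]))) (.node (.node (.leaf []) (.leaf [(-838), 959, (-107), (-36), (-166), (-31), (-20), (-36), (-27), (-11)])) (.leaf []))))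

def certHL38 : Janko.Tree (List ℤ) :=
  (.node (.node (.node (.node (.leaf [12, (-13), 2, 1, 0, (-1), 0, 0, 0, 0]) (.leaf [])) (.node (.leaf []) (.leaf [(-2), 13, (-7), (-3), (-3), 1, 1, 0, (-1), 0]))) (.node (.node (.leaf []) (.leaf [(-17366), 18812, (-1766), (-1080), (-2581), (-334), (-2), (-449), (-163), (-121)])) (.leaf []))) (.node (.node (.node (.leaf []) (.leaf [(-17), 21, 0, (-1), (-4), (-1), 1, (-1), (-1), 0])) (.node (.leaf []) (.leaf [45334, (-43632), 3867, 3379, 6098, 980, 578, (-78), 488, 553]))) (.node (.node (.leaf []) (.leaf [13, (-16), 2, 1, 2, 0, 0, 0, 0, 0])) (.leaf []))))

def certHL39 : Janko.Tree (List ℤ) :=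
  (.node (.node (.node (.node (.leaf []) (.leaf [(-2853), 5343, (-724), 744, (-1048), (-63), 103, (-672), (-83), (-37)])) (.node (.leaf []) (.leaf [(-8723), 10048, (-1564), (-3562), (-988), 0, 169, 36, (-38), 123]))) (.node (.node (.leaf [10, (-20), 5, 9, 0, 0, (-1), 1, 0, 0]) (.leaf [])) (.leaf [(-38), 48, (-7), (-3), (-3), 0, (-3), 0, 0, 0]))) (.node (.node (.node (.leaf []) (.leaf [])) (.node (.leaf []) (.leaf [46405, (-53470), 5680, 3175, 8324, 565, (-522), 2100, 596, 136]))) (.node (.node (.leaf []) (.leaf [15, (-15), 3, (-3), 2, (-1), 0, 1, (-1), 0])) (.leaf [(-287785), 278795, (-23811), (-17709), (-39181), (-6126), (-1804), (-706), (-2073), (-3265)]))))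

def certHL40 : Janko.Tree (List ℤ) :=
  (.node (.node (.node (.node (.leaf []) (.leaf [130, (-214), 25, (-13), 34, 13, 10, 19, 10, 7])) (.node (.leaf [8, (-7), 0, 0, 1, 0, 0, 0, 0, 0]) (.leaf [484048, (-409359), 31448, 66747, 45004, 12084, 8679, (-17074), 1897, 5843]))) (.node (.node (.leaf []) (.leaf [(-5126), 5175, (-367), (-131), (-806), (-107), 10, (-108), (-57), (-44)])) (.leaf [(-7), 11, (-3), (-2), 0, 0, (-1), 0, (-1), 0]))) (.node (.node (.node (.leaf []) (.leaf [12, (-8), (-2), (-1), 0, 0, (-1), 0, (-1), 0])) (.node (.leaf [(-11), 15, (-3), (-1), (-3), 0, 0, (-1), 0, 0]) (.leaf [(-163), 131, 8, (-4), (-6), 1, 9, 5, 2, 0]))) (.node (.node (.leaf [(-4), 4, (-2), 3, 0, 1, (-1), (-1), 1, 0]) (.leaf [])) (.leaf [(-28), 25, (-1), 4, (-3), 0, (-3), 3, 2, 0]))))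

def certHL41 : Janko.Tree (List ℤ) :=
  (.node (.node (.node (.node (.leaf []) (.leaf [])) (.node (.leaf []) (.leaf [785049, (-725500), 64143, 101130, 89714, 18130, 9665, (-12757), 5729, 8135]))) (.node (.node (.leaf []) (.leaf [(-28167), 30805, (-2853), (-739), (-4775), (-536), 64, (-1010), (-313), (-234)])) (.leaf [8, (-6), (-1), (-1), 2, 0, (-1), 0, (-1), 0]))) (.node (.node (.node (.leaf []) (.leaf [17, (-14), (-1), (-4), (-1), (-1), (-1), 1, (-1), 0])) (.node (.leaf []) (.leaf [(-114), 119, (-2), 15, (-21), (-4), (-1), (-2), (-2), (-3)]))) (.node (.node (.leaf []) (.leaf [23, (-19), 0, (-4), 3, (-1), (-1), 0, (-2), 0])) (.leaf [(-53), (-22), 12, 29, (-8), (-12), (-16), 18, 6, (-10)]))))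

def certHL42 : Janko.Tree (List ℤ) :=
  (.node (.node (.node (.node (.leaf []) (.leaf [])) (.node (.leaf []) (.leaf [157463, (-173716), 17128, 10486, 25407, 2988, 150, 4756, 1900, 1145]))) (.node (.node (.leaf []) (.leaf [])) (.leaf [2, 1, (-1), (-1), (-2), (-1), (-1), (-1), 0, 0]))) (.node (.node (.node (.leaf []) (.leaf [(-8), 8, 0, 5, (-3), 0, 0, 0, 1, 0])) (.node (.leaf [(-16), 18, (-2), (-1), (-1), 0, 0, 0, 0, 0]) (.leaf [134, (-104), (-13), 12, (-3), 0, (-13), (-6), 0, 0]))) (.node (.node (.leaf []) (.leaf [728, (-808), 90, 6, 141, 15, 10, 27, 9, 9])) (.leaf [31, (-39), 5, 8, 1, 0, (-1), 1, 0, 0]))))

def certHL43 : Janko.Tree (List ℤ) :=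
  (.node (.node (.node (.node (.leaf [1, 0, (-1), 0, 0, 0, 0, 0, 0, 0]) (.leaf [2772685, (-2505163), 215099, 258714, 330960, 65581, 34832, (-43863), 18595, 36300])) (.node (.leaf []) (.leaf [165, (-93), (-17), (-16), 11, (-1), (-15), (-8), (-3), (-1)]))) (.node (.node (.leaf []) (.leaf [100214, (-110585), 11337, 6052, 16447, 1763, (-38), 3284, 1220, 767])) (.leaf []))) (.node (.node (.node (.leaf []) (.leaf [(-23), 23, (-2), 4, (-2), 1, 0, 0, 1, 0])) (.node (.leaf [1, 0, 0, 0, 0, (-1), 0, 0, 0, 0]) (.leaf [104, (-72), (-11), 17, (-12), (-2), (-15), (-5), (-4), 0]))) (.node (.node (.leaf []) (.leaf [])) (.leaf [8, (-19), 6, 8, 1, 0, 0, 1, 1, 0]))))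

def certHL44 : Janko.Tree (List ℤ) :=
  (.node (.node (.node (.node (.leaf []) (.leaf [1755, (-2346), 260, 28, 409, 14, (-49), 167, 43, 0])) (.node (.leaf []) (.leaf [(-392042), 433855, (-45493), (-28660), (-64641), (-7656), 488, (-12882), (-5101), (-2869)]))) (.node (.node (.leaf []) (.leaf [])) (.leaf []))) (.node (.node (.node (.leaf []) (.leaf [55, (-68), 4, 23, 3, 5, 2, 0, 5, 1])) (.node (.leaf []) (.leaf [(-27), 24, (-2), 10, (-3), 2, 1, (-2), 2, 0]))) (.node (.node (.leaf [(-18), 34, (-11), (-8), 1, 0, (-4), (-2), 1, (-1)]) (.leaf [(-1), 0, 0, 0, 0, 0, 0, 0, 0, 0])) (.leaf [(-1), 1, (-1), 0, 0, 0, 0, 0, 0, 0]))))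

def certHL45 : Janko.Tree (List ℤ) :=
  (.node (.node (.node (.node (.leaf []) (.leaf [422, (-376), 17, (-28), 68, 4, (-4), 3, (-2), 2])) (.node (.leaf []) (.leaf [(-329733), 364925, (-36340), (-15370), (-55225), (-6566), 773, (-12022), (-4015), (-2580)]))) (.node (.node (.leaf [0, 0, 0, 1, 0, 0, 0, 0, 0, 0]) (.leaf [(-13607), (-1771), 2015, 2055, 787, (-715), (-1337), 2838, 116, (-852)])) (.leaf []))) (.node (.node (.node (.leaf []) (.leaf [(-289), 177, 23, 48, (-39), 2, 16, 4, 6, 2])) (.node (.leaf []) (.leaf [(-26727), 29451, (-3034), (-2301), (-4367), (-489), (-40), (-779), (-407), (-181)]))) (.node (.node (.leaf [(-4), 6, (-1), (-1), (-1), 0, 0, 0, 0, 0]) (.leaf [])) (.leaf []))))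

def certHL46 : Janko.Tree (List ℤ) :=
  (.node (.node (.node (.node (.leaf []) (.leaf [31, (-41), 3, 4, 9, 1, (-3), (-1), 2, 0])) (.node (.leaf []) (.leaf [18, (-17), 3, 1, 0, (-1), (-1), (-1), (-1), 0]))) (.node (.node (.leaf [0, 3, (-2), (-2), (-1), 0, 0, 0, 0, 0]) (.leaf [(-35), 46, (-3), (-4), (-10), (-1), 3, 1, (-2), 0])) (.leaf [20, (-68), 16, 14, 12, 4, 7, 8, 7, 1]))) (.node (.node (.node (.leaf []) (.leaf [])) (.node (.leaf []) (.leaf [11462, (-6454), 69, 1139, 668, 407, 443, (-1037), (-55), 250]))) (.node (.node (.leaf [(-4), 8, (-1), (-1), (-2), (-1), (-2), 0, 0, 0]) (.leaf [])) (.leaf [(-3404140), 2955561, (-265064), (-314441), (-402689), (-86929), (-52197), 75752, (-27215), (-53840)]))))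

def certHL47 : Janko.Tree (List ℤ) :=
  (.node (.node (.node (.node (.leaf []) (.leaf [])) (.node (.leaf [(-2), 5, (-2), (-1), (-1), 0, 0, 0, 0, 0]) (.leaf [2, (-2), 0, 0, (-1), 0, 0, 0, 0, 0]))) (.node (.node (.leaf []) (.leaf [1, 0, 0, 0, 0, 0, 0, 0, 0, 0])) (.leaf [15, (-53), 11, 5, 13, 4, 8, 7, 7, 1]))) (.node (.node (.node (.leaf []) (.leaf [])) (.node (.leaf []) (.leaf []))) (.node (.node (.leaf []) (.leaf [])) (.leaf [(-8362), 9134, (-993), (-650), (-1361), (-119), 1, (-224), (-95), (-59)]))))

def certHL48 : Janko.Tree (List ℤ) :=
  (.node (.node (.node (.node (.leaf []) (.leaf [])) (.node (.leaf []) (.leaf [(-8770), 9112, (-700), (-245), (-1409), (-187), (-24), (-200), (-100), (-73)]))) (.node (.node (.leaf []) (.leaf [170, (-196), 28, 0, 30, (-2), (-2), 7, (-3), 2])) (.leaf [(-6), 7, 0, 0, 0, 0, 0, 0, 0, (-1)]))) (.node (.node (.node (.leaf []) (.leaf [(-3), 8, (-1), (-1), 1, 0, (-1), 0, (-1), 0])) (.node (.leaf [55, (-68), 11, 0, 12, (-1), 0, 2, 1, 0]) (.leaf [168036, (-116160), 8011, 15183, 13846, 5254, 4076, (-9328), 236, 3438]))) (.node (.node (.leaf []) (.leaf [(-2710), 3799, (-413), 173, (-794), (-27), 6, (-311), (-94), (-9)])) (.leaf [4634, (-4752), 347, (-48), 740, 106, 32, 113, 42, 48]))))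

def certHL49 : Janko.Tree (List ℤ) :=
  (.node (.node (.node (.node (.leaf []) (.leaf [(-21), 22, (-3), 3, (-2), 1, 0, (-1), 1, 0])) (.node (.leaf []) (.leaf [(-2983), 4655, (-684), (-220), (-850), 0, 60, (-394), (-118), 7]))) (.node (.node (.leaf []) (.leaf [])) (.leaf [15694, (-16576), 1591, 764, 2517, 248, (-34), 385, 152, 117]))) (.node (.node (.node (.leaf []) (.leaf [1, 3, (-1), (-1), 2, 0, (-1), 0, (-1), 0])) (.node (.leaf []) (.leaf [(-85669), 160460, (-20898), 3695, (-28990), 46, 4110, (-18135), (-3107), 1086]))) (.node (.node (.leaf [(-16), 12, 0, 9, (-7), 0, (-2), (-1), 1, 0]) (.leaf [(-71628), 73097, (-7055), (-5226), (-10498), (-1444), (-383), (-949), (-751), (-670)])) (.leaf [5280, (-5482), 451, 143, 847, 103, 6, 122, 49, 44]))))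

def certHL50 : Janko.Tree (List ℤ) :=
  (.node (.node (.node (.node (.leaf []) (.leaf [56, (-59), 7, 46, 9, 1, (-1), (-1), 2, (-2)])) (.node (.leaf [72, (-71), 0, 0, 6, 2, 0, 1, (-1), 1]) (.leaf [(-16726), 18204, (-1802), (-957), (-2771), (-289), 14, (-497), (-202), (-125)]))) (.node (.node (.leaf [7, (-8), 1, 0, 1, 0, 0, 0, 0, 0]) (.leaf [(-732747), 732524, (-64566), (-43396), (-104167), (-15199), (-4153), (-6696), (-6293), (-7804)])) (.leaf [(-5), 34, (-6), (-2), (-13), (-3), (-6), (-7), (-6), (-1)]))) (.node (.node (.node (.leaf []) (.leaf [(-1936), 3018, (-488), (-143), (-510), (-27), 17, (-228), (-37), (-18)])) (.node (.leaf []) (.leaf [(-1), 5, (-1), (-1), 0, 0, (-1), 0, 0, 0]))) (.node (.node (.leaf []) (.leaf [26, (-31), 6, 2, 4, (-2), (-2), 0, 1, 0])) (.leaf []))))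

def certHL51 : Janko.Tree (List ℤ) :=
  (.node (.node (.node (.node (.leaf []) (.leaf [])) (.node (.leaf []) (.leaf [(-104302), 114802, (-11505), (-7003), (-17124), (-1833), 269, (-3338), (-1231), (-677)]))) (.node (.node (.leaf []) (.leaf [(-37496), 40403, (-4041), (-2803), (-6052), (-609), 61, (-1007), (-470), (-243)])) (.leaf []))) (.node (.node (.node (.leaf []) (.leaf [])) (.node (.leaf []) (.leaf [2385734, (-2240237), 185638, 181837, 300618, 52481, 21814, (-15802), 14548, 27859]))) (.node (.node (.leaf []) (.leaf [(-126), 157, (-17), 17, (-32), (-1), (-2), (-9), (-1), (-4)])) (.leaf [(-19), 67, (-15), (-14), (-12), (-4), (-7), (-8), (-7), (-1)]))))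

def certHL52 : Janko.Tree (List ℤ) :=
  (.node (.node (.node (.node (.leaf []) (.leaf [])) (.node (.leaf []) (.leaf []))) (.node (.node (.leaf []) (.leaf [(-453), 868, (-151), (-73), (-103), (-25), (-42), (-65), (-36), (-9)])) (.leaf []))) (.node (.node (.node (.leaf []) (.leaf [])) (.node (.leaf [1, 0, 0, 0, 0, 0, 0, 0, 0, 0]) (.leaf [85967, (-91624), 8173, 5165, 12868, 1760, (-218), 2064, 597, 546]))) (.node (.node (.leaf []) (.leaf [33, (-31), 3, 1, 2, (-1), 0, (-2), (-1), 0])) (.leaf []))))

def certHL53 : Janko.Tree (List ℤ) :=
  (.node (.node (.node (.node (.leaf []) (.leaf [])) (.node (.leaf [(-42433), 40373, (-1932), 444, (-5145), (-1125), (-309), (-181), (-58), (-566)]) (.leaf [(-17349), 18960, (-1792), (-886), (-2699), (-366), (-39), (-535), (-233), (-144)]))) (.node (.node (.leaf [1, 0, 0, 0, 0, 0, 0, 0, 0, 0]) (.leaf [0, (-2), 1, 1, (-1), 0, 1, 0, 0, 0])) (.leaf []))) (.node (.node (.node (.leaf []) (.leaf [])) (.node (.leaf [(-9), 9, 0, 0, 1, 0, 0, 0, 0, 0]) (.leaf [3621953, (-3012038), 207015, 285291, 373901, 87072, 54856, (-112121), 8596, 53464]))) (.node (.node (.leaf []) (.leaf [37, (-36), 3, 1, 3, (-1), 0, (-2), (-1), 0])) (.leaf []))))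

def certHL54 : Janko.Tree (List ℤ) :=
  (.node (.node (.node (.node (.leaf []) (.leaf [352619, (-386936), 42740, 42156, 55219, 6811, 624, 8710, 5273, 2233])) (.node (.leaf []) (.leaf [55926, (-58477), 5629, 4278, 8303, 1068, 104, 1011, 555, 442]))) (.node (.node (.leaf []) (.leaf [26740, (-29464), 3040, 2302, 4365, 488, 45, 781, 406, 181])) (.leaf [217, (-303), 43, 27, 29, 5, 7, 10, 7, 4]))) (.node (.node (.node (.leaf []) (.leaf [])) (.node (.leaf []) (.leaf [2912, (-2369), 42, 2, 295, 85, 45, (-72), (-2), 44]))) (.node (.node (.leaf []) (.leaf [(-5640), 6340, (-568), (-117), (-1026), (-93), 38, (-254), (-78), (-32)])) (.leaf []))))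

def certHL55 : Janko.Tree (List ℤ) :=
  (.node (.node (.node (.node (.leaf []) (.leaf [])) (.node (.leaf []) (.leaf [59, (-116), 26, 13, 25, 4, 12, 8, 5, 1]))) (.node (.node (.leaf []) (.leaf [8624, (-6359), 305, 812, 740, 244, 274, (-478), 94, 162])) (.leaf [156, (-230), 33, 27, 21, 5, 5, 9, 8, 3]))) (.node (.node (.node (.leaf []) (.leaf [3, (-6), 2, 1, 0, 0, 1, 0, 0, 0])) (.node (.leaf [3, (-1), (-2), 0, (-1), 0, 0, 0, 0, 0]) (.leaf [(-105376), 110786, (-9960), (-6708), (-15831), (-2250), (-414), (-2112), (-1150), (-946)]))) (.node (.node (.leaf []) (.leaf [(-4712), 4850, (-384), (-126), (-742), (-94), (-3), (-104), (-39), (-39)])) (.leaf []))))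

def certHL56 : Janko.Tree (List ℤ) :=
  (.node (.node (.node (.node (.leaf []) (.leaf [(-147), 154, (-17), 12, (-24), 4, (-3), (-4), 3, 0])) (.node (.leaf []) (.leaf [(-2675), 1388, 198, 258, (-173), (-142), (-95), 174, (-23), (-75)]))) (.node (.node (.leaf []) (.leaf [])) (.leaf [4, (-8), 2, 1, 4, 1, 0, 1, 0, 0]))) (.node (.node (.node (.leaf []) (.leaf [(-974), 1032, (-105), (-56), (-145), (-18), (-2), (-25), (-15), (-9)])) (.node (.leaf []) (.leaf [(-50198), 51928, (-5078), (-4347), (-7647), (-906), (-209), (-666), (-604), (-458)]))) (.node (.node (.leaf [3, 1, (-2), 0, 0, 0, 0, (-1), 0, 0]) (.leaf [(-22972), 26382, (-3118), (-2275), (-3839), (-373), (-47), (-821), (-373), (-177)])) (.leaf []))))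

def certHL57 : Janko.Tree (List ℤ) :=
  (.node (.node (.node (.node (.leaf []) (.leaf [])) (.node (.leaf []) (.leaf [35950, (-41047), 4515, 2398, 6484, 573, (-77), 1487, 533, 214]))) (.node (.node (.leaf []) (.leaf [])) (.leaf []))) (.node (.node (.node (.leaf []) (.leaf [742, (-1473), 212, 14, 270, 8, (-8), 164, 45, (-2)])) (.node (.leaf []) (.leaf [9080716, (-8816265), 875629, 834619, 1255133, 215362, 83459, 2353, 99816, 113634]))) (.node (.node (.leaf []) (.leaf [])) (.leaf []))))

def certHL58 : Janko.Tree (List ℤ) :=
  (.node (.node (.node (.node (.leaf []) (.leaf [(-6308731), 5755009, (-525488), (-576793), (-788852), (-153745), (-78680), 81164, (-54046), (-87724)])) (.node (.leaf []) (.leaf [(-4814), 6585, (-1148), (-2792), (-787), (-73), (-77), (-55), (-204), 35]))) (.node (.node (.leaf []) (.leaf [])) (.leaf [(-28), 5, 6, 29, (-10), 2, 4, (-1), 6, (-1)]))) (.node (.node (.node (.leaf []) (.leaf [81, (-30), (-10), (-17), (-19), 13, 10, (-9), (-9), 9])) (.node (.leaf [4, 2, 6, (-11), (-1), (-6), (-2), (-3), (-7), (-1)]) (.leaf [(-3690417), 3117943, (-215001), (-270132), (-392376), (-87328), (-51821), 100862, (-9030), (-52976)]))) (.node (.node (.leaf []) (.leaf [])) (.leaf []))))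

def certHL59 : Janko.Tree (List ℤ) :=
  (.node (.node (.node (.node (.leaf []) (.leaf [46265, (-50333), 5230, 3513, 7575, 756, (-20), 1286, 576, 320])) (.node (.leaf []) (.leaf [409766, (-446133), 43631, 32549, 63661, 7800, (-61), 10655, 4399, 2764]))) (.node (.node (.leaf [3, (-6), 1, 1, 1, 0, 0, 0, 0, 0]) (.leaf [])) (.leaf [9, (-17), 5, 3, 4, 1, 2, 1, 0, 0]))) (.node (.node (.node (.leaf []) (.leaf [])) (.node (.leaf [22, (-14), 5, (-12), (-1), (-6), (-3), (-3), (-7), (-1)]) (.leaf [(-2280147), 2065922, (-184369), (-208742), (-279712), (-55022), (-28350), 33325, (-17787), (-31352)]))) (.node (.node (.leaf []) (.leaf [])) (.leaf [(-15036), 15908, (-1554), (-689), (-2471), (-201), 65, (-385), (-116), (-106)]))))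

def certHL60 : Janko.Tree (List ℤ) :=
  (.node (.node (.node (.node (.leaf []) (.leaf [0, (-1), 2, 0, 0, 0, 0, 0, 0, 0])) (.node (.leaf []) (.leaf [1161145, (-1002315), 76366, 100833, 127162, 27626, 16368, (-28448), 4768, 16008]))) (.node (.node (.leaf []) (.leaf [])) (.leaf []))) (.node (.node (.node (.leaf []) (.leaf [(-1), 3, (-1), (-2), 2, 0, (-1), 1, 0, 0])) (.node (.leaf []) (.leaf [4578, (-4680), 347, 144, 709, 92, (-8), 94, 44, 35]))) (.node (.node (.leaf []) (.leaf [1, 0, 0, 0, 0, 0, 0, 0, 0, 0])) (.leaf []))))

def certHL61 : Janko.Tree (List ℤ) :=
  (.node (.node (.node (.node (.leaf [0, (-1), 0, 0, 0, 0, 0, 0, 0, 0]) (.leaf [(-527), 478, (-25), 15, (-80), 0, 10, (-13), 1, (-1)])) (.node (.leaf []) (.leaf []))) (.node (.node (.leaf []) (.leaf [234731, (-247997), 22279, 9888, 36326, 4812, (-6), 5686, 2132, 2012])) (.leaf [(-5), (-9), 6, 10, 2, 0, 0, 1, 0, 0]))) (.node (.node (.node (.leaf []) (.leaf [(-2), (-11), 7, 10, 2, 0, (-1), 1, 0, 0])) (.node (.leaf []) (.leaf [478, (-493), 41, 5, 89, 10, (-4), 15, 11, 4]))) (.node (.node (.leaf []) (.leaf [113950, (-115381), 8875, 3210, 16237, 2555, 566, 1686, 761, 1238])) (.leaf []))))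

def certHL62 : Janko.Tree (List ℤ) :=
  (.node (.node (.node (.node (.leaf [(-1), 0, 0, 0, 0, 0, 0, 0, 0, 0]) (.leaf [(-54), 56, (-1), (-1), (-13), (-1), 3, 1, (-1), 0])) (.node (.leaf []) (.leaf [(-6732807), 6621908, (-671446), (-675364), (-938652), (-157906), (-58487), (-14751), (-78737), (-79324)]))) (.node (.node (.leaf []) (.leaf [])) (.leaf [(-79), 400, (-119), (-57), (-29), 6, (-18), (-47), (-18), (-9)]))) (.node (.node (.node (.leaf [(-3), (-13), 11, 5, 2, (-2), (-1), 1, 1, 0]) (.leaf [])) (.node (.leaf [17, (-22), 6, (-1), 6, 0, 1, 2, 0, 0]) (.leaf [(-753), 1615, (-305), (-132), (-151), (-65), (-98), (-141), (-76), (-27)]))) (.node (.node (.leaf []) (.leaf [47, (-24), (-11), (-13), 0, 0, (-2), (-1), (-1), 0])) (.leaf [(-790), 774, (-62), (-2), (-104), (-1), 13, (-9), 10, (-6)]))))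

def certHL63 : Janko.Tree (List ℤ) :=
  (.node (.node (.node (.node (.leaf []) (.leaf [1, 0, 0, 0, 0, 0, 0, 0, 0, 0])) (.node (.leaf []) (.leaf [111197, (-114919), 10455, 7848, 15915, 2349, 606, 1563, 1030, 1028]))) (.node (.node (.leaf []) (.leaf [583, (-742), 75, 31, 111, 17, 7, 36, 20, 9])) (.leaf []))) (.node (.node (.node (.leaf []) (.leaf [(-985), 1124, (-100), (-48), (-169), (-25), (-3), (-40), (-27), (-10)])) (.node (.leaf []) (.leaf [155486, (-170107), 17660, 17345, 23965, 2743, 204, 3685, 1871, 817]))) (.node (.node (.leaf []) (.leaf [(-4), 32, (-17), (-22), 0, 1, 0, (-1), 0, (-1)])) (.leaf []))))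

def certHL64 : Janko.Tree (List ℤ) :=
  (.node (.node (.node (.node (.leaf []) (.leaf [(-58), 57, (-6), 8, (-11), 2, 0, (-2), 2, 0])) (.node (.leaf []) (.leaf [(-15750), 16194, (-1445), (-634), (-2487), (-239), 77, (-344), (-118), (-110)]))) (.node (.node (.leaf []) (.leaf [(-1931), 2022, (-150), 5, (-264), (-30), 1, (-38), (-15), (-19)])) (.leaf []))) (.node (.node (.node (.leaf []) (.leaf [])) (.node (.leaf []) (.leaf [1, 0, 0, 0, 0, 0, 0, 0, 0, 0]))) (.node (.node (.leaf [(-32), 32, (-5), 6, 2, 2, (-3), (-2), 2, 0]) (.leaf [(-23393), 26620, (-66), 8858, (-4679), (-1026), (-49), (-2097), (-18), (-503)])) (.leaf []))))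

def certHL65 : Janko.Tree (List ℤ) :=
  (.node (.node (.node (.node (.leaf []) (.leaf [])) (.node (.leaf [(-146), 220, (-35), (-27), (-18), (-4), (-7), (-8), (-7), (-3)]) (.leaf [(-295348), 311012, (-31706), (-29829), (-44489), (-5961), (-780), (-4910), (-3636), (-2359)]))) (.node (.node (.leaf []) (.leaf [(-1373), 1458, (-113), (-43), (-166), (-25), (-3), (-23), (-10), (-11)])) (.leaf [74, (-78), 5, (-10), 7, 3, 1, 2, (-1), 3]))) (.node (.node (.node (.leaf []) (.leaf [])) (.node (.leaf []) (.leaf []))) (.node (.node (.leaf [(-65), 73, (-11), 6, (-12), 1, (-4), (-2), 2, 0]) (.leaf [203, (-348), 79, (-3), 63, 20, 30, 25, 10, 11])) (.leaf [(-253391), 274525, (-28934), (-28233), (-38818), (-4611), (-58), (-5463), (-2977), (-1489)]))))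

def certHL66 : Janko.Tree (List ℤ) :=
  (.node (.node (.node (.node (.leaf []) (.leaf [6, (-5), 1, 0, 1, 0, 0, 0, 0, 0])) (.node (.leaf []) (.leaf []))) (.node (.node (.leaf [12, (-17), 1, (-1), (-2), 1, 3, 0, 1, 0]) (.leaf [])) (.leaf []))) (.node (.node (.node (.leaf [1, 0, 0, 0, 0, 0, 0, 0, 0, 0]) (.leaf [])) (.node (.leaf []) (.leaf []))) (.node (.node (.leaf []) (.leaf [3, 0, 0, 0, (-1), 0, 0, (-2), (-1), 0])) (.leaf []))))

def certHL67 : Janko.Tree (List ℤ) :=
  (.node (.node (.node (.node (.leaf []) (.leaf [])) (.node (.leaf [(-18606), 22114, (-2699), (-3154), (-3099), (-399), (-90), (-700), (-466), (-67)]) (.leaf [158857, (-186399), 20080, 16781, 26820, 2501, (-995), 6484, 2153, 447]))) (.node (.node (.leaf []) (.leaf [(-592975), 599869, (-54640), (-45910), (-83751), (-12179), (-3047), (-5528), (-5303), (-5648)])) (.leaf [220925, (-181818), 16069, 25242, 23006, 5577, 3743, (-7688), 1130, 3394]))) (.node (.node (.node (.leaf [5, (-5), 0, 0, 1, 0, 0, 0, 0, 0]) (.leaf [(-264178), 308670, (-28713), (-13049), (-45191), (-4737), 663, (-11988), (-3403), (-1422)])) (.node (.leaf []) (.leaf [2, (-1), 1, 0, 0, 0, 0, 0, 0, 0]))) (.node (.node (.leaf []) (.leaf [(-1), 3, 0, (-1), (-2), (-1), (-1), 0, 0, 0])) (.leaf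 [(-333), 591, (-93), (-21), (-71), (-32), (-22), (-49), (-20), (-19)]))))

def certHL68 : Janko.Tree (List ℤ) :=
  (.node (.node (.node (.node (.leaf []) (.leaf [])) (.node (.leaf []) (.leaf [105915, (-130325), 13928, 7405, 19803, 1697, (-893), 6140, 1650, 310]))) (.node (.node (.leaf []) (.leaf [(-132), 213, (-39), 28, (-48), (-7), (-17), (-16), (-4), (-6)])) (.leaf [146879, (-156412), 14822, 10079, 22482, 2826, 203, 3310, 1517, 1139]))) (.node (.node (.node (.leaf []) (.leaf [485, (-505), 43, 12, 80, 10, (-2), 13, 9, 5])) (.node (.leaf []) (.leaf [2, 1, (-1), 0, 0, 0, 0, 0, 0, 0]))) (.node (.node (.leaf [(-132), 154, (-17), (-3), (-15), 0, 1, (-3), 0, (-2)]) (.leaf [(-26), 24, (-3), (-1), (-2), 1, 0, 2, 1, 0])) (.leaf []))))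

def certHL69 : Janko.Tree (List ℤ) :=
  (.node (.node (.node (.node (.leaf []) (.leaf [])) (.node (.leaf [(-5041), 5214, (-410), (-133), (-798), (-104), (-6), (-116), (-57), (-44)]) (.leaf [157744, (-188194), 20956, 19077, 27120, 2748, (-489), 6802, 2716, 482]))) (.node (.node (.leaf []) (.leaf [(-35529), 37781, (-3924), (-3222), (-5735), (-574), (-38), (-775), (-455), (-225)])) (.leaf []))) (.node (.node (.node (.leaf [0, 1, (-1), 0, 0, 0, 0, 0, 0, 0]) (.leaf [])) (.node (.leaf [12, (-16), 5, (-1), 5, 0, 1, 2, 0, 0]) (.leaf [(-2), 5, 0, 0, (-1), 0, 0, 0, 0, 0]))) (.node (.node (.leaf [(-55), 67, (-6), 0, (-11), 1, 0, (-3), 0, 0]) (.leaf [(-6), 2, 0, 1, 0, 0, 0, 2, 1, 0])) (.leaf [38022, 218451, (-55735), 8259, (-56369), 3064, 14353, (-59587), (-12197), 5525]))))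

def certHL70 : Janko.Tree (List ℤ) :=
  (.node (.node (.node (.node (.leaf []) (.leaf [118, (-127), 14, (-1), 19, (-4), (-4), 2, 0, 0])) (.node (.leaf []) (.leaf [(-1601), 1599, (-117), (-71), (-267), (-17), 21, (-27), (-13), (-8)]))) (.node (.node (.leaf []) (.leaf [])) (.leaf []))) (.node (.node (.node (.leaf []) (.leaf [4, (-2), (-2), (-1), (-1), 0, 0, 0, 0, 0])) (.node (.leaf [(-61), 164, (-55), (-17), 7, 3, (-17), (-2), 1, (-5)]) (.leaf [8, (-5), 0, 0, 1, 0, 0, 0, 0, 0]))) (.node (.node (.leaf []) (.leaf [])) (.leaf [117283, (-27715), (-14706), 530, (-6024), 2982, 5177, (-19397), (-4390), 2777]))))

def certHL71 : Janko.Tree (List ℤ) :=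
  (.node (.node (.node (.node (.leaf []) (.leaf [(-1), 0, 0, 0, 0, 0, 0, 0, 0, 0])) (.node (.leaf []) (.leaf [(-5082), 6864, (-905), (-485), (-1118), (-18), 66, (-386), (-82), 7]))) (.node (.node (.leaf []) (.leaf [155303, (-157027), 12888, 6925, 22341, 3258, 784, 1976, 1146, 1575])) (.leaf []))) (.node (.node (.node (.leaf []) (.leaf [0, 3, (-1), (-1), (-3), (-1), 1, (-1), 0, 0])) (.node (.leaf []) (.leaf [(-3), 9, (-4), (-1), (-3), 0, (-1), 0, 0, 0]))) (.node (.node (.leaf []) (.leaf [80916, (-84581), 8115, 5818, 12326, 1522, 271, 1458, 880, 679])) (.leaf []))))

def certHL72 : Janko.Tree (List ℤ) :=
  (.node (.node (.node (.node (.leaf []) (.leaf [(-147439), 155184, (-14388), (-9968), (-22244), (-2854), (-184), (-2983), (-1416), (-1161)])) (.node (.leaf [1, 0, 0, 0, 0, 0, (-1), 0, 0, 0]) (.leaf [(-3977), 5734, (-1127), (-2360), (-879), (-27), (-8), (-195), (-229), 69]))) (.node (.node (.leaf []) (.leaf [(-403726), 228168, 17608, 916, (-12200), (-8709), (-9265), 35014, 8575, (-6887)])) (.leaf [(-1809), 2779, (-440), (-319), (-447), 13, 46, (-185), (-53), 11]))) (.node (.node (.node (.leaf []) (.leaf [(-3132), 4511, (-585), (-124), (-762), (-38), 21, (-350), (-90), (-3)])) (.node (.leaf [(-4), 2, 2, 1, 1, 0, 0,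 0, 0, 0]) (.leaf [4, (-5), 2, 0, 2, 0, 0, 0, 0, 0]))) (.node (.node (.leaf []) (.leaf [10, (-5), 0, 1, 2, (-1), (-3), 0, (-1), 0])) (.leaf [2673131, (-2557698), 236874, 237787, 353547, 61961, 24888, (-8197), 24228, 32075]))))

def certHL73 : Janko.Tree (List ℤ) :=
  (.node (.node (.node (.node (.leaf []) (.leaf [(-6), 5, 0, 0, (-1), 0, 0, 0, 0, 0])) (.node (.leaf []) (.leaf [1, 0, 0, 0, 0, 0, 0, 0, 0, 0]))) (.node (.node (.leaf []) (.leaf [417173, (-443228), 42899, 33900, 64095, 8076, 1008, 8427, 4709, 3300])) (.leaf [(-13), 11, 1, 1, 3, 1, (-1), 1, 0, 0]))) (.node (.node (.node (.leaf []) (.leaf [8568, (-9514), 1040, 718, 1381, 129, (-8), 263, 111, 58])) (.node (.leaf []) (.leaf [(-2), 2, 0, 0, 1, 0, 0, 0, 0, 0]))) (.node (.node (.leaf [1, 1, (-1), 0, (-1), 0, 0, 0, 0, 0]) (.leaf [(-4), 5, 0, 0, (-1), 0, 1, 0, 0, 0])) (.leaf []))))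

def certHL74 : Janko.Tree (List ℤ) :=
  (.node (.node (.node (.node (.leaf []) (.leaf [])) (.node (.leaf []) (.leaf [(-2527046), 2427416, (-209885), (-203836), (-328890), (-55018), (-20410), 5780, (-18056), (-27706)]))) (.node (.node (.leaf []) (.leaf [(-205978), 189897, (-22561), (-30620), (-26678), (-5436), (-3284), 3149, (-2775), (-2927)])) (.leaf [8, (-8), 0, 1, 2, 1, 0, (-1), (-1), 0]))) (.node (.node (.node (.leaf []) (.leaf [3362, (-3317), 228, 107, 487, 49, (-25), 59, 15, 24])) (.node (.leaf []) (.leaf [2, (-1), (-1), 0, (-1), 0, 0, 0, 0, 0]))) (.node (.node (.leaf [(-5), 6, 0, (-1), 0, 0, 0, 0, 0, 0]) (.leaf [83814, (-85904), 6691, 2617, 12138, 1871, 348, 1463, 644, 872])) (.leaf [211148, (-246887), 24457, 11345, 36662, 3583, (-1059), 9730, 2565, 1062]))))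

def certHL75 : Janko.Tree (List ℤ) :=
  (.node (.node (.node (.node (.leaf []) (.leaf [])) (.node (.leaf [(-3), 6, (-2), 0, (-1), 0, (-1), 0, 0, 0]) (.leaf [(-95193), 97148, (-9388), (-6319), (-14430), (-1602), (-93), (-1404), (-848), (-816)]))) (.node (.node (.leaf []) (.leaf [147427, (-155523), 14495, 10062, 22255, 2887, 227, 3028, 1440, 1178])) (.leaf [(-813), 782, (-58), (-33), (-97), (-10), 18, (-15), (-7), (-8)]))) (.node (.node (.node (.leaf []) (.leaf [])) (.node (.leaf []) (.leaf [5, (-6), 1, 0, 1, 0, 0, 0, 0, 0]))) (.node (.node (.leaf []) (.leaf [(-39894), 38786, (-4875), (-10542), (-4702), (-690), (-352), 813, (-560), (-191)])) (.leaf [336573, (-329505), 27787, 21819, 45519, 7234, 2169, 1202, 2378, 3682]))))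

def certHL76 : Janko.Tree (List ℤ) :=
  (.node (.node (.node (.node (.leaf []) (.leaf [117, (-118), 14, (-9), 37, (-2), (-7), 4, (-4), 0])) (.node (.leaf []) (.leaf [(-60574), 17518, (-1346), (-14951), 412, (-2586), (-3077), 9934, 54, (-1993)]))) (.node (.node (.leaf []) (.leaf [(-1904851), 1892853, (-182044), (-174037), (-263407), (-43084), (-15244), (-8091), (-18951), (-20580)])) (.leaf []))) (.node (.node (.node (.leaf []) (.leaf [])) (.node (.leaf [221, (-541), 116, 88, 43, 10, 12, 43, 15, 10]) (.leaf [(-5), 5, 0, 0, (-1), 0, 0, 0, 0, 0]))) (.node (.node (.leaf []) (.leaf [(-890), 1071, (-95), (-13), (-110), (-30), (-25), (-30), (-23), (-16)])) (.leaf [(-2867), 2825, (-235), (-21), (-520), (-40), 27, (-62), (-10), (-21)]))))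

def certHL77 : Janko.Tree (List ℤ) :=
  (.node (.node (.node (.node (.leaf []) (.leaf [(-59), 116, (-26), (-13), (-25), (-4), (-12), (-8), (-5), (-1)])) (.node (.leaf []) (.leaf [(-2870652), 2561711, (-220825), (-279179), (-335907), (-68721), (-38165), 53465, (-18867), (-38480)]))) (.node (.node (.leaf []) (.leaf [])) (.leaf []))) (.node (.node (.node (.leaf []) (.leaf [])) (.node (.leaf []) (.leaf [(-20), 26, (-5), 0, (-7), 1, 1, (-2), 2, 0]))) (.node (.node (.leaf [(-9), 9, 0, 1, (-1), 0, 0, 0, 0, 0]) (.leaf [5, (-6), 0, 1, 0, 0, 0, (-1), 0, 0])) (.leaf [(-35), 52, (-13), (-8), 0, 0, (-5), (-2), 1, (-1)]))))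

def certHL78 : Janko.Tree (List ℤ) :=
  (.node (.node (.node (.node (.leaf []) (.leaf [])) (.node (.leaf [6, (-8), 2, 1, (-1), (-1), (-1), 1, 0, 0]) (.leaf [4621442, (-4792616), 516801, 475573, 697981, 104665, 27468, 64692, 64994, 47888]))) (.node (.node (.leaf []) (.leaf [])) (.leaf [(-18), 19, (-1), (-1), 0, 1, 0, (-1), 0, 0]))) (.node (.node (.node (.leaf []) (.leaf [16, (-13), 0, (-6), 5, 0, (-1), 0, (-2), 0])) (.node (.leaf []) (.leaf [1, 3, 1, (-3), 1, 0, 1, 0, 0, 0]))) (.node (.node (.leaf [1, (-1), 1, 0, 0, 0, 0, 0, 0, 0]) (.leaf [(-165), 266, (-58), (-16), (-30), (-10), (-16), (-18), (-2), (-8)])) (.leaf [(-362687), 355712, (-38715), (-44866), (-49528), (-8945), (-4436), 582, (-4640), (-4332)]))))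

def certHL79 : Janko.Tree (List ℤ) :=
  (.node (.node (.node (.node (.leaf []) (.leaf [165, (-200), 25, (-28), 39, 5, 4, 11, 0, 6])) (.node (.leaf [0, 0, 0, 0, 0, 0, (-1), 0, 0, 0]) (.leaf [6164657, (-6054555), 616069, 605458, 863303, 145440, 54390, 13566, 72669, 74345]))) (.node (.node (.leaf [(-1), 0, 0, 0, 0, 0, 0, 0, 0, 0]) (.leaf [])) (.leaf [(-24), 20, 7, 13, 1, 0, 2, (-3), (-2), (-1)]))) (.node (.node (.node (.leaf []) (.leaf [])) (.node (.leaf []) (.leaf [7, (-3), (-1), 3, (-1), 0, (-1), 0, 0, 0]))) (.node (.node (.leaf []) (.leaf [(-51), 151, (-46), 2, (-29), (-11), (-19), (-19), (-6), (-7)])) (.leaf []))))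

def certHL80 : Janko.Tree (List ℤ) :=
  (.node (.node (.node (.node (.leaf []) (.leaf [])) (.node (.leaf []) (.leaf [(-47), (-3), 13, (-31), 4, 4, 15, 7, 4, 3]))) (.node (.node (.leaf [(-1), 0, 0, 0, 0, 0, 0, 0, 0, 0]) (.leaf [])) (.leaf []))) (.node (.node (.node (.leaf []) (.leaf [(-4), 2, 2, 1, 1, 0, 0, 0, 0, 0])) (.node (.leaf []) (.leaf [4, 0, 0, 0, 0, 0, 0, 0, 0, 0]))) (.node (.node (.leaf [91, (-74), 3, 0, 7, 0, (-2), (-4), (-3), 0]) (.leaf [(-42), 46, (-5), 3, (-5), 1, 0, (-1), 0, 0])) (.leaf [43, (-51), 2, (-30), 19, 3, 5, 5, 2, 3]))))

def certHL81 : Janko.Tree (List ℤ) :=
  (.node (.node (.node (.node (.leaf []) (.leaf [(-744), 832, (-94), (-9), (-141), (-15), (-13), (-26), (-9), (-9)])) (.node (.leaf [(-35716), 38770, (-3900), (-2411), (-5865), (-615), (-14), (-1000), (-452), (-259)]) (.leaf [(-82), 93, (-13), (-44), (-17), 0, 1, (-1), (-2), 2]))) (.node (.node (.leaf []) (.leaf [(-485360), 410119, (-31351), (-66567), (-45153), (-12118), (-8673), 17124, (-1890), (-5851)])) (.leaf [161, (-247), 53, (-2), 46, 11, 15, 19, 1, 7]))) (.node (.node (.node (.leaf []) (.leaf [181872, (-175474), 16490, 15295, 24712, 3765, 1292, (-150), 1577, 2054])) (.node (.leaf []) (.leaf [4, 0, 0, 0, 0, 0, 0, 0, 0, 0]))) (.node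 (.node (.leaf []) (.leaf [1, 0, 0, 0, 0, 0, 0, 1, 0, 0])) (.leaf []))))

def certHL82 : Janko.Tree (List ℤ) :=
  (.node (.node (.node (.node (.leaf []) (.leaf [(-329), 435, (-64), (-9), (-101), (-15), (-21), (-26), (-20), (-5)])) (.node (.leaf []) (.leaf [4220, (-6028), 758, 69, 1085, 8, (-126), 484, 103, (-11)]))) (.node (.node (.leaf []) (.leaf [])) (.leaf []))) (.node (.node (.node (.leaf []) (.leaf [11396, (-14035), 1564, 142, 2331, 139, (-133), 750, 165, 60])) (.node (.leaf [14, (-9), 0, (-1), 3, 0, 0, 0, (-1), 0]) (.leaf [1, 0, 0, 0, 0, 0, 0, 0, 0, 0]))) (.node (.node (.leaf [(-4), 2, 2, 1, 1, 0, 0, 0, 0, 0]) (.leaf [13, (-12), 1, 1, 0, (-1), 0, 1, 0, 0])) (.leaf []))))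

def certHL83 : Janko.Tree (List ℤ) :=
  (.node (.node (.node (.node (.leaf []) (.leaf [])) (.node (.leaf []) (.leaf [(-141963), 151578, (-14591), (-10333), (-21677), (-2696), (-164), (-3173), (-1409), (-1084)]))) (.node (.node (.leaf [(-2628), 2403, (-93), (-29), (-355), (-39), 44, (-18), (-8), (-15)]) (.leaf [(-67), 71, (-4), (-6), (-8), (-2), 2, (-1), (-1), (-1)])) (.leaf [4, (-5), 0, 1, 4, 1, 0, 1, 0, 0]))) (.node (.node (.node (.leaf []) (.leaf [73, (-51), 59, 601, (-42), (-28), (-5), (-88), 21, (-31)])) (.node (.leaf [72, (-74), 7, (-3), 14, (-1), (-2), 2, 0, 0]) (.leaf [(-2), 5, 1, 0, (-1), 0, 1, 0, 0, 0]))) (.node (.node (.leaf []) (.leaf [(-316), 332, (-34), 12, (-42), 3, 2, (-1), 2, (-4)])) (.leaf [(-39), 62, (-8), 13, (-14), (-3), (-1), (-6), (-2), (-3)]))))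

def certHL84 : Janko.Tree (List ℤ) :=
  (.node (.node (.node (.node (.leaf []) (.leaf [(-492), 516, (-45), (-13), (-81), (-10), 1, (-13), (-9), (-5)])) (.node (.leaf []) (.leaf [180873, (-211628), 23251, 17419, 31676, 3436, (-413), 7891, 3148, 934]))) (.node (.node (.leaf []) (.leaf [])) (.leaf [(-72520), 76501, (-7354), (-5312), (-10753), (-1396), (-127), (-1446), (-702), (-562)]))) (.node (.node (.node (.leaf []) (.leaf [])) (.node (.leaf []) (.leaf [(-3), 6, 1, 1, (-1), 0, 0, 0, 0, 0]))) (.node (.node (.leaf []) (.leaf [6, (-5), 0, 0, 1, 0, 0, 1, 0, 0])) (.leaf []))))

def certHL85 : Janko.Tree (List ℤ) :=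
  (.node (.node (.node (.node (.leaf []) (.leaf [5135, (-5150), 360, 141, 799, 102, (-18), 102, 52, 41])) (.node (.leaf []) (.leaf [(-300852), 319372, (-31237), (-28273), (-44469), (-5857), (-493), (-5494), (-3058), (-2138)]))) (.node (.node (.leaf []) (.leaf [])) (.leaf [(-77017), 84841, (-8921), (-6073), (-12407), (-1331), (-40), (-2289), (-996), (-551)]))) (.node (.node (.node (.leaf []) (.leaf [345, (-416), 58, 7, 59, 2, 3, 14, 3, 6])) (.node (.leaf []) (.leaf [91, (-61), (-7), (-3), 1, 0, (-6), (-4), (-2), 0]))) (.node (.node (.leaf [(-7), 7, 0, 0, (-1), 0, 0, 0, 0, 0]) (.leaf [59, (-69), 0, 26, (-5), 4, (-2), 0, 5, 1])) (.leaf []))))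

def certHL86 : Janko.Tree (List ℤ) :=
  (.node (.node (.node (.node (.leaf []) (.leaf [])) (.node (.leaf [364, (-327), 11, 9, 46, 2, (-15), 0, 3, 1]) (.leaf [(-31), (-16), 17, 5, 25, 1, 4, 8, 9, (-2)]))) (.node (.node (.leaf []) (.leaf [16253, (-17538), 1629, 1014, 2365, 310, 7, 407, 145, 109])) (.leaf []))) (.node (.node (.node (.leaf []) (.leaf [57723, (-62804), 6279, 4128, 9219, 1108, 54, 1607, 670, 435])) (.node (.leaf [5, (-10), 4, 1, 2, 0, 0, 1, 0, 0]) (.leaf [5, (-2), 2, (-1), 1, 0, 0, 0, 0, 0]))) (.node (.node (.leaf [(-1), 0, 0, 0, 0, 0, 0, 0, 0, 0]) (.leaf [(-2460384), 2330042, (-199481), (-200421), (-313856), (-53949), (-22098), 13039, (-16858), (-28025)])) (.leaf [(-568014), 615206, (-70696), (-78635), (-88922), (-11035), (-1361), (-11333), (-9251), (-3713)]))))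

def certHL87 : Janko.Tree (List ℤ) :=
  (.node (.node (.node (.node (.leaf []) (.leaf [24, (-23), 2, (-4), 2, (-1), 0, 0, (-1), 0])) (.node (.leaf []) (.leaf [(-27024), 29929, (-3113), (-2342), (-4426), (-511), (-53), (-811), (-414), (-194)]))) (.node (.node (.leaf [301, (-230), (-8), (-71), 67, 6, (-12), 9, (-3), 4]) (.leaf [(-115712), 118279, (-11209), (-11720), (-16253), (-1995), (-333), (-934), (-844), (-776)])) (.leaf []))) (.node (.node (.node (.leaf []) (.leaf [(-56924), 55871, (-3682), (-867), (-7292), (-1253), (-51), (-472), (-70), (-561)])) (.node (.leaf [(-1), 0, 1, 0, 0, 0, 0, 0, 0, 0]) (.leaf [12, (-12), 4, 1, 2, 0, 0, 0, 0, 0]))) (.node (.node (.leaf []) (.leaf [(-1764156), 1768090, (-156377), (-124451), (-246037), (-36739), (-10276), (-13704), (-14771), (-17788)])) (.leaf [(-504834), 441209, (-37493), (-71648), (-51516), (-12359), (-8397), 14683, (-3096), (-5857)]))))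

def certHL88 : Janko.Tree (List ℤ) :=
  (.node (.node (.node (.node (.leaf []) (.leaf [])) (.node (.leaf []) (.leaf [(-17), 14, 1, 4, (-2), 1, 1, 0, 2, 0]))) (.node (.node (.leaf []) (.leaf [(-429), 570, 581, 2535, (-24), (-106), 120, (-327), 178, (-52)])) (.leaf []))) (.node (.node (.node (.leaf []) (.leaf [34, (-36), 8, (-7), 13, (-1), 2, 2, (-3), 0])) (.node (.leaf []) (.leaf [(-2), 8, (-2), 0, (-1), 0, 1, 0, 0, 0]))) (.node (.node (.leaf [6, (-4), 1, 1, 2, (-1), (-2), 1, (-1), 0]) (.leaf [(-598), 1147, (-140), (-4), (-214), 14, 21, (-127), (-38), 17])) (.leaf [(-5), 4, 0, 0, (-1), 0, 0, 0, 0, 0]))))

def certHL89 : Janko.Tree (List ℤ) :=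
  (.node (.node (.node (.node (.leaf []) (.leaf [1028925, (-1048055), 95537, 71225, 148182, 20970, 4552, 12381, 9351, 9880])) (.node (.leaf []) (.leaf [3426, (-3310), 191, 49, 490, 44, (-21), 35, 21, 18]))) (.node (.node (.leaf []) (.leaf [677569, (-427922), 22717, 14768, 60899, 21995, 17177, (-44116), 517, 18855])) (.leaf [2, (-3), 1, 2, (-2), 0, 1, (-1), 0, 0]))) (.node (.node (.node (.leaf [(-4), 5, (-1), 1, (-2), 0, 0, (-2), 0, 0]) (.leaf [])) (.node (.leaf []) (.leaf [(-89), 91, (-6), 6, (-14), 2, 1, (-3), 1, 0]))) (.node (.node (.leaf [(-6), 6, 0, (-1), 0, 0, 0, 1, 0, 0]) (.leaf [(-419), 330, 20, 11, (-27), 11, 22, 8, (-4), 4])) (.leaf [1, 0, 0, 0, 0, 0, 0, 0, 0, 0]))))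

def certHL90 : Janko.Tree (List ℤ) :=
  (.node (.node (.node (.node (.leaf []) (.leaf [(-263), 342, (-48), (-32), (-65), (-6), (-1), (-14), (-6), (-2)])) (.node (.leaf []) (.leaf [(-68), 114, (-20), (-6), (-26), (-3), (-12), (-6), (-3), (-1)]))) (.node (.node (.leaf []) (.leaf [148536, (-158431), 15110, 10266, 22745, 2771, 96, 3386, 1493, 1110])) (.leaf [(-2), 3, (-1), 0, 1, 1, 1, 0, 0, 0]))) (.node (.node (.node (.leaf [(-1), 6, (-3), (-1), (-4), (-1), (-1), (-1), 0, 0]) (.leaf [56, (-60), 8, (-7), 12, (-1), 3, 2, (-2), 0])) (.node (.leaf [1, 0, 0, 0, 0, 0, 0, 0, 0, 0]) (.leaf [4, 2, (-2), 1, (-1), 0, 0, 0, 0, 0]))) (.node (.node (.leaf []) (.leaf [(-1618), 2136, (-200), (-27), (-345), (-28), 16, (-147), (-59), 0])) (.leaf [(-4882), 5064, (-416), (-76), (-762), (-95), (-5), (-105), (-40), (-45)]))))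

def certHL91 : Janko.Tree (List ℤ) :=
  (.node (.node (.node (.node (.leaf []) (.leaf [])) (.node (.leaf []) (.leaf [(-17), 10, 4, 5, (-1), 1, 1, 2, 2, 0]))) (.node (.node (.leaf []) (.leaf [])) (.leaf [14, (-12), 0, 0, 4, 1, 1, 0, (-1), 0]))) (.node (.node (.node (.leaf []) (.leaf [(-117), 132, (-19), 16, (-26), (-2), (-4), (-5), 2, (-3)])) (.node (.leaf [5, (-5), 1, 0, 1, 0, 0, 0, 0, 0]) (.leaf [5, 1, (-1), (-1), 1, 0, 0, 0, 0, 0]))) (.node (.node (.leaf [9, (-8), 1, 1, (-1), (-1), 0, 0, 0, 0]) (.leaf [1150506, (-1173818), 108746, 91563, 164397, 23727, 5103, 12842, 10661, 10599])) (.leaf [(-17950), 17891, (-1442), (-781), (-2539), (-377), (-104), (-174), (-147), (-190)]))))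

def certHL92 : Janko.Tree (List ℤ) :=
  (.node (.node (.node (.node (.leaf [(-11), 13, (-2), (-1), 0, 1, 0, (-1), 0, 0]) (.leaf [])) (.node (.leaf []) (.leaf [(-4), 3, 1, 0, (-1), 0, 0, 0, 0, 0]))) (.node (.node (.leaf []) (.leaf [(-2834052), 2615776, (-231876), (-247567), (-355912), (-66631), (-30918), 29898, (-21837), (-36837)])) (.leaf []))) (.node (.node (.node (.leaf []) (.leaf [2554, (-262), (-212), 349, (-104), 80, 72, (-463), (-75), 42])) (.node (.leaf []) (.leaf [4, 2, (-1), 0, 1, 0, (-1), 0, 0, 0]))) (.node (.node (.leaf [(-12), 10, 0, 2, (-3), 0, 1, 0, 0, 0]) (.leaf [(-1), 3, 1, (-3), 0, 0, 1, 0, (-1), 0])) (.leaf [(-6393), 6645, (-402), (-74), (-800), (-157), 94, (-136), 54, (-18)]))))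

def certHL93 : Janko.Tree (List ℤ) :=
  (.node (.node (.node (.node (.leaf []) (.leaf [(-1575768), 1367258, (-107691), (-143268), (-175269), (-37914), (-22839), 37583, (-7712), (-21904)])) (.node (.leaf []) (.leaf []))) (.node (.node (.leaf []) (.leaf [2520, (-1059), (-235), (-57), 25, 113, 66, (-264), (-44), 51])) (.leaf [(-71), 75, (-8), 3, (-14), 3, 1, (-2), 1, 0]))) (.node (.node (.node (.leaf []) (.leaf [(-12), 14, (-3), 0, (-1), 1, 0, 0, 0, 0])) (.node (.leaf [(-777179), 596392, (-31340), (-56194), (-67920), (-18606), (-13416), 34819, 1385, (-12172)]) (.leaf [1, 0, 0, 0, 0, 0, 0, 0, 0, 0]))) (.node (.node (.leaf []) (.leaf [10129, (-8928), 1227, 3303, 1098, 163, 117, (-431), 130, 23])) (.leaf []))))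

def certHL94 : Janko.Tree (List ℤ) :=
  (.node (.node (.node (.node (.leaf []) (.leaf [])) (.node (.leaf [(-30), 41, (-3), (-4), (-9), (-1), 3, 1, (-2), 0]) (.leaf [144, (-155), 18, (-13), 25, (-4), 3, 6, (-3), 0]))) (.node (.node (.leaf []) (.leaf [])) (.leaf [(-5), 8, (-2), (-1), 1, 1, 1, (-1), 0, 0]))) (.node (.node (.node (.leaf []) (.leaf [])) (.node (.leaf []) (.leaf [0, 49, (-14), (-21), (-9), (-5), (-8), (-6), (-7), (-1)]))) (.node (.node (.leaf [2, 0, (-1), 0, 0, 0, 0, 0, 0, 0]) (.leaf [17, 7, (-12), (-18), 6, 0, (-3), 0, (-2), (-1)])) (.leaf [10980, (-11829), 895, (-169), 1941, 239, 49, 380, 121, 96]))))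

def certHL95 : Janko.Tree (List ℤ) :=
  (.node (.node (.node (.node (.leaf []) (.leaf [])) (.node (.leaf []) (.leaf []))) (.node (.node (.leaf []) (.leaf [])) (.leaf [3, (-13), 7, 3, 3, (-1), (-1), 0, 1, 0]))) (.node (.node (.node (.leaf [4537, (-4664), 350, 112, 718, 94, 3, 100, 49, 38]) (.leaf [(-1061), 1010, (-50), 31, (-158), (-12), 21, (-13), (-6), (-8)])) (.node (.leaf []) (.leaf [(-21), 26, (-4), (-3), 3, 0, 1, 0, 0, 0]))) (.node (.node (.leaf []) (.leaf [722433, (-714346), 70154, 68569, 99799, 16590, 6599, 2073, 7511, 8139])) (.leaf [(-992), 464, (-24), (-408), (-9), 3, 40, 128, 10, 3]))))

def certHL96 : Janko.Tree (List ℤ) :=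
  (.node (.node (.node (.node (.leaf [1, 0, 0, 0, 0, 0, 0, 0, 0, 0]) (.leaf [(-30), 25, 1, 4, (-6), 1, 2, (-1), 1, 0])) (.node (.leaf []) (.leaf [15474, (-17836), 2126, 1606, 2591, 260, 35, 564, 267, 114]))) (.node (.node (.leaf []) (.leaf [1, (-1), 1, 0, 0, 0, 0, 0, 0, 0])) (.leaf []))) (.node (.node (.node (.leaf []) (.leaf [2704996, (-2545511), 233845, 241204, 350556, 62874, 27348, (-17827), 23548, 33964])) (.node (.leaf [17, (-19), 3, 1, 1, (-1), 0, 0, 0, 0]) (.leaf [7, 0, 0, 0, 0, 0, 0, 0, 0, 0]))) (.node (.node (.leaf []) (.leaf [10, (-11), 2, (-1), 1, 0, 0, 0, 0, 0])) (.leaf []))))

def certHL97 : Janko.Tree (List ℤ) :=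
  (.node (.node (.node (.node (.leaf [0, 0, 0, 0, 1, 0, 0, 0, 0, 0]) (.leaf [])) (.node (.leaf []) (.leaf [24055, (-26984), 3168, 2682, 3876, 377, 13, 705, 366, 178]))) (.node (.node (.leaf []) (.leaf [5572, (-6007), 520, 173, 910, 132, 39, 150, 70, 52])) (.leaf [61909, (-61194), 3981, 529, 8332, 1405, 228, 725, 243, 724]))) (.node (.node (.node (.leaf []) (.leaf [])) (.node (.leaf []) (.leaf [0, 7, 0, 0, 0, 0, 0, 0, 0, 0]))) (.node (.node (.leaf []) (.leaf [(-145174), 169774, (-17725), (-13430), (-24657), (-2437), 748, (-6040), (-2017), (-539)])) (.leaf [4983, (-5292), (-224), (-2519), 737, 182, (-136), 425, (-152), 96]))))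

def certHL98 : Janko.Tree (List ℤ) :=
  (.node (.node (.node (.node (.leaf []) (.leaf [])) (.node (.leaf []) (.leaf [(-22), 28, (-4), (-1), (-5), 0, 0, (-1), 0, 0]))) (.node (.node (.leaf []) (.leaf [(-25), 30, (-8), (-14), (-4), 0, 0, 2, 1, 0])) (.leaf []))) (.node (.node (.node (.leaf [(-4), 5, (-1), 0, (-1), 0, 0, 0, 0, 0]) (.leaf [(-2160), (-197), 236, (-357), 170, (-50), (-57), 485, 101, (-33)])) (.node (.leaf []) (.leaf [(-12), 16, (-4), (-1), (-3), 0, (-1), 0, 0, 0]))) (.node (.node (.leaf []) (.leaf [392, (-228), (-25), (-63), 24, 10, (-7), (-13), (-19), 7])) (.leaf [(-3040), 2574, (-284), (-478), (-416), (-55), (-104), 112, (-92), (-64)]))))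

def certHL99 : Janko.Tree (List ℤ) :=
  (.node (.node (.node (.node (.leaf [0, 1, (-1), 0, 0, 0, 0, 0, 0, 0]) (.leaf [])) (.node (.leaf [0, 0, 0, (-1), 0, 0, 0, 0, 0, 0]) (.leaf [(-44), 55, (-13), 5, (-14), 1, (-3), (-3), 2, 0]))) (.node (.node (.leaf []) (.leaf [3627, (-3229), 355, 487, 525, 76, 120, (-85), 107, 74])) (.leaf [8683, (-9476), 1006, 635, 1422, 128, 2, 238, 102, 63]))) (.node (.node (.node (.leaf [1, 0, 0, 0, 0, 0, 0, 0, 0, 0]) (.leaf [])) (.node (.leaf [17, (-18), 2, 1, 1, 0, 0, 0, 0, 0]) (.leaf [9, (-12), 2, 0, 2, 0, 0, 0, 0, 0]))) (.node (.node (.leaf []) (.leaf [(-14), 12, 0, 0, (-1), 0, 0, 2, 1, 0])) (.leaf [(-2388), 465, 119, (-307), 50, (-101), (-202), 438, (-5), (-93)]))))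

def certHL100 : Janko.Tree (List ℤ) :=
  (.node (.node (.node (.node (.leaf []) (.leaf [(-80441), 84017, (-8040), (-5803), (-12218), (-1510), (-254), (-1429), (-870), (-673)])) (.node (.leaf [(-1), 0, 0, 0, 0, 0, 0, 0, 0, 0]) (.leaf [168, 69, (-56), (-97), 28, (-4), (-7), (-28), (-15), (-1)]))) (.node (.node (.leaf []) (.leaf [104531, (-115112), 11553, 7006, 17162, 1839, (-255), 3348, 1235, 683])) (.leaf [978, (-1412), 228, 96, 181, 14, 34, 71, 34, 19]))) (.node (.node (.node (.leaf []) (.leaf [(-418), 151, 53, 31, (-46), (-16), 13, 29, 11, 2])) (.node (.leaf []) (.leaf [6, (-1), 1, 0, 0, 0, 0, 0, 0, 0]))) (.node (.node (.leaf []) (.leaf [11, (-12), 1, (-1), 2, 0, 0, 1, 0, 0])) (.leaf [(-140), 198, (-27), (-19), (-21), (-6), (-7), (-11), (-6), (-2)]))))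

def certHL101 : Janko.Tree (List ℤ) :=
  (.node (.node (.node (.node (.leaf []) (.leaf [0, 1, (-1), 0, 0, 0, 0, 0, 0, 0])) (.node (.leaf []) (.leaf [(-213595), 208675, (-18528), (-15159), (-28720), (-4569), (-1042), (-659), (-1411), (-2231)]))) (.node (.node (.leaf []) (.leaf [17784, (-19520), 1873, 883, 2813, 382, 52, 569, 250, 155])) (.leaf []))) (.node (.node (.node (.leaf []) (.leaf [(-126822), 129095, (-10584), (-4889), (-18673), (-2528), (-412), (-1966), (-893), (-1241)])) (.node (.leaf []) (.leaf [14, (-12), 3, 1, 1, 0, 1, 0, 0, 0]))) (.node (.node (.leaf []) (.leaf [10, (-6), (-2), (-2), 2, 0, (-2), 2, 0, 0])) (.leaf [(-1), 0, 0, 0, 0, 0, 0, 0, 0, 0]))))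

def certHL102 : Janko.Tree (List ℤ) :=
  (.node (.node (.node (.node (.leaf []) (.leaf [10450, (-9748), 756, 577, 1341, 167, (-11), (-16), 37, 84])) (.node (.leaf [(-638), 792, (-82), (-18), (-77), (-28), (-29), (-23), (-19), (-12)]) (.leaf [1522, (-1861), 316, 627, 178, (-28), (-76), 25, 9, (-18)]))) (.node (.node (.leaf []) (.leaf [2171281, (-1920597), 154135, 188837, 249270, 51018, 28088, (-42525), 11312, 29080])) (.leaf []))) (.node (.node (.node (.leaf []) (.leaf [(-26), 25, (-3), 5, (-6), 1, 1, 0, 2, 0])) (.node (.leaf []) (.leaf [6, (-1), 1, 0, 0, 0, 0, 0, 0, 0]))) (.node (.node (.leaf []) (.leaf [41, (-37), (-1), (-3), 10, 0, (-2), 0, 0, 0])) (.leaf [(-1), (-1), 0, 0, 0, 0, 0, 0, 0, 0]))))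

def certHL103 : Janko.Tree (List ℤ) :=
  (.node (.node (.node (.node (.leaf []) (.leaf [])) (.node (.leaf [72, (-40), (-13), 1, (-4), 1, (-6), (-6), (-1), 0]) (.leaf [80, (-92), 5, 8, 18, 4, (-5), (-1), 3, 1]))) (.node (.node (.leaf []) (.leaf [(-226), 240, (-21), 11, (-33), 1, 3, (-5), 0, (-3)])) (.leaf [(-72), 79, (-7), 10, (-9), (-3), (-1), (-2), 1, (-3)]))) (.node (.node (.node (.leaf []) (.leaf [(-70), 72, (-3), 12, (-7), (-3), 0, (-2), 1, (-3)])) (.node (.leaf [96, (-107), 15, (-1), 18, (-4), (-1), 1, (-1), 0]) (.leaf [(-2), 12, (-3), (-1), (-1), 0, (-1), 0, 0, 0]))) (.node (.node (.leaf []) (.leaf [33, (-31), 4, (-9), 8, (-1), 3, 2, (-2), 0])) (.leaf [6, (-5), (-1), 0, 0, 0, (-1), 0, 0, 0]))))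

def certHL104 : Janko.Tree (List ℤ) :=
  (.node (.node (.node (.node (.leaf [1, 0, 0, (-1), 0, 0, 0, 0, 0, 0]) (.leaf [707, (-671), 42, 2, 97, 2, (-19), 2, (-7), 3])) (.node (.leaf []) (.leaf [(-78689), 81006, (-7868), (-5631), (-11790), (-1488), (-301), (-1224), (-819), (-690)]))) (.node (.node (.leaf []) (.leaf [41948, (-32765), 7609, 15816, 4764, 1940, 1876, (-2592), 1323, 990])) (.leaf [0, (-3), 1, 1, (-2), 0, 1, 0, 1, 0]))) (.node (.node (.node (.leaf []) (.leaf [506, (-571), 49, (-27), 74, 10, 7, 20, 6, 7])) (.node (.leaf []) (.leaf [(-1), 8, (-1), 0, 0, 0, 0, 0, 0, 0]))) (.node (.node (.leaf [(-9), 10, (-2), 0, (-1), 1, 2, 0, (-1), 0]) (.leaf [0, (-1), 1, (-1), 1, 0, 0, 1, 0, 0])) (.leaf [(-90), 96, (-11), 2, (-17), 4, 4, (-2), 0, 0]))))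

def certHL105 : Janko.Tree (List ℤ) :=
  (.node (.node (.node (.node (.leaf []) (.leaf [17, (-15), (-3), 2, (-3), 0, (-1), (-2), 0, 0])) (.node (.leaf []) (.leaf [(-86), 98, (-11), (-8), (-10), 2, 2, (-4), 2, 0]))) (.node (.node (.leaf []) (.leaf [274945, (-260104), 27453, 32858, 36237, 6605, 2494, (-1801), 2771, 3169])) (.leaf []))) (.node (.node (.node (.leaf []) (.leaf [(-4638), 4694, (-337), (-41), (-721), (-96), (-10), (-92), (-27), (-41)])) (.node (.leaf []) (.leaf [6, 1, (-1), 0, 0, 0, 0, 0, 0, 0]))) (.node (.node (.leaf [(-1), 8, (-5), (-2), (-2), 1, 1, 0, (-1), 0]) (.leaf [19, (-21), 4, (-4), 4, (-1), 0, 2, (-1), 0])) (.leaf [657, (-653), 34, (-4), 89, 7, (-16), 9, 8, 6]))))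

def certHL106 : Janko.Tree (List ℤ) :=
  (.node (.node (.node (.node (.leaf []) (.leaf [])) (.node (.leaf []) (.leaf []))) (.node (.node (.leaf [652, (-612), 42, (-6), 92, 0, (-15), 5, (-9), 3]) (.leaf [1, 0, 0, 0, 0, 0, 0, 0, 0, 0])) (.leaf []))) (.node (.node (.node (.leaf []) (.leaf [1222, (-2777), 544, 93, 515, (-4), (-61), 347, 66, (-3)])) (.node (.leaf [24, (-27), 5, (-3), 4, (-1), 0, 2, 0, 0]) (.leaf [140, (-105), (-14), (-35), (-7), (-7), (-7), 0, (-7), 0]))) (.node (.node (.leaf [(-6182), 6945, (-784), (-533), (-1008), (-101), (-30), (-183), (-83), (-47)]) (.leaf [])) (.leaf []))))

def certHL107 : Janko.Tree (List ℤ) :=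
  (.node (.node (.node (.node (.leaf []) (.leaf [])) (.node (.leaf [103, (-122), 14, 28, 5, 0, 8, (-2), 2, (-2)]) (.leaf []))) (.node (.node (.leaf []) (.leaf [248, (-65), (-51), (-39), (-22), 13, (-4), (-24), (-9), 5])) (.leaf [0, (-2), 0, 1, (-2), 0, 1, 0, 1, 0]))) (.node (.node (.node (.leaf []) (.leaf [(-28299), 30252, (-3189), (-2819), (-4592), (-471), (-52), (-623), (-382), (-175)])) (.node (.leaf []) (.leaf [18261, (-19277), 1743, 849, 2850, 329, (-28), 453, 177, 135]))) (.node (.node (.leaf []) (.leaf [(-57), 70, (-4), (-22), (-3), (-5), (-2), 0, (-5), (-1)])) (.leaf [23, (-68), 15, 13, 12, 4, 6, 8, 7, 1]))))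

def certHL108 : Janko.Tree (List ℤ) :=
  (.node (.node (.node (.node (.leaf []) (.leaf [58, (-80), 13, 23, 26, 4, 5, 4, 3, 1])) (.node (.leaf []) (.leaf [59984, (-85167), 9671, (-370), 14355, 532, (-1361), 6526, 1169, (-54)]))) (.node (.node (.leaf []) (.leaf [(-263), 158, 21, 28, (-32), 0, 19, 6, 7, 2])) (.leaf [(-13), 13, 0, (-1), 0, 0, 1, 0, 0, 0]))) (.node (.node (.node (.leaf []) (.leaf [])) (.node (.leaf []) (.leaf [39, (-18), 0, (-22), 16, (-5), (-8), 2, (-2), 0]))) (.node (.node (.leaf [1, 0, 0, 0, 0, 0, 0, 0, 0, 0]) (.leaf [(-99706), 109935, (-11021), (-7006), (-16045), (-1771), 210, (-3141), (-1137), (-623)])) (.leaf [48, (-38), (-3), (-11), 3, (-1), (-4), 1, 0, 0]))))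

def certHL109 : Janko.Tree (List ℤ) :=
  (.node (.node (.node (.node (.leaf []) (.leaf [(-4), 4, 0, (-1), (-1), (-1), 1, (-1), (-1), 0])) (.node (.leaf []) (.leaf [(-38244), 38676, (-3599), (-2872), (-5421), (-785), (-299), (-325), (-349), (-384)]))) (.node (.node (.leaf []) (.leaf [611, (-601), 34, (-10), 93, 1, (-14), 11, 5, 3])) (.leaf []))) (.node (.node (.node (.leaf []) (.leaf [12, (-13), 1, 0, 2, 0, 0, 0, 0, 0])) (.node (.leaf [0, 0, 0, 0, 0, 0, 0, 0, 1, 0]) (.leaf [(-7545), 9432, (-1100), (-496), (-1539), (-80), 41, (-451), (-127), (-21)]))) (.node (.node (.leaf [6, (-4), 0, 0, 1, 0, 0, 0, 0, 0]) (.leaf [(-30827), 34092, (-3585), (-1917), (-5351), (-551), 19, (-1091), (-449), (-217)])) (.leaf [17544, (-16467), 1021, (-1002), 2666, 159, (-234), 253, (-80), 186]))))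

def certHL110 : Janko.Tree (List ℤ) :=
  (.node (.node (.node (.node (.leaf []) (.leaf [2, (-1), 1, 0, (-1), 0, 0, 0, 0, 0])) (.node (.leaf []) (.leaf []))) (.node (.node (.leaf [1, 0, 0, 0, 0, 0, 0, 0, 0, 0]) (.leaf [619, (-547), 33, (-35), 71, (-2), (-20), 3, (-4), 7])) (.leaf []))) (.node (.node (.node (.leaf []) (.leaf [(-87553), 91737, (-7520), 218, (-13904), (-1938), 236, (-2473), (-632), (-841)])) (.node (.leaf []) (.leaf [(-2936), 2897, (-181), (-59), (-443), (-50), 15, (-46), (-28), (-22)]))) (.node (.node (.leaf []) (.leaf [12, (-16), 4, 1, 3, 0, 0, 1, 0, 0])) (.leaf []))))

def certHL111 : Janko.Tree (List ℤ) :=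
  (.node (.node (.node (.node (.leaf []) (.leaf [(-461), 517, (-33), (-34), (-35), (-20), (-11), (-9), (-12), (-5)])) (.node (.leaf [(-86), 192, (-42), (-35), (-44), (-12), (-19), (-15), (-14), (-2)]) (.leaf [(-5), 6, (-1), 0, (-1), 0, 0, 0, 0, 0]))) (.node (.node (.leaf [12, (-12), 0, 0, 1, 0, 0, 0, 0, 0]) (.leaf [(-60), 120, (-23), (-30), (-3), (-6), (-6), (-5), (-7), (-2)])) (.leaf []))) (.node (.node (.node (.leaf []) (.leaf [])) (.node (.leaf [(-2219), 2431, (-230), (-47), (-384), (-42), (-6), (-73), (-29), (-22)]) (.leaf [(-5163), 5223, (-367), (-67), (-823), (-108), 2, (-107), (-51), (-43)]))) (.node (.node (.leaf [1, 1, (-2), 0, 0, 0, 0, 0, 0, 0]) (.leaf [(-113837), 135419, (-14110), (-10848), (-19462), (-1754), 1022, (-5083), (-1408), (-238)])) (.leaf [60, (-67), 8, (-10), 9, 3, 2, 2, (-1), 3]))))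

def certHL112 : Janko.Tree (List ℤ) :=
  (.node (.node (.node (.node (.leaf []) (.leaf [(-8), 13, (-2), (-1), (-5), (-1), 0, (-1), 0, 0])) (.node (.leaf [(-16), 25, (-5), (-8), (-1), 0, 1, (-1), 0, 0]) (.leaf [(-369), 376, (-21), (-38), (-46), (-8), 9, (-6), (-13), (-2)]))) (.node (.node (.leaf []) (.leaf [39, (-40), 5, (-1), 3, (-1), (-1), 2, 0, 0])) (.leaf [1, (-1), 1, 0, 0, 0, 0, 0, 0, 0]))) (.node (.node (.node (.leaf [(-45), 50, (-4), 3, (-8), 1, 1, (-1), 0, 0]) (.leaf [])) (.node (.leaf [98, (-82), 4, 0, 7, 0, (-2), (-4), (-3), 0]) (.leaf [32, (-15), (-3), (-11), 8, (-3), (-5), (-2), (-6), (-1)]))) (.node (.node (.leaf []) (.leaf [601, (-526), 30, 38, 59, 1, (-24), 3, 2, 1])) (.leaf [3672, (-5196), 670, 132, 886, 36, (-75), 381, 89, 11]))))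

def certHL113 : Janko.Tree (List ℤ) :=
  (.node (.node (.node (.node (.leaf []) (.leaf [1, 0, 0, 0, 0, 0, 0, 0, 0, 0])) (.node (.leaf [0, 0, 0, 0, 0, 0, 0, 0, 0, 1]) (.leaf [(-93358), 92083, (-6763), (-2868), (-12803), (-2051), (-576), (-776), (-467), (-1051)]))) (.node (.node (.leaf [0, 1, (-1), 0, 0, 0, 0, 0, 0, 0]) (.leaf [42, (-44), 6, (-1), 5, (-1), (-1), 2, 0, 0])) (.leaf [6, (-6), 1, 0, 1, 0, (-1), 0, 0, 0]))) (.node (.node (.node (.leaf []) (.leaf [])) (.node (.leaf [(-346), 305, (-11), (-1), (-47), (-2), 14, 0, (-2), (-1)]) (.leaf [24, (-21), 9, (-1), 6, (-1), (-2), 2, (-2), 0]))) (.node (.node (.leaf []) (.leaf [992, (-1076), 114, 45, 159, 21, 4, 31, 17, 12])) (.leaf [(-99), 107, (-13), 11, (-20), (-3), 1, (-6), 3, (-3)]))))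

def certHL114 : Janko.Tree (List ℤ) :=
  (.node (.node (.node (.node (.leaf []) (.leaf [(-12804642), 12174430, (-1144991), (-1144399), (-1694669), (-303498), (-128214), 54888, (-120356), (-161786)])) (.node (.leaf [(-27), 75, (-16), (-14), (-12), (-4), (-7), (-8), (-7), (-1)]) (.leaf []))) (.node (.node (.leaf []) (.leaf [(-83), 70, (-1), 32, (-10), (-2), 8, (-5), 3, (-5)])) (.leaf [(-101), 91, (-8), 1, (-12), 0, 1, 2, 3, 0]))) (.node (.node (.node (.leaf []) (.leaf [(-34), 6, 5, 13, (-2), (-1), 2, 6, 2, 0])) (.node (.leaf [3, 11, (-7), (-10), (-2), 0, 1, (-1), 0, 0]) (.leaf [24, (-15), 3, (-1), 6, (-1), (-2), 2, (-2), 0]))) (.node (.node (.leaf []) (.leaf [])) (.leaf [(-3), 5, 0, (-1), (-4), (-1), 0, (-1), 0, 0]))))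

def certHL115 : Janko.Tree (List ℤ) :=
  (.node (.node (.node (.node (.leaf []) (.leaf [519396, (-289245), (-23744), 33339, 5994, 12575, 14401, (-50907), (-12145), 7329])) (.node (.leaf [(-23), 70, (-16), (-14), (-11), (-4), (-7), (-8), (-7), (-1)]) (.leaf []))) (.node (.node (.leaf []) (.leaf [(-107), 97, (-8), 12, (-10), (-5), 2, 2, 1, (-3)])) (.leaf []))) (.node (.node (.node (.leaf []) (.leaf [])) (.node (.leaf []) (.leaf [126, (-186), 33, 11, 34, 8, 12, 11, 5, 4]))) (.node (.node (.leaf []) (.leaf [(-2096), 3074, (-417), (-137), (-482), (-31), 32, (-219), (-59), (-14)])) (.leaf [(-11), 14, 0, (-1), (-3), (-1), 0, (-1), 0, 0]))))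

def certHL116 : Janko.Tree (List ℤ) :=
  (.node (.node (.node (.node (.leaf []) (.leaf [6, 5, (-7), (-11), 2, 1, 1, 0, 0, 0])) (.node (.leaf []) (.leaf [221, (-237), 23, (-10), 34, (-1), (-2), 5, 0, 3]))) (.node (.node (.leaf []) (.leaf [83, (-103), 16, 11, 6, 1, 3, 3, (-1), 2])) (.leaf [17224, (-19880), 1747, (-1977), 3557, 325, (-80), 1159, 199, 192]))) (.node (.node (.node (.leaf []) (.leaf [(-25), 23, 1, 0, (-3), 0, 2, (-1), 1, 0])) (.leaf [(-14), 13, 1, (-3), (-2), (-1), 0, 1, 0, 0])) (.node (.node (.leaf []) (.leaf [(-257), 735, (-122), 6, (-154), 25, 52, (-121), (-8), 17])) (.leaf []))))

def certHL117 : Janko.Tree (List ℤ) :=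
  (.node (.node (.node (.node (.leaf [(-3), (-1), 1, 1, (-1), 0, 1, 0, 1, 0]) (.leaf [])) (.node (.leaf []) (.leaf [85, (-74), 8, 2, 6, (-1), 2, (-1), (-2), 0]))) (.node (.node (.leaf []) (.leaf [2966, (-4587), 663, 218, 819, (-1), (-63), 385, 109, (-6)])) (.leaf []))) (.node (.node (.node (.leaf [0, 1, (-1), 0, 0, 0, 0, 0, 0, 0]) (.leaf [])) (.leaf [])) (.node (.node (.leaf [(-28), 34, (-4), (-3), 0, 1, 1, (-1), 0, 0]) (.leaf [(-3098), 4328, (-535), (-63), (-774), (-9), 86, (-330), (-74), 5])) (.leaf [(-254), 64, 56, 49, 19, (-14), 2, 24, 9, (-5)]))))

def certHL118 : Janko.Tree (List ℤ) :=
  (.node (.node (.node (.node (.leaf []) (.leaf [(-6), 5, 0, 0, (-1), 0, 0, 0, 1, 0])) (.node (.leaf [1256570, (-1207766), 105560, 113369, 161206, 28107, 11511, (-4110), 9754, 13435]) (.leaf []))) (.node (.node (.leaf []) (.leaf [(-132088), 156439, (-16735), (-12982), (-22939), (-2129), 812, (-5876), (-1934), (-423)])) (.leaf [(-12), 11, (-1), (-1), (-2), 1, 3, (-1), 1, 0]))) (.node (.node (.node (.leaf []) (.leaf [])) (.leaf [(-5), 12, (-4), (-2), (-5), (-1), (-1), (-1), 0, 0])) (.node (.node (.leaf []) (.leaf [38850, (-39417), 3659, 2901, 5479, 820, 321, 350, 373, 396])) (.leaf [(-4), 2, 0, 0, 1, 0, 0, 0, 0, 0]))))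

def certHL119 : Janko.Tree (List ℤ) :=
  (.node (.node (.node (.node (.leaf []) (.leaf [(-1), 0, 0, 0, 0, 0, 0, 0, 0, 0])) (.node (.leaf [(-24), 70, (-15), (-14), (-12), (-3), (-8), (-8), (-6), (-1)]) (.leaf []))) (.node (.node (.leaf [(-3), 3, (-1), (-1), 0, 0, 0, 0, 0, 0]) (.leaf [])) (.leaf [6, (-10), 1, 1, (-2), 0, 1, 0, 1, 0]))) (.node (.node (.node (.leaf []) (.leaf [(-23), 24, (-3), (-1), (-2), 1, 0, 0, 0, 0])) (.leaf [540, (-563), 49, 11, 90, 8, (-3), 14, 8, 5])) (.node (.node (.leaf []) (.leaf [2324, (-2478), 200, 102, 349, 46, 8, 52, 33, 20])) (.leaf [593, (-643), 54, (-17), 88, 9, (-3), 19, 1, 7]))))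

def certHL120 : Janko.Tree (List ℤ) :=
  (.node (.node (.node (.node (.leaf []) (.leaf [(-190), 236, (-25), (-5), (-33), (-1), 1, (-9), (-4), (-2)])) (.node (.leaf []) (.leaf [(-89981), 94437, (-9127), (-6453), (-13788), (-1640), (-232), (-1724), (-979), (-735)]))) (.node (.node (.leaf []) (.leaf [64, (-96), 33, 20, 15, 0, 5, 2, (-3), 1])) (.leaf [(-1), 0, 0, 0, 0, 0, 0, 0, 0, 0]))) (.node (.node (.node (.leaf []) (.leaf [])) (.leaf [(-7), (-14), 13, 13, 4, 0, 1, 1, 0, 0])) (.node (.node (.leaf []) (.leaf [127, (-115), 9, (-29), 31, (-4), (-6), 5, (-9), 2])) (.leaf [65, (-71), 5, (-2), 6, (-2), 0, 2, 0, 0]))))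

def certHL121 : Janko.Tree (List ℤ) :=
  (.node (.node (.node (.node (.leaf []) (.leaf [(-10), 18, (-6), 1, (-5), 0, (-1), (-2), 0, 0])) (.node (.leaf []) (.leaf [27, (-25), 4, 1, 2, (-1), 0, (-2), (-1), 0]))) (.node (.node (.leaf []) (.leaf [1, 0, 0, 0, 0, 0, 0, 0, 0, 0])) (.leaf []))) (.node (.node (.node (.leaf []) (.leaf [])) (.leaf [6, (-7), 2, 1, 1, 0, 0, 0, 0, 0])) (.node (.node (.leaf []) (.leaf [471, (-549), 74, 19, 96, 13, 13, 20, 8, 6])) (.leaf [(-28), 53, (-11), (-11), (-5), (-5), 0, (-4), (-1), (-3)]))))

def certHL122 : Janko.Tree (List ℤ) :=
  (.node (.node (.node (.node (.leaf []) (.leaf [(-139), (-22), 60, 34, (-7), 25, 31, 12, 1, 14])) (.node (.leaf []) (.leaf [(-14), 20, (-3), 0, (-3), 0, 0, (-1), 0, 0]))) (.node (.node (.leaf []) (.leaf [(-131), 315, (-68), (-61), (-23), 7, 0, (-17), (-10), 0])) (.leaf []))) (.node (.node (.node (.leaf []) (.leaf [(-1), 11, (-8), (-2), (-1), 2, 2, 0, (-1), 0])) (.leaf [])) (.node (.node (.leaf [15, (-16), 2, 1, 2, 0, 1, 0, (-1), 0]) (.leaf [(-35), 40, (-6), (-2), (-4), 1, (-1), 0, 0, 0])) (.leaf [(-44), 39, (-4), (-7), (-1), 1, 3, 2, 2, 0]))))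

def certHL123 : Janko.Tree (List ℤ) :=
  (.node (.node (.node (.node (.leaf []) (.leaf [(-11), (-148), 70, (-4), 38, 10, 11, 24, (-2), 11])) (.node (.leaf []) (.leaf [(-171689), 161351, (-14451), (-14227), (-22421), (-3693), (-1392), 1020, (-1312), (-1997)]))) (.node (.node (.leaf [(-2), (-1), 1, (-1), 1, 0, 0, 2, 0, 0]) (.leaf [])) (.leaf []))) (.node (.node (.node (.leaf []) (.leaf [(-309), 195, 16, 33, (-32), 12, 12, 14, 8, 8])) (.leaf [83, (-53), (-3), (-3), 1, (-1), (-4), (-5), (-3), 0])) (.node (.node (.leaf [7, (-4), 0, (-1), 2, 0, 0, 0, (-1), 0]) (.leaf [(-16), 19, (-3), (-1), (-1), 1, 0, 0, 0, 0])) (.leaf []))))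

def certHL124 : Janko.Tree (List ℤ) :=
  (.node (.node (.node (.node (.leaf []) (.leaf [])) (.node (.leaf []) (.leaf [44040, (-52305), 6650, 6658, 7708, 611, (-34), 1761, 809, 126]))) (.node (.node (.leaf []) (.leaf [28, (-38), 8, (-1), 9, (-1), 1, 2, 0, 0])) (.leaf []))) (.node (.node (.node (.leaf []) (.leaf [])) (.leaf [])) (.node (.node (.leaf []) (.leaf [(-144), 184, (-30), 9, (-44), (-10), (-9), (-6), (-4), (-3)])) (.leaf [3, 1, (-1), 1, (-1), 0, 0, (-2), 0, 0]))))

def certHL125 : Janko.Tree (List ℤ) :=
  (.node (.node (.node (.node (.leaf []) (.leaf [8180, (-9338), 921, 261, 1517, 160, 9, 348, 131, 61])) (.node (.leaf []) (.leaf [(-2), 7, (-3), 1, (-2), 0, (-1), (-2), 0, 0]))) (.node (.node (.leaf []) (.leaf [37, (-38), 2, (-4), 7, (-1), (-2), 1, 0, 0])) (.leaf [100, (-83), 1, (-23), 24, (-5), (-9), 6, (-3), 1]))) (.node (.node (.node (.leaf [(-1), 0, 0, 0, 0, 0, 0, 0, 0, 0]) (.leaf [])) (.leaf [])) (.node (.node (.leaf []) (.leaf [1, 0, 0, 0, 0, 0, 0, 0, 0, 0])) (.leaf [(-89593), 97637, (-10091), (-6851), (-14713), (-1610), (-130), (-2556), (-1208), (-687)]))))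

def certHL126 : Janko.Tree (List ℤ) :=
  (.node (.node (.node (.node (.leaf []) (.leaf [144, (-268), 54, 48, 44, 11, 22, 15, 14, 3])) (.node (.leaf []) (.leaf [(-81344), 95434, (-10700), (-6589), (-14479), (-1221), 357, (-3759), (-1258), (-386)]))) (.node (.node (.leaf []) (.leaf [(-13), 9, 0, 1, (-3), 0, 0, 0, 1, 0])) (.leaf []))) (.node (.node (.node (.leaf [(-7), 7, (-1), 0, 0, 0, 0, 0, 0, 0]) (.leaf [(-148785), 158774, (-15145), (-10356), (-22827), (-2788), (-114), (-3403), (-1517), (-1110)])) (.leaf [])) (.node (.node (.leaf []) (.leaf [(-17), 21, (-2), (-6), 4, 1, 1, 0, 0, 0])) (.leaf [5, (-13), (-4), 12, 2, 6, 3, 3, 7, 1]))))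

def certHL127 : Janko.Tree (List ℤ) :=
  (.node (.node (.node (.node (.leaf []) (.leaf [])) (.node (.leaf []) (.leaf [(-6721), 10256, (-1875), (-5955), (-651), 87, 6, (-79), (-118), 271]))) (.node (.node (.leaf []) (.leaf [(-15), 15, (-2), 0, (-3), 0, (-1), 0, 1, 0])) (.leaf []))) (.node (.node (.node (.leaf []) (.leaf [(-139219), 146023, (-13651), (-10309), (-20548), (-2635), (-129), (-2588), (-1296), (-1061)])) (.leaf [(-604), 656, (-54), 17, (-88), (-9), 2, (-19), (-1), (-7)])) (.node (.node (.leaf []) (.leaf [(-10), 11, (-3), 0, (-1), 1, (-1), (-1), 1, 0])) (.leaf []))))

def certHL : Janko.Tree (List ℤ) :=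
  (.node (.node (.node (.node (.node (.node (.node certHL0 certHL64) (.node certHL32 certHL96)) (.node (.node certHL16 certHL80) (.node certHL48 certHL112))) (.node (.node (.node certHL8 certHL72) (.node certHL40 certHL104)) (.node (.node certHL24 certHL88) (.node certHL56 certHL120)))) (.node (.node (.node (.node certHL4 certHL68) (.node certHL36 certHL100)) (.node (.node certHL20 certHL84) (.node certHL52 certHL116))) (.node (.node (.node certHL12 certHL76) (.node certHL44 certHL108)) (.node (.node certHL28 certHL92) (.node certHL60 certHL124))))) (.node (.node (.node (.node (.node certHL2 certHL66) (.node certHL34 certHL98)) (.node (.node certHL18 certHL82) (.node certHL50 certHL114))) (.node (.node (.node certHL10 certHL74) (.node certHL42 certHL106)) (.node (.node certHL26 certHL90) (.node certHL58 certHL122)))) (.node (.node (.node (.node certHL6 certHL70) (.node certHL38 certHL102)) (.node (.node certHL22 certHL86) (.node certHL54 certHL118))) (.node (.node (.node certHL14 certHL78) (.node certHL46 certHL110)) (.node (.node certHL30 certHL94) (.node certHL62 certHL126)))))) (.node (.node (.node (.node (.node (.node certHL1 certHL65) (.node certHL33 certHL97)) (.node (.node certHL17 certHL81) (.node certHL49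 certHL113))) (.node (.node (.node certHL9 certHL73) (.node certHL41 certHL105)) (.node (.node certHL25 certHL89) (.node certHL57 certHL121)))) (.node (.node (.node (.node certHL5 certHL69) (.node certHL37 certHL101)) (.node (.node certHL21 certHL85) (.node certHL53 certHL117))) (.node (.node (.node certHL13 certHL77) (.node certHL45 certHL109)) (.node (.node certHL29 certHL93) (.node certHL61 certHL125))))) (.node (.node (.node (.node (.node certHL3 certHL67) (.node certHL35 certHL99)) (.node (.node certHL19 certHL83) (.node certHL51 certHL115))) (.node (.node (.node certHL11 certHL75) (.node certHL43 certHL107)) (.node (.node certHL27 certHL91) (.node certHL59 certHL123)))) (.node (.node (.node (.node certHL7 certHL71) (.node certHL39 certHL103)) (.node (.node certHL23 certHL87) (.node certHL55 certHL119))) (.node (.node (.node certHL15 certHL79) (.node certHL47 certHL111)) (.node (.node certHL31 certHL95) (.node certHL63 certHL127)))))))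

def certHKind0 : Janko.Tree (ℕ) :=
  (.node (.node (.node (.node (.leaf 3) (.leaf 3)) (.node (.leaf 0) (.leaf 3))) (.node (.node (.leaf 0) (.leaf 3)) (.leaf 0))) (.node (.node (.node (.leaf 3) (.leaf 0)) (.node (.leaf 0) (.leaf 3))) (.node (.node (.leaf 0) (.leaf 3)) (.leaf 3))))

def certHKind1 : Janko.Tree (ℕ) :=
  (.node (.node (.node (.node (.leaf 0) (.leaf 3)) (.node (.leaf 3) (.leaf 3))) (.node (.node (.leaf 0) (.leaf 3)) (.leaf 3))) (.node (.node (.node (.leaf 0) (.leaf 0)) (.node (.leaf 3) (.leaf 0))) (.node (.node (.leaf 3) (.leaf 3)) (.leaf 0))))

def certHKind2 : Janko.Tree (ℕ) :=
  (.node (.node (.node (.node (.leaf 0) (.leaf 3)) (.node (.leaf 0) (.leaf 0))) (.node (.node (.leaf 0) (.leaf 3)) (.leaf 0))) (.node (.node (.node (.leaf 0) (.leaf 3)) (.node (.leaf 0) (.leaf 3))) (.node (.node (.leaf 0) (.leaf 3)) (.leaf 3))))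

def certHKind3 : Janko.Tree (ℕ) :=
  (.node (.node (.node (.node (.leaf 0) (.leaf 0)) (.node (.leaf 0) (.leaf 3))) (.node (.node (.leaf 3) (.leaf 3)) (.leaf 0))) (.node (.node (.node (.leaf 0) (.leaf 3)) (.node (.leaf 0) (.leaf 3))) (.node (.node (.leaf 0) (.leaf 3)) (.leaf 0))))

def certHKind4 : Janko.Tree (ℕ) :=
  (.node (.node (.node (.node (.leaf 0) (.leaf 3)) (.node (.leaf 3) (.leaf 3))) (.node (.node (.leaf 0) (.leaf 3)) (.leaf 3))) (.node (.node (.node (.leaf 2) (.leaf 0)) (.node (.leaf 3) (.leaf 3))) (.node (.node (.leaf 3) (.leaf 3)) (.leaf 0))))

def certHKind5 : Janko.Tree (ℕ) :=
  (.node (.node (.node (.node (.leaf 0) (.leaf 3)) (.node (.leaf 3) (.leaf 3))) (.node (.node (.leaf 0) (.leaf 3)) (.leaf 0))) (.node (.node (.node (.leaf 0) (.leaf 0)) (.node (.leaf 3) (.leaf 3))) (.node (.node (.leaf 3) (.leaf 3)) (.leaf 0))))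

def certHKind6 : Janko.Tree (ℕ) :=
  (.node (.node (.node (.node (.leaf 0) (.leaf 3)) (.node (.leaf 0) (.leaf 3))) (.node (.node (.leaf 0) (.leaf 3)) (.leaf 0))) (.node (.node (.node (.leaf 0) (.leaf 3)) (.node (.leaf 0) (.leaf 3))) (.node (.node (.leaf 0) (.leaf 0)) (.leaf 3))))

def certHKind7 : Janko.Tree (ℕ) :=
  (.node (.node (.node (.node (.leaf 0) (.leaf 0)) (.node (.leaf 0) (.leaf 3))) (.node (.node (.leaf 0) (.leaf 3)) (.leaf 0))) (.node (.node (.node (.leaf 3) (.leaf 0)) (.node (.leaf 3) (.leaf 3))) (.node (.node (.leaf 0) (.leaf 3)) (.leaf 0))))

def certHKind8 : Janko.Tree (ℕ) :=
  (.node (.node (.node (.node (.leaf 0) (.leaf 0)) (.node (.leaf 0) (.leaf 3))) (.node (.node (.leaf 3) (.leaf 0)) (.leaf 3))) (.node (.node (.node (.leaf 0) (.leaf 0)) (.node (.leaf 0) (.leaf 3))) (.node (.node (.leaf 0) (.leaf 3)) (.leaf 3))))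

def certHKind9 : Janko.Tree (ℕ) :=
  (.node (.node (.node (.node (.leaf 0) (.leaf 0)) (.node (.leaf 0) (.leaf 0))) (.node (.node (.leaf 0) (.leaf 3)) (.leaf 0))) (.node (.node (.node (.leaf 0) (.leaf 3)) (.node (.leaf 3) (.leaf 3))) (.node (.node (.leaf 0) (.leaf 3)) (.leaf 3))))

def certHKind10 : Janko.Tree (ℕ) :=
  (.node (.node (.node (.node (.leaf 0) (.leaf 3)) (.node (.leaf 0) (.leaf 3))) (.node (.node (.leaf 0) (.leaf 3)) (.leaf 0))) (.node (.node (.node (.leaf 3) (.leaf 3)) (.node (.leaf 3) (.leaf 3))) (.node (.node (.leaf 3) (.leaf 3)) (.leaf 3))))

def certHKind11 : Janko.Tree (ℕ) :=
  (.node (.node (.node (.node (.leaf 0) (.leaf 0)) (.node (.leaf 3) (.leaf 3))) (.node (.node (.leaf 0) (.leaf 3)) (.leaf 3))) (.node (.node (.node (.leaf 0) (.leaf 3)) (.node (.leaf 3) (.leaf 3))) (.node (.node (.leaf 0) (.leaf 3)) (.leaf 3))))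

def certHKind12 : Janko.Tree (ℕ) :=
  (.node (.node (.node (.node (.leaf 0) (.leaf 0)) (.node (.leaf 3) (.leaf 0))) (.node (.node (.leaf 0) (.leaf 3)) (.leaf 3))) (.node (.node (.node (.leaf 0) (.leaf 0)) (.node (.leaf 0) (.leaf 0))) (.node (.node (.leaf 0) (.leaf 3)) (.leaf 3))))

def certHKind13 : Janko.Tree (ℕ) :=
  (.node (.node (.node (.node (.leaf 0) (.leaf 3)) (.node (.leaf 0) (.leaf 3))) (.node (.node (.leaf 0) (.leaf 3)) (.leaf 3))) (.node (.node (.node (.leaf 0) (.leaf 0)) (.node (.leaf 3) (.leaf 3))) (.node (.node (.leaf 3) (.leaf 3)) (.leaf 3))))

def certHKind14 : Janko.Tree (ℕ) :=
  (.node (.node (.node (.node (.leaf 0) (.leaf 3)) (.node (.leaf 0) (.leaf 3))) (.node (.node (.leaf 0) (.leaf 3)) (.leaf 0))) (.node (.node (.node (.leaf 0) (.leaf 3)) (.node (.leaf 3) (.leaf 3))) (.node (.node (.leaf 3) (.leaf 3)) (.leaf 0))))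

def certHKind15 : Janko.Tree (ℕ) :=
  (.node (.node (.node (.node (.leaf 0) (.leaf 3)) (.node (.leaf 0) (.leaf 3))) (.node (.node (.leaf 2) (.leaf 3)) (.leaf 3))) (.node (.node (.node (.leaf 0) (.leaf 0)) (.node (.leaf 3) (.leaf 0))) (.node (.node (.leaf 0) (.leaf 3)) (.leaf 3))))

def certHKind16 : Janko.Tree (ℕ) :=
  (.node (.node (.node (.node (.leaf 0) (.leaf 0)) (.node (.leaf 3) (.leaf 3))) (.node (.node (.leaf 0) (.leaf 3)) (.leaf 0))) (.node (.node (.node (.leaf 0) (.leaf 0)) (.node (.leaf 3) (.leaf 3))) (.node (.node (.leaf 3) (.leaf 0)) (.leaf 0))))

def certHKind17 : Janko.Tree (ℕ) :=
  (.node (.node (.node (.node (.leaf 0) (.leaf 0)) (.node (.leaf 0) (.leaf 3))) (.node (.node (.leaf 0) (.leaf 3)) (.leaf 0))) (.node (.node (.node (.leaf 0) (.leaf 3)) (.node (.leaf 3) (.leaf 3))) (.node (.node (.leaf 0) (.leaf 3)) (.leaf 3))))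

def certHKind18 : Janko.Tree (ℕ) :=
  (.node (.node (.node (.node (.leaf 0) (.leaf 3)) (.node (.leaf 3) (.leaf 0))) (.node (.node (.leaf 2) (.leaf 3)) (.leaf 3))) (.node (.node (.node (.leaf 0) (.leaf 0)) (.node (.leaf 0) (.leaf 3))) (.node (.node (.leaf 0) (.leaf 3)) (.leaf 3))))

def certHKind19 : Janko.Tree (ℕ) :=
  (.node (.node (.node (.node (.leaf 0) (.leaf 3)) (.node (.leaf 0) (.leaf 0))) (.node (.node (.leaf 0) (.leaf 3)) (.leaf 3))) (.node (.node (.node (.leaf 0) (.leaf 0)) (.node (.leaf 0) (.leaf 3))) (.node (.node (.leaf 3) (.leaf 3)) (.leaf 3))))

def certHKind20 : Janko.Tree (ℕ) :=
  (.node (.node (.node (.node (.leaf 0) (.leaf 3)) (.node (.leaf 0) (.leaf 3))) (.node (.node (.leaf 0) (.leaf 3)) (.leaf 0))) (.node (.node (.node (.leaf 3) (.leaf 3)) (.node (.leaf 3) (.leaf 3))) (.node (.node (.leaf 3) (.leaf 0)) (.leaf 0))))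

def certHKind21 : Janko.Tree (ℕ) :=
  (.node (.node (.node (.node (.leaf 2) (.leaf 0)) (.node (.leaf 3) (.leaf 3))) (.node (.node (.leaf 0) (.leaf 3)) (.leaf 0))) (.node (.node (.node (.leaf 0) (.leaf 0)) (.node (.leaf 0) (.leaf 3))) (.node (.node (.leaf 0) (.leaf 3)) (.leaf 3))))

def certHKind22 : Janko.Tree (ℕ) :=
  (.node (.node (.node (.node (.leaf 0) (.leaf 3)) (.node (.leaf 0) (.leaf 3))) (.node (.node (.leaf 0) (.leaf 3)) (.leaf 3))) (.node (.node (.node (.leaf 0) (.leaf 0)) (.node (.leaf 3) (.leaf 3))) (.node (.node (.leaf 0) (.leaf 3)) (.leaf 0))))

def certHKind23 : Janko.Tree (ℕ) :=
  (.node (.node (.node (.node (.leaf 0) (.leaf 3)) (.node (.leaf 0) (.leaf 0))) (.node (.node (.leaf 0) (.leaf 3)) (.leaf 0))) (.node (.node (.node (.leaf 0) (.leaf 0)) (.node (.leaf 3) (.leaf 3))) (.node (.node (.leaf 0) (.leaf 3)) (.leaf 0))))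

def certHKind24 : Janko.Tree (ℕ) :=
  (.node (.node (.node (.node (.leaf 0) (.leaf 3)) (.node (.leaf 0) (.leaf 3))) (.node (.node (.leaf 0) (.leaf 0)) (.leaf 0))) (.node (.node (.node (.leaf 0) (.leaf 3)) (.node (.leaf 0) (.leaf 3))) (.node (.node (.leaf 0) (.leaf 3)) (.leaf 3))))

def certHKind25 : Janko.Tree (ℕ) :=
  (.node (.node (.node (.node (.leaf 0) (.leaf 3)) (.node (.leaf 3) (.leaf 0))) (.node (.node (.leaf 0) (.leaf 3)) (.leaf 0))) (.node (.node (.node (.leaf 0) (.leaf 3)) (.node (.leaf 0) (.leaf 3))) (.node (.node (.leaf 0) (.leaf 3)) (.leaf 3))))

def certHKind26 : Janko.Tree (ℕ) :=
  (.node (.node (.node (.node (.leaf 0) (.leaf 0)) (.node (.leaf 0) (.leaf 0))) (.node (.node (.leaf 0) (.leaf 3)) (.leaf 0))) (.node (.node (.node (.leaf 0) (.leaf 3)) (.node (.leaf 0) (.leaf 3))) (.node (.node (.leaf 0) (.leaf 3)) (.leaf 0))))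

def certHKind27 : Janko.Tree (ℕ) :=
  (.node (.node (.node (.node (.leaf 0) (.leaf 3)) (.node (.leaf 0) (.leaf 3))) (.node (.node (.leaf 0) (.leaf 3)) (.leaf 3))) (.node (.node (.node (.leaf 0) (.leaf 3)) (.node (.leaf 0) (.leaf 3))) (.node (.node (.leaf 0) (.leaf 0)) (.leaf 0))))

def certHKind28 : Janko.Tree (ℕ) :=
  (.node (.node (.node (.node (.leaf 0) (.leaf 3)) (.node (.leaf 0) (.leaf 3))) (.node (.node (.leaf 0) (.leaf 3)) (.leaf 0))) (.node (.node (.node (.leaf 0) (.leaf 3)) (.node (.leaf 0) (.leaf 3))) (.node (.node (.leaf 0) (.leaf 3)) (.leaf 0))))

def certHKind29 : Janko.Tree (ℕ) :=
  (.node (.node (.node (.node (.leaf 0) (.leaf 3)) (.node (.leaf 0) (.leaf 0))) (.node (.node (.leaf 0) (.leaf 3)) (.leaf 0))) (.node (.node (.node (.leaf 0) (.leaf 3)) (.node (.leaf 3) (.leaf 3))) (.node (.node (.leaf 0) (.leaf 0)) (.leaf 0))))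

def certHKind30 : Janko.Tree (ℕ) :=
  (.node (.node (.node (.node (.leaf 0) (.leaf 3)) (.node (.leaf 3) (.leaf 3))) (.node (.node (.leaf 3) (.leaf 0)) (.leaf 0))) (.node (.node (.node (.leaf 0) (.leaf 3)) (.node (.leaf 0) (.leaf 3))) (.node (.node (.leaf 3) (.leaf 3)) (.leaf 3))))

def certHKind31 : Janko.Tree (ℕ) :=
  (.node (.node (.node (.node (.leaf 0) (.leaf 3)) (.node (.leaf 0) (.leaf 3))) (.node (.node (.leaf 0) (.leaf 0)) (.leaf 3))) (.node (.node (.node (.leaf 0) (.leaf 0)) (.node (.leaf 3) (.leaf 3))) (.node (.node (.leaf 0) (.leaf 3)) (.leaf 0))))

def certHKind32 : Janko.Tree (ℕ) :=
  (.node (.node (.node (.node (.leaf 0) (.leaf 3)) (.node (.leaf 0) (.leaf 3))) (.node (.node (.leaf 0) (.leaf 3)) (.leaf 0))) (.node (.node (.node (.leaf 0) (.leaf 0)) (.node (.leaf 3) (.leaf 3))) (.node (.node (.leaf 3) (.leaf 0)) (.leaf 0))))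

def certHKind33 : Janko.Tree (ℕ) :=
  (.node (.node (.node (.node (.leaf 0) (.leaf 3)) (.node (.leaf 0) (.leaf 3))) (.node (.node (.leaf 0) (.leaf 3)) (.leaf 3))) (.node (.node (.node (.leaf 3) (.leaf 0)) (.node (.leaf 0) (.leaf 3))) (.node (.node (.leaf 3) (.leaf 3)) (.leaf 3))))

def certHKind34 : Janko.Tree (ℕ) :=
  (.node (.node (.node (.node (.leaf 0) (.leaf 0)) (.node (.leaf 0) (.leaf 3))) (.node (.node (.leaf 0) (.leaf 3)) (.leaf 0))) (.node (.node (.node (.leaf 3) (.leaf 3)) (.node (.leaf 0) (.leaf 3))) (.node (.node (.leaf 3) (.leaf 0)) (.leaf 3))))

def certHKind35 : Janko.Tree (ℕ) :=
  (.node (.node (.node (.node (.leaf 0) (.leaf 0)) (.node (.leaf 0) (.leaf 3))) (.node (.node (.leaf 3) (.leaf 3)) (.leaf 0))) (.node (.node (.node (.leaf 0) (.leaf 0)) (.node (.leaf 0) (.leaf 3))) (.node (.node (.leaf 0) (.leaf 0)) (.leaf 0))))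

def certHKind36 : Janko.Tree (ℕ) :=
  (.node (.node (.node (.node (.leaf 0) (.leaf 0)) (.node (.leaf 0) (.leaf 3))) (.node (.node (.leaf 3) (.leaf 0)) (.leaf 0))) (.node (.node (.node (.leaf 0) (.leaf 3)) (.node (.leaf 0) (.leaf 3))) (.node (.node (.leaf 0) (.leaf 0)) (.leaf 0))))

def certHKind37 : Janko.Tree (ℕ) :=
  (.node (.node (.node (.node (.leaf 0) (.leaf 0)) (.node (.leaf 0) (.leaf 3))) (.node (.node (.leaf 2) (.leaf 3)) (.leaf 0))) (.node (.node (.node (.leaf 0) (.leaf 3)) (.node (.leaf 0) (.leaf 3))) (.node (.node (.leaf 0) (.leaf 3)) (.leaf 0))))

def certHKind38 : Janko.Tree (ℕ) :=
  (.node (.node (.node (.node (.leaf 3) (.leaf 0)) (.node (.leaf 0) (.leaf 3))) (.node (.node (.leaf 0) (.leaf 3)) (.leaf 0))) (.node (.node (.node (.leaf 0) (.leaf 3)) (.node (.leaf 0) (.leaf 3))) (.node (.node (.leaf 0) (.leaf 3)) (.leaf 0))))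

def certHKind39 : Janko.Tree (ℕ) :=
  (.node (.node (.node (.node (.leaf 0) (.leaf 3)) (.node (.leaf 0) (.leaf 3))) (.node (.node (.leaf 3) (.leaf 0)) (.leaf 3))) (.node (.node (.node (.leaf 0) (.leaf 0)) (.node (.leaf 0) (.leaf 3))) (.node (.node (.leaf 0) (.leaf 3)) (.leaf 3))))

def certHKind40 : Janko.Tree (ℕ) :=
  (.node (.node (.node (.node (.leaf 0) (.leaf 3)) (.node (.leaf 3) (.leaf 3))) (.node (.node (.leaf 0) (.leaf 3)) (.leaf 3))) (.node (.node (.node (.leaf 0) (.leaf 3)) (.node (.leaf 3) (.leaf 3))) (.node (.node (.leaf 3) (.leaf 0)) (.leaf 3))))

def certHKind41 : Janko.Tree (ℕ) :=
  (.node (.node (.node (.node (.leaf 0) (.leaf 0)) (.node (.leaf 0) (.leaf 3))) (.node (.node (.leaf 0) (.leaf 3)) (.leaf 3))) (.node (.node (.node (.leaf 0) (.leaf 3)) (.node (.leaf 0) (.leaf 3))) (.node (.node (.leaf 0) (.leaf 3)) (.leaf 3))))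

def certHKind42 : Janko.Tree (ℕ) :=
  (.node (.node (.node (.node (.leaf 0) (.leaf 0)) (.node (.leaf 0) (.leaf 3))) (.node (.node (.leaf 0) (.leaf 0)) (.leaf 3))) (.node (.node (.node (.leaf 0) (.leaf 3)) (.node (.leaf 3) (.leaf 3))) (.node (.node (.leaf 0) (.leaf 3)) (.leaf 3))))

def certHKind43 : Janko.Tree (ℕ) :=
  (.node (.node (.node (.node (.leaf 3) (.leaf 3)) (.node (.leaf 0) (.leaf 3))) (.node (.node (.leaf 0) (.leaf 3)) (.leaf 0))) (.node (.node (.node (.leaf 0) (.leaf 3)) (.node (.leaf 3) (.leaf 3))) (.node (.node (.leaf 0) (.leaf 0)) (.leaf 3))))

def certHKind44 : Janko.Tree (ℕ) :=
  (.node (.node (.node (.node (.leaf 0) (.leaf 3)) (.node (.leaf 0) (.leaf 3))) (.node (.node (.leaf 0) (.leaf 0)) (.leaf 0))) (.node (.node (.node (.leaf 0) (.leaf 3)) (.node (.leaf 0) (.leaf 3))) (.node (.node (.leaf 3) (.leaf 3)) (.leaf 3))))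

def certHKind45 : Janko.Tree (ℕ) :=
  (.node (.node (.node (.node (.leaf 0) (.leaf 3)) (.node (.leaf 0) (.leaf 3))) (.node (.node (.leaf 2) (.leaf 3)) (.leaf 0))) (.node (.node (.node (.leaf 0) (.leaf 3)) (.node (.leaf 0) (.leaf 3))) (.node (.node (.leaf 3) (.leaf 0)) (.leaf 0))))

def certHKind46 : Janko.Tree (ℕ) :=
  (.node (.node (.node (.node (.leaf 0) (.leaf 3)) (.node (.leaf 0) (.leaf 3))) (.node (.node (.leaf 3) (.leaf 3)) (.leaf 3))) (.node (.node (.node (.leaf 0) (.leaf 0)) (.node (.leaf 0) (.leaf 3))) (.node (.node (.leaf 3) (.leaf 0)) (.leaf 3))))

def certHKind47 : Janko.Tree (ℕ) :=
  (.node (.node (.node (.node (.leaf 0) (.leaf 0)) (.node (.leaf 3) (.leaf 3))) (.node (.node (.leaf 0) (.leaf 3)) (.leaf 3))) (.node (.node (.node (.leaf 0) (.leaf 0)) (.node (.leaf 0) (.leaf 0))) (.node (.node (.leaf 0) (.leaf 0)) (.leaf 3))))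

def certHKind48 : Janko.Tree (ℕ) :=
  (.node (.node (.node (.node (.leaf 0) (.leaf 0)) (.node (.leaf 0) (.leaf 3))) (.node (.node (.leaf 0) (.leaf 3)) (.leaf 3))) (.node (.node (.node (.leaf 0) (.leaf 3)) (.node (.leaf 3) (.leaf 3))) (.node (.node (.leaf 0) (.leaf 3)) (.leaf 3))))

def certHKind49 : Janko.Tree (ℕ) :=
  (.node (.node (.node (.node (.leaf 0) (.leaf 3)) (.node (.leaf 0) (.leaf 3))) (.node (.node (.leaf 0) (.leaf 0)) (.leaf 3))) (.node (.node (.node (.leaf 0) (.leaf 3)) (.node (.leaf 0) (.leaf 3))) (.node (.node (.leaf 3) (.leaf 3)) (.leaf 3))))

def certHKind50 : Janko.Tree (ℕ) :=
  (.node (.node (.node (.node (.leaf 0) (.leaf 3)) (.node (.leaf 3) (.leaf 3))) (.node (.node (.leaf 3) (.leaf 3)) (.leaf 3))) (.node (.node (.node (.leaf 0) (.leaf 3)) (.node (.leaf 0) (.leaf 3))) (.node (.node (.leaf 0) (.leaf 3)) (.leaf 0))))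

def certHKind51 : Janko.Tree (ℕ) :=
  (.node (.node (.node (.node (.leaf 0) (.leaf 0)) (.node (.leaf 0) (.leaf 3))) (.node (.node (.leaf 0) (.leaf 3)) (.leaf 0))) (.node (.node (.node (.leaf 0) (.leaf 0)) (.node (.leaf 0) (.leaf 3))) (.node (.node (.leaf 0) (.leaf 3)) (.leaf 3))))

def certHKind52 : Janko.Tree (ℕ) :=
  (.node (.node (.node (.node (.leaf 0) (.leaf 0)) (.node (.leaf 0) (.leaf 0))) (.node (.node (.leaf 0) (.leaf 3)) (.leaf 0))) (.node (.node (.node (.leaf 0) (.leaf 0)) (.node (.leaf 3) (.leaf 3))) (.node (.node (.leaf 0) (.leaf 3)) (.leaf 0))))

def certHKind53 : Janko.Tree (ℕ) :=
  (.node (.node (.node (.node (.leaf 0) (.leaf 0)) (.node (.leaf 3) (.leaf 3))) (.node (.node (.leaf 3) (.leaf 3)) (.leaf 0))) (.node (.node (.node (.leaf 0) (.leaf 0)) (.node (.leaf 3) (.leaf 3))) (.node (.node (.leaf 0) (.leaf 3)) (.leaf 0))))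

def certHKind54 : Janko.Tree (ℕ) :=
  (.node (.node (.node (.node (.leaf 0) (.leaf 3)) (.node (.leaf 0) (.leaf 3))) (.node (.node (.leaf 0) (.leaf 3)) (.leaf 3))) (.node (.node (.node (.leaf 0) (.leaf 0)) (.node (.leaf 0) (.leaf 3))) (.node (.node (.leaf 0) (.leaf 3)) (.leaf 0))))

def certHKind55 : Janko.Tree (ℕ) :=
  (.node (.node (.node (.node (.leaf 0) (.leaf 0)) (.node (.leaf 0) (.leaf 3))) (.node (.node (.leaf 0) (.leaf 3)) (.leaf 3))) (.node (.node (.node (.leaf 0) (.leaf 3)) (.node (.leaf 3) (.leaf 3))) (.node (.node (.leaf 0) (.leaf 3)) (.leaf 0))))

def certHKind56 : Janko.Tree (ℕ) :=
  (.node (.node (.node (.node (.leaf 0) (.leaf 3)) (.node (.leaf 0) (.leaf 3))) (.node (.node (.leaf 0) (.leaf 0)) (.leaf 3))) (.node (.node (.node (.leaf 0) (.leaf 3)) (.node (.leaf 0) (.leaf 3))) (.node (.node (.leaf 3) (.leaf 3)) (.leaf 0))))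

def certHKind57 : Janko.Tree (ℕ) :=
  (.node (.node (.node (.node (.leaf 0) (.leaf 0)) (.node (.leaf 0) (.leaf 3))) (.node (.node (.leaf 0) (.leaf 0)) (.leaf 0))) (.node (.node (.node (.leaf 0) (.leaf 3)) (.node (.leaf 0) (.leaf 3))) (.node (.node (.leaf 0) (.leaf 0)) (.leaf 0))))

def certHKind58 : Janko.Tree (ℕ) :=
  (.node (.node (.node (.node (.leaf 0) (.leaf 3)) (.node (.leaf 0) (.leaf 3))) (.node (.node (.leaf 0) (.leaf 0)) (.leaf 3))) (.node (.node (.node (.leaf 0) (.leaf 3)) (.node (.leaf 3) (.leaf 3))) (.node (.node (.leaf 0) (.leaf 0)) (.leaf 0))))

def certHKind59 : Janko.Tree (ℕ) :=
  (.node (.node (.node (.node (.leaf 0) (.leaf 3)) (.node (.leaf 0) (.leaf 3))) (.node (.node (.leaf 3) (.leaf 0)) (.leaf 3))) (.node (.node (.node (.leaf 0) (.leaf 0)) (.node (.leaf 3) (.leaf 3))) (.node (.node (.leaf 0) (.leaf 0)) (.leaf 3))))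

def certHKind60 : Janko.Tree (ℕ) :=
  (.node (.node (.node (.node (.leaf 0) (.leaf 3)) (.node (.leaf 0) (.leaf 3))) (.node (.node (.leaf 0) (.leaf 0)) (.leaf 0))) (.node (.node (.node (.leaf 0) (.leaf 3)) (.node (.leaf 0) (.leaf 3))) (.node (.node (.leaf 0) (.leaf 3)) (.leaf 0))))

def certHKind61 : Janko.Tree (ℕ) :=
  (.node (.node (.node (.node (.leaf 3) (.leaf 3)) (.node (.leaf 0) (.leaf 0))) (.node (.node (.leaf 0) (.leaf 3)) (.leaf 3))) (.node (.node (.node (.leaf 0) (.leaf 3)) (.node (.leaf 0) (.leaf 3))) (.node (.node (.leaf 0) (.leaf 3)) (.leaf 0))))

def certHKind62 : Janko.Tree (ℕ) :=
  (.node (.node (.node (.node (.leaf 3) (.leaf 3)) (.node (.leaf 0) (.leaf 3))) (.node (.node (.leaf 0) (.leaf 0)) (.leaf 3))) (.node (.node (.node (.leaf 3) (.leaf 0)) (.node (.leaf 3) (.leaf 3))) (.node (.node (.leaf 0) (.leaf 3)) (.leaf 3))))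

def certHKind63 : Janko.Tree (ℕ) :=
  (.node (.node (.node (.node (.leaf 0) (.leaf 3)) (.node (.leaf 0) (.leaf 3))) (.node (.node (.leaf 0) (.leaf 3)) (.leaf 0))) (.node (.node (.node (.leaf 0) (.leaf 3)) (.node (.leaf 0) (.leaf 3))) (.node (.node (.leaf 0) (.leaf 3)) (.leaf 0))))

def certHKind64 : Janko.Tree (ℕ) :=
  (.node (.node (.node (.node (.leaf 0) (.leaf 3)) (.node (.leaf 0) (.leaf 3))) (.node (.node (.leaf 0) (.leaf 3)) (.leaf 0))) (.node (.node (.node (.leaf 0) (.leaf 0)) (.node (.leaf 0) (.leaf 2))) (.node (.node (.leaf 3) (.leaf 3)) (.leaf 0))))

def certHKind65 : Janko.Tree (ℕ) :=
  (.node (.node (.node (.node (.leaf 0) (.leaf 0)) (.node (.leaf 3) (.leaf 3))) (.node (.node (.leaf 0) (.leaf 3)) (.leaf 3))) (.node (.node (.node (.leaf 0) (.leaf 0)) (.node (.leaf 0) (.leaf 1))) (.node (.node (.leaf 3) (.leaf 3)) (.leaf 3))))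

def certHKind66 : Janko.Tree (ℕ) :=
  (.node (.node (.node (.node (.leaf 0) (.leaf 3)) (.node (.leaf 0) (.leaf 0))) (.node (.node (.leaf 3) (.leaf 0)) (.leaf 0))) (.node (.node (.node (.leaf 3) (.leaf 0)) (.node (.leaf 0) (.leaf 1))) (.node (.node (.leaf 0) (.leaf 3)) (.leaf 0))))

def certHKind67 : Janko.Tree (ℕ) :=
  (.node (.node (.node (.node (.leaf 0) (.leaf 0)) (.node (.leaf 3) (.leaf 3))) (.node (.node (.leaf 0) (.leaf 3)) (.leaf 3))) (.node (.node (.node (.leaf 3) (.leaf 3)) (.node (.leaf 0) (.leaf 3))) (.node (.node (.leaf 0) (.leaf 3)) (.leaf 3))))

def certHKind68 : Janko.Tree (ℕ) :=
  (.node (.node (.node (.node (.leaf 0) (.leaf 0)) (.node (.leaf 0) (.leaf 3))) (.node (.node (.leaf 0) (.leaf 3)) (.leaf 3))) (.node (.node (.node (.leaf 0) (.leaf 3)) (.node (.leaf 0) (.leaf 3))) (.node (.node (.leaf 3) (.leaf 3)) (.leaf 0))))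

def certHKind69 : Janko.Tree (ℕ) :=
  (.node (.node (.node (.node (.leaf 0) (.leaf 0)) (.node (.leaf 3) (.leaf 3))) (.node (.node (.leaf 0) (.leaf 3)) (.leaf 0))) (.node (.node (.node (.leaf 3) (.leaf 0)) (.node (.leaf 3) (.leaf 3))) (.node (.node (.leaf 3) (.leaf 3)) (.leaf 3))))

def certHKind70 : Janko.Tree (ℕ) :=
  (.node (.node (.node (.node (.leaf 0) (.leaf 3)) (.node (.leaf 0) (.leaf 3))) (.node (.node (.leaf 0) (.leaf 0)) (.leaf 0))) (.node (.node (.node (.leaf 0) (.leaf 3)) (.node (.leaf 3) (.leaf 3))) (.node (.node (.leaf 0) (.leaf 0)) (.leaf 3))))

def certHKind71 : Janko.Tree (ℕ) :=
  (.node (.node (.node (.node (.leaf 0) (.leaf 3)) (.node (.leaf 0) (.leaf 3))) (.node (.node (.leaf 0) (.leaf 3)) (.leaf 0))) (.node (.node (.node (.leaf 0) (.leaf 3)) (.node (.leaf 0) (.leaf 3))) (.node (.node (.leaf 0) (.leaf 3)) (.leaf 0))))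

def certHKind72 : Janko.Tree (ℕ) :=
  (.node (.node (.node (.node (.leaf 0) (.leaf 3)) (.node (.leaf 3) (.leaf 3))) (.node (.node (.leaf 0) (.leaf 3)) (.leaf 3))) (.node (.node (.node (.leaf 0) (.leaf 3)) (.node (.leaf 3) (.leaf 3))) (.node (.node (.leaf 0) (.leaf 3)) (.leaf 3))))

def certHKind73 : Janko.Tree (ℕ) :=
  (.node (.node (.node (.node (.leaf 0) (.leaf 3)) (.node (.leaf 0) (.leaf 3))) (.node (.node (.leaf 0) (.leaf 3)) (.leaf 3))) (.node (.node (.node (.leaf 0) (.leaf 3)) (.node (.leaf 0) (.leaf 3))) (.node (.node (.leaf 3) (.leaf 3)) (.leaf 0))))

def certHKind74 : Janko.Tree (ℕ) :=
  (.node (.node (.node (.node (.leaf 0) (.leaf 0)) (.node (.leaf 0) (.leaf 3))) (.node (.node (.leaf 0) (.leaf 3)) (.leaf 3))) (.node (.node (.node (.leaf 0) (.leaf 3)) (.node (.leaf 0) (.leaf 3))) (.node (.node (.leaf 3) (.leaf 3)) (.leaf 3))))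

def certHKind75 : Janko.Tree (ℕ) :=
  (.node (.node (.node (.node (.leaf 0) (.leaf 0)) (.node (.leaf 3) (.leaf 3))) (.node (.node (.leaf 0) (.leaf 3)) (.leaf 3))) (.node (.node (.node (.leaf 0) (.leaf 0)) (.node (.leaf 0) (.leaf 3))) (.node (.node (.leaf 0) (.leaf 3)) (.leaf 3))))

def certHKind76 : Janko.Tree (ℕ) :=
  (.node (.node (.node (.node (.leaf 0) (.leaf 3)) (.node (.leaf 0) (.leaf 3))) (.node (.node (.leaf 0) (.leaf 3)) (.leaf 0))) (.node (.node (.node (.leaf 0) (.leaf 0)) (.node (.leaf 3) (.leaf 3))) (.node (.node (.leaf 0) (.leaf 3)) (.leaf 3))))

def certHKind77 : Janko.Tree (ℕ) :=
  (.node (.node (.node (.node (.leaf 0) (.leaf 3)) (.node (.leaf 0) (.leaf 3))) (.node (.node (.leaf 0) (.leaf 0)) (.leaf 0))) (.node (.node (.node (.leaf 0) (.leaf 0)) (.node (.leaf 0) (.leaf 3))) (.node (.node (.leaf 3) (.leaf 3)) (.leaf 3))))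

def certHKind78 : Janko.Tree (ℕ) :=
  (.node (.node (.node (.node (.leaf 0) (.leaf 0)) (.node (.leaf 3) (.leaf 3))) (.node (.node (.leaf 0) (.leaf 0)) (.leaf 3))) (.node (.node (.node (.leaf 0) (.leaf 3)) (.node (.leaf 0) (.leaf 3))) (.node (.node (.leaf 3) (.leaf 3)) (.leaf 3))))

def certHKind79 : Janko.Tree (ℕ) :=
  (.node (.node (.node (.node (.leaf 0) (.leaf 3)) (.node (.leaf 3) (.leaf 3))) (.node (.node (.leaf 3) (.leaf 0)) (.leaf 3))) (.node (.node (.node (.leaf 0) (.leaf 0)) (.node (.leaf 0) (.leaf 3))) (.node (.node (.leaf 0) (.leaf 3)) (.leaf 0))))

def certHKind80 : Janko.Tree (ℕ) :=
  (.node (.node (.node (.node (.leaf 0) (.leaf 0)) (.node (.leaf 0) (.leaf 3))) (.node (.node (.leaf 3) (.leaf 0)) (.leaf 0))) (.node (.node (.node (.leaf 0) (.leaf 3)) (.node (.leaf 0) (.leaf 3))) (.node (.node (.leaf 3) (.leaf 3)) (.leaf 3))))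

def certHKind81 : Janko.Tree (ℕ) :=
  (.node (.node (.node (.node (.leaf 0) (.leaf 3)) (.node (.leaf 3) (.leaf 3))) (.node (.node (.leaf 0) (.leaf 3)) (.leaf 3))) (.node (.node (.node (.leaf 0) (.leaf 3)) (.node (.leaf 0) (.leaf 3))) (.node (.node (.leaf 0) (.leaf 3)) (.leaf 0))))

def certHKind82 : Janko.Tree (ℕ) :=
  (.node (.node (.node (.node (.leaf 0) (.leaf 3)) (.node (.leaf 0) (.leaf 3))) (.node (.node (.leaf 0) (.leaf 0)) (.leaf 0))) (.node (.node (.node (.leaf 0) (.leaf 3)) (.node (.leaf 3) (.leaf 3))) (.node (.node (.leaf 3) (.leaf 3)) (.leaf 0))))

def certHKind83 : Janko.Tree (ℕ) :=
  (.node (.node (.node (.node (.leaf 0) (.leaf 0)) (.node (.leaf 0) (.leaf 3))) (.node (.node (.leaf 3) (.leaf 3)) (.leaf 3))) (.node (.node (.node (.leaf 0) (.leaf 3)) (.node (.leaf 3) (.leaf 3))) (.node (.node (.leaf 0) (.leaf 3)) (.leaf 3))))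

def certHKind84 : Janko.Tree (ℕ) :=
  (.node (.node (.node (.node (.leaf 0) (.leaf 3)) (.node (.leaf 0) (.leaf 3))) (.node (.node (.leaf 0) (.leaf 0)) (.leaf 3))) (.node (.node (.node (.leaf 0) (.leaf 0)) (.node (.leaf 0) (.leaf 3))) (.node (.node (.leaf 0) (.leaf 3)) (.leaf 0))))

def certHKind85 : Janko.Tree (ℕ) :=
  (.node (.node (.node (.node (.leaf 0) (.leaf 3)) (.node (.leaf 0) (.leaf 3))) (.node (.node (.leaf 0) (.leaf 0)) (.leaf 3))) (.node (.node (.node (.leaf 0) (.leaf 3)) (.node (.leaf 0) (.leaf 3))) (.node (.node (.leaf 3) (.leaf 3)) (.leaf 0))))

def certHKind86 : Janko.Tree (ℕ) :=
  (.node (.node (.node (.node (.leaf 0) (.leaf 0)) (.node (.leaf 3) (.leaf 3))) (.node (.node (.leaf 0) (.leaf 3)) (.leaf 0))) (.node (.node (.node (.leaf 0) (.leaf 3)) (.node (.leaf 3) (.leaf 3))) (.node (.node (.leaf 3) (.leaf 3)) (.leaf 3))))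

def certHKind87 : Janko.Tree (ℕ) :=
  (.node (.node (.node (.node (.leaf 0) (.leaf 3)) (.node (.leaf 0) (.leaf 3))) (.node (.node (.leaf 3) (.leaf 3)) (.leaf 0))) (.node (.node (.node (.leaf 0) (.leaf 3)) (.node (.leaf 3) (.leaf 3))) (.node (.node (.leaf 0) (.leaf 3)) (.leaf 3))))

def certHKind88 : Janko.Tree (ℕ) :=
  (.node (.node (.node (.node (.leaf 0) (.leaf 0)) (.node (.leaf 0) (.leaf 3))) (.node (.node (.leaf 0) (.leaf 3)) (.leaf 0))) (.node (.node (.node (.leaf 0) (.leaf 3)) (.node (.leaf 0) (.leaf 3))) (.node (.node (.leaf 3) (.leaf 3)) (.leaf 3))))

def certHKind89 : Janko.Tree (ℕ) :=
  (.node (.node (.node (.node (.leaf 0) (.leaf 3)) (.node (.leaf 0) (.leaf 3))) (.node (.node (.leaf 0) (.leaf 3)) (.leaf 3))) (.node (.node (.node (.leaf 3) (.leaf 0)) (.node (.leaf 0) (.leaf 3))) (.node (.node (.leaf 3) (.leaf 3)) (.leaf 3))))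

def certHKind90 : Janko.Tree (ℕ) :=
  (.node (.node (.node (.node (.leaf 0) (.leaf 3)) (.node (.leaf 0) (.leaf 3))) (.node (.node (.leaf 0) (.leaf 3)) (.leaf 3))) (.node (.node (.node (.leaf 3) (.leaf 3)) (.node (.leaf 3) (.leaf 3))) (.node (.node (.leaf 0) (.leaf 3)) (.leaf 3))))

def certHKind91 : Janko.Tree (ℕ) :=
  (.node (.node (.node (.node (.leaf 0) (.leaf 0)) (.node (.leaf 0) (.leaf 3))) (.node (.node (.leaf 0) (.leaf 0)) (.leaf 3))) (.node (.node (.node (.leaf 0) (.leaf 3)) (.node (.leaf 3) (.leaf 3))) (.node (.node (.leaf 3) (.leaf 3)) (.leaf 3))))

def certHKind92 : Janko.Tree (ℕ) :=
  (.node (.node (.node (.node (.leaf 3) (.leaf 0)) (.node (.leaf 0) (.leaf 3))) (.node (.node (.leaf 0) (.leaf 3)) (.leaf 0))) (.node (.node (.node (.leaf 0) (.leaf 3)) (.node (.leaf 0) (.leaf 3))) (.node (.node (.leaf 3) (.leaf 3)) (.leaf 3))))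

def certHKind93 : Janko.Tree (ℕ) :=
  (.node (.node (.node (.node (.leaf 0) (.leaf 3)) (.node (.leaf 0) (.leaf 0))) (.node (.node (.leaf 0) (.leaf 3)) (.leaf 3))) (.node (.node (.node (.leaf 0) (.leaf 3)) (.node (.leaf 3) (.leaf 3))) (.node (.node (.leaf 0) (.leaf 3)) (.leaf 0))))

def certHKind94 : Janko.Tree (ℕ) :=
  (.node (.node (.node (.node (.leaf 0) (.leaf 0)) (.node (.leaf 3) (.leaf 3))) (.node (.node (.leaf 0) (.leaf 0)) (.leaf 3))) (.node (.node (.node (.leaf 0) (.leaf 0)) (.node (.leaf 0) (.leaf 3))) (.node (.node (.leaf 3) (.leaf 3)) (.leaf 3))))

def certHKind95 : Janko.Tree (ℕ) :=
  (.node (.node (.node (.node (.leaf 0) (.leaf 0)) (.node (.leaf 0) (.leaf 0))) (.node (.node (.leaf 0) (.leaf 0)) (.leaf 3))) (.node (.node (.node (.leaf 3) (.leaf 3)) (.node (.leaf 0) (.leaf 3))) (.node (.node (.leaf 0) (.leaf 3)) (.leaf 3))))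

def certHKind96 : Janko.Tree (ℕ) :=
  (.node (.node (.node (.node (.leaf 3) (.leaf 3)) (.node (.leaf 0) (.leaf 3))) (.node (.node (.leaf 0) (.leaf 3)) (.leaf 0))) (.node (.node (.node (.leaf 0) (.leaf 3)) (.node (.leaf 3) (.leaf 3))) (.node (.node (.leaf 0) (.leaf 3)) (.leaf 0))))

def certHKind97 : Janko.Tree (ℕ) :=
  (.node (.node (.node (.node (.leaf 2) (.leaf 0)) (.node (.leaf 0) (.leaf 3))) (.node (.node (.leaf 0) (.leaf 3)) (.leaf 3))) (.node (.node (.node (.leaf 0) (.leaf 0)) (.node (.leaf 0) (.leaf 3))) (.node (.node (.leaf 0) (.leaf 3)) (.leaf 3))))

def certHKind98 : Janko.Tree (ℕ) :=
  (.node (.node (.node (.node (.leaf 0) (.leaf 0)) (.node (.leaf 0) (.leaf 3))) (.node (.node (.leaf 0) (.leaf 3)) (.leaf 0))) (.node (.node (.node (.leaf 3) (.leaf 3)) (.node (.leaf 0) (.leaf 3))) (.node (.node (.leaf 0) (.leaf 3)) (.leaf 3))))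

def certHKind99 : Janko.Tree (ℕ) :=
  (.node (.node (.node (.node (.leaf 3) (.leaf 0)) (.node (.leaf 3) (.leaf 3))) (.node (.node (.leaf 0) (.leaf 3)) (.leaf 3))) (.node (.node (.node (.leaf 3) (.leaf 0)) (.node (.leaf 3) (.leaf 3))) (.node (.node (.leaf 0) (.leaf 3)) (.leaf 3))))

def certHKind100 : Janko.Tree (ℕ) :=
  (.node (.node (.node (.node (.leaf 0) (.leaf 3)) (.node (.leaf 3) (.leaf 3))) (.node (.node (.leaf 0) (.leaf 3)) (.leaf 3))) (.node (.node (.node (.leaf 0) (.leaf 3)) (.node (.leaf 0) (.leaf 3))) (.node (.node (.leaf 0) (.leaf 3)) (.leaf 3))))

def certHKind101 : Janko.Tree (ℕ) :=
  (.node (.node (.node (.node (.leaf 0) (.leaf 3)) (.node (.leaf 0) (.leaf 3))) (.node (.node (.leaf 0) (.leaf 3)) (.leaf 0))) (.node (.node (.node (.leaf 0) (.leaf 3)) (.node (.leaf 0) (.leaf 3))) (.node (.node (.leaf 0) (.leaf 3)) (.leaf 3))))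

def certHKind102 : Janko.Tree (ℕ) :=
  (.node (.node (.node (.node (.leaf 0) (.leaf 3)) (.node (.leaf 3) (.leaf 3))) (.node (.node (.leaf 0) (.leaf 3)) (.leaf 0))) (.node (.node (.node (.leaf 0) (.leaf 3)) (.node (.leaf 0) (.leaf 3))) (.node (.node (.leaf 0) (.leaf 3)) (.leaf 3))))

def certHKind103 : Janko.Tree (ℕ) :=
  (.node (.node (.node (.node (.leaf 0) (.leaf 0)) (.node (.leaf 3) (.leaf 3))) (.node (.node (.leaf 0) (.leaf 3)) (.leaf 3))) (.node (.node (.node (.leaf 0) (.leaf 3)) (.node (.leaf 3) (.leaf 3))) (.node (.node (.leaf 0) (.leaf 3)) (.leaf 3))))

def certHKind104 : Janko.Tree (ℕ) :=
  (.node (.node (.node (.node (.leaf 3) (.leaf 3)) (.node (.leaf 0) (.leaf 3))) (.node (.node (.leaf 0) (.leaf 3)) (.leaf 3))) (.node (.node (.node (.leaf 0) (.leaf 3)) (.node (.leaf 0) (.leaf 3))) (.node (.node (.leaf 3) (.leaf 3)) (.leaf 3))))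

def certHKind105 : Janko.Tree (ℕ) :=
  (.node (.node (.node (.node (.leaf 0) (.leaf 3)) (.node (.leaf 0) (.leaf 3))) (.node (.node (.leaf 0) (.leaf 3)) (.leaf 0))) (.node (.node (.node (.leaf 0) (.leaf 3)) (.node (.leaf 0) (.leaf 3))) (.node (.node (.leaf 3) (.leaf 3)) (.leaf 3))))

def certHKind106 : Janko.Tree (ℕ) :=
  (.node (.node (.node (.node (.leaf 0) (.leaf 0)) (.node (.leaf 0) (.leaf 0))) (.node (.node (.leaf 3) (.leaf 3)) (.leaf 0))) (.node (.node (.node (.leaf 0) (.leaf 3)) (.node (.leaf 3) (.leaf 3))) (.node (.node (.leaf 3) (.leaf 0)) (.leaf 0))))

def certHKind107 : Janko.Tree (ℕ) :=
  (.node (.node (.node (.node (.leaf 0) (.leaf 0)) (.node (.leaf 3) (.leaf 0))) (.node (.node (.leaf 0) (.leaf 3)) (.leaf 3))) (.node (.node (.node (.leaf 0) (.leaf 3)) (.node (.leaf 0) (.leaf 3))) (.node (.node (.leaf 0) (.leaf 3)) (.leaf 3))))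

def certHKind108 : Janko.Tree (ℕ) :=
  (.node (.node (.node (.node (.leaf 0) (.leaf 3)) (.node (.leaf 0) (.leaf 3))) (.node (.node (.leaf 0) (.leaf 3)) (.leaf 3))) (.node (.node (.node (.leaf 0) (.leaf 0)) (.node (.leaf 0) (.leaf 3))) (.node (.node (.leaf 3) (.leaf 3)) (.leaf 3))))

def certHKind109 : Janko.Tree (ℕ) :=
  (.node (.node (.node (.node (.leaf 0) (.leaf 3)) (.node (.leaf 0) (.leaf 3))) (.node (.node (.leaf 0) (.leaf 3)) (.leaf 0))) (.node (.node (.node (.leaf 0) (.leaf 3)) (.node (.leaf 2) (.leaf 3))) (.node (.node (.leaf 3) (.leaf 3)) (.leaf 3))))

def certHKind110 : Janko.Tree (ℕ) :=
  (.node (.node (.node (.node (.leaf 0) (.leaf 3)) (.node (.leaf 0) (.leaf 0))) (.node (.node (.leaf 3) (.leaf 3)) (.leaf 0))) (.node (.node (.node (.leaf 0) (.leaf 3)) (.node (.leaf 0) (.leaf 3))) (.node (.node (.leaf 0) (.leaf 3)) (.leaf 0))))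

def certHKind111 : Janko.Tree (ℕ) :=
  (.node (.node (.node (.node (.leaf 0) (.leaf 3)) (.node (.leaf 3) (.leaf 3))) (.node (.node (.leaf 3) (.leaf 3)) (.leaf 0))) (.node (.node (.node (.leaf 0) (.leaf 0)) (.node (.leaf 3) (.leaf 3))) (.node (.node (.leaf 3) (.leaf 3)) (.leaf 3))))

def certHKind112 : Janko.Tree (ℕ) :=
  (.node (.node (.node (.node (.leaf 0) (.leaf 3)) (.node (.leaf 3) (.leaf 3))) (.node (.node (.leaf 0) (.leaf 3)) (.leaf 3))) (.node (.node (.node (.leaf 3) (.leaf 0)) (.node (.leaf 3) (.leaf 3))) (.node (.node (.leaf 0) (.leaf 3)) (.leaf 3))))

def certHKind113 : Janko.Tree (ℕ) :=
  (.node (.node (.node (.node (.leaf 0) (.leaf 3)) (.node (.leaf 2) (.leaf 3))) (.node (.node (.leaf 3) (.leaf 3)) (.leaf 3))) (.node (.node (.node (.leaf 0) (.leaf 0)) (.node (.leaf 3) (.leaf 3))) (.node (.node (.leaf 0) (.leaf 3)) (.leaf 3))))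

def certHKind114 : Janko.Tree (ℕ) :=
  (.node (.node (.node (.node (.leaf 0) (.leaf 3)) (.node (.leaf 3) (.leaf 0))) (.node (.node (.leaf 0) (.leaf 3)) (.leaf 3))) (.node (.node (.node (.leaf 0) (.leaf 3)) (.node (.leaf 3) (.leaf 3))) (.node (.node (.leaf 0) (.leaf 0)) (.leaf 3))))

def certHKind115 : Janko.Tree (ℕ) :=
  (.node (.node (.node (.node (.leaf 0) (.leaf 3)) (.node (.leaf 3) (.leaf 0))) (.node (.node (.leaf 0) (.leaf 3)) (.leaf 0))) (.node (.node (.node (.leaf 0) (.leaf 0)) (.node (.leaf 0) (.leaf 3))) (.node (.node (.leaf 0) (.leaf 3)) (.leaf 3))))

def certHKind116 : Janko.Tree (ℕ) :=
  (.node (.node (.node (.node (.leaf 0) (.leaf 3)) (.node (.leaf 0) (.leaf 3))) (.node (.node (.leaf 0) (.leaf 3)) (.leaf 3))) (.node (.node (.node (.leaf 0) (.leaf 3)) (.leaf 3)) (.node (.node (.leaf 0) (.leaf 3)) (.leaf 0))))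

def certHKind117 : Janko.Tree (ℕ) :=
  (.node (.node (.node (.node (.leaf 3) (.leaf 0)) (.node (.leaf 0) (.leaf 3))) (.node (.node (.leaf 0) (.leaf 3)) (.leaf 0))) (.node (.node (.node (.leaf 3) (.leaf 0)) (.leaf 0)) (.node (.node (.leaf 3) (.leaf 3)) (.leaf 3))))

def certHKind118 : Janko.Tree (ℕ) :=
  (.node (.node (.node (.node (.leaf 0) (.leaf 3)) (.node (.leaf 3) (.leaf 0))) (.node (.node (.leaf 0) (.leaf 3)) (.leaf 3))) (.node (.node (.node (.leaf 0) (.leaf 0)) (.leaf 3)) (.node (.node (.leaf 0) (.leaf 3)) (.leaf 3))))

def certHKind119 : Janko.Tree (ℕ) :=
  (.node (.node (.node (.node (.leaf 0) (.leaf 3)) (.node (.leaf 3) (.leaf 0))) (.node (.node (.leaf 3) (.leaf 0)) (.leaf 3))) (.node (.node (.node (.leaf 0) (.leaf 3)) (.leaf 3)) (.node (.node (.leaf 0) (.leaf 3)) (.leaf 3))))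

def certHKind120 : Janko.Tree (ℕ) :=
  (.node (.node (.node (.node (.leaf 0) (.leaf 3)) (.node (.leaf 0) (.leaf 3))) (.node (.node (.leaf 0) (.leaf 3)) (.leaf 3))) (.node (.node (.node (.leaf 0) (.leaf 0)) (.leaf 3)) (.node (.node (.leaf 0) (.leaf 3)) (.leaf 3))))

def certHKind121 : Janko.Tree (ℕ) :=
  (.node (.node (.node (.node (.leaf 0) (.leaf 3)) (.node (.leaf 0) (.leaf 3))) (.node (.node (.leaf 0) (.leaf 3)) (.leaf 0))) (.node (.node (.node (.leaf 0) (.leaf 0)) (.leaf 3)) (.node (.node (.leaf 0) (.leaf 3)) (.leaf 3))))

def certHKind122 : Janko.Tree (ℕ) :=
  (.node (.node (.node (.node (.leaf 0) (.leaf 3)) (.node (.leaf 0) (.leaf 3))) (.node (.node (.leaf 0) (.leaf 3)) (.leaf 0))) (.node (.node (.node (.leaf 0) (.leaf 3)) (.leaf 0)) (.node (.node (.leaf 3) (.leaf 3)) (.leaf 3))))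

def certHKind123 : Janko.Tree (ℕ) :=
  (.node (.node (.node (.node (.leaf 0) (.leaf 3)) (.node (.leaf 0) (.leaf 3))) (.node (.node (.leaf 3) (.leaf 0)) (.leaf 0))) (.node (.node (.node (.leaf 0) (.leaf 3)) (.leaf 3)) (.node (.node (.leaf 3) (.leaf 3)) (.leaf 0))))

def certHKind124 : Janko.Tree (ℕ) :=
  (.node (.node (.node (.node (.leaf 0) (.leaf 0)) (.node (.leaf 0) (.leaf 3))) (.node (.node (.leaf 0) (.leaf 3)) (.leaf 0))) (.node (.node (.node (.leaf 0) (.leaf 0)) (.leaf 0)) (.node (.node (.leaf 0) (.leaf 3)) (.leaf 3))))

def certHKind125 : Janko.Tree (ℕ) :=
  (.node (.node (.node (.node (.leaf 0) (.leaf 3)) (.node (.leaf 0) (.leaf 3))) (.node (.node (.leaf 0) (.leaf 3)) (.leaf 3))) (.node (.node (.node (.leaf 3) (.leaf 0)) (.leaf 0)) (.node (.node (.leaf 0) (.leaf 3)) (.leaf 3))))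

def certHKind126 : Janko.Tree (ℕ) :=
  (.node (.node (.node (.node (.leaf 0) (.leaf 3)) (.node (.leaf 0) (.leaf 3))) (.node (.node (.leaf 0) (.leaf 3)) (.leaf 0))) (.node (.node (.node (.leaf 3) (.leaf 3)) (.leaf 0)) (.node (.node (.leaf 0) (.leaf 3)) (.leaf 3))))

def certHKind127 : Janko.Tree (ℕ) :=
  (.node (.node (.node (.node (.leaf 0) (.leaf 0)) (.node (.leaf 0) (.leaf 3))) (.node (.node (.leaf 0) (.leaf 3)) (.leaf 0))) (.node (.node (.node (.leaf 0) (.leaf 3)) (.leaf 3)) (.node (.node (.leaf 0) (.leaf 3)) (.leaf 0))))

def certHKind : Janko.Tree (ℕ) :=
  (.node (.node (.node (.node (.node (.node (.node certHKind0 certHKind64) (.node certHKind32 certHKind96)) (.node (.node certHKind16 certHKind80) (.node certHKind48 certHKind112))) (.node (.node (.node certHKind8 certHKind72) (.node certHKind40 certHKind104)) (.node (.node certHKind24 certHKind88) (.node certHKind56 certHKind120)))) (.node (.node (.node (.node certHKind4 certHKind68) (.node certHKind36 certHKind100)) (.node (.node certHKind20 certHKind84) (.node certHKind52 certHKind116))) (.node (.node (.node certHKind12 certHKind76) (.node certHKind44 certHKind108)) (.node (.node certHKind28 certHKind92) (.node certHKind60 certHKind124))))) (.node (.node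 (.node (.node (.node certHKind2 certHKind66) (.node certHKind34 certHKind98)) (.node (.node certHKind18 certHKind82) (.node certHKind50 certHKind114))) (.node (.node (.node certHKind10 certHKind74) (.node certHKind42 certHKind106)) (.node (.node certHKind26 certHKind90) (.node certHKind58 certHKind122)))) (.node (.node (.node (.node certHKind6 certHKind70) (.node certHKind38 certHKind102)) (.node (.node certHKind22 certHKind86) (.node certHKind54 certHKind118))) (.node (.node (.node certHKind14 certHKind78) (.node certHKind46 certHKind110)) (.node (.node certHKind30 certHKind94) (.node certHKind62 certHKind126)))))) (.node (.node (.node (.node (.node (.node certHKind1 certHKind65) (.node certHKind33 certHKind97)) (.node (.node certHKind17 certHKind81) (.node certHKind49 certHKind113))) (.node (.node (.node certHKind9 certHKind73) (.node certHKind41 certHKind105)) (.node (.node certHKind25 certHKind89) (.node certHKind57 certHKind121)))) (.node (.node (.node (.node certHKind5 certHKind69) (.node certHKind37 certHKind101)) (.node (.node certHKind21 certHKind85) (.node certHKind53 certHKind117))) (.node (.node (.node certHKind13 certHKind77) (.node certHKind45 certHKind109)) (.node (.node certHKind29 certHKind93) (.node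 certHKind61 certHKind125))))) (.node (.node (.node (.node (.node certHKind3 certHKind67) (.node certHKind35 certHKind99)) (.node (.node certHKind19 certHKind83) (.node certHKind51 certHKind115))) (.node (.node (.node certHKind11 certHKind75) (.node certHKind43 certHKind107)) (.node (.node certHKind27 certHKind91) (.node certHKind59 certHKind123)))) (.node (.node (.node (.node certHKind7 certHKind71) (.node certHKind39 certHKind103)) (.node (.node certHKind23 certHKind87) (.node certHKind55 certHKind119))) (.node (.node (.node certHKind15 certHKind79) (.node certHKind47 certHKind111)) (.node (.node certHKind31 certHKind95) (.node certHKind63 certHKind127)))))))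

def certHRank0 : Janko.Tree (ℕ) :=
  (.node (.node (.node (.node (.leaf 55) (.leaf 367)) (.node (.leaf 0) (.leaf 858))) (.node (.node (.leaf 0) (.leaf 340)) (.leaf 0))) (.node (.node (.node (.leaf 138) (.leaf 0)) (.node (.leaf 0) (.leaf 198))) (.node (.node (.leaf 0) (.leaf 818)) (.leaf 371))))

def certHRank1 : Janko.Tree (ℕ) :=
  (.node (.node (.node (.node (.leaf 0) (.leaf 171)) (.node (.leaf 472) (.leaf 745))) (.node (.node (.leaf 0) (.leaf 870)) (.leaf 186))) (.node (.node (.node (.leaf 0) (.leaf 0)) (.node (.leaf 92) (.leaf 0))) (.node (.node (.leaf 755) (.leaf 621)) (.leaf 0))))

def certHRank2 : Janko.Tree (ℕ) :=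
  (.node (.node (.node (.node (.leaf 0) (.leaf 574)) (.node (.leaf 0) (.leaf 0))) (.node (.node (.leaf 0) (.leaf 450)) (.leaf 0))) (.node (.node (.node (.leaf 0) (.leaf 598)) (.node (.leaf 0) (.leaf 594))) (.node (.node (.leaf 0) (.leaf 556)) (.leaf 475))))

def certHRank3 : Janko.Tree (ℕ) :=
  (.node (.node (.node (.node (.leaf 0) (.leaf 0)) (.node (.leaf 0) (.leaf 11))) (.node (.node (.leaf 90) (.leaf 393)) (.leaf 0))) (.node (.node (.node (.leaf 0) (.leaf 728)) (.node (.leaf 0) (.leaf 154))) (.node (.node (.leaf 0) (.leaf 559)) (.leaf 0))))

def certHRank4 : Janko.Tree (ℕ) :=
  (.node (.node (.node (.node (.leaf 0) (.leaf 878)) (.node (.leaf 119) (.leaf 482))) (.node (.node (.leaf 0) (.leaf 481)) (.leaf 326))) (.node (.node (.node (.leaf 60) (.leaf 0)) (.node (.leaf 28) (.leaf 531))) (.node (.node (.leaf 172) (.leaf 898)) (.leaf 0))))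

def certHRank5 : Janko.Tree (ℕ) :=
  (.node (.node (.node (.node (.leaf 0) (.leaf 547)) (.node (.leaf 38) (.leaf 480))) (.node (.node (.leaf 0) (.leaf 555)) (.leaf 0))) (.node (.node (.node (.leaf 0) (.leaf 0)) (.node (.leaf 129) (.leaf 358))) (.node (.node (.leaf 39) (.leaf 896)) (.leaf 0))))

def certHRank6 : Janko.Tree (ℕ) :=
  (.node (.node (.node (.node (.leaf 0) (.leaf 829)) (.node (.leaf 0) (.leaf 379))) (.node (.node (.leaf 0) (.leaf 9)) (.leaf 0))) (.node (.node (.node (.leaf 0) (.leaf 642)) (.node (.leaf 0) (.leaf 690))) (.node (.node (.leaf 0) (.leaf 0)) (.leaf 278))))

def certHRank7 : Janko.Tree (ℕ) :=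
  (.node (.node (.node (.node (.leaf 0) (.leaf 0)) (.node (.leaf 0) (.leaf 602))) (.node (.node (.leaf 0) (.leaf 899)) (.leaf 0))) (.node (.node (.node (.leaf 50) (.leaf 0)) (.node (.leaf 604) (.leaf 805))) (.node (.node (.leaf 0) (.leaf 15)) (.leaf 0))))

def certHRank8 : Janko.Tree (ℕ) :=
  (.node (.node (.node (.node (.leaf 0) (.leaf 0)) (.node (.leaf 0) (.leaf 438))) (.node (.node (.leaf 56) (.leaf 0)) (.leaf 363))) (.node (.node (.node (.leaf 0) (.leaf 0)) (.node (.leaf 0) (.leaf 675))) (.node (.node (.leaf 0) (.leaf 343)) (.leaf 562))))

def certHRank9 : Janko.Tree (ℕ) :=
  (.node (.node (.node (.node (.leaf 0) (.leaf 0)) (.node (.leaf 0) (.leaf 0))) (.node (.node (.leaf 0) (.leaf 841)) (.leaf 0))) (.node (.node (.node (.leaf 0) (.leaf 164)) (.node (.leaf 607) (.leaf 3))) (.node (.node (.leaf 0) (.leaf 381)) (.leaf 560))))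

def certHRank10 : Janko.Tree (ℕ) :=
  (.node (.node (.node (.node (.leaf 0) (.leaf 163)) (.node (.leaf 0) (.leaf 434))) (.node (.node (.leaf 0) (.leaf 477)) (.leaf 0))) (.node (.node (.node (.leaf 139) (.leaf 730)) (.node (.leaf 249) (.leaf 585))) (.node (.node (.leaf 597) (.leaf 652)) (.leaf 653))))

def certHRank11 : Janko.Tree (ℕ) :=
  (.node (.node (.node (.node (.leaf 0) (.leaf 0)) (.node (.leaf 151) (.leaf 162))) (.node (.node (.leaf 0) (.leaf 726)) (.leaf 100))) (.node (.node (.node (.leaf 0) (.leaf 499)) (.node (.leaf 238) (.leaf 801))) (.node (.node (.leaf 0) (.leaf 390)) (.leaf 566))))

def certHRank12 : Janko.Tree (ℕ) :=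
  (.node (.node (.node (.node (.leaf 0) (.leaf 0)) (.node (.leaf 141) (.leaf 0))) (.node (.node (.leaf 0) (.leaf 553)) (.leaf 206))) (.node (.node (.node (.leaf 0) (.leaf 0)) (.node (.leaf 0) (.leaf 0))) (.node (.node (.leaf 0) (.leaf 349)) (.leaf 17))))

def certHRank13 : Janko.Tree (ℕ) :=
  (.node (.node (.node (.node (.leaf 0) (.leaf 518)) (.node (.leaf 0) (.leaf 736))) (.node (.node (.leaf 0) (.leaf 517)) (.leaf 772))) (.node (.node (.node (.leaf 0) (.leaf 0)) (.node (.leaf 34) (.leaf 808))) (.node (.node (.leaf 863) (.leaf 12)) (.leaf 253))))

def certHRank14 : Janko.Tree (ℕ) :=
  (.node (.node (.node (.node (.leaf 0) (.leaf 149)) (.node (.leaf 0) (.leaf 457))) (.node (.node (.leaf 0) (.leaf 766)) (.leaf 0))) (.node (.node (.node (.leaf 0) (.leaf 572)) (.node (.leaf 219) (.leaf 646))) (.node (.node (.leaf 309) (.leaf 394)) (.leaf 0))))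

def certHRank15 : Janko.Tree (ℕ) :=
  (.node (.node (.node (.node (.leaf 0) (.leaf 26)) (.node (.leaf 0) (.leaf 352))) (.node (.node (.leaf 134) (.leaf 768)) (.leaf 685))) (.node (.node (.node (.leaf 0) (.leaf 0)) (.node (.leaf 612) (.leaf 0))) (.node (.node (.leaf 0) (.leaf 802)) (.leaf 117))))

def certHRank16 : Janko.Tree (ℕ) :=
  (.node (.node (.node (.node (.leaf 0) (.leaf 0)) (.node (.leaf 866) (.leaf 702))) (.node (.node (.leaf 0) (.leaf 911)) (.leaf 0))) (.node (.node (.node (.leaf 0) (.leaf 0)) (.node (.leaf 655) (.leaf 538))) (.node (.node (.leaf 335) (.leaf 0)) (.leaf 0))))

def certHRank17 : Janko.Tree (ℕ) :=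
  (.node (.node (.node (.node (.leaf 0) (.leaf 0)) (.node (.leaf 0) (.leaf 884))) (.node (.node (.leaf 0) (.leaf 873)) (.leaf 0))) (.node (.node (.node (.leaf 0) (.leaf 622)) (.node (.leaf 430) (.leaf 668))) (.node (.node (.leaf 0) (.leaf 459)) (.leaf 855))))

def certHRank18 : Janko.Tree (ℕ) :=
  (.node (.node (.node (.node (.leaf 0) (.leaf 337)) (.node (.leaf 765) (.leaf 0))) (.node (.node (.leaf 166) (.leaf 521)) (.leaf 453))) (.node (.node (.node (.leaf 0) (.leaf 0)) (.node (.leaf 0) (.leaf 196))) (.node (.node (.leaf 0) (.leaf 908)) (.leaf 221))))

def certHRank19 : Janko.Tree (ℕ) :=
  (.node (.node (.node (.node (.leaf 0) (.leaf 333)) (.node (.leaf 0) (.leaf 0))) (.node (.node (.leaf 0) (.leaf 617)) (.leaf 581))) (.node (.node (.node (.leaf 0) (.leaf 0)) (.node (.leaf 0) (.leaf 816))) (.node (.node (.leaf 64) (.leaf 315)) (.leaf 319))))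

def certHRank20 : Janko.Tree (ℕ) :=
  (.node (.node (.node (.node (.leaf 0) (.leaf 672)) (.node (.leaf 0) (.leaf 777))) (.node (.node (.leaf 0) (.leaf 8)) (.leaf 0))) (.node (.node (.node (.leaf 189) (.leaf 270)) (.node (.leaf 364) (.leaf 658))) (.node (.node (.leaf 648) (.leaf 0)) (.leaf 0))))

def certHRank21 : Janko.Tree (ℕ) :=
  (.node (.node (.node (.node (.leaf 52) (.leaf 0)) (.node (.leaf 72) (.leaf 815))) (.node (.node (.leaf 0) (.leaf 910)) (.leaf 0))) (.node (.node (.node (.leaf 0) (.leaf 0)) (.node (.leaf 0) (.leaf 2))) (.node (.node (.leaf 0) (.leaf 13)) (.leaf 370))))

def certHRank22 : Janko.Tree (ℕ) :=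
  (.node (.node (.node (.node (.leaf 0) (.leaf 232)) (.node (.leaf 0) (.leaf 356))) (.node (.node (.leaf 0) (.leaf 673)) (.leaf 216))) (.node (.node (.node (.leaf 0) (.leaf 0)) (.node (.leaf 635) (.leaf 698))) (.node (.node (.leaf 0) (.leaf 483)) (.leaf 0))))

def certHRank23 : Janko.Tree (ℕ) :=
  (.node (.node (.node (.node (.leaf 0) (.leaf 831)) (.node (.leaf 0) (.leaf 0))) (.node (.node (.leaf 0) (.leaf 470)) (.leaf 0))) (.node (.node (.node (.leaf 0) (.leaf 0)) (.node (.leaf 823) (.leaf 868))) (.node (.node (.leaf 0) (.leaf 810)) (.leaf 0))))

def certHRank24 : Janko.Tree (ℕ) :=
  (.node (.node (.node (.node (.leaf 0) (.leaf 476)) (.node (.leaf 0) (.leaf 842))) (.node (.node (.leaf 0) (.leaf 0)) (.leaf 0))) (.node (.node (.node (.leaf 0) (.leaf 93)) (.node (.leaf 0) (.leaf 212))) (.node (.node (.leaf 0) (.leaf 865)) (.leaf 474))))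

def certHRank25 : Janko.Tree (ℕ) :=
  (.node (.node (.node (.node (.leaf 0) (.leaf 233)) (.node (.leaf 413) (.leaf 0))) (.node (.node (.leaf 0) (.leaf 199)) (.leaf 0))) (.node (.node (.node (.leaf 0) (.leaf 510)) (.node (.leaf 0) (.leaf 613))) (.node (.node (.leaf 0) (.leaf 290)) (.leaf 705))))

def certHRank26 : Janko.Tree (ℕ) :=
  (.node (.node (.node (.node (.leaf 0) (.leaf 0)) (.node (.leaf 0) (.leaf 0))) (.node (.node (.leaf 0) (.leaf 314)) (.leaf 0))) (.node (.node (.node (.leaf 0) (.leaf 557)) (.node (.leaf 0) (.leaf 901))) (.node (.node (.leaf 0) (.leaf 288)) (.leaf 0))))

def certHRank27 : Janko.Tree (ℕ) :=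
  (.node (.node (.node (.node (.leaf 0) (.leaf 27)) (.node (.leaf 0) (.leaf 699))) (.node (.node (.leaf 0) (.leaf 312)) (.leaf 332))) (.node (.node (.node (.leaf 0) (.leaf 846)) (.node (.leaf 0) (.leaf 900))) (.node (.node (.leaf 0) (.leaf 0)) (.leaf 0))))

def certHRank28 : Janko.Tree (ℕ) :=
  (.node (.node (.node (.node (.leaf 0) (.leaf 506)) (.node (.leaf 0) (.leaf 701))) (.node (.node (.leaf 0) (.leaf 769)) (.leaf 0))) (.node (.node (.node (.leaf 0) (.leaf 329)) (.node (.leaf 0) (.leaf 894))) (.node (.node (.leaf 0) (.leaf 227)) (.leaf 0))))

def certHRank29 : Janko.Tree (ℕ) :=
  (.node (.node (.node (.node (.leaf 0) (.leaf 406)) (.node (.leaf 0) (.leaf 0))) (.node (.node (.leaf 0) (.leaf 827)) (.leaf 0))) (.node (.node (.node (.leaf 0) (.leaf 366)) (.node (.leaf 825) (.leaf 902))) (.node (.node (.leaf 0) (.leaf 0)) (.leaf 0))))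

def certHRank30 : Janko.Tree (ℕ) :=
  (.node (.node (.node (.node (.leaf 0) (.leaf 229)) (.node (.leaf 79) (.leaf 508))) (.node (.node (.leaf 204) (.leaf 0)) (.leaf 0))) (.node (.node (.node (.leaf 0) (.leaf 248)) (.node (.leaf 0) (.leaf 720))) (.node (.node (.leaf 494) (.leaf 615)) (.leaf 756))))

def certHRank31 : Janko.Tree (ℕ) :=
  (.node (.node (.node (.node (.leaf 0) (.leaf 231)) (.node (.leaf 0) (.leaf 85))) (.node (.node (.leaf 0) (.leaf 0)) (.leaf 218))) (.node (.node (.node (.leaf 0) (.leaf 0)) (.node (.leaf 35) (.leaf 714))) (.node (.node (.leaf 0) (.leaf 838)) (.leaf 0))))

def certHRank32 : Janko.Tree (ℕ) :=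
  (.node (.node (.node (.node (.leaf 0) (.leaf 344)) (.node (.leaf 0) (.leaf 463))) (.node (.node (.leaf 0) (.leaf 382)) (.leaf 0))) (.node (.node (.node (.leaf 0) (.leaf 0)) (.node (.leaf 25) (.leaf 775))) (.node (.node (.leaf 184) (.leaf 0)) (.leaf 0))))

def certHRank33 : Janko.Tree (ℕ) :=
  (.node (.node (.node (.node (.leaf 0) (.leaf 384)) (.node (.leaf 0) (.leaf 845))) (.node (.node (.leaf 0) (.leaf 380)) (.leaf 299))) (.node (.node (.node (.leaf 51) (.leaf 0)) (.node (.leaf 0) (.leaf 890))) (.node (.node (.leaf 40) (.leaf 498)) (.leaf 619))))

def certHRank34 : Janko.Tree (ℕ) :=
  (.node (.node (.node (.node (.leaf 0) (.leaf 0)) (.node (.leaf 0) (.leaf 447))) (.node (.node (.leaf 0) (.leaf 522)) (.leaf 0))) (.node (.node (.node (.leaf 42) (.leaf 849)) (.node (.leaf 0) (.leaf 764))) (.node (.node (.leaf 213) (.leaf 0)) (.leaf 582))))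

def certHRank35 : Janko.Tree (ℕ) :=
  (.node (.node (.node (.node (.leaf 0) (.leaf 0)) (.node (.leaf 0) (.leaf 779))) (.node (.node (.leaf 122) (.leaf 520)) (.leaf 0))) (.node (.node (.node (.leaf 0) (.leaf 0)) (.node (.leaf 0) (.leaf 551))) (.node (.node (.leaf 0) (.leaf 0)) (.leaf 0))))

def certHRank36 : Janko.Tree (ℕ) :=
  (.node (.node (.node (.node (.leaf 0) (.leaf 0)) (.node (.leaf 0) (.leaf 893))) (.node (.node (.leaf 287) (.leaf 0)) (.leaf 0))) (.node (.node (.node (.leaf 0) (.leaf 178)) (.node (.leaf 0) (.leaf 784))) (.node (.node (.leaf 0) (.leaf 0)) (.leaf 0))))

def certHRank37 : Janko.Tree (ℕ) :=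
  (.node (.node (.node (.node (.leaf 0) (.leaf 0)) (.node (.leaf 0) (.leaf 839))) (.node (.node (.leaf 132) (.leaf 663)) (.leaf 0))) (.node (.node (.node (.leaf 0) (.leaf 770)) (.node (.leaf 0) (.leaf 800))) (.node (.node (.leaf 0) (.leaf 546)) (.leaf 0))))

def certHRank38 : Janko.Tree (ℕ) :=
  (.node (.node (.node (.node (.leaf 142) (.leaf 0)) (.node (.leaf 0) (.leaf 272))) (.node (.node (.leaf 0) (.leaf 695)) (.leaf 0))) (.node (.node (.node (.leaf 0) (.leaf 220)) (.node (.leaf 0) (.leaf 742))) (.node (.node (.leaf 0) (.leaf 148)) (.leaf 0))))

def certHRank39 : Janko.Tree (ℕ) :=
  (.node (.node (.node (.node (.leaf 0) (.leaf 732)) (.node (.leaf 0) (.leaf 787))) (.node (.node (.leaf 282) (.leaf 0)) (.leaf 330))) (.node (.node (.node (.leaf 0) (.leaf 0)) (.node (.leaf 0) (.leaf 740))) (.node (.node (.leaf 0) (.leaf 296)) (.leaf 821))))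

def certHRank40 : Janko.Tree (ℕ) :=
  (.node (.node (.node (.node (.leaf 0) (.leaf 605)) (.node (.leaf 126) (.leaf 854))) (.node (.node (.leaf 0) (.leaf 638)) (.leaf 246))) (.node (.node (.node (.leaf 0) (.leaf 247)) (.node (.leaf 205) (.leaf 418))) (.node (.node (.leaf 308) (.leaf 0)) (.leaf 331))))

def certHRank41 : Janko.Tree (ℕ) :=
  (.node (.node (.node (.node (.leaf 0) (.leaf 0)) (.node (.leaf 0) (.leaf 852))) (.node (.node (.leaf 0) (.leaf 751)) (.leaf 240))) (.node (.node (.node (.leaf 0) (.leaf 306)) (.node (.leaf 0) (.leaf 501))) (.node (.node (.leaf 0) (.leaf 301)) (.leaf 611))))

def certHRank42 : Janko.Tree (ℕ) :=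
  (.node (.node (.node (.node (.leaf 0) (.leaf 0)) (.node (.leaf 0) (.leaf 778))) (.node (.node (.leaf 0) (.leaf 0)) (.leaf 440))) (.node (.node (.node (.leaf 0) (.leaf 304)) (.node (.leaf 147) (.leaf 419))) (.node (.node (.leaf 0) (.leaf 579)) (.leaf 292))))

def certHRank43 : Janko.Tree (ℕ) :=
  (.node (.node (.node (.node (.leaf 66) (.leaf 882)) (.node (.leaf 0) (.leaf 449))) (.node (.node (.leaf 0) (.leaf 752)) (.leaf 0))) (.node (.node (.node (.leaf 0) (.leaf 297)) (.node (.leaf 133) (.leaf 460))) (.node (.node (.leaf 0) (.leaf 0)) (.leaf 280))))

def certHRank44 : Janko.Tree (ℕ) :=
  (.node (.node (.node (.node (.leaf 0) (.leaf 625)) (.node (.leaf 0) (.leaf 847))) (.node (.node (.leaf 0) (.leaf 0)) (.leaf 0))) (.node (.node (.node (.leaf 0) (.leaf 396)) (.node (.leaf 0) (.leaf 345))) (.node (.node (.leaf 336) (.leaf 5)) (.leaf 83))))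

def certHRank45 : Janko.Tree (ℕ) :=
  (.node (.node (.node (.node (.leaf 0) (.leaf 479)) (.node (.leaf 0) (.leaf 843))) (.node (.node (.leaf 86) (.leaf 840)) (.leaf 0))) (.node (.node (.node (.leaf 0) (.leaf 478)) (.node (.leaf 0) (.leaf 686))) (.node (.node (.leaf 104) (.leaf 0)) (.leaf 0))))

def certHRank46 : Janko.Tree (ℕ) :=
  (.node (.node (.node (.node (.leaf 0) (.leaf 387)) (.node (.leaf 0) (.leaf 355))) (.node (.node (.leaf 271) (.leaf 386)) (.leaf 402))) (.node (.node (.node (.leaf 0) (.leaf 0)) (.node (.leaf 0) (.leaf 715))) (.node (.node (.leaf 144) (.leaf 0)) (.leaf 895))))

def certHRank47 : Janko.Tree (ℕ) :=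
  (.node (.node (.node (.node (.leaf 0) (.leaf 0)) (.node (.leaf 269) (.leaf 197))) (.node (.node (.leaf 0) (.leaf 16)) (.leaf 404))) (.node (.node (.node (.leaf 0) (.leaf 0)) (.node (.leaf 0) (.leaf 0))) (.node (.node (.leaf 0) (.leaf 0)) (.leaf 651))))

def certHRank48 : Janko.Tree (ℕ) :=
  (.node (.node (.node (.node (.leaf 0) (.leaf 0)) (.node (.leaf 0) (.leaf 665))) (.node (.node (.leaf 0) (.leaf 509)) (.leaf 265))) (.node (.node (.node (.leaf 0) (.leaf 241)) (.node (.leaf 327) (.leaf 848))) (.node (.node (.leaf 0) (.leaf 826)) (.leaf 647))))

def certHRank49 : Janko.Tree (ℕ) :=
  (.node (.node (.node (.node (.leaf 0) (.leaf 295)) (.node (.leaf 0) (.leaf 662))) (.node (.node (.leaf 0) (.leaf 0)) (.leaf 670))) (.node (.node (.node (.leaf 0) (.leaf 243)) (.node (.leaf 0) (.leaf 807))) (.node (.node (.leaf 423) (.leaf 746)) (.leaf 633))))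

def certHRank50 : Janko.Tree (ℕ) :=
  (.node (.node (.node (.node (.leaf 0) (.leaf 496)) (.node (.leaf 373) (.leaf 667))) (.node (.node (.leaf 108) (.leaf 833)) (.leaf 405))) (.node (.node (.node (.leaf 0) (.leaf 724)) (.node (.leaf 0) (.leaf 235))) (.node (.node (.leaf 0) (.leaf 262)) (.leaf 0))))

def certHRank51 : Janko.Tree (ℕ) :=
  (.node (.node (.node (.node (.leaf 0) (.leaf 0)) (.node (.leaf 0) (.leaf 723))) (.node (.node (.leaf 0) (.leaf 684)) (.leaf 0))) (.node (.node (.node (.leaf 0) (.leaf 0)) (.node (.leaf 0) (.leaf 862))) (.node (.node (.leaf 0) (.leaf 503)) (.leaf 403))))

def certHRank52 : Janko.Tree (ℕ) :=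
  (.node (.node (.node (.node (.leaf 0) (.leaf 0)) (.node (.leaf 0) (.leaf 0))) (.node (.node (.leaf 0) (.leaf 616)) (.leaf 0))) (.node (.node (.node (.leaf 0) (.leaf 0)) (.node (.leaf 24) (.leaf 798))) (.node (.node (.leaf 0) (.leaf 255)) (.leaf 0))))

def certHRank53 : Janko.Tree (ℕ) :=
  (.node (.node (.node (.node (.leaf 0) (.leaf 0)) (.node (.leaf 790) (.leaf 676))) (.node (.node (.leaf 43) (.leaf 400)) (.leaf 0))) (.node (.node (.node (.leaf 0) (.leaf 0)) (.node (.leaf 320) (.leaf 915))) (.node (.node (.leaf 0) (.leaf 250)) (.leaf 0))))

def certHRank54 : Janko.Tree (ℕ) :=
  (.node (.node (.node (.node (.leaf 0) (.leaf 857)) (.node (.leaf 0) (.leaf 706))) (.node (.node (.leaf 0) (.leaf 687)) (.leaf 427))) (.node (.node (.node (.leaf 0) (.leaf 0)) (.node (.leaf 0) (.leaf 645))) (.node (.node (.leaf 0) (.leaf 630)) (.leaf 0))))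

def certHRank55 : Janko.Tree (ℕ) :=
  (.node (.node (.node (.node (.leaf 0) (.leaf 0)) (.node (.leaf 0) (.leaf 461))) (.node (.node (.leaf 0) (.leaf 719)) (.leaf 425))) (.node (.node (.node (.leaf 0) (.leaf 228)) (.node (.leaf 112) (.leaf 788))) (.node (.node (.leaf 0) (.leaf 632)) (.leaf 0))))

def certHRank56 : Janko.Tree (ℕ) :=
  (.node (.node (.node (.node (.leaf 0) (.leaf 414)) (.node (.leaf 0) (.leaf 694))) (.node (.node (.leaf 0) (.leaf 0)) (.leaf 190))) (.node (.node (.node (.leaf 0) (.leaf 571)) (.node (.leaf 0) (.leaf 763))) (.node (.node (.leaf 177) (.leaf 657)) (.leaf 0))))

def certHRank57 : Janko.Tree (ℕ) :=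
  (.node (.node (.node (.node (.leaf 0) (.leaf 0)) (.node (.leaf 0) (.leaf 734))) (.node (.node (.leaf 0) (.leaf 0)) (.leaf 0))) (.node (.node (.node (.leaf 0) (.leaf 689)) (.node (.leaf 0) (.leaf 909))) (.node (.node (.leaf 0) (.leaf 0)) (.leaf 0))))

def certHRank58 : Janko.Tree (ℕ) :=
  (.node (.node (.node (.node (.leaf 0) (.leaf 904)) (.node (.leaf 0) (.leaf 773))) (.node (.node (.leaf 0) (.leaf 0)) (.leaf 505))) (.node (.node (.node (.leaf 0) (.leaf 561)) (.node (.leaf 378) (.leaf 903))) (.node (.node (.leaf 0) (.leaf 0)) (.leaf 0))))

def certHRank59 : Janko.Tree (ℕ) :=
  (.node (.node (.node (.node (.leaf 0) (.leaf 683)) (.node (.leaf 0) (.leaf 804))) (.node (.node (.leaf 123) (.leaf 0)) (.leaf 441))) (.node (.node (.node (.leaf 0) (.leaf 0)) (.node (.leaf 411) (.leaf 891))) (.node (.node (.leaf 0) (.leaf 0)) (.leaf 669))))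

def certHRank60 : Janko.Tree (ℕ) :=
  (.node (.node (.node (.node (.leaf 0) (.leaf 75)) (.node (.leaf 0) (.leaf 860))) (.node (.node (.leaf 0) (.leaf 0)) (.leaf 0))) (.node (.node (.node (.leaf 0) (.leaf 274)) (.node (.leaf 0) (.leaf 631))) (.node (.node (.leaf 0) (.leaf 4)) (.leaf 0))))

def certHRank61 : Janko.Tree (ℕ) :=
  (.node (.node (.node (.node (.leaf 54) (.leaf 552)) (.node (.leaf 0) (.leaf 0))) (.node (.node (.leaf 0) (.leaf 814)) (.leaf 289))) (.node (.node (.node (.leaf 0) (.leaf 284)) (.node (.leaf 0) (.leaf 467))) (.node (.node (.leaf 0) (.leaf 791)) (.leaf 0))))

def certHRank62 : Janko.Tree (ℕ) :=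
  (.node (.node (.node (.node (.leaf 49) (.leaf 324)) (.node (.leaf 0) (.leaf 906))) (.node (.node (.leaf 0) (.leaf 0)) (.leaf 569))) (.node (.node (.node (.leaf 372) (.leaf 0)) (.node (.leaf 202) (.leaf 614))) (.node (.node (.leaf 0) (.leaf 339)) (.leaf 512))))

def certHRank63 : Janko.Tree (ℕ) :=
  (.node (.node (.node (.node (.leaf 0) (.leaf 22)) (.node (.leaf 0) (.leaf 739))) (.node (.node (.leaf 0) (.leaf 549)) (.leaf 0))) (.node (.node (.node (.leaf 0) (.leaf 550)) (.node (.leaf 0) (.leaf 811))) (.node (.node (.leaf 0) (.leaf 341)) (.leaf 0))))

def certHRank64 : Janko.Tree (ℕ) :=
  (.node (.node (.node (.node (.leaf 0) (.leaf 323)) (.node (.leaf 0) (.leaf 671))) (.node (.node (.leaf 0) (.leaf 593)) (.leaf 0))) (.node (.node (.node (.leaf 0) (.leaf 0)) (.node (.leaf 0) (.leaf 1))) (.node (.node (.leaf 385) (.leaf 797)) (.leaf 0))))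

def certHRank65 : Janko.Tree (ℕ) :=
  (.node (.node (.node (.node (.leaf 0) (.leaf 0)) (.node (.leaf 426) (.leaf 836))) (.node (.node (.leaf 0) (.leaf 640)) (.leaf 444))) (.node (.node (.node (.leaf 0) (.leaf 0)) (.node (.leaf 0) (.leaf 0))) (.node (.node (.leaf 348) (.leaf 528)) (.leaf 834))))

def certHRank66 : Janko.Tree (ℕ) :=
  (.node (.node (.node (.node (.leaf 0) (.leaf 97)) (.node (.leaf 0) (.leaf 0))) (.node (.node (.leaf 540) (.leaf 0)) (.leaf 0))) (.node (.node (.node (.leaf 41) (.leaf 0)) (.node (.leaf 0) (.leaf 0))) (.node (.node (.leaf 0) (.leaf 252)) (.leaf 0))))

def certHRank67 : Janko.Tree (ℕ) :=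
  (.node (.node (.node (.node (.leaf 0) (.leaf 0)) (.node (.leaf 771) (.leaf 786))) (.node (.node (.leaf 0) (.leaf 828)) (.leaf 867))) (.node (.node (.node (.leaf 103) (.leaf 830)) (.node (.leaf 0) (.leaf 62))) (.node (.node (.leaf 0) (.leaf 276)) (.leaf 606))))

def certHRank68 : Janko.Tree (ℕ) :=
  (.node (.node (.node (.node (.leaf 0) (.leaf 0)) (.node (.leaf 0) (.leaf 780))) (.node (.node (.leaf 0) (.leaf 590)) (.leaf 747))) (.node (.node (.node (.leaf 0) (.leaf 465)) (.node (.leaf 0) (.leaf 71))) (.node (.node (.leaf 374) (.leaf 256)) (.leaf 0))))

def certHRank69 : Janko.Tree (ℕ) :=
  (.node (.node (.node (.node (.leaf 0) (.leaf 0)) (.node (.leaf 601) (.leaf 782))) (.node (.node (.leaf 0) (.leaf 733)) (.leaf 0))) (.node (.node (.node (.leaf 84) (.leaf 0)) (.node (.leaf 185) (.leaf 91))) (.node (.node (.leaf 428) (.leaf 259)) (.leaf 887))))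

def certHRank70 : Janko.Tree (ℕ) :=
  (.node (.node (.node (.node (.leaf 0) (.leaf 410)) (.node (.leaf 0) (.leaf 583))) (.node (.node (.leaf 0) (.leaf 0)) (.leaf 0))) (.node (.node (.node (.leaf 0) (.leaf 127)) (.node (.leaf 525) (.leaf 96))) (.node (.node (.leaf 0) (.leaf 0)) (.leaf 881))))

def certHRank71 : Janko.Tree (ℕ) :=
  (.node (.node (.node (.node (.leaf 0) (.leaf 23)) (.node (.leaf 0) (.leaf 693))) (.node (.node (.leaf 0) (.leaf 793)) (.leaf 0))) (.node (.node (.node (.leaf 0) (.leaf 442)) (.node (.leaf 0) (.leaf 136))) (.node (.node (.leaf 0) (.leaf 717)) (.leaf 0))))

def certHRank72 : Janko.Tree (ℕ) :=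
  (.node (.node (.node (.node (.leaf 0) (.leaf 750)) (.node (.leaf 157) (.leaf 754))) (.node (.node (.leaf 0) (.leaf 886)) (.leaf 691))) (.node (.node (.node (.leaf 0) (.leaf 704)) (.node (.leaf 113) (.leaf 121))) (.node (.node (.leaf 0) (.leaf 360)) (.leaf 888))))

def certHRank73 : Janko.Tree (ℕ) :=
  (.node (.node (.node (.node (.leaf 0) (.leaf 102)) (.node (.leaf 0) (.leaf 7))) (.node (.node (.leaf 0) (.leaf 864)) (.leaf 443))) (.node (.node (.node (.leaf 0) (.leaf 654)) (.node (.leaf 0) (.leaf 95))) (.node (.node (.leaf 109) (.leaf 159)) (.leaf 0))))

def certHRank74 : Janko.Tree (ℕ) :=
  (.node (.node (.node (.node (.leaf 0) (.leaf 0)) (.node (.leaf 0) (.leaf 861))) (.node (.node (.leaf 0) (.leaf 872)) (.leaf 439))) (.node (.node (.node (.leaf 0) (.leaf 637)) (.node (.leaf 0) (.leaf 124))) (.node (.node (.leaf 111) (.leaf 789)) (.leaf 824))))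

def certHRank75 : Janko.Tree (ℕ) :=
  (.node (.node (.node (.node (.leaf 0) (.leaf 0)) (.node (.leaf 137) (.leaf 796))) (.node (.node (.leaf 0) (.leaf 749)) (.leaf 576))) (.node (.node (.node (.leaf 0) (.leaf 0)) (.node (.leaf 0) (.leaf 120))) (.node (.node (.leaf 0) (.leaf 799)) (.leaf 822))))

def certHRank76 : Janko.Tree (ℕ) :=
  (.node (.node (.node (.node (.leaf 0) (.leaf 541)) (.node (.leaf 0) (.leaf 885))) (.node (.node (.leaf 0) (.leaf 876)) (.leaf 0))) (.node (.node (.node (.leaf 0) (.leaf 0)) (.node (.leaf 609) (.leaf 99))) (.node (.node (.leaf 0) (.leaf 595)) (.leaf 641))))

def certHRank77 : Janko.Tree (ℕ) :=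
  (.node (.node (.node (.node (.leaf 0) (.leaf 462)) (.node (.leaf 0) (.leaf 883))) (.node (.node (.leaf 0) (.leaf 0)) (.leaf 0))) (.node (.node (.node (.leaf 0) (.leaf 0)) (.node (.leaf 0) (.leaf 507))) (.node (.node (.leaf 115) (.leaf 182)) (.leaf 446))))

def certHRank78 : Janko.Tree (ℕ) :=
  (.node (.node (.node (.node (.leaf 0) (.leaf 0)) (.node (.leaf 168) (.leaf 905))) (.node (.node (.leaf 0) (.leaf 0)) (.leaf 174))) (.node (.node (.node (.leaf 0) (.leaf 303)) (.node (.leaf 0) (.leaf 158))) (.node (.node (.leaf 78) (.leaf 543)) (.leaf 874))))

def certHRank79 : Janko.Tree (ℕ) :=
  (.node (.node (.node (.node (.leaf 0) (.leaf 492)) (.node (.leaf 152) (.leaf 907))) (.node (.node (.leaf 44) (.leaf 0)) (.leaf 431))) (.node (.node (.node (.leaf 0) (.leaf 0)) (.node (.leaf 0) (.leaf 140))) (.node (.node (.leaf 0) (.leaf 527)) (.leaf 0))))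

def certHRank80 : Janko.Tree (ℕ) :=
  (.node (.node (.node (.node (.leaf 0) (.leaf 0)) (.node (.leaf 0) (.leaf 500))) (.node (.node (.leaf 37) (.leaf 0)) (.leaf 0))) (.node (.node (.node (.leaf 0) (.leaf 208)) (.node (.leaf 0) (.leaf 58))) (.node (.node (.leaf 435) (.leaf 317)) (.leaf 495))))

def certHRank81 : Janko.Tree (ℕ) :=
  (.node (.node (.node (.node (.leaf 0) (.leaf 578)) (.node (.leaf 682) (.leaf 497))) (.node (.node (.leaf 0) (.leaf 853)) (.leaf 526))) (.node (.node (.node (.leaf 0) (.leaf 820)) (.node (.leaf 0) (.leaf 65))) (.node (.node (.leaf 0) (.leaf 214)) (.leaf 0))))

def certHRank82 : Janko.Tree (ℕ) :=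
  (.node (.node (.node (.node (.leaf 0) (.leaf 544)) (.node (.leaf 0) (.leaf 629))) (.node (.node (.leaf 0) (.leaf 0)) (.leaf 0))) (.node (.node (.node (.leaf 0) (.leaf 731)) (.node (.leaf 236) (.leaf 80))) (.node (.node (.leaf 128) (.leaf 173)) (.leaf 0))))

def certHRank83 : Janko.Tree (ℕ) :=
  (.node (.node (.node (.node (.leaf 0) (.leaf 0)) (.node (.leaf 0) (.leaf 748))) (.node (.node (.leaf 599) (.leaf 376)) (.leaf 195))) (.node (.node (.node (.leaf 0) (.leaf 729)) (.node (.leaf 322) (.leaf 160))) (.node (.node (.leaf 0) (.leaf 519)) (.leaf 493))))

def certHRank84 : Janko.Tree (ℕ) :=
  (.node (.node (.node (.node (.leaf 0) (.leaf 466)) (.node (.leaf 0) (.leaf 837))) (.node (.node (.leaf 0) (.leaf 0)) (.leaf 707))) (.node (.node (.node (.leaf 0) (.leaf 0)) (.node (.leaf 0) (.leaf 114))) (.node (.node (.leaf 0) (.leaf 170)) (.leaf 0))))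

def certHRank85 : Janko.Tree (ℕ) :=
  (.node (.node (.node (.node (.leaf 0) (.leaf 639)) (.node (.leaf 0) (.leaf 803))) (.node (.node (.leaf 0) (.leaf 0)) (.leaf 697))) (.node (.node (.node (.leaf 0) (.leaf 523)) (.node (.leaf 0) (.leaf 368))) (.node (.node (.leaf 125) (.leaf 458)) (.leaf 0))))

def certHRank86 : Janko.Tree (ℕ) :=
  (.node (.node (.node (.node (.leaf 0) (.leaf 0)) (.node (.leaf 451) (.leaf 532))) (.node (.node (.leaf 0) (.leaf 696)) (.leaf 0))) (.node (.node (.node (.leaf 0) (.leaf 743)) (.node (.leaf 176) (.leaf 107))) (.node (.node (.leaf 33) (.leaf 859)) (.leaf 856))))

def certHRank87 : Janko.Tree (ℕ) :=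
  (.node (.node (.node (.node (.leaf 0) (.leaf 294)) (.node (.leaf 0) (.leaf 688))) (.node (.node (.leaf 589) (.leaf 897)) (.leaf 0))) (.node (.node (.node (.leaf 0) (.leaf 761)) (.node (.leaf 69) (.leaf 310))) (.node (.node (.leaf 0) (.leaf 844)) (.leaf 851))))

def certHRank88 : Janko.Tree (ℕ) :=
  (.node (.node (.node (.node (.leaf 0) (.leaf 0)) (.node (.leaf 0) (.leaf 300))) (.node (.node (.leaf 0) (.leaf 757)) (.leaf 0))) (.node (.node (.node (.leaf 0) (.leaf 350)) (.node (.leaf 0) (.leaf 165))) (.node (.node (.leaf 359) (.leaf 620)) (.leaf 203))))

def certHRank89 : Janko.Tree (ℕ) :=
  (.node (.node (.node (.node (.leaf 0) (.leaf 832)) (.node (.leaf 0) (.leaf 586))) (.node (.node (.leaf 0) (.leaf 914)) (.leaf 275))) (.node (.node (.node (.leaf 179) (.leaf 0)) (.node (.leaf 0) (.leaf 392))) (.node (.node (.leaf 183) (.leaf 623)) (.leaf 30))))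

def certHRank90 : Janko.Tree (ℕ) :=
  (.node (.node (.node (.node (.leaf 0) (.leaf 580)) (.node (.leaf 0) (.leaf 530))) (.node (.node (.leaf 0) (.leaf 737)) (.leaf 143))) (.node (.node (.node (.leaf 286) (.leaf 347)) (.node (.leaf 21) (.leaf 110))) (.node (.node (.leaf 0) (.leaf 618)) (.leaf 603))))

def certHRank91 : Janko.Tree (ℕ) :=
  (.node (.node (.node (.node (.leaf 0) (.leaf 0)) (.node (.leaf 0) (.leaf 353))) (.node (.node (.leaf 0) (.leaf 0)) (.leaf 237))) (.node (.node (.node (.leaf 0) (.leaf 491)) (.node (.leaf 101) (.leaf 105))) (.node (.node (.leaf 156) (.leaf 835)) (.leaf 659))))

def certHRank92 : Janko.Tree (ℕ) :=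
  (.node (.node (.node (.node (.leaf 167) (.leaf 0)) (.node (.leaf 0) (.leaf 130))) (.node (.node (.leaf 0) (.leaf 889)) (.leaf 0))) (.node (.node (.node (.leaf 0) (.leaf 713)) (.node (.leaf 0) (.leaf 146))) (.node (.node (.leaf 273) (.leaf 263)) (.leaf 759))))

def certHRank93 : Janko.Tree (ℕ) :=
  (.node (.node (.node (.node (.leaf 0) (.leaf 880)) (.node (.leaf 0) (.leaf 0))) (.node (.node (.leaf 0) (.leaf 660)) (.leaf 407))) (.node (.node (.node (.leaf 0) (.leaf 279)) (.node (.leaf 877) (.leaf 47))) (.node (.node (.leaf 0) (.leaf 753)) (.leaf 0))))

def certHRank94 : Janko.Tree (ℕ) :=
  (.node (.node (.node (.node (.leaf 0) (.leaf 0)) (.node (.leaf 388) (.leaf 415))) (.node (.node (.leaf 0) (.leaf 0)) (.leaf 169))) (.node (.node (.node (.leaf 0) (.leaf 0)) (.node (.leaf 0) (.leaf 397))) (.node (.node (.leaf 70) (.leaf 448)) (.leaf 681))))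

def certHRank95 : Janko.Tree (ℕ) :=
  (.node (.node (.node (.node (.leaf 0) (.leaf 0)) (.node (.leaf 0) (.leaf 0))) (.node (.node (.leaf 0) (.leaf 0)) (.leaf 267))) (.node (.node (.node (.leaf 600) (.leaf 487)) (.node (.leaf 0) (.leaf 357))) (.node (.node (.leaf 0) (.leaf 875)) (.leaf 679))))

def certHRank96 : Janko.Tree (ℕ) :=
  (.node (.node (.node (.node (.leaf 48) (.leaf 468)) (.node (.leaf 0) (.leaf 656))) (.node (.node (.leaf 0) (.leaf 63)) (.leaf 0))) (.node (.node (.node (.leaf 0) (.leaf 892)) (.node (.leaf 155) (.leaf 57))) (.node (.node (.leaf 0) (.leaf 116)) (.leaf 0))))

def certHRank97 : Janko.Tree (ℕ) :=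
  (.node (.node (.node (.node (.leaf 89) (.leaf 0)) (.node (.leaf 0) (.leaf 680))) (.node (.node (.leaf 0) (.leaf 666)) (.leaf 795))) (.node (.node (.node (.leaf 0) (.leaf 0)) (.node (.leaf 0) (.leaf 53))) (.node (.node (.leaf 0) (.leaf 783)) (.leaf 758))))

def certHRank98 : Janko.Tree (ℕ) :=
  (.node (.node (.node (.node (.leaf 0) (.leaf 0)) (.node (.leaf 0) (.leaf 209))) (.node (.node (.leaf 0) (.leaf 383)) (.leaf 0))) (.node (.node (.node (.leaf 98) (.leaf 712)) (.node (.leaf 0) (.leaf 188))) (.node (.node (.leaf 0) (.leaf 567)) (.leaf 708))))

def certHRank99 : Janko.Tree (ℕ) :=
  (.node (.node (.node (.node (.leaf 77) (.leaf 0)) (.node (.leaf 88) (.leaf 351))) (.node (.node (.leaf 0) (.leaf 709)) (.leaf 650))) (.node (.node (.node (.leaf 45) (.leaf 0)) (.node (.leaf 150) (.leaf 268))) (.node (.node (.leaf 0) (.leaf 251)) (.leaf 710))))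

def certHRank100 : Janko.Tree (ℕ) :=
  (.node (.node (.node (.node (.leaf 0) (.leaf 718)) (.node (.leaf 29) (.leaf 610))) (.node (.node (.leaf 0) (.leaf 722)) (.leaf 634))) (.node (.node (.node (.leaf 0) (.leaf 568)) (.node (.leaf 0) (.leaf 61))) (.node (.node (.leaf 0) (.leaf 187)) (.leaf 424))))

def certHRank101 : Janko.Tree (ℕ) :=
  (.node (.node (.node (.node (.leaf 0) (.leaf 258)) (.node (.leaf 0) (.leaf 817))) (.node (.node (.leaf 0) (.leaf 677)) (.leaf 0))) (.node (.node (.node (.leaf 0) (.leaf 794)) (.node (.leaf 0) (.leaf 328))) (.node (.node (.leaf 0) (.leaf 234)) (.leaf 31))))

def certHRank102 : Janko.Tree (ℕ) :=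
  (.node (.node (.node (.node (.leaf 0) (.leaf 711)) (.node (.leaf 596) (.leaf 678))) (.node (.node (.leaf 0) (.leaf 879)) (.leaf 0))) (.node (.node (.node (.leaf 0) (.leaf 305)) (.node (.leaf 0) (.leaf 68))) (.node (.node (.leaf 0) (.leaf 334)) (.leaf 59))))

def certHRank103 : Janko.Tree (ℕ) :=
  (.node (.node (.node (.node (.leaf 0) (.leaf 0)) (.node (.leaf 417) (.leaf 389))) (.node (.node (.leaf 0) (.leaf 489)) (.leaf 433))) (.node (.node (.node (.leaf 0) (.leaf 445)) (.node (.leaf 408) (.leaf 145))) (.node (.node (.leaf 0) (.leaf 422)) (.leaf 135))))

def certHRank104 : Janko.Tree (ℕ) :=
  (.node (.node (.node (.node (.leaf 87) (.leaf 511)) (.node (.leaf 0) (.leaf 744))) (.node (.node (.leaf 0) (.leaf 871)) (.leaf 244))) (.node (.node (.node (.leaf 0) (.leaf 535)) (.node (.leaf 0) (.leaf 191))) (.node (.node (.leaf 261) (.leaf 302)) (.leaf 409))))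

def certHRank105 : Janko.Tree (ℕ) :=
  (.node (.node (.node (.node (.leaf 0) (.leaf 260)) (.node (.leaf 0) (.leaf 456))) (.node (.node (.leaf 0) (.leaf 869)) (.leaf 0))) (.node (.node (.node (.leaf 0) (.leaf 644)) (.node (.leaf 0) (.leaf 67))) (.node (.node (.leaf 266) (.leaf 346)) (.leaf 488))))

def certHRank106 : Janko.Tree (ℕ) :=
  (.node (.node (.node (.node (.leaf 0) (.leaf 0)) (.node (.leaf 0) (.leaf 0))) (.node (.node (.leaf 513) (.leaf 6)) (.leaf 0))) (.node (.node (.node (.leaf 0) (.leaf 725)) (.node (.leaf 316) (.leaf 307))) (.node (.node (.leaf 649) (.leaf 0)) (.leaf 0))))

def certHRank107 : Janko.Tree (ℕ) :=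
  (.node (.node (.node (.node (.leaf 0) (.leaf 0)) (.node (.leaf 588) (.leaf 0))) (.node (.node (.leaf 0) (.leaf 564)) (.leaf 298))) (.node (.node (.node (.leaf 0) (.leaf 727)) (.node (.leaf 0) (.leaf 674))) (.node (.node (.leaf 0) (.leaf 395)) (.leaf 399))))

def certHRank108 : Janko.Tree (ℕ) :=
  (.node (.node (.node (.node (.leaf 0) (.leaf 502)) (.node (.leaf 0) (.leaf 806))) (.node (.node (.leaf 0) (.leaf 473)) (.leaf 420))) (.node (.node (.node (.leaf 0) (.leaf 0)) (.node (.leaf 0) (.leaf 515))) (.node (.node (.leaf 32) (.leaf 721)) (.leaf 514))))

def certHRank109 : Janko.Tree (ℕ) :=
  (.node (.node (.node (.node (.leaf 0) (.leaf 230)) (.node (.leaf 0) (.leaf 716))) (.node (.node (.leaf 0) (.leaf 486)) (.leaf 0))) (.node (.node (.node (.leaf 0) (.leaf 207)) (.node (.leaf 215) (.leaf 692))) (.node (.node (.leaf 94) (.leaf 735)) (.leaf 767))))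

def certHRank110 : Janko.Tree (ℕ) :=
  (.node (.node (.node (.node (.leaf 0) (.leaf 131)) (.node (.leaf 0) (.leaf 0))) (.node (.node (.leaf 36) (.leaf 664)) (.leaf 0))) (.node (.node (.node (.leaf 0) (.leaf 813)) (.node (.leaf 0) (.leaf 584))) (.node (.node (.leaf 0) (.leaf 210)) (.leaf 0))))

def certHRank111 : Janko.Tree (ℕ) :=
  (.node (.node (.node (.node (.leaf 0) (.leaf 591)) (.node (.leaf 533) (.leaf 421))) (.node (.node (.leaf 175) (.leaf 429)) (.leaf 0))) (.node (.node (.node (.leaf 0) (.leaf 0)) (.node (.leaf 548) (.leaf 643))) (.node (.node (.leaf 74) (.leaf 785)) (.leaf 432))))

def certHRank112 : Janko.Tree (ℕ) :=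
  (.node (.node (.node (.node (.leaf 0) (.leaf 193)) (.node (.leaf 281) (.leaf 577))) (.node (.node (.leaf 0) (.leaf 311)) (.leaf 82))) (.node (.node (.node (.leaf 321) (.leaf 0)) (.node (.leaf 454) (.leaf 412))) (.node (.node (.leaf 0) (.leaf 575)) (.leaf 627))))

def certHRank113 : Janko.Tree (ℕ) :=
  (.node (.node (.node (.node (.leaf 0) (.leaf 19)) (.node (.leaf 264) (.leaf 792))) (.node (.node (.leaf 73) (.leaf 313)) (.leaf 161))) (.node (.node (.node (.leaf 0) (.leaf 0)) (.node (.leaf 452) (.leaf 362))) (.node (.node (.leaf 0) (.leaf 570)) (.leaf 524))))

def certHRank114 : Janko.Tree (ℕ) :=
  (.node (.node (.node (.node (.leaf 0) (.leaf 912)) (.node (.leaf 398) (.leaf 0))) (.node (.node (.leaf 0) (.leaf 573)) (.leaf 436))) (.node (.node (.node (.leaf 0) (.leaf 455)) (.node (.leaf 283) (.leaf 361))) (.node (.node (.leaf 0) (.leaf 0)) (.leaf 194))))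

def certHRank115 : Janko.Tree (ℕ) :=
  (.node (.node (.node (.node (.leaf 0) (.leaf 913)) (.node (.leaf 401) (.leaf 0))) (.node (.node (.leaf 0) (.leaf 529)) (.leaf 0))) (.node (.node (.node (.leaf 0) (.leaf 0)) (.node (.leaf 0) (.leaf 464))) (.node (.node (.leaf 0) (.leaf 626)) (.leaf 200))))

def certHRank116 : Janko.Tree (ℕ) :=
  (.node (.node (.node (.node (.leaf 0) (.leaf 285)) (.node (.leaf 0) (.leaf 490))) (.node (.node (.leaf 0) (.leaf 375)) (.leaf 776))) (.node (.node (.node (.leaf 0) (.leaf 539)) (.leaf 391)) (.node (.node (.leaf 0) (.leaf 624)) (.leaf 0))))

def certHRank117 : Janko.Tree (ℕ) :=
  (.node (.node (.node (.node (.leaf 239) (.leaf 0)) (.node (.leaf 0) (.leaf 437))) (.node (.node (.leaf 0) (.leaf 661)) (.leaf 0))) (.node (.node (.node (.leaf 76) (.leaf 0)) (.leaf 0)) (.node (.node (.leaf 293) (.leaf 628)) (.leaf 563))))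

def certHRank118 : Janko.Tree (ℕ) :=
  (.node (.node (.node (.node (.leaf 0) (.leaf 222)) (.node (.leaf 850) (.leaf 0))) (.node (.node (.leaf 0) (.leaf 781)) (.leaf 354))) (.node (.node (.node (.leaf 0) (.leaf 0)) (.leaf 192)) (.node (.node (.leaf 0) (.leaf 700)) (.leaf 245))))

def certHRank119 : Janko.Tree (ℕ) :=
  (.node (.node (.node (.node (.leaf 0) (.leaf 20)) (.node (.leaf 471) (.leaf 0))) (.node (.node (.leaf 106) (.leaf 0)) (.leaf 242))) (.node (.node (.node (.leaf 0) (.leaf 254)) (.leaf 469)) (.node (.node (.leaf 0) (.leaf 592)) (.leaf 537))))

def certHRank120 : Janko.Tree (ℕ) :=
  (.node (.node (.node (.node (.leaf 0) (.leaf 485)) (.node (.leaf 0) (.leaf 741))) (.node (.node (.leaf 0) (.leaf 703)) (.leaf 18))) (.node (.node (.node (.leaf 0) (.leaf 0)) (.leaf 338)) (.node (.node (.leaf 0) (.leaf 504)) (.leaf 318))))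

def certHRank121 : Janko.Tree (ℕ) :=
  (.node (.node (.node (.node (.leaf 0) (.leaf 201)) (.node (.leaf 0) (.leaf 257))) (.node (.node (.leaf 0) (.leaf 14)) (.leaf 0))) (.node (.node (.node (.leaf 0) (.leaf 0)) (.leaf 118)) (.node (.node (.leaf 0) (.leaf 545)) (.leaf 565))))

def certHRank122 : Janko.Tree (ℕ) :=
  (.node (.node (.node (.node (.leaf 0) (.leaf 558)) (.node (.leaf 0) (.leaf 211))) (.node (.node (.leaf 0) (.leaf 608)) (.leaf 0))) (.node (.node (.node (.leaf 0) (.leaf 277)) (.leaf 0)) (.node (.node (.leaf 223) (.leaf 484)) (.leaf 365))))

def certHRank123 : Janko.Tree (ℕ) :=
  (.node (.node (.node (.node (.leaf 0) (.leaf 554)) (.node (.leaf 0) (.leaf 819))) (.node (.node (.leaf 180) (.leaf 0)) (.leaf 0))) (.node (.node (.node (.leaf 0) (.leaf 587)) (.leaf 369)) (.node (.node (.leaf 225) (.leaf 153)) (.leaf 0))))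

def certHRank124 : Janko.Tree (ℕ) :=
  (.node (.node (.node (.node (.leaf 0) (.leaf 0)) (.node (.leaf 0) (.leaf 809))) (.node (.node (.leaf 0) (.leaf 342)) (.leaf 0))) (.node (.node (.node (.leaf 0) (.leaf 0)) (.leaf 0)) (.node (.node (.leaf 0) (.leaf 542)) (.leaf 181))))

def certHRank125 : Janko.Tree (ℕ) :=
  (.node (.node (.node (.node (.leaf 0) (.leaf 636)) (.node (.leaf 0) (.leaf 416))) (.node (.node (.leaf 0) (.leaf 325)) (.leaf 516))) (.node (.node (.node (.leaf 46) (.leaf 0)) (.leaf 0)) (.node (.node (.leaf 0) (.leaf 10)) (.leaf 760))))

def certHRank126 : Janko.Tree (ℕ) :=
  (.node (.node (.node (.node (.leaf 0) (.leaf 534)) (.node (.leaf 0) (.leaf 762))) (.node (.node (.leaf 0) (.leaf 226)) (.leaf 0))) (.node (.node (.node (.leaf 81) (.leaf 738)) (.leaf 0)) (.node (.node (.leaf 0) (.leaf 291)) (.leaf 377))))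

def certHRank127 : Janko.Tree (ℕ) :=
  (.node (.node (.node (.node (.leaf 0) (.leaf 0)) (.node (.leaf 0) (.leaf 812))) (.node (.node (.leaf 0) (.leaf 224)) (.leaf 0))) (.node (.node (.node (.leaf 0) (.leaf 774)) (.leaf 536)) (.node (.node (.leaf 0) (.leaf 217)) (.leaf 0))))

def certHRank : Janko.Tree (ℕ) :=
  (.node (.node (.node (.node (.node (.node (.node certHRank0 certHRank64) (.node certHRank32 certHRank96)) (.node (.node certHRank16 certHRank80) (.node certHRank48 certHRank112))) (.node (.node (.node certHRank8 certHRank72) (.node certHRank40 certHRank104)) (.node (.node certHRank24 certHRank88) (.node certHRank56 certHRank120)))) (.node (.node (.node (.node certHRank4 certHRank68) (.node certHRank36 certHRank100)) (.node (.node certHRank20 certHRank84) (.node certHRank52 certHRank116))) (.node (.node (.node certHRank12 certHRank76) (.node certHRank44 certHRank108)) (.node (.node certHRank28 certHRank92) (.node certHRank60 certHRank124))))) (.node (.node (.node (.node (.node certHRank2 certHRank66) (.node certHRank34 certHRank98)) (.node (.node certHRank18 certHRank82) (.node certHRank50 certHRank114))) (.node (.node (.node certHRank10 certHRank74) (.node certHRank42 certHRank106)) (.node (.node certHRank26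 certHRank90) (.node certHRank58 certHRank122)))) (.node (.node (.node (.node certHRank6 certHRank70) (.node certHRank38 certHRank102)) (.node (.node certHRank22 certHRank86) (.node certHRank54 certHRank118))) (.node (.node (.node certHRank14 certHRank78) (.node certHRank46 certHRank110)) (.node (.node certHRank30 certHRank94) (.node certHRank62 certHRank126)))))) (.node (.node (.node (.node (.node (.node certHRank1 certHRank65) (.node certHRank33 certHRank97)) (.node (.node certHRank17 certHRank81) (.node certHRank49 certHRank113))) (.node (.node (.node certHRank9 certHRank73) (.node certHRank41 certHRank105)) (.node (.node certHRank25 certHRank89) (.node certHRank57 certHRank121)))) (.node (.node (.node (.node certHRank5 certHRank69) (.node certHRank37 certHRank101)) (.node (.node certHRank21 certHRank85) (.node certHRank53 certHRank117))) (.node (.node (.node certHRank13 certHRank77) (.node certHRank45 certHRank109)) (.node (.node certHRank29 certHRank93) (.node certHRank61 certHRank125))))) (.node (.node (.node (.node (.node certHRank3 certHRank67) (.node certHRank35 certHRank99)) (.node (.node certHRank19 certHRank83) (.node certHRank51 certHRank115))) (.node (.node (.node certHRank11 certHRank75) (.node certHRank43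 certHRank107)) (.node (.node certHRank27 certHRank91) (.node certHRank59 certHRank123)))) (.node (.node (.node (.node certHRank7 certHRank71) (.node certHRank39 certHRank103)) (.node (.node certHRank23 certHRank87) (.node certHRank55 certHRank119))) (.node (.node (.node certHRank15 certHRank79) (.node certHRank47 certHRank111)) (.node (.node certHRank31 certHRank95) (.node certHRank63 certHRank127)))))))

def certHVia0 : Janko.Tree (ℕ × ℕ) :=
  (.node (.node (.node (.node (.leaf (29, 5)) (.leaf (24, 509))) (.node (.leaf (0, 0)) (.leaf (50, 714)))) (.node (.node (.leaf (0, 0)) (.leaf (3, 640))) (.leaf (0, 0)))) (.node (.node (.node (.leaf (27, 213)) (.leaf (0, 0))) (.node (.leaf (0, 0)) (.leaf (20, 841)))) (.node (.node (.leaf (0, 0)) (.leaf (43, 687))) (.leaf (39, 132)))))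

def certHVia1 : Janko.Tree (ℕ × ℕ) :=
  (.node (.node (.node (.node (.leaf (0, 0)) (.leaf (4, 746))) (.node (.leaf (20, 750)) (.leaf (45, 771)))) (.node (.node (.leaf (0, 0)) (.leaf (51, 844))) (.leaf (29, 354)))) (.node (.node (.node (.leaf (0, 0)) (.leaf (0, 0))) (.node (.leaf (5, 235)) (.leaf (0, 0)))) (.node (.node (.leaf (40, 651)) (.leaf (46, 710))) (.leaf (0, 0)))))

def certHVia2 : Janko.Tree (ℕ × ℕ) :=
  (.node (.node (.node (.node (.leaf (0, 0)) (.leaf (40, 754))) (.node (.leaf (0, 0)) (.leaf (0, 0)))) (.node (.node (.leaf (0, 0)) (.leaf (10, 711))) (.leaf (0, 0)))) (.node (.node (.node (.leaf (0, 0)) (.leaf (35, 582))) (.node (.leaf (0, 0)) (.leaf (41, 672)))) (.node (.node (.leaf (0, 0)) (.leaf (26, 404))) (.leaf (25, 312)))))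

def certHVia3 : Janko.Tree (ℕ × ℕ) :=
  (.node (.node (.node (.node (.leaf (0, 0)) (.leaf (0, 0))) (.node (.leaf (0, 0)) (.leaf (2, 769)))) (.node (.node (.leaf (33, 58)) (.leaf (25, 656))) (.leaf (0, 0)))) (.node (.node (.node (.leaf (0, 0)) (.leaf (51, 753))) (.node (.leaf (0, 0)) (.leaf (29, 341)))) (.node (.node (.leaf (0, 0)) (.leaf (28, 573))) (.leaf (0, 0)))))

def certHVia4 : Janko.Tree (ℕ × ℕ) :=
  (.node (.node (.node (.node (.leaf (0, 0)) (.leaf (51, 651))) (.node (.leaf (41, 121)) (.leaf (23, 376)))) (.node (.node (.leaf (0, 0)) (.leaf (28, 329))) (.leaf (36, 519)))) (.node (.node (.node (.leaf (2, 0)) (.leaf (0, 0))) (.node (.leaf (0, 322)) (.leaf (34, 372)))) (.node (.node (.leaf (0, 746)) (.leaf (51, 790))) (.leaf (0, 0)))))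

def certHVia5 : Janko.Tree (ℕ × ℕ) :=
  (.node (.node (.node (.node (.leaf (0, 0)) (.leaf (31, 744))) (.node (.leaf (0, 149)) (.leaf (48, 663)))) (.node (.node (.leaf (0, 0)) (.leaf (48, 553))) (.leaf (0, 0)))) (.node (.node (.node (.leaf (0, 0)) (.leaf (0, 0))) (.node (.leaf (9, 260)) (.leaf (31, 841)))) (.node (.node (.leaf (0, 108)) (.leaf (40, 430))) (.leaf (0, 0)))))

def certHVia6 : Janko.Tree (ℕ × ℕ) :=
  (.node (.node (.node (.node (.leaf (0, 0)) (.leaf (49, 650))) (.node (.leaf (0, 0)) (.leaf (18, 401)))) (.node (.node (.leaf (0, 0)) (.leaf (1, 650))) (.leaf (0, 0)))) (.node (.node (.node (.leaf (0, 0)) (.leaf (50, 725))) (.node (.leaf (0, 0)) (.leaf (49, 835)))) (.node (.node (.leaf (0, 0)) (.leaf (0, 0))) (.leaf (22, 606)))))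

def certHVia7 : Janko.Tree (ℕ × ℕ) :=
  (.node (.node (.node (.node (.leaf (0, 0)) (.leaf (0, 0))) (.node (.leaf (0, 0)) (.leaf (50, 419)))) (.node (.node (.leaf (0, 0)) (.leaf (50, 761))) (.leaf (0, 0)))) (.node (.node (.node (.leaf (0, 36)) (.leaf (0, 0))) (.node (.leaf (50, 735)) (.leaf (51, 863)))) (.node (.node (.leaf (0, 0)) (.leaf (2, 707))) (.leaf (0, 0)))))

def certHVia8 : Janko.Tree (ℕ × ℕ) :=
  (.node (.node (.node (.node (.leaf (0, 0)) (.leaf (0, 0))) (.node (.leaf (0, 0)) (.leaf (17, 292)))) (.node (.node (.leaf (0, 132)) (.leaf (0, 0))) (.leaf (49, 384)))) (.node (.node (.node (.leaf (0, 0)) (.leaf (0, 0))) (.node (.leaf (0, 0)) (.leaf (43, 863)))) (.node (.node (.leaf (0, 0)) (.leaf (18, 555))) (.leaf (40, 605)))))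

def certHVia9 : Janko.Tree (ℕ × ℕ) :=
  (.node (.node (.node (.node (.leaf (0, 0)) (.leaf (0, 0))) (.node (.leaf (0, 0)) (.leaf (0, 0)))) (.node (.node (.leaf (0, 0)) (.leaf (51, 847))) (.leaf (0, 0)))) (.node (.node (.node (.leaf (0, 0)) (.leaf (4, 470))) (.node (.leaf (40, 511)) (.leaf (0, 739)))) (.node (.node (.leaf (0, 0)) (.leaf (28, 536))) (.leaf (31, 650)))))

def certHVia10 : Janko.Tree (ℕ × ℕ) :=
  (.node (.node (.node (.node (.leaf (0, 0)) (.leaf (11, 335))) (.node (.leaf (0, 0)) (.leaf (40, 773)))) (.node (.node (.leaf (0, 0)) (.leaf (20, 650))) (.leaf (0, 0)))) (.node (.node (.node (.leaf (0, 171)) (.leaf (51, 581))) (.node (.leaf (40, 591)) (.leaf (46, 757)))) (.node (.node (.leaf (34, 620)) (.leaf (36, 571))) (.leaf (49, 787)))))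

def certHVia11 : Janko.Tree (ℕ × ℕ) :=
  (.node (.node (.node (.node (.leaf (0, 0)) (.leaf (0, 0))) (.node (.leaf (29, 149)) (.leaf (29, 440)))) (.node (.node (.leaf (0, 0)) (.leaf (50, 629))) (.leaf (12, 365)))) (.node (.node (.node (.leaf (0, 0)) (.leaf (29, 530))) (.node (.leaf (24, 271)) (.leaf (50, 812)))) (.node (.node (.leaf (0, 0)) (.leaf (29, 555))) (.leaf (41, 460)))))

def certHVia12 : Janko.Tree (ℕ × ℕ) :=
  (.node (.node (.node (.node (.leaf (0, 0)) (.leaf (0, 0))) (.node (.leaf (9, 37)) (.leaf (0, 0)))) (.node (.node (.leaf (0, 0)) (.leaf (25, 689))) (.leaf (1, 390)))) (.node (.node (.node (.leaf (0, 0)) (.leaf (0, 0))) (.node (.leaf (0, 0)) (.leaf (0, 0)))) (.node (.node (.leaf (0, 0)) (.leaf (16, 538))) (.leaf (0, 454)))))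

def certHVia13 : Janko.Tree (ℕ × ℕ) :=
  (.node (.node (.node (.node (.leaf (0, 0)) (.leaf (39, 281))) (.node (.leaf (0, 0)) (.leaf (46, 670)))) (.node (.node (.leaf (0, 0)) (.leaf (39, 588))) (.leaf (51, 731)))) (.node (.node (.node (.leaf (0, 0)) (.leaf (0, 0))) (.node (.leaf (0, 191)) (.leaf (48, 859)))) (.node (.node (.leaf (48, 752)) (.leaf (0, 538))) (.leaf (17, 752)))))

def certHVia14 : Janko.Tree (ℕ × ℕ) :=
  (.node (.node (.node (.node (.leaf (0, 0)) (.leaf (18, 365))) (.node (.leaf (0, 0)) (.leaf (22, 775)))) (.node (.node (.leaf (0, 0)) (.leaf (49, 767))) (.leaf (0, 0)))) (.node (.node (.node (.leaf (0, 0)) (.leaf (26, 703))) (.node (.leaf (38, 567)) (.leaf (46, 769)))) (.node (.node (.leaf (41, 337)) (.leaf (38, 689))) (.leaf (0, 0)))))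

def certHVia15 : Janko.Tree (ℕ × ℕ) :=
  (.node (.node (.node (.node (.leaf (0, 0)) (.leaf (0, 337))) (.node (.leaf (0, 0)) (.leaf (11, 682)))) (.node (.node (.leaf (6, 0)) (.leaf (40, 456))) (.leaf (28, 531)))) (.node (.node (.node (.leaf (0, 0)) (.leaf (0, 0))) (.node (.leaf (48, 653)) (.leaf (0, 0)))) (.node (.node (.leaf (0, 0)) (.leaf (51, 850))) (.leaf (38, 752)))))

def certHVia16 : Janko.Tree (ℕ × ℕ) :=
  (.node (.node (.node (.node (.leaf (0, 0)) (.leaf (0, 0))) (.node (.leaf (50, 466)) (.leaf (34, 623)))) (.node (.node (.leaf (0, 0)) (.leaf (51, 860))) (.leaf (0, 0)))) (.node (.node (.node (.leaf (0, 0)) (.leaf (0, 0))) (.node (.leaf (41, 417)) (.leaf (24, 637)))) (.node (.node (.leaf (20, 755)) (.leaf (0, 0))) (.leaf (0, 0)))))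

def certHVia17 : Janko.Tree (ℕ × ℕ) :=
  (.node (.node (.node (.node (.leaf (0, 0)) (.leaf (0, 0))) (.node (.leaf (0, 0)) (.leaf (51, 823)))) (.node (.node (.leaf (0, 0)) (.leaf (51, 773))) (.leaf (0, 0)))) (.node (.node (.node (.leaf (0, 0)) (.leaf (39, 393))) (.node (.leaf (37, 198)) (.leaf (48, 793)))) (.node (.node (.leaf (0, 0)) (.leaf (40, 653))) (.leaf (51, 788)))))

def certHVia18 : Janko.Tree (ℕ × ℕ) :=
  (.node (.node (.node (.node (.leaf (0, 0)) (.leaf (35, 499))) (.node (.leaf (34, 671)) (.leaf (0, 0)))) (.node (.node (.leaf (7, 0)) (.leaf (31, 287))) (.leaf (40, 440)))) (.node (.node (.node (.leaf (0, 0)) (.leaf (0, 0))) (.node (.leaf (0, 0)) (.leaf (1, 841)))) (.node (.node (.leaf (0, 0)) (.leaf (51, 848))) (.leaf (1, 595)))))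

def certHVia19 : Janko.Tree (ℕ × ℕ) :=
  (.node (.node (.node (.node (.leaf (0, 0)) (.leaf (28, 468))) (.node (.leaf (0, 0)) (.leaf (0, 0)))) (.node (.node (.leaf (0, 0)) (.leaf (44, 750))) (.leaf (39, 557)))) (.node (.node (.node (.leaf (0, 0)) (.leaf (0, 0))) (.node (.leaf (0, 0)) (.leaf (47, 828)))) (.node (.node (.leaf (0, 688)) (.leaf (12, 653))) (.leaf (9, 517)))))

def certHVia20 : Janko.Tree (ℕ × ℕ) :=
  (.node (.node (.node (.node (.leaf (0, 0)) (.leaf (49, 803))) (.node (.leaf (0, 0)) (.leaf (49, 778)))) (.node (.node (.leaf (0, 0)) (.leaf (0, 650))) (.leaf (0, 0)))) (.node (.node (.node (.leaf (14, 499)) (.leaf (16, 395))) (.node (.leaf (36, 364)) (.leaf (30, 757)))) (.node (.node (.leaf (49, 488)) (.leaf (0, 0))) (.leaf (0, 0)))))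

def certHVia21 : Janko.Tree (ℕ × ℕ) :=
  (.node (.node (.node (.node (.leaf (1, 0)) (.leaf (0, 0))) (.node (.leaf (4, 608)) (.leaf (51, 797)))) (.node (.node (.leaf (0, 0)) (.leaf (51, 644))) (.leaf (0, 0)))) (.node (.node (.node (.leaf (0, 0)) (.leaf (0, 0))) (.node (.leaf (0, 0)) (.leaf (0, 777)))) (.node (.node (.leaf (0, 0)) (.leaf (2, 714))) (.leaf (29, 231)))))

def certHVia22 : Janko.Tree (ℕ × ℕ) :=
  (.node (.node (.node (.node (.leaf (0, 0)) (.leaf (10, 527))) (.node (.leaf (0, 0)) (.leaf (9, 791)))) (.node (.node (.leaf (0, 0)) (.leaf (24, 479))) (.leaf (38, 588)))) (.node (.node (.node (.leaf (0, 0)) (.leaf (0, 0))) (.node (.leaf (50, 723)) (.leaf (48, 843)))) (.node (.node (.leaf (0, 0)) (.leaf (40, 770))) (.leaf (0, 0)))))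

def certHVia23 : Janko.Tree (ℕ × ℕ) :=
  (.node (.node (.node (.node (.leaf (0, 0)) (.leaf (51, 815))) (.node (.leaf (0, 0)) (.leaf (0, 0)))) (.node (.node (.leaf (0, 0)) (.leaf (24, 340))) (.leaf (0, 0)))) (.node (.node (.node (.leaf (0, 0)) (.leaf (0, 0))) (.node (.leaf (51, 824)) (.leaf (51, 704)))) (.node (.node (.leaf (0, 0)) (.leaf (41, 830))) (.leaf (0, 0)))))

def certHVia24 : Janko.Tree (ℕ × ℕ) :=
  (.node (.node (.node (.node (.leaf (0, 0)) (.leaf (35, 344))) (.node (.leaf (0, 0)) (.leaf (51, 780)))) (.node (.node (.leaf (0, 0)) (.leaf (0, 0))) (.leaf (0, 0)))) (.node (.node (.node (.leaf (0, 0)) (.leaf (3, 588))) (.node (.leaf (0, 0)) (.leaf (0, 844)))) (.node (.node (.leaf (0, 0)) (.leaf (51, 853))) (.leaf (28, 694)))))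

def certHVia25 : Janko.Tree (ℕ × ℕ) :=
  (.node (.node (.node (.node (.leaf (0, 0)) (.leaf (7, 527))) (.node (.leaf (35, 339)) (.leaf (0, 0)))) (.node (.node (.leaf (0, 0)) (.leaf (0, 832))) (.leaf (0, 0)))) (.node (.node (.node (.leaf (0, 0)) (.leaf (27, 542))) (.node (.leaf (0, 0)) (.leaf (51, 712)))) (.node (.node (.leaf (0, 0)) (.leaf (41, 717))) (.leaf (40, 595)))))

def certHVia26 : Janko.Tree (ℕ × ℕ) :=
  (.node (.node (.node (.node (.leaf (0, 0)) (.leaf (0, 0))) (.node (.leaf (0, 0)) (.leaf (0, 0)))) (.node (.node (.leaf (0, 0)) (.leaf (5, 462))) (.leaf (0, 0)))) (.node (.node (.node (.leaf (0, 0)) (.leaf (50, 705))) (.node (.leaf (0, 0)) (.leaf (51, 845)))) (.node (.node (.leaf (0, 0)) (.leaf (36, 377))) (.leaf (0, 0)))))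

def certHVia27 : Janko.Tree (ℕ × ℕ) :=
  (.node (.node (.node (.node (.leaf (0, 0)) (.leaf (2, 525))) (.node (.leaf (0, 0)) (.leaf (33, 843)))) (.node (.node (.leaf (0, 0)) (.leaf (19, 520))) (.leaf (39, 354)))) (.node (.node (.node (.leaf (0, 0)) (.leaf (51, 834))) (.node (.leaf (0, 0)) (.leaf (51, 856)))) (.node (.node (.leaf (0, 0)) (.leaf (0, 0))) (.leaf (0, 0)))))

def certHVia28 : Janko.Tree (ℕ × ℕ) :=
  (.node (.node (.node (.node (.leaf (0, 0)) (.leaf (17, 764))) (.node (.leaf (0, 0)) (.leaf (43, 814)))) (.node (.node (.leaf (0, 0)) (.leaf (50, 757))) (.leaf (0, 0)))) (.node (.node (.node (.leaf (0, 0)) (.leaf (37, 542))) (.node (.leaf (0, 0)) (.leaf (47, 809)))) (.node (.node (.leaf (0, 0)) (.leaf (1, 718))) (.leaf (0, 0)))))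

def certHVia29 : Janko.Tree (ℕ × ℕ) :=
  (.node (.node (.node (.node (.leaf (0, 0)) (.leaf (33, 342))) (.node (.leaf (0, 0)) (.leaf (0, 0)))) (.node (.node (.leaf (0, 0)) (.leaf (51, 802))) (.leaf (0, 0)))) (.node (.node (.node (.leaf (0, 0)) (.leaf (41, 591))) (.node (.leaf (51, 657)) (.leaf (50, 774)))) (.node (.node (.leaf (0, 0)) (.leaf (0, 0))) (.leaf (0, 0)))))

def certHVia30 : Janko.Tree (ℕ × ℕ) :=
  (.node (.node (.node (.node (.leaf (0, 0)) (.leaf (39, 527))) (.node (.leaf (1, 271)) (.leaf (13, 783)))) (.node (.node (.leaf (6, 519)) (.leaf (0, 0))) (.leaf (0, 0)))) (.node (.node (.node (.leaf (0, 0)) (.leaf (4, 591))) (.node (.leaf (0, 0)) (.leaf (39, 800)))) (.node (.node (.leaf (39, 429)) (.leaf (27, 823))) (.leaf (51, 818)))))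

def certHVia31 : Janko.Tree (ℕ × ℕ) :=
  (.node (.node (.node (.node (.leaf (0, 0)) (.leaf (2, 566))) (.node (.leaf (0, 0)) (.leaf (2, 804)))) (.node (.node (.leaf (0, 0)) (.leaf (0, 0))) (.leaf (29, 246)))) (.node (.node (.node (.leaf (0, 0)) (.leaf (0, 0))) (.node (.leaf (2, 335)) (.leaf (42, 863)))) (.node (.node (.leaf (0, 0)) (.leaf (51, 810))) (.leaf (0, 0)))))

def certHVia32 : Janko.Tree (ℕ × ℕ) :=
  (.node (.node (.node (.node (.leaf (0, 0)) (.leaf (35, 596))) (.node (.leaf (0, 0)) (.leaf (28, 784)))) (.node (.node (.leaf (0, 0)) (.leaf (18, 536))) (.leaf (0, 0)))) (.node (.node (.node (.leaf (0, 0)) (.leaf (0, 0))) (.node (.leaf (1, 346)) (.leaf (47, 794)))) (.node (.node (.leaf (0, 594)) (.leaf (0, 0))) (.leaf (0, 0)))))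

def certHVia33 : Janko.Tree (ℕ × ℕ) :=
  (.node (.node (.node (.node (.leaf (0, 0)) (.leaf (11, 689))) (.node (.leaf (0, 0)) (.leaf (48, 817)))) (.node (.node (.leaf (0, 0)) (.leaf (9, 511))) (.leaf (26, 183)))) (.node (.node (.node (.leaf (2, 80)) (.leaf (0, 0))) (.node (.leaf (0, 0)) (.leaf (51, 855)))) (.node (.node (.leaf (2, 208)) (.leaf (30, 735))) (.leaf (39, 749)))))

def certHVia34 : Janko.Tree (ℕ × ℕ) :=
  (.node (.node (.node (.node (.leaf (0, 0)) (.leaf (0, 0))) (.node (.leaf (0, 0)) (.leaf (34, 468)))) (.node (.node (.leaf (0, 0)) (.leaf (30, 468))) (.leaf (0, 0)))) (.node (.node (.node (.leaf (1, 97)) (.leaf (50, 825))) (.node (.leaf (0, 0)) (.leaf (46, 804)))) (.node (.node (.leaf (18, 66)) (.leaf (0, 0))) (.leaf (41, 657)))))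

def certHVia35 : Janko.Tree (ℕ × ℕ) :=
  (.node (.node (.node (.node (.leaf (0, 0)) (.leaf (0, 0))) (.node (.leaf (0, 0)) (.leaf (49, 847)))) (.node (.node (.leaf (2, 380)) (.leaf (29, 595))) (.leaf (0, 0)))) (.node (.node (.node (.leaf (0, 0)) (.leaf (0, 0))) (.node (.leaf (0, 0)) (.leaf (29, 407)))) (.node (.node (.leaf (0, 0)) (.leaf (0, 0))) (.leaf (0, 0)))))

def certHVia36 : Janko.Tree (ℕ × ℕ) :=
  (.node (.node (.node (.node (.leaf (0, 0)) (.leaf (0, 0))) (.node (.leaf (0, 0)) (.leaf (50, 786)))) (.node (.node (.leaf (9, 570)) (.leaf (0, 0))) (.leaf (0, 0)))) (.node (.node (.node (.leaf (0, 0)) (.leaf (27, 365))) (.node (.leaf (0, 0)) (.leaf (46, 800)))) (.node (.node (.leaf (0, 0)) (.leaf (0, 0))) (.leaf (0, 0)))))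

def certHVia37 : Janko.Tree (ℕ × ℕ) :=
  (.node (.node (.node (.node (.leaf (0, 0)) (.leaf (0, 0))) (.node (.leaf (0, 0)) (.leaf (50, 800)))) (.node (.node (.leaf (5, 0)) (.leaf (51, 466))) (.leaf (0, 0)))) (.node (.node (.node (.leaf (0, 0)) (.leaf (51, 615))) (.node (.leaf (0, 0)) (.leaf (51, 801)))) (.node (.node (.leaf (0, 0)) (.leaf (29, 729))) (.leaf (0, 0)))))

def certHVia38 : Janko.Tree (ℕ × ℕ) :=
  (.node (.node (.node (.node (.leaf (1, 365)) (.leaf (0, 0))) (.node (.leaf (0, 0)) (.leaf (0, 787)))) (.node (.node (.leaf (0, 0)) (.leaf (49, 659))) (.leaf (0, 0)))) (.node (.node (.node (.leaf (0, 0)) (.leaf (19, 841))) (.node (.leaf (0, 0)) (.leaf (30, 800)))) (.node (.node (.leaf (0, 0)) (.leaf (9, 124))) (.leaf (0, 0)))))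

def certHVia39 : Janko.Tree (ℕ × ℕ) :=
  (.node (.node (.node (.node (.leaf (0, 0)) (.leaf (49, 752))) (.node (.leaf (0, 0)) (.leaf (51, 859)))) (.node (.node (.leaf (12, 312)) (.leaf (0, 0))) (.leaf (17, 653)))) (.node (.node (.node (.leaf (0, 0)) (.leaf (0, 0))) (.node (.leaf (0, 0)) (.leaf (34, 639)))) (.node (.node (.leaf (0, 0)) (.leaf (33, 350))) (.leaf (51, 717)))))

def certHVia40 : Janko.Tree (ℕ × ℕ) :=
  (.node (.node (.node (.node (.leaf (0, 0)) (.leaf (49, 854))) (.node (.leaf (38, 440)) (.leaf (50, 847)))) (.node (.node (.leaf (0, 0)) (.leaf (49, 607))) (.leaf (11, 404)))) (.node (.node (.node (.leaf (0, 0)) (.leaf (10, 79))) (.node (.leaf (17, 542)) (.leaf (25, 852)))) (.node (.node (.leaf (28, 568)) (.leaf (0, 0))) (.leaf (8, 396)))))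

def certHVia41 : Janko.Tree (ℕ × ℕ) :=
  (.node (.node (.node (.node (.leaf (0, 0)) (.leaf (0, 0))) (.node (.leaf (0, 0)) (.leaf (51, 839)))) (.node (.node (.leaf (0, 0)) (.leaf (50, 809))) (.leaf (29, 340)))) (.node (.node (.node (.leaf (0, 0)) (.leaf (29, 600))) (.node (.leaf (0, 0)) (.leaf (16, 702)))) (.node (.node (.leaf (0, 0)) (.leaf (38, 738))) (.leaf (44, 818)))))

def certHVia42 : Janko.Tree (ℕ × ℕ) :=
  (.node (.node (.node (.node (.leaf (0, 0)) (.leaf (0, 0))) (.node (.leaf (0, 0)) (.leaf (46, 778)))) (.node (.node (.leaf (0, 0)) (.leaf (0, 0))) (.leaf (34, 730)))) (.node (.node (.node (.leaf (0, 0)) (.leaf (41, 364))) (.node (.leaf (5, 365)) (.leaf (9, 630)))) (.node (.node (.leaf (0, 0)) (.leaf (41, 829))) (.leaf (17, 767)))))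

def certHVia43 : Janko.Tree (ℕ × ℕ) :=
  (.node (.node (.node (.node (.leaf (17, 66)) (.leaf (51, 765))) (.node (.leaf (0, 0)) (.leaf (21, 635)))) (.node (.node (.leaf (0, 0)) (.leaf (48, 551))) (.leaf (0, 0)))) (.node (.node (.node (.leaf (0, 0)) (.leaf (20, 239))) (.node (.leaf (16, 149)) (.leaf (30, 754)))) (.node (.node (.leaf (0, 0)) (.leaf (0, 0))) (.leaf (15, 568)))))

def certHVia44 : Janko.Tree (ℕ × ℕ) :=
  (.node (.node (.node (.node (.leaf (0, 0)) (.leaf (39, 416))) (.node (.leaf (0, 0)) (.leaf (51, 820)))) (.node (.node (.leaf (0, 0)) (.leaf (0, 0))) (.leaf (0, 0)))) (.node (.node (.node (.leaf (0, 0)) (.leaf (38, 364))) (.node (.leaf (0, 0)) (.leaf (5, 854)))) (.node (.node (.leaf (5, 755)) (.leaf (1, 734))) (.leaf (18, 97)))))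

def certHVia45 : Janko.Tree (ℕ × ℕ) :=
  (.node (.node (.node (.node (.leaf (0, 0)) (.leaf (51, 327))) (.node (.leaf (0, 0)) (.leaf (47, 780)))) (.node (.node (.leaf (3, 0)) (.leaf (51, 851))) (.leaf (0, 0)))) (.node (.node (.node (.leaf (0, 0)) (.leaf (38, 637))) (.node (.leaf (0, 0)) (.leaf (47, 800)))) (.node (.node (.leaf (4, 121)) (.leaf (0, 0))) (.leaf (0, 0)))))

def certHVia46 : Janko.Tree (ℕ × ℕ) :=
  (.node (.node (.node (.node (.leaf (0, 0)) (.leaf (12, 663))) (.node (.leaf (0, 0)) (.leaf (36, 791)))) (.node (.node (.leaf (22, 139)) (.leaf (40, 710))) (.leaf (9, 145)))) (.node (.node (.node (.leaf (0, 0)) (.leaf (0, 0))) (.node (.leaf (0, 0)) (.leaf (31, 855)))) (.node (.node (.leaf (27, 215)) (.leaf (0, 0))) (.leaf (50, 793)))))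

def certHVia47 : Janko.Tree (ℕ × ℕ) :=
  (.node (.node (.node (.node (.leaf (0, 0)) (.leaf (0, 0))) (.node (.leaf (29, 431)) (.leaf (5, 841)))) (.node (.node (.leaf (0, 0)) (.leaf (0, 474))) (.leaf (6, 410)))) (.node (.node (.node (.leaf (0, 0)) (.leaf (0, 0))) (.node (.leaf (0, 0)) (.leaf (0, 0)))) (.node (.node (.leaf (0, 0)) (.leaf (0, 0))) (.leaf (50, 542)))))

def certHVia48 : Janko.Tree (ℕ × ℕ) :=
  (.node (.node (.node (.node (.leaf (0, 0)) (.leaf (0, 0))) (.node (.leaf (0, 0)) (.leaf (41, 811)))) (.node (.node (.leaf (0, 0)) (.leaf (50, 664))) (.leaf (33, 145)))) (.node (.node (.node (.leaf (0, 0)) (.leaf (17, 600))) (.node (.leaf (41, 530)) (.leaf (50, 856)))) (.node (.node (.leaf (0, 0)) (.leaf (50, 580))) (.leaf (46, 743)))))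

def certHVia49 : Janko.Tree (ℕ × ℕ) :=
  (.node (.node (.node (.node (.leaf (0, 0)) (.leaf (27, 519))) (.node (.leaf (0, 0)) (.leaf (40, 811)))) (.node (.node (.leaf (0, 0)) (.leaf (0, 0))) (.leaf (29, 605)))) (.node (.node (.node (.leaf (0, 0)) (.leaf (29, 276))) (.node (.leaf (0, 0)) (.leaf (36, 855)))) (.node (.node (.leaf (29, 767)) (.leaf (51, 771))) (.leaf (35, 824)))))

def certHVia50 : Janko.Tree (ℕ × ℕ) :=
  (.node (.node (.node (.node (.leaf (0, 0)) (.leaf (31, 400))) (.node (.leaf (19, 408)) (.leaf (51, 793)))) (.node (.node (.leaf (22, 39)) (.leaf (49, 842))) (.leaf (37, 313)))) (.node (.node (.node (.leaf (0, 0)) (.leaf (37, 403))) (.node (.leaf (0, 0)) (.leaf (3, 857)))) (.node (.node (.leaf (0, 0)) (.leaf (11, 729))) (.leaf (0, 0)))))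

def certHVia51 : Janko.Tree (ℕ × ℕ) :=
  (.node (.node (.node (.node (.leaf (0, 0)) (.leaf (0, 0))) (.node (.leaf (0, 0)) (.leaf (51, 690)))) (.node (.node (.leaf (0, 0)) (.leaf (51, 557))) (.leaf (0, 0)))) (.node (.node (.node (.leaf (0, 0)) (.leaf (0, 0))) (.node (.leaf (0, 0)) (.leaf (48, 828)))) (.node (.node (.leaf (0, 0)) (.leaf (25, 566))) (.leaf (41, 474)))))

def certHVia52 : Janko.Tree (ℕ × ℕ) :=
  (.node (.node (.node (.node (.leaf (0, 0)) (.leaf (0, 0))) (.node (.leaf (0, 0)) (.leaf (0, 0)))) (.node (.node (.leaf (0, 0)) (.leaf (36, 840))) (.leaf (0, 0)))) (.node (.node (.node (.leaf (0, 0)) (.leaf (0, 0))) (.node (.leaf (0, 346)) (.leaf (49, 839)))) (.node (.node (.leaf (0, 0)) (.leaf (12, 730))) (.leaf (0, 0)))))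

def certHVia53 : Janko.Tree (ℕ × ℕ) :=
  (.node (.node (.node (.node (.leaf (0, 0)) (.leaf (0, 0))) (.node (.leaf (51, 741)) (.leaf (31, 836)))) (.node (.node (.leaf (0, 86)) (.leaf (12, 313))) (.leaf (0, 0)))) (.node (.node (.node (.leaf (0, 0)) (.leaf (0, 0))) (.node (.leaf (9, 508)) (.leaf (49, 857)))) (.node (.node (.leaf (0, 0)) (.leaf (8, 591))) (.leaf (0, 0)))))

def certHVia54 : Janko.Tree (ℕ × ℕ) :=
  (.node (.node (.node (.node (.leaf (0, 0)) (.leaf (50, 702))) (.node (.leaf (0, 0)) (.leaf (51, 795)))) (.node (.node (.leaf (0, 0)) (.leaf (14, 744))) (.leaf (20, 374)))) (.node (.node (.node (.leaf (0, 0)) (.leaf (0, 0))) (.node (.leaf (0, 0)) (.leaf (40, 580)))) (.node (.node (.leaf (0, 0)) (.leaf (23, 723))) (.leaf (0, 0)))))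

def certHVia55 : Janko.Tree (ℕ × ℕ) :=
  (.node (.node (.node (.node (.leaf (0, 0)) (.leaf (0, 0))) (.node (.leaf (0, 0)) (.leaf (11, 754)))) (.node (.node (.leaf (0, 0)) (.leaf (45, 776))) (.leaf (9, 595)))) (.node (.node (.node (.leaf (0, 0)) (.leaf (0, 718))) (.node (.leaf (27, 229)) (.leaf (47, 783)))) (.node (.node (.leaf (0, 0)) (.leaf (40, 824))) (.leaf (0, 0)))))

def certHVia56 : Janko.Tree (ℕ × ℕ) :=
  (.node (.node (.node (.node (.leaf (0, 0)) (.leaf (25, 540))) (.node (.leaf (0, 0)) (.leaf (47, 785)))) (.node (.node (.leaf (0, 0)) (.leaf (0, 0))) (.leaf (41, 608)))) (.node (.node (.node (.leaf (0, 0)) (.leaf (39, 615))) (.node (.leaf (0, 0)) (.leaf (45, 860)))) (.node (.node (.leaf (38, 519)) (.leaf (34, 626))) (.leaf (0, 0)))))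

def certHVia57 : Janko.Tree (ℕ × ℕ) :=
  (.node (.node (.node (.node (.leaf (0, 0)) (.leaf (0, 0))) (.node (.leaf (0, 0)) (.leaf (51, 784)))) (.node (.node (.leaf (0, 0)) (.leaf (0, 0))) (.leaf (0, 0)))) (.node (.node (.node (.leaf (0, 0)) (.leaf (39, 490))) (.node (.leaf (0, 0)) (.leaf (46, 861)))) (.node (.node (.leaf (0, 0)) (.leaf (0, 0))) (.leaf (0, 0)))))

def certHVia58 : Janko.Tree (ℕ × ℕ) :=
  (.node (.node (.node (.node (.leaf (0, 0)) (.leaf (50, 861))) (.node (.leaf (0, 0)) (.leaf (45, 296)))) (.node (.node (.leaf (0, 0)) (.leaf (0, 0))) (.leaf (50, 764)))) (.node (.node (.node (.leaf (0, 0)) (.leaf (50, 767))) (.node (.leaf (37, 349)) (.leaf (49, 861)))) (.node (.node (.leaf (0, 0)) (.leaf (0, 0))) (.leaf (0, 0)))))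

def certHVia59 : Janko.Tree (ℕ × ℕ) :=
  (.node (.node (.node (.node (.leaf (0, 0)) (.leaf (50, 561))) (.node (.leaf (0, 0)) (.leaf (51, 843)))) (.node (.node (.leaf (29, 258)) (.leaf (0, 0))) (.leaf (10, 252)))) (.node (.node (.node (.leaf (0, 0)) (.leaf (0, 0))) (.node (.leaf (9, 339)) (.leaf (51, 857)))) (.node (.node (.leaf (0, 0)) (.leaf (0, 0))) (.leaf (48, 833)))))

def certHVia60 : Janko.Tree (ℕ × ℕ) :=
  (.node (.node (.node (.node (.leaf (0, 0)) (.leaf (41, 354))) (.node (.leaf (0, 0)) (.leaf (51, 783)))) (.node (.node (.leaf (0, 0)) (.leaf (0, 0))) (.leaf (0, 0)))) (.node (.node (.node (.leaf (0, 0)) (.leaf (18, 137))) (.node (.leaf (0, 0)) (.leaf (20, 862)))) (.node (.node (.leaf (0, 0)) (.leaf (0, 734))) (.leaf (0, 0)))))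

def certHVia61 : Janko.Tree (ℕ × ℕ) :=
  (.node (.node (.node (.node (.leaf (2, 30)) (.leaf (29, 783))) (.node (.leaf (0, 0)) (.leaf (0, 0)))) (.node (.node (.leaf (0, 0)) (.leaf (50, 862))) (.leaf (4, 717)))) (.node (.node (.node (.leaf (0, 0)) (.leaf (41, 607))) (.node (.leaf (0, 0)) (.leaf (24, 785)))) (.node (.node (.leaf (0, 0)) (.leaf (48, 605))) (.leaf (0, 0)))))

def certHVia62 : Janko.Tree (ℕ × ℕ) :=
  (.node (.node (.node (.node (.leaf (1, 48)) (.leaf (41, 523))) (.node (.leaf (0, 0)) (.leaf (50, 863)))) (.node (.node (.leaf (0, 0)) (.leaf (0, 0))) (.leaf (41, 610)))) (.node (.node (.node (.leaf (5, 787)) (.leaf (0, 0))) (.node (.leaf (6, 381)) (.leaf (41, 853)))) (.node (.node (.leaf (0, 0)) (.leaf (41, 271))) (.leaf (28, 664)))))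

def certHVia63 : Janko.Tree (ℕ × ℕ) :=
  (.node (.node (.node (.node (.leaf (0, 0)) (.leaf (0, 354))) (.node (.leaf (0, 0)) (.leaf (50, 835)))) (.node (.node (.leaf (0, 0)) (.leaf (31, 469))) (.leaf (0, 0)))) (.node (.node (.node (.leaf (0, 0)) (.leaf (29, 607))) (.node (.leaf (0, 0)) (.leaf (51, 831)))) (.node (.node (.leaf (0, 0)) (.leaf (12, 380))) (.leaf (0, 0)))))

def certHVia64 : Janko.Tree (ℕ × ℕ) :=
  (.node (.node (.node (.node (.leaf (0, 0)) (.leaf (6, 544))) (.node (.leaf (0, 0)) (.leaf (51, 592)))) (.node (.node (.leaf (0, 0)) (.leaf (27, 698))) (.leaf (0, 0)))) (.node (.node (.node (.leaf (0, 0)) (.leaf (0, 0))) (.node (.leaf (0, 0)) (.leaf (0, 0)))) (.node (.node (.leaf (35, 689)) (.leaf (49, 819))) (.leaf (0, 0)))))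

def certHVia65 : Janko.Tree (ℕ × ℕ) :=
  (.node (.node (.node (.node (.leaf (0, 0)) (.leaf (0, 0))) (.node (.leaf (39, 745)) (.leaf (51, 862)))) (.node (.node (.leaf (0, 0)) (.leaf (51, 840))) (.leaf (39, 318)))) (.node (.node (.node (.leaf (0, 0)) (.leaf (0, 0))) (.node (.leaf (0, 0)) (.leaf (0, 0)))) (.node (.node (.leaf (6, 268)) (.leaf (51, 633))) (.leaf (50, 837)))))

def certHVia66 : Janko.Tree (ℕ × ℕ) :=
  (.node (.node (.node (.node (.leaf (0, 0)) (.leaf (6, 213))) (.node (.leaf (0, 0)) (.leaf (0, 0)))) (.node (.node (.leaf (32, 840)) (.leaf (0, 0))) (.leaf (0, 0)))) (.node (.node (.node (.leaf (0, 97)) (.leaf (0, 0))) (.node (.leaf (0, 0)) (.leaf (0, 0)))) (.node (.node (.leaf (0, 0)) (.leaf (5, 444))) (.leaf (0, 0)))))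

def certHVia67 : Janko.Tree (ℕ × ℕ) :=
  (.node (.node (.node (.node (.leaf (0, 0)) (.leaf (0, 0))) (.node (.leaf (51, 710)) (.leaf (51, 787)))) (.node (.node (.leaf (0, 0)) (.leaf (51, 842))) (.leaf (51, 852)))) (.node (.node (.node (.leaf (29, 97)) (.leaf (51, 687))) (.node (.leaf (0, 0)) (.leaf (3, 66)))) (.node (.node (.leaf (0, 0)) (.leaf (27, 606))) (.leaf (32, 444)))))

def certHVia68 : Janko.Tree (ℕ × ℕ) :=
  (.node (.node (.node (.node (.leaf (0, 0)) (.leaf (0, 0))) (.node (.leaf (0, 0)) (.leaf (50, 814)))) (.node (.node (.leaf (0, 0)) (.leaf (50, 756))) (.leaf (35, 661)))) (.node (.node (.node (.leaf (0, 0)) (.leaf (51, 610))) (.node (.leaf (0, 0)) (.leaf (4, 36)))) (.node (.node (.leaf (38, 767)) (.leaf (18, 341))) (.leaf (0, 0)))))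

def certHVia69 : Janko.Tree (ℕ × ℕ) :=
  (.node (.node (.node (.node (.leaf (0, 0)) (.leaf (0, 0))) (.node (.leaf (39, 610)) (.leaf (51, 699)))) (.node (.node (.leaf (0, 0)) (.leaf (50, 840))) (.leaf (0, 0)))) (.node (.node (.node (.leaf (0, 440)) (.leaf (0, 0))) (.node (.leaf (11, 235)) (.leaf (5, 31)))) (.node (.node (.leaf (36, 745)) (.leaf (6, 841))) (.leaf (51, 768)))))

def certHVia70 : Janko.Tree (ℕ × ℕ) :=
  (.node (.node (.node (.node (.leaf (0, 0)) (.leaf (34, 547))) (.node (.leaf (0, 0)) (.leaf (34, 465)))) (.node (.node (.leaf (0, 0)) (.leaf (0, 0))) (.leaf (0, 0)))) (.node (.node (.node (.leaf (0, 0)) (.leaf (10, 84))) (.node (.leaf (17, 649)) (.leaf (6, 105)))) (.node (.node (.leaf (0, 0)) (.leaf (0, 0))) (.leaf (51, 538)))))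

def certHVia71 : Janko.Tree (ℕ × ℕ) :=
  (.node (.node (.node (.node (.leaf (0, 0)) (.leaf (2, 547))) (.node (.leaf (0, 0)) (.leaf (45, 839)))) (.node (.node (.leaf (0, 0)) (.leaf (51, 720))) (.leaf (0, 0)))) (.node (.node (.node (.leaf (0, 0)) (.leaf (24, 588))) (.node (.leaf (0, 0)) (.leaf (7, 235)))) (.node (.node (.leaf (0, 0)) (.leaf (51, 812))) (.leaf (0, 0)))))

def certHVia72 : Janko.Tree (ℕ × ℕ) :=
  (.node (.node (.node (.node (.leaf (0, 0)) (.leaf (51, 548))) (.node (.leaf (41, 171)) (.leaf (51, 804)))) (.node (.node (.leaf (0, 0)) (.leaf (49, 676))) (.leaf (49, 710)))) (.node (.node (.node (.leaf (0, 0)) (.leaf (49, 793))) (.node (.leaf (41, 545)) (.leaf (8, 231)))) (.node (.node (.leaf (0, 0)) (.leaf (28, 387))) (.leaf (51, 744)))))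

def certHVia73 : Janko.Tree (ℕ × ℕ) :=
  (.node (.node (.node (.node (.leaf (0, 0)) (.leaf (12, 97))) (.node (.leaf (0, 0)) (.leaf (0, 671)))) (.node (.node (.leaf (0, 0)) (.leaf (48, 798))) (.leaf (33, 419)))) (.node (.node (.node (.leaf (0, 0)) (.leaf (24, 284))) (.node (.leaf (0, 0)) (.leaf (9, 57)))) (.node (.node (.leaf (38, 153)) (.leaf (5, 470))) (.leaf (0, 0)))))

def certHVia74 : Janko.Tree (ℕ × ℕ) :=
  (.node (.node (.node (.node (.leaf (0, 0)) (.leaf (0, 0))) (.node (.leaf (0, 0)) (.leaf (46, 840)))) (.node (.node (.leaf (0, 0)) (.leaf (46, 703))) (.leaf (28, 444)))) (.node (.node (.node (.leaf (0, 0)) (.leaf (50, 731))) (.node (.leaf (0, 0)) (.leaf (10, 104)))) (.node (.node (.leaf (22, 229)) (.leaf (50, 620))) (.leaf (50, 796)))))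

def certHVia75 : Janko.Tree (ℕ × ℕ) :=
  (.node (.node (.node (.node (.leaf (0, 0)) (.leaf (0, 0))) (.node (.leaf (4, 171)) (.leaf (42, 669)))) (.node (.node (.leaf (0, 0)) (.leaf (51, 796))) (.leaf (10, 760)))) (.node (.node (.node (.leaf (0, 0)) (.leaf (0, 0))) (.node (.leaf (0, 0)) (.leaf (11, 81)))) (.node (.node (.leaf (0, 0)) (.leaf (50, 827))) (.leaf (50, 830)))))

def certHVia76 : Janko.Tree (ℕ × ℕ) :=
  (.node (.node (.node (.node (.leaf (0, 0)) (.leaf (49, 840))) (.node (.leaf (0, 0)) (.leaf (51, 806)))) (.node (.node (.leaf (0, 0)) (.leaf (50, 737))) (.leaf (0, 0)))) (.node (.node (.node (.leaf (0, 0)) (.leaf (0, 0))) (.node (.leaf (50, 701)) (.leaf (12, 113)))) (.node (.node (.leaf (0, 0)) (.leaf (28, 833))) (.leaf (40, 486)))))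

def certHVia77 : Janko.Tree (ℕ × ℕ) :=
  (.node (.node (.node (.node (.leaf (0, 0)) (.leaf (2, 795))) (.node (.leaf (0, 0)) (.leaf (51, 811)))) (.node (.node (.leaf (0, 0)) (.leaf (0, 0))) (.leaf (0, 0)))) (.node (.node (.node (.leaf (0, 0)) (.leaf (0, 0))) (.node (.leaf (0, 0)) (.leaf (13, 767)))) (.node (.node (.leaf (20, 235)) (.leaf (11, 134))) (.leaf (28, 544)))))

def certHVia78 : Janko.Tree (ℕ × ℕ) :=
  (.node (.node (.node (.node (.leaf (0, 0)) (.leaf (0, 0))) (.node (.leaf (12, 295)) (.leaf (51, 727)))) (.node (.node (.leaf (0, 0)) (.leaf (0, 0))) (.leaf (16, 86)))) (.node (.node (.node (.leaf (0, 0)) (.leaf (6, 615))) (.node (.leaf (0, 0)) (.leaf (14, 229)))) (.node (.node (.leaf (41, 132)) (.leaf (39, 608))) (.leaf (50, 437)))))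

def certHVia79 : Janko.Tree (ℕ × ℕ) :=
  (.node (.node (.node (.node (.leaf (0, 0)) (.leaf (41, 615))) (.node (.leaf (29, 84)) (.leaf (51, 799)))) (.node (.node (.leaf (2, 167)) (.leaf (0, 0))) (.leaf (38, 745)))) (.node (.node (.node (.leaf (0, 0)) (.leaf (0, 0))) (.node (.leaf (0, 0)) (.leaf (15, 356)))) (.node (.node (.leaf (0, 0)) (.leaf (50, 499))) (.leaf (0, 0)))))

def certHVia80 : Janko.Tree (ℕ × ℕ) :=
  (.node (.node (.node (.node (.leaf (0, 0)) (.leaf (0, 0))) (.node (.leaf (0, 0)) (.leaf (12, 808)))) (.node (.node (.leaf (1, 183)) (.leaf (0, 0))) (.leaf (0, 0)))) (.node (.node (.node (.leaf (0, 0)) (.leaf (8, 422))) (.node (.leaf (0, 0)) (.leaf (16, 5)))) (.node (.node (.leaf (12, 773)) (.leaf (5, 582))) (.leaf (41, 377)))))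

def certHVia81 : Janko.Tree (ℕ × ℕ) :=
  (.node (.node (.node (.node (.leaf (0, 0)) (.leaf (34, 746))) (.node (.leaf (37, 732)) (.leaf (40, 702)))) (.node (.node (.leaf (0, 0)) (.leaf (51, 821))) (.leaf (51, 470)))) (.node (.node (.node (.leaf (0, 0)) (.leaf (48, 852))) (.node (.leaf (0, 0)) (.leaf (17, 688)))) (.node (.node (.leaf (0, 0)) (.leaf (41, 745))) (.leaf (0, 0)))))

def certHVia82 : Janko.Tree (ℕ × ℕ) :=
  (.node (.node (.node (.node (.leaf (0, 0)) (.leaf (21, 785))) (.node (.leaf (0, 0)) (.leaf (40, 809)))) (.node (.node (.leaf (0, 0)) (.leaf (0, 0))) (.leaf (0, 0)))) (.node (.node (.node (.leaf (0, 0)) (.leaf (41, 507))) (.node (.leaf (0, 703)) (.leaf (18, 48)))) (.node (.node (.leaf (1, 611)) (.leaf (4, 745))) (.leaf (0, 0)))))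

def certHVia83 : Janko.Tree (ℕ × ℕ) :=
  (.node (.node (.node (.node (.leaf (0, 0)) (.leaf (0, 0))) (.node (.leaf (0, 0)) (.leaf (49, 841)))) (.node (.node (.leaf (46, 397)) (.leaf (10, 698))) (.leaf (38, 505)))) (.node (.node (.node (.leaf (0, 0)) (.leaf (50, 634))) (.node (.leaf (27, 703)) (.leaf (19, 470)))) (.node (.node (.leaf (0, 0)) (.leaf (6, 411))) (.leaf (15, 616)))))

def certHVia84 : Janko.Tree (ℕ × ℕ) :=
  (.node (.node (.node (.node (.leaf (0, 0)) (.leaf (39, 220))) (.node (.leaf (0, 0)) (.leaf (46, 834)))) (.node (.node (.leaf (0, 0)) (.leaf (0, 0))) (.leaf (40, 795)))) (.node (.node (.node (.leaf (0, 0)) (.leaf (0, 0))) (.node (.leaf (0, 0)) (.leaf (20, 213)))) (.node (.node (.leaf (0, 0)) (.leaf (6, 389))) (.leaf (0, 0)))))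

def certHVia85 : Janko.Tree (ℕ × ℕ) :=
  (.node (.node (.node (.node (.leaf (0, 0)) (.leaf (41, 729))) (.node (.leaf (0, 0)) (.leaf (50, 710)))) (.node (.node (.leaf (0, 0)) (.leaf (0, 0))) (.leaf (48, 701)))) (.node (.node (.node (.leaf (0, 0)) (.leaf (49, 606))) (.node (.leaf (0, 0)) (.leaf (21, 735)))) (.node (.node (.leaf (12, 48)) (.leaf (15, 812))) (.leaf (0, 0)))))

def certHVia86 : Janko.Tree (ℕ × ℕ) :=
  (.node (.node (.node (.node (.leaf (0, 0)) (.leaf (0, 0))) (.node (.leaf (39, 711)) (.leaf (35, 490)))) (.node (.node (.leaf (0, 0)) (.leaf (42, 683))) (.leaf (0, 0)))) (.node (.node (.node (.leaf (0, 0)) (.leaf (45, 795))) (.node (.leaf (3, 519)) (.leaf (22, 231)))) (.node (.node (.leaf (1, 246)) (.leaf (50, 768))) (.leaf (51, 837)))))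

def certHVia87 : Janko.Tree (ℕ × ℕ) :=
  (.node (.node (.node (.node (.leaf (0, 0)) (.leaf (11, 596))) (.node (.leaf (0, 0)) (.leaf (39, 663)))) (.node (.node (.leaf (51, 594)) (.leaf (51, 660))) (.leaf (0, 0)))) (.node (.node (.node (.leaf (0, 0)) (.leaf (48, 804))) (.node (.leaf (29, 66)) (.leaf (23, 112)))) (.node (.node (.leaf (0, 0)) (.leaf (51, 817))) (.leaf (51, 524)))))

def certHVia88 : Janko.Tree (ℕ × ℕ) :=
  (.node (.node (.node (.node (.leaf (0, 0)) (.leaf (0, 0))) (.node (.leaf (0, 0)) (.leaf (3, 682)))) (.node (.node (.leaf (0, 0)) (.leaf (49, 612))) (.leaf (0, 0)))) (.node (.node (.node (.leaf (0, 0)) (.leaf (20, 390))) (.node (.leaf (0, 0)) (.leaf (24, 470)))) (.node (.node (.leaf (33, 384)) (.leaf (49, 626))) (.leaf (0, 492)))))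

def certHVia89 : Janko.Tree (ℕ × ℕ) :=
  (.node (.node (.node (.node (.leaf (0, 0)) (.leaf (51, 778))) (.node (.leaf (0, 0)) (.leaf (24, 837)))) (.node (.node (.leaf (0, 0)) (.leaf (37, 815))) (.leaf (41, 429)))) (.node (.node (.node (.leaf (6, 248)) (.leaf (0, 0))) (.node (.leaf (0, 0)) (.leaf (25, 710)))) (.node (.node (.leaf (2, 836)) (.leaf (36, 749))) (.leaf (0, 311)))))

def certHVia90 : Janko.Tree (ℕ × ℕ) :=
  (.node (.node (.node (.node (.leaf (0, 0)) (.leaf (19, 759))) (.node (.leaf (0, 0)) (.leaf (12, 813)))) (.node (.node (.leaf (0, 0)) (.leaf (49, 758))) (.leaf (26, 365)))) (.node (.node (.node (.leaf (10, 570)) (.leaf (19, 708))) (.node (.leaf (0, 365)) (.leaf (26, 97)))) (.node (.node (.leaf (0, 0)) (.leaf (41, 589))) (.leaf (49, 640)))))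

def certHVia91 : Janko.Tree (ℕ × ℕ) :=
  (.node (.node (.node (.node (.leaf (0, 0)) (.leaf (0, 0))) (.node (.leaf (0, 0)) (.leaf (2, 817)))) (.node (.node (.leaf (0, 0)) (.leaf (0, 0))) (.leaf (28, 206)))) (.node (.node (.node (.leaf (0, 0)) (.leaf (28, 552))) (.node (.leaf (2, 389)) (.leaf (27, 39)))) (.node (.node (.leaf (0, 262)) (.leaf (51, 813))) (.leaf (47, 777)))))

def certHVia92 : Janko.Tree (ℕ × ℕ) :=
  (.node (.node (.node (.node (.leaf (32, 734)) (.leaf (0, 0))) (.node (.leaf (0, 0)) (.leaf (3, 814)))) (.node (.node (.leaf (0, 0)) (.leaf (49, 802))) (.leaf (0, 0)))) (.node (.node (.node (.leaf (0, 0)) (.leaf (49, 635))) (.node (.leaf (0, 0)) (.leaf (28, 215)))) (.node (.node (.leaf (4, 729)) (.leaf (14, 750))) (.leaf (51, 777)))))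

def certHVia93 : Janko.Tree (ℕ × ℕ) :=
  (.node (.node (.node (.node (.leaf (0, 0)) (.leaf (47, 691))) (.node (.leaf (0, 0)) (.leaf (0, 0)))) (.node (.node (.leaf (0, 0)) (.leaf (30, 815))) (.leaf (25, 682)))) (.node (.node (.node (.leaf (0, 0)) (.leaf (41, 637))) (.node (.leaf (51, 726)) (.leaf (29, 62)))) (.node (.node (.leaf (0, 0)) (.leaf (48, 625))) (.leaf (0, 0)))))

def certHVia94 : Janko.Tree (ℕ × ℕ) :=
  (.node (.node (.node (.node (.leaf (0, 0)) (.leaf (0, 0))) (.node (.leaf (17, 535)) (.leaf (1, 815)))) (.node (.node (.leaf (0, 0)) (.leaf (0, 0))) (.leaf (0, 431)))) (.node (.node (.node (.leaf (0, 0)) (.leaf (0, 0))) (.node (.leaf (0, 0)) (.leaf (30, 582)))) (.node (.node (.leaf (16, 66)) (.leaf (34, 544))) (.leaf (49, 844)))))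

def certHVia95 : Janko.Tree (ℕ × ℕ) :=
  (.node (.node (.node (.node (.leaf (0, 0)) (.leaf (0, 0))) (.node (.leaf (0, 0)) (.leaf (0, 0)))) (.node (.node (.leaf (0, 0)) (.leaf (0, 0))) (.leaf (11, 591)))) (.node (.node (.node (.leaf (50, 772)) (.leaf (31, 538))) (.node (.leaf (0, 0)) (.leaf (31, 729)))) (.node (.node (.leaf (0, 0)) (.leaf (50, 601))) (.leaf (47, 818)))))

def certHVia96 : Janko.Tree (ℕ × ℕ) :=
  (.node (.node (.node (.node (.leaf (0, 48)) (.leaf (3, 610))) (.node (.leaf (0, 0)) (.leaf (49, 737)))) (.node (.node (.leaf (0, 0)) (.leaf (3, 688))) (.leaf (0, 0)))) (.node (.node (.node (.leaf (0, 0)) (.leaf (51, 838))) (.node (.leaf (0, 607)) (.leaf (32, 322)))) (.node (.node (.leaf (0, 0)) (.leaf (3, 752))) (.leaf (0, 0)))))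

def certHVia97 : Janko.Tree (ℕ × ℕ) :=
  (.node (.node (.node (.node (.leaf (4, 0)) (.leaf (0, 0))) (.node (.leaf (0, 0)) (.leaf (51, 732)))) (.node (.node (.leaf (0, 0)) (.leaf (46, 655))) (.leaf (48, 743)))) (.node (.node (.node (.leaf (0, 0)) (.leaf (0, 0))) (.node (.leaf (0, 0)) (.leaf (33, 1)))) (.node (.node (.leaf (0, 0)) (.leaf (48, 857))) (.leaf (50, 529)))))

def certHVia98 : Janko.Tree (ℕ × ℕ) :=
  (.node (.node (.node (.node (.leaf (0, 0)) (.leaf (0, 0))) (.node (.leaf (0, 0)) (.leaf (5, 390)))) (.node (.node (.leaf (0, 0)) (.leaf (36, 689))) (.leaf (0, 0)))) (.node (.node (.node (.leaf (16, 62)) (.leaf (42, 744))) (.node (.leaf (0, 0)) (.leaf (34, 247)))) (.node (.node (.leaf (0, 0)) (.leaf (50, 753))) (.leaf (49, 683)))))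

def certHVia99 : Janko.Tree (ℕ × ℕ) :=
  (.node (.node (.node (.node (.leaf (4, 132)) (.leaf (0, 0))) (.node (.leaf (2, 305)) (.leaf (38, 759)))) (.node (.node (.leaf (0, 0)) (.leaf (51, 656))) (.leaf (49, 738)))) (.node (.node (.node (.leaf (0, 62)) (.leaf (0, 0))) (.node (.leaf (0, 341)) (.leaf (35, 390)))) (.node (.node (.leaf (0, 0)) (.leaf (11, 444))) (.leaf (39, 700)))))

def certHVia100 : Janko.Tree (ℕ × ℕ) :=
  (.node (.node (.node (.node (.leaf (0, 0)) (.leaf (51, 525))) (.node (.leaf (1, 322)) (.leaf (51, 607)))) (.node (.node (.leaf (0, 0)) (.leaf (46, 690))) (.leaf (30, 824)))) (.node (.node (.node (.leaf (0, 0)) (.leaf (42, 737))) (.node (.leaf (0, 0)) (.leaf (36, 66)))) (.node (.node (.leaf (0, 0)) (.leaf (10, 247))) (.leaf (31, 498)))))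

def certHVia101 : Janko.Tree (ℕ × ℕ) :=
  (.node (.node (.node (.node (.leaf (0, 0)) (.leaf (17, 738))) (.node (.leaf (0, 0)) (.leaf (48, 834)))) (.node (.node (.leaf (0, 0)) (.leaf (35, 606))) (.leaf (0, 0)))) (.node (.node (.node (.leaf (0, 0)) (.leaf (48, 842))) (.node (.leaf (0, 0)) (.leaf (37, 137)))) (.node (.node (.leaf (0, 0)) (.leaf (7, 718))) (.leaf (2, 498)))))

def certHVia102 : Janko.Tree (ℕ × ℕ) :=
  (.node (.node (.node (.node (.leaf (0, 0)) (.leaf (44, 793))) (.node (.leaf (24, 833)) (.leaf (42, 764)))) (.node (.node (.leaf (0, 0)) (.leaf (51, 691))) (.leaf (0, 0)))) (.node (.node (.node (.leaf (0, 0)) (.leaf (18, 436))) (.node (.leaf (0, 0)) (.leaf (38, 66)))) (.node (.node (.leaf (0, 0)) (.leaf (0, 755))) (.leaf (1, 499)))))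

def certHVia103 : Janko.Tree (ℕ × ℕ) :=
  (.node (.node (.node (.node (.leaf (0, 0)) (.leaf (0, 0))) (.node (.leaf (21, 815)) (.leaf (27, 209)))) (.node (.node (.leaf (0, 0)) (.leaf (11, 523))) (.leaf (36, 588)))) (.node (.node (.node (.leaf (0, 0)) (.leaf (41, 318))) (.node (.leaf (28, 409)) (.leaf (39, 36)))) (.node (.node (.leaf (0, 0)) (.leaf (7, 853))) (.leaf (10, 235)))))

def certHVia104 : Janko.Tree (ℕ × ℕ) :=
  (.node (.node (.node (.node (.leaf (16, 97)) (.leaf (50, 783))) (.node (.leaf (0, 0)) (.leaf (49, 795)))) (.node (.node (.leaf (0, 0)) (.leaf (51, 854))) (.leaf (0, 436)))) (.node (.node (.node (.leaf (0, 0)) (.leaf (42, 641))) (.node (.leaf (0, 0)) (.leaf (40, 356)))) (.node (.node (.leaf (24, 244)) (.leaf (22, 365))) (.leaf (40, 500)))))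

def certHVia105 : Janko.Tree (ℕ × ℕ) :=
  (.node (.node (.node (.node (.leaf (0, 0)) (.leaf (7, 591))) (.node (.leaf (0, 0)) (.leaf (37, 376)))) (.node (.node (.leaf (0, 0)) (.leaf (51, 816))) (.leaf (0, 0)))) (.node (.node (.node (.leaf (0, 0)) (.leaf (47, 720))) (.node (.leaf (0, 0)) (.leaf (41, 36)))) (.node (.node (.leaf (28, 607)) (.leaf (0, 854))) (.leaf (35, 416)))))

def certHVia106 : Janko.Tree (ℕ × ℕ) :=
  (.node (.node (.node (.node (.leaf (0, 0)) (.leaf (0, 0))) (.node (.leaf (0, 0)) (.leaf (0, 0)))) (.node (.node (.leaf (36, 767)) (.leaf (0, 693))) (.leaf (0, 0)))) (.node (.node (.node (.leaf (0, 0)) (.leaf (46, 697))) (.node (.leaf (11, 723)) (.leaf (42, 142)))) (.node (.node (.leaf (41, 688)) (.leaf (0, 0))) (.leaf (0, 0)))))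

def certHVia107 : Janko.Tree (ℕ × ℕ) :=
  (.node (.node (.node (.node (.leaf (0, 0)) (.leaf (0, 0))) (.node (.leaf (15, 756)) (.leaf (0, 0)))) (.node (.node (.leaf (0, 0)) (.leaf (39, 130))) (.leaf (4, 364)))) (.node (.node (.node (.leaf (0, 0)) (.leaf (42, 829))) (.node (.leaf (0, 0)) (.leaf (43, 837)))) (.node (.node (.leaf (0, 0)) (.leaf (40, 746))) (.leaf (32, 588)))))

def certHVia108 : Janko.Tree (ℕ × ℕ) :=
  (.node (.node (.node (.node (.leaf (0, 0)) (.leaf (36, 702))) (.node (.leaf (0, 0)) (.leaf (50, 848)))) (.node (.node (.leaf (0, 0)) (.leaf (24, 694))) (.leaf (1, 853)))) (.node (.node (.node (.leaf (0, 0)) (.leaf (0, 0))) (.node (.leaf (0, 0)) (.leaf (44, 775)))) (.node (.node (.leaf (0, 246)) (.leaf (49, 708))) (.leaf (39, 502)))))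

def certHVia109 : Janko.Tree (ℕ × ℕ) :=
  (.node (.node (.node (.node (.leaf (0, 0)) (.leaf (12, 527))) (.node (.leaf (0, 0)) (.leaf (25, 855)))) (.node (.node (.leaf (0, 0)) (.leaf (24, 765))) (.leaf (0, 0)))) (.node (.node (.node (.leaf (0, 0)) (.leaf (11, 390))) (.node (.leaf (8, 0)) (.leaf (45, 597)))) (.node (.node (.leaf (0, 235)) (.leaf (50, 824))) (.leaf (50, 836)))))

def certHVia110 : Janko.Tree (ℕ × ℕ) :=
  (.node (.node (.node (.node (.leaf (0, 0)) (.leaf (3, 567))) (.node (.leaf (0, 0)) (.leaf (0, 0)))) (.node (.node (.leaf (0, 183)) (.leaf (27, 695))) (.leaf (0, 0)))) (.node (.node (.node (.leaf (0, 0)) (.leaf (45, 796))) (.node (.leaf (0, 0)) (.leaf (46, 540)))) (.node (.node (.leaf (0, 0)) (.leaf (3, 759))) (.leaf (0, 0)))))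

def certHVia111 : Janko.Tree (ℕ × ℕ) :=
  (.node (.node (.node (.node (.leaf (0, 0)) (.leaf (44, 813))) (.node (.leaf (35, 681)) (.leaf (10, 853)))) (.node (.node (.leaf (6, 423)) (.leaf (40, 431))) (.leaf (0, 0)))) (.node (.node (.node (.leaf (0, 0)) (.leaf (0, 0))) (.node (.leaf (30, 223)) (.leaf (47, 710)))) (.node (.node (.leaf (4, 354)) (.leaf (50, 801))) (.leaf (19, 545)))))

def certHVia112 : Janko.Tree (ℕ × ℕ) :=
  (.node (.node (.node (.node (.leaf (0, 0)) (.leaf (5, 374))) (.node (.leaf (27, 381)) (.leaf (34, 760)))) (.node (.node (.leaf (0, 0)) (.leaf (23, 555))) (.leaf (3, 440)))) (.node (.node (.node (.leaf (24, 508)) (.leaf (0, 0))) (.node (.leaf (37, 393)) (.leaf (48, 327)))) (.node (.node (.leaf (0, 0)) (.leaf (34, 604))) (.leaf (41, 762)))))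

def certHVia113 : Janko.Tree (ℕ × ℕ) :=
  (.node (.node (.node (.node (.leaf (0, 0)) (.leaf (0, 374))) (.node (.leaf (9, 0)) (.leaf (51, 647)))) (.node (.node (.leaf (4, 474)) (.leaf (40, 723))) (.leaf (0, 578)))) (.node (.node (.node (.leaf (0, 0)) (.leaf (0, 0))) (.node (.leaf (15, 299)) (.leaf (49, 578)))) (.node (.node (.leaf (0, 0)) (.leaf (23, 857))) (.leaf (20, 521)))))

def certHVia114 : Janko.Tree (ℕ × ℕ) :=
  (.node (.node (.node (.node (.leaf (0, 0)) (.leaf (43, 772))) (.node (.leaf (30, 592)) (.leaf (0, 0)))) (.node (.node (.leaf (0, 0)) (.leaf (23, 697))) (.leaf (41, 538)))) (.node (.node (.node (.leaf (0, 0)) (.leaf (50, 750))) (.node (.leaf (10, 213)) (.leaf (50, 740)))) (.node (.node (.leaf (0, 0)) (.leaf (0, 0))) (.leaf (3, 505)))))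

def certHVia115 : Janko.Tree (ℕ × ℕ) :=
  (.node (.node (.node (.node (.leaf (0, 0)) (.leaf (50, 846))) (.node (.leaf (2, 666)) (.leaf (0, 0)))) (.node (.node (.leaf (0, 0)) (.leaf (35, 754))) (.leaf (0, 0)))) (.node (.node (.node (.leaf (0, 0)) (.leaf (0, 0))) (.node (.leaf (0, 0)) (.leaf (51, 608)))) (.node (.node (.leaf (0, 0)) (.leaf (31, 740))) (.leaf (27, 368)))))

def certHVia116 : Janko.Tree (ℕ × ℕ) :=
  (.node (.node (.node (.node (.leaf (0, 0)) (.leaf (11, 570))) (.node (.leaf (0, 0)) (.leaf (23, 703)))) (.node (.node (.leaf (0, 0)) (.leaf (39, 698))) (.leaf (46, 794)))) (.node (.node (.node (.leaf (0, 0)) (.leaf (41, 840))) (.leaf (12, 596))) (.node (.node (.leaf (0, 0)) (.leaf (51, 605))) (.leaf (0, 0)))))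

def certHVia117 : Janko.Tree (ℕ × ℕ) :=
  (.node (.node (.node (.node (.leaf (6, 191)) (.leaf (0, 0))) (.node (.leaf (0, 0)) (.leaf (24, 615)))) (.node (.node (.leaf (0, 0)) (.leaf (35, 588))) (.leaf (0, 0)))) (.node (.node (.node (.leaf (4, 337)) (.leaf (0, 0))) (.leaf (0, 0))) (.node (.node (.leaf (27, 469)) (.leaf (39, 696))) (.leaf (37, 510)))))

def certHVia118 : Janko.Tree (ℕ × ℕ) :=
  (.node (.node (.node (.node (.leaf (0, 0)) (.leaf (12, 571))) (.node (.leaf (50, 780)) (.leaf (0, 0)))) (.node (.node (.leaf (0, 0)) (.leaf (49, 794))) (.leaf (7, 620)))) (.node (.node (.node (.leaf (0, 0)) (.leaf (0, 0))) (.leaf (34, 131))) (.node (.node (.leaf (0, 0)) (.leaf (46, 735))) (.leaf (9, 58)))))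

def certHVia119 : Janko.Tree (ℕ × ℕ) :=
  (.node (.node (.node (.node (.leaf (0, 0)) (.leaf (2, 571))) (.node (.leaf (39, 395)) (.leaf (0, 0)))) (.node (.node (.leaf (27, 231)) (.leaf (0, 0))) (.leaf (12, 600)))) (.node (.node (.node (.leaf (0, 0)) (.leaf (2, 753))) (.leaf (11, 560))) (.node (.node (.leaf (0, 0)) (.leaf (23, 803))) (.leaf (39, 276)))))

def certHVia120 : Janko.Tree (ℕ × ℕ) :=
  (.node (.node (.node (.node (.leaf (0, 0)) (.leaf (25, 381))) (.node (.leaf (0, 0)) (.leaf (25, 724)))) (.node (.node (.leaf (0, 0)) (.leaf (49, 623))) (.leaf (1, 454)))) (.node (.node (.node (.leaf (0, 0)) (.leaf (0, 0))) (.leaf (18, 258))) (.node (.node (.leaf (0, 0)) (.leaf (50, 431))) (.leaf (18, 191)))))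

def certHVia121 : Janko.Tree (ℕ × ℕ) :=
  (.node (.node (.node (.node (.leaf (0, 0)) (.leaf (4, 538))) (.node (.leaf (0, 0)) (.leaf (3, 738)))) (.node (.node (.leaf (0, 0)) (.leaf (0, 529))) (.leaf (0, 0)))) (.node (.node (.node (.leaf (0, 0)) (.leaf (0, 0))) (.leaf (6, 81))) (.node (.node (.leaf (0, 0)) (.leaf (51, 553))) (.leaf (14, 454)))))

def certHVia122 : Janko.Tree (ℕ × ℕ) :=
  (.node (.node (.node (.node (.leaf (0, 0)) (.leaf (40, 573))) (.node (.leaf (0, 0)) (.leaf (4, 829)))) (.node (.node (.leaf (0, 0)) (.leaf (50, 589))) (.leaf (0, 0)))) (.node (.node (.node (.leaf (0, 0)) (.leaf (4, 637))) (.leaf (0, 0))) (.node (.node (.leaf (32, 571)) (.leaf (5, 734))) (.leaf (18, 582)))))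

def certHVia123 : Janko.Tree (ℕ × ℕ) :=
  (.node (.node (.node (.node (.leaf (0, 0)) (.leaf (49, 646))) (.node (.leaf (0, 0)) (.leaf (49, 714)))) (.node (.node (.leaf (29, 108)) (.leaf (0, 0))) (.leaf (0, 0)))) (.node (.node (.node (.leaf (0, 0)) (.leaf (40, 812))) (.leaf (21, 592))) (.node (.node (.leaf (29, 571)) (.leaf (4, 607))) (.leaf (0, 0)))))

def certHVia124 : Janko.Tree (ℕ × ℕ) :=
  (.node (.node (.node (.node (.leaf (0, 0)) (.leaf (0, 0))) (.node (.leaf (0, 0)) (.leaf (51, 785)))) (.node (.node (.leaf (0, 0)) (.leaf (10, 544))) (.leaf (0, 0)))) (.node (.node (.node (.leaf (0, 0)) (.leaf (0, 0))) (.leaf (0, 0))) (.node (.node (.leaf (0, 0)) (.leaf (22, 443))) (.leaf (38, 688)))))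

def certHVia125 : Janko.Tree (ℕ × ℕ) :=
  (.node (.node (.node (.node (.leaf (0, 0)) (.leaf (51, 766))) (.node (.leaf (0, 0)) (.leaf (7, 815)))) (.node (.node (.leaf (0, 0)) (.leaf (26, 295))) (.leaf (44, 737)))) (.node (.node (.node (.leaf (2, 126)) (.leaf (0, 0))) (.leaf (0, 0))) (.node (.node (.leaf (0, 0)) (.leaf (0, 608))) (.leaf (51, 764)))))

def certHVia126 : Janko.Tree (ℕ × ℕ) :=
  (.node (.node (.node (.node (.leaf (0, 0)) (.leaf (40, 383))) (.node (.leaf (0, 0)) (.leaf (35, 863)))) (.node (.node (.leaf (0, 0)) (.leaf (12, 703))) (.leaf (0, 0)))) (.node (.node (.node (.leaf (18, 5)) (.leaf (49, 557))) (.leaf (0, 0))) (.node (.node (.leaf (0, 0)) (.leaf (40, 568))) (.leaf (26, 268)))))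

def certHVia127 : Janko.Tree (ℕ × ℕ) :=
  (.node (.node (.node (.node (.leaf (0, 0)) (.leaf (0, 0))) (.node (.leaf (0, 0)) (.leaf (51, 743)))) (.node (.node (.leaf (0, 0)) (.leaf (12, 253))) (.leaf (0, 0)))) (.node (.node (.node (.leaf (0, 0)) (.leaf (49, 403))) (.leaf (36, 740))) (.node (.node (.leaf (0, 0)) (.leaf (7, 592))) (.leaf (0, 0)))))

def certHVia : Janko.Tree (ℕ × ℕ) :=
  (.node (.node (.node (.node (.node (.node (.node certHVia0 certHVia64) (.node certHVia32 certHVia96)) (.node (.node certHVia16 certHVia80) (.node certHVia48 certHVia112))) (.node (.node (.node certHVia8 certHVia72) (.node certHVia40 certHVia104)) (.node (.node certHVia24 certHVia88) (.node certHVia56 certHVia120)))) (.node (.node (.node (.node certHVia4 certHVia68) (.node certHVia36 certHVia100)) (.node (.node certHVia20 certHVia84) (.node certHVia52 certHVia116))) (.node (.node (.node certHVia12 certHVia76) (.node certHVia44 certHVia108)) (.node (.node certHVia28 certHVia92) (.node certHVia60 certHVia124))))) (.node (.node (.node (.node (.node certHVia2 certHVia66) (.node certHVia34 certHVia98)) (.node (.node certHVia18 certHVia82) (.node certHVia50 certHVia114))) (.node (.node (.node certHVia10 certHVia74) (.node certHVia42 certHVia106))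 (.node (.node certHVia26 certHVia90) (.node certHVia58 certHVia122)))) (.node (.node (.node (.node certHVia6 certHVia70) (.node certHVia38 certHVia102)) (.node (.node certHVia22 certHVia86) (.node certHVia54 certHVia118))) (.node (.node (.node certHVia14 certHVia78) (.node certHVia46 certHVia110)) (.node (.node certHVia30 certHVia94) (.node certHVia62 certHVia126)))))) (.node (.node (.node (.node (.node (.node certHVia1 certHVia65) (.node certHVia33 certHVia97)) (.node (.node certHVia17 certHVia81) (.node certHVia49 certHVia113))) (.node (.node (.node certHVia9 certHVia73) (.node certHVia41 certHVia105)) (.node (.node certHVia25 certHVia89) (.node certHVia57 certHVia121)))) (.node (.node (.node (.node certHVia5 certHVia69) (.node certHVia37 certHVia101)) (.node (.node certHVia21 certHVia85) (.node certHVia53 certHVia117))) (.node (.node (.node certHVia13 certHVia77) (.node certHVia45 certHVia109)) (.node (.node certHVia29 certHVia93) (.node certHVia61 certHVia125))))) (.node (.node (.node (.node (.node certHVia3 certHVia67) (.node certHVia35 certHVia99)) (.node (.node certHVia19 certHVia83) (.node certHVia51 certHVia115))) (.node (.node (.node certHVia11 certHVia75) (.node certHVia43 certHVia107)) (.node (.node certHVia27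 certHVia91) (.node certHVia59 certHVia123)))) (.node (.node (.node (.node certHVia7 certHVia71) (.node certHVia39 certHVia103)) (.node (.node certHVia23 certHVia87) (.node certHVia55 certHVia119))) (.node (.node (.node certHVia15 certHVia79) (.node certHVia47 certHVia111)) (.node (.node certHVia31 certHVia95) (.node certHVia63 certHVia127)))))))

def certHRels : List (List Bool) :=
  [
   [false, true, false, true, false, true],
   [false, false, false, false, false, false, false],
   [true, true, true, true, true, true, true],
   [false, false, true, false, false, true, false, false, true, false, false, true],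
   [false, true, true, false, true, true, false, true, true, false, true, true],
   [false, false, false, true, false, true, false, false, false, true, false, true, false, false, false, true, false, true],
   [false, true, false, true, true, true, false, true, false, true, true, true, false, true, false, true, true, true],
   [false, false, false, true, true, false, false, false, true, true, false, false, false, true, true, false, false, false, true, true],
   [false, false, true, true, true, false, false, true, true, true, false, false, true, true, true, false, false, true, true, true],
   [false, false, false, false, false, false, true, false, false, false, false, false, false, true, false, false, false, false, false, false, true],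
   [false, false, false, false, false, true, true, false, false, false, false, false, true, true, false, false, false, false, false, true, true],
   [false, false, true, true, true, true, true, false, false, true, true, true, true, true, false, false, true, true, true, true, true],
   [false, true, true, true, true, true, true, false, true, true, true, true, true, true, false, true, true, true, true, true, true],
   [false, false, true, true, false, false, true, true, false, false, true, true, false, false, true, true, false, false, true, true, false, false, true, true],
   [false, false, true, false, true, true, false, false, true, false, true, true, false, false, true, false, true, true, false, false, true, false, true, true],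
   [false, false, true, true, false, true, false, false, true, true, false, true, false, false, true, true, false, true, false, false, true, true, false, true],
   [false, false, true, false, true, false, true, true, false, false, true, false, true, false, true, true, false, false, true, false, true, false, true, true],
   [false, false, true, true, false, true, false, true, false, false, true, true, false, true, false, true, false, false, true, true, false, true, false, true],
   [false, false, false, false, false, false, false, false, true, false, false, false, false, false, false, false, false, true, false, false, false, false, false, false, false, false, true],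
   [false, false, false, true, false, false, true, false, true, false, false, false, true, false, false, true, false, true, false, false, false, true, false, false, true, false, true],
   [false, false, false, true, false, true, false, false, true, false, false, false, true, false, true, false, false, true, false, false, false, true, false, true, false, false, true],
   [false, false, false, true, true, false, false, true, true, false, false, false, true, true, false, false, true, true, false, false, false, true, true, false, false, true, true],
   [false, false, true, false, false, true, false, true, true, false, false, true, false, false, true, false, true, true, false, false, true, false, false, true, false, true, true],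
   [false, false, true, false, false, true, true, false, true, false, false, true, false, false, true, true, false, true, false, false, true, false, false, true, true, false, true],
   [false, false, true, false, true, true, false, true, true, false, false, true, false, true, true, false, true, true, false, false, true, false, true, true, false, true, true],
   [false, false, true, true, false, false, true, true, true, false, false, true, true, false, false, true, true, true, false, false, true, true, false, false, true, true, true],
   [false, false, true, true, false, true, true, false, true, false, false, true, true, false, true, true, false, true, false, false, true, true, false, true, true, false, true],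
   [false, true, false, true, true, false, true, true, true, false, true, false, true, true, false, true, true, true, false, true, false, true, true, false, true, true, true],
   [false, true, false, true, true, true, false, true, true, false, true, false, true, true, true, false, true, true, false, true, false, true, true, true, false, true, true],
   [false, true, true, true, true, true, true, true, true, false, true, true, true, true, true, true, true, true, false, true, true, true, true, true, true, true, true],
   [false, false, false, false, true, true, true, false, false, false, false, true, true, true, false, false, false, false, true, true, true, false, false, false, false, true, true, true],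
   [false, false, false, true, true, true, true, false, false, false, true, true, true, true, false, false, false, true, true, true, true, false, false, false, true, true, true, true],
   [false, false, true, false, true, false, false, true, false, true, false, false, true, false, true, false, false, true, false, true, false, false, true, false, true, false, false, true, false, true, false, false, true, false, true],
   [false, true, false, true, true, false, true, false, true, true, false, true, false, true, true, false, true, false, true, true, false, true, false, true, true, false, true, false, true, true, false, true, false, true, true],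
   [false, false, false, false, false, true, true, true, true, false, false, false, false, false, true, true, true, true, false, false, false, false, false, true, true, true, true, false, false, false, false, false, true, true, true, true],
   [false, false, false, false, true, true, true, true, true, false, false, false, false, true, true, true, true, true, false, false, false, false, true, true, true, true, true, false, false, false, false, true, true, true, true, true],
   [false, false, false, true, false, true, false, true, true, false, false, false, true, false, true, false, true, true, false, false, false, true, false, true, false, true, true, false, false, false, true, false, true, false, true, true],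
   [false, false, false, true, true, false, true, false, true, false, false, false, true, true, false, true, false, true, false, false, false, true, true, false, true, false, true, false, false, false, true, true, false, true, false, true],
   [false, false, true, false, true, false, true, false, true, false, false, true, false, true, false, true, false, true, false, false, true, false, true, false, true, false, true, false, false, true, false, true, false, true, false, true],
   [false, false, true, false, true, false, true, true, true, false, false, true, false, true, false, true, true, true, false, false, true, false, true, false, true, true, true, false, false, true, false, true, false, true, true, true],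
   [false, false, true, true, true, false, true, false, true, false, false, true, true, true, false, true, false, true, false, false, true, true, true, false, true, false, true, false, false, true, true, true, false, true, false, true],
   [false, true, false, true, false, true, false, true, true, false, true, false, true, false, true, false, true, true, false, true, false, true, false, true, false, true, true, false, true, false, true, false, true, false, true, true],
   [false, false, false, true, true, true, false, false, false, true, true, true, false, false, false, true, true, true, false, false, false, true, true, true, false, false, false, true, true, true, false, false, false, true, true, true, false, false, false, true, true, true],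
   [false, false, false, true, false, false, false, true, false, false, false, true, false, false, false, true, false, false, false, true, false, false, false, true, false, false, false, true, false, false, false, true, false, false, false, true, false, false, false, true, false, false, false, true, false, false, false, true],
   [false, true, true, true, false, true, true, true, false, true, true, true, false, true, true, true, false, true, true, true, false, true, true, true, false, true, true, true, false, true, true, true, false, true, true, true, false, true, true, true, false, true, true, true, false, true, true, true],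
   [false, false, false, false, false, true, false, false, false, false, false, true, false, false, false, false, false, true, false, false, false, false, false, true, false, false, false, false, false, true, false, false, false, false, false, true, false, false, false, false, false, true, false, false, false, false, false, true],
   [false, false, false, false, true, true, false, false, false, false, true, true, false, false, false, false, true, true, false, false, false, false, true, true, false, false, false, false, true, true, false, false, false, false, true, true, false, false, false, false, true, true, false, false, false, false, true, true],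
   [false, false, true, true, true, true, false, false, true, true, true, true, false, false, true, true, true, true, false, false, true, true, true, true, false, false, true, true, true, true, false, false, true, true, true, true, false, false, true, true, true, true, false, false, true, true, true, true],
   [false, true, true, true, true, true, false, true, true, true, true, true, false, true, true, true, true, true, false, true, true, true, true, true, false, true, true, true, true, true, false, true, true, true, true, true, false, true, true, true, true, true, false, true, true, true, true, true],
   [false, false, false, false, true, false, false, true, false, false, false, false, true, false, false, true, false, false, false, false, true, false, false, true, false, false, false, false, true, false, false, true, false, false, false, false, true, false, false, true, false, false, false, false, true, false, false, true],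
   [false, false, true, false, true, true, false, true, false, false, true, false, true, true, false, true, false, false, true, false, true, true, false, true, false, false, true, false, true, true, false, true, false, false, true, false, true, true, false, true, false, false, true, false, true, true, false, true],
   [false, true, true, false, true, true, true, true, false, true, true, false, true, true, true, true, false, true, true, false, true, true, true, true, false, true, true, false, true, true, true, true, false, true, true, false, true, true, true, true, false, true, true, false, true, true, true, true]]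

def certHCombos : List (List ℤ × List (ℤ × (ℕ × ℕ))) :=
  [
   ([7, 0, 0, 0, 0, 0, 0, 0, 0, 0],
    [((-1743982084163528882654063241750696470892854930592560391182524052386922676441520149769266545032016938465461969962637611832797299307150236759160), (0, 228)), ((-22115302896981452118804537011530409424510839408088903354660075884154530601018279242138776251365341181836118786084496213906), (28, 6)), ((-348796416832705776558456776971366109327076657382925090017139426498112427169570843422082769205871738358270603969292025319051117921275004176547), (0, 20)), ((-348796416832705776515147642131444098927751105735344704894142199717112591097430960067423212878959289399771311247379660527503105582694804057714), (4, 255)), ((-7953830723912443255420888519198608122306), (21, 36)), (697592833665411553057939412884115013004007882735102421568922367836199546384296551494074485182975573670734477167128192050479114195405904900685, (9, 360)), (871991042081764441280036602219262649693967824146778075564173463690987858214678568258986853609290529177802008594064878111729182385019932462538, (14, 132)), (49759431518208267267310208275943421205149471647933856119969522667342708684607678816037240442672604426077369363873342093809, (3, 147)), (44230605793962904237609074023060818849024666086595455300756821176129595165432379769741671558596317942153573584723889249458,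 (20, 113)), (697592833665411553053332058113910543812590270857700252938817367444944996171140410448790045929197550698364242929167779284101580029130656508306, (16, 360)), ((-348796416832705776505932932591035160544915881980540367633929045704718194935713304713043770743374320874582610477171952522761286562667151343064), (1, 172)), ((-42387663885881116561042029272099951396980906759736575489426103884521505018810298043059670761057202449867997984229757629790), (11, 15)), (11057651448490726059402268505765204712255917582447393109236149510047354294408443169972379755645683729901763481667832264278, (26, 38)), ((-331918935294287937407711980059329266202355330220121425417752094618033485578608476), (25, 73))]),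
   ([0, 7, 0, 0, 0, 0, 0, 0, 0, 0],
    [(615462550733156257492246969487458997022590725545294059293383146079339245591153954854177387956675383262841216070224894012119795568886831696080, (0, 228)), (123092510146631251508205185581657031888485307182223933855556387484665711351924620946544232094512184175734822848780981518673498928133354507654, (0, 20)), ((-307731275366578128729538638880648603288551187248266322251992555402105429251712959535941256999137704150217749587587151646730360878352646486482), (14, 132)), ((-15609266694664371974347459317064195195010888362081870444921498437085282192900842971888696000306249176097237266981769771022), (20, 113)), ((-246185020293262502993972050289734029063846141596168087118288671473514444444615449551976723746544905099662862868796665609304025813257826483494), (16, 360)), (14958880582386689808749648512186520395218392201244637948039225214998442862644147675890102583842518660689977766303790280930, (11, 15)), (117136337814408834455310298686516016361610683197054626188436757129659766686747684, (25, 73)), (7804633347332185987173729658532097597504917067520770382705700322198551774376794222431690732865090607293354697620237564334, (28, 6)), ((-246185020293262502995598015570428234477840668608362274117768359819131484769764599745736225734969851950037824948854097744819735573768805277955),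 (9, 360)), (123092510146631251492921111943131500996936753267598576060443709236660848503421385568005368710013746005872996726550318044569587144249802990446, (4, 255)), (2806958276630942911881487357621919446654, (21, 36)), ((-17560425031497418471140891731697219594386092686006186963296439552521413121351877379282958061239986224606687944800890910111), (3, 147)), (123092510146631251489669181381743090168947699243210202061483219750217530969195759732648842831008416931353524924239883643397136396679895547176, (1, 172)), ((-3902316673666092993586864829266048798752634238267106804604533126547305661212939532854557501633713782545346553703987797002), (26, 38))]),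
   ([0, 0, 7, 0, 0, 0, 0, 0, 0, 0],
    [(34120181882747989526807141549538093644307634828964248215316415148965462495855026029114091175968118290950545008465097079533017680956119290596, (0, 228)), (6824036376549597905902272568063366319845906833804838280577388664790945309537181988299038591883903727498966418166845477799170686422494286722, (0, 20)), ((-17060090941373994762484135535904275917480371638861743423884037920393216718052569149090181702053138022250629745774080552173231389878302222203), (14, 132)), ((-865350813049196145575007788819181820022750583663967519236320694592420908812619012838548710353358161499769907693763168364), (20, 113)), ((-13648072753099195810560603342368513180427739971182102694872297808787563095950255908590555172266107422595313309056405862417170949313548431963), (16, 360)), (829294529172146306176049130951715910855115141619328504301396933708792286607191637514822713649964360628012608694814898030, (11, 15)), (6493836459335574049994371619039274255038816389236194255360645868158470399099848, (25, 73)), (432675406524598072787503894409590910011346069567916749534935372623924777672161830889651712055417993912758654490817545830, (28, 6)), ((-13648072753099195810650744052061137778925136615850767467791300370566074436931402885375674457395796593922599603198862766527252385378591757585),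 (9, 360)), (6824036376549597905054949896952695093970378373919389415138564573909991168633660579873050902017770312203156527039617643949686390184544185722, (4, 255)), (155612923681293084351039924770776016188, (21, 36)), ((-973519664680345663771883762421579547525530279986927520347117086996735509580927877883103809882263109481334651670343115479), (3, 147)), (6824036376549597904874668477567445896975585084582059869300497758906604798717891679772431458652969096785853410115980987554497949738183669072, (1, 172)), ((-216337703262299036393751947204795455005682775538647378128542677869390947747463473980635557681678206627261414492559455064), (26, 38))]),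
   ([0, 0, 0, 7, 0, 0, 0, 0, 0, 0],
    [(7936027013948196566419095009617591062969315922252447858486361445986852426632324627114149175299233533531755986640744116959958617672597561140, (0, 228)), (1587205402789639313409614188414977245133205432249747918938504588483108986810831581101370617216442452461775861698080073662571754372759731352, (0, 20)), ((-3968013506974098282995695687773315176167776139867484738933041604680558497937651438812654482406075838817331554243992601765724250174095725684), (14, 132)), ((-201272298386334452062947596478813355586013909754962909837516481000307741547652453417710312637729734203672295635543497396), (20, 113)), ((-3174410805579278626529899447899598715425923694561201639222166385034108520314413739918941597874479037248031318381200626314005927076457896316), (16, 360)), (192885952620237183226991446625529465769925150968783362219383794623644537877008370538683717782666218838056923169530576345, (11, 15)), (1510404069431597372311584929988916205266678796871466491315623779489740528970512, (25, 73)), (100636149193167226031473798239406677793000158059169012730582838367968920650902526455201831250377066705843376436565808797, (28, 6)), ((-3174410805579278626550865312314841887515814069194411363762368269145637420694562327360277253911369460331715752331237378799535340675183534075),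 (9, 360)), (1587205402789639313212535062911691427488235910697576508260560357389398830038367662336971791850550259611031769260001705758276068734627512508, (4, 255)), (36194073358050341834360921372513740472, (21, 36)), ((-226431335684626258570816046038665025034250733234147636543154464224162568693582000886253714636543323402024637751038518408), (3, 147)), (1587205402789639313170603334081205083308455161431157059180142240327681429103033527397465585072819379063095233458464400126518363659922199968, (1, 172)), ((-50318074596583613015736899119703338896502344635688653761349886561379443699759163318184369541026190457312765574103841111), (26, 38))]),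
   ([0, 0, 0, 0, 7, 0, 0, 0, 0, 0],
    [(627750614904821780488357074608028848652092614491652520884369689270760255881252325527583555918846819542216296412065399336921565177833099185, (0, 228)), (125550122980964356107621986603542790393602245727015227666066929354313814165219892136227273686994736499507696064695854197287276137066953712, (0, 20)), ((-313875307452410890227262565444721489198633978437062230510553262050911497561896337831572095923240292397928161541300196950067459306870761839), (14, 132)), ((-15920914691099233061093956525895557582712126922160221089750847495161083566088903314005643289183892996753849381624470287), (20, 113)), ((-251100245961928712192357658338630433261881928948055591306989305613824068315228532977889060717857726557222766498520767652075592761579608734), (16, 360)), (15257543245636765016881708337316576016765404984675111997387924952676930563735354541696694956548085398240783091414130050, (11, 15)), (119475032238923726744071746215434940211261165611492476873965962706141038016354, (25, 73)), (7960457345549616530546978262947778791355525823435035388105075424722572325813500966011065447588088858304425825904484656, (28, 6)), ((-251100245961928712194016086952286603372412549419503045221854527413359675306756480383462088710783799228521896103029531674945038287842089580),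 (9, 360)), (125550122980964356092032757635174791354614413295409160866330164607686149594073469114057375157331146374760195257819878289368021714936740436, (4, 255)), (2863000814701440871498240223679395799, (21, 36)), ((-17911029027486637193730701091632502280549962971486889354168105723562341591815429964480793205230171014940592742269730273), (3, 147)), (125550122980964356088715900407862451133553172352514253036598585995808665835613505621322272539546993977366355891709945125903736562806181556, (1, 172)), ((-3980228672774808265273489131473889395677942124265876079642653819980609315317067380479951591912237121092752571868058457), (26, 38))]),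
   ([0, 0, 0, 0, 0, 7, 0, 0, 0, 0],
    [(45091652907761258225057291184092772871882453801941382912334493300151770225846639256625166518987585259462647109009553952763880142304267448, (0, 228)), (9018330581552251645726212971999071083781840387675963999542584535388024733160170698769672650136132415611962731592067935213528364166866708, (0, 20)), ((-22545826453880629111313562542239508369952132534581622847138329468184323451125934777413744427163890728740298911948081355247172708037562471), (14, 132)), ((-1143607576288826415048559403660299867321337351996504768782415115747191192671917537739195934146848273934860843346031838), (20, 113)), ((-18036661163104503289808490053082954195931376632590246939811043241054321608876185225674350941643211705615412764181627381236371865460998289), (16, 360)), (1095957260610125314421536095174454039516254095228669599834318948985678287161177417206841249601197436936031574916458557, (11, 15)), (8581953656354363271336188689851163452536974245894480720962911656006471040776, (25, 73)), (571803788144413207524279701830149933660630057206798789756486545024491266100422351354411841663181927349147365532441959, (28, 6)), ((-18036661163104503289927615842279706947498934903804861509323637672087962835933080438077992677504315888515770800179867417820619980296777698),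 (9, 360)), (9018330581552251644606430553549595219046792638258587046123932559499181484436598547563792917207414945285033793253119853580131228957925894, (4, 255)), (205650836408545068457423823094707356, (21, 36)), ((-1286558523324929716929629329117837350736419774203711365542912560352277811516813423042956007889706495375393077760742072), (3, 147)), (9018330581552251644368178975156089715911676095829357907098662168872163663871730428963955859432407472933472686169755119972239493122765264, (1, 172)), ((-285901894072206603762139850915074966830327901533883926423150276795280409795389981549876435369762544956905338662196857), (26, 38))]),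
   ([0, 0, 0, 0, 0, 0, 7, 0, 0, 0],
    [(34632605919966486514850458582930951256337818743213215477955132757574732657084079299045352591557321196386044798977308650004870024505286, (0, 228)), (6926521183993297303519058487078565826777223593954387953119494216744601849113326770233577365982741182038691722544268833743988979251305, (0, 20)), ((-17316302959983243256491985781628437149802487634576641481178978418723740546686803098058656345278921910919188978718284170698290934315752), (14, 132)), ((-878346832787800920815455752498791772045732558856105846883664377917213632477034498955108192239403637701761370743295), (20, 113)), ((-13853042367986594605775493402024667829882229543691762733923475694091499299565277152979703321841472378554924130039057449639516982837656), (16, 360)), (841749048088309215781478429478008781543805888283199113233361461635186481738347951902813622123659128562360635407295, (11, 15)), (6591362255269619787085881187506301966787326492381757751099696538496039370, (25, 73)), (439173416393900460407727876249395886022836618297904210152790302493263037879666705639613646836643293868838056974209, (28, 6)), ((-13853042367986594605866987863773397092467172851243720210178205034973883811228855555759036740187128811404743583444456084244705174061060),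 (9, 360)), (6926521183993297302659010546640510758478756502965987676324835398492725135186247538967268039432993654180606413332707225016722301060830, (4, 255)), (157949951158759741154112617494595, (21, 36)), ((-988140186886276035917387721561140743551384039010848290248724952080138711804741783178179215972427386319063003497754), (3, 147)), (6926521183993297302476021623143052233308869887862072723815314098786531050471113417537319892872996304812078637485211173970830305754180, (1, 172)), ((-219586708196950230203863938124697943011428196192335009506075780068412778392783534125445298372467778787452007535350), (26, 38))]),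
   ([0, 0, 0, 0, 0, 0, 0, 7, 0, 0],
    [(82995785527200687667659449242474204138277659095497562563017263221030005913258146552916661338417014011520081518086499384614, (0, 228)), (16599157105440137534847468827756049594099697122343899871696287521422936706592948702153983125500803759779501347230132283510, (0, 20)), ((-41497892763600343831593240356493047166183748532233322771050349971471435663804537436021357714437156978460589919532833607675), (14, 132)), ((-2104926366817934026310664485191019774548977458613129027694400359566734137852229790531516654849181935552), (20, 113)), ((-33198314210880275066669106003211319025377814047225708817478965893987202064835595674042669196873913429992139741789448707126), (16, 360)), (2017221101533853441881053464974727283942719385796445124801527039498451726332996603017124906611226235449, (11, 15)), (15795960873826516033237948987581020900866169500690771211564328, (25, 73)), (1052463183408967013155332242595509887274417647482632294525050609012922954332060995421137869617432408424, (28, 6)), ((-33198314210880275066888369166421520486451841597766440043994401779547333620730338571389289777145059915550057076503766702240), (9, 360)), (16599157105440137532786395093580155860003838147261026342450703681562786224488541738266932175508280094954585485077189023650,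 (4, 255)), (378521336243037549068, (21, 36)), ((-2368042162670175779599497545839897246367443655826141119310372179766323542502362453022504021266206642952), (3, 147)), (16599157105440137532347868767159752937855783046179563889419681848814221760796740183058308995267428885481569845063826283792, (1, 172)), ((-526231591704483506577666121297754943637232517682626887036575161429942848697381797721862643451608648841), (26, 38))]),
   ([0, 0, 0, 0, 0, 0, 0, 0, 7, 0],
    [((-1315578979261208766527579083338401213366632544144675852450801467490365313960618622852347995673855414977), (0, 228)), ((-263115795852241753326369261691183706241700969969481196889352478342299437296960416046177889298499594339), (0, 20)), (657789489630604383228338685129244718617079688133409681346766690764209814722498494384109776190234992986, (14, 132)), (33365512037605541709399137824873642238714496493236836603177477296314309331292051173, (20, 113)), (526231591704483506604775599828309446276140679315706533060561521879783355989008162715212788339868969564, (16, 360)), ((-31975282369371977471507507082170573812100589156682459768899896783656511645250889608), (11, 15)), ((-250384208678018434863052045101754983062676), (25, 73)), ((-16682756018802770854699568912436821119356121517679367218631854913954196768222243511),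 (28, 6)), (526231591704483506608251173998893356870869756172464204127092972630404314330440178557259684301446292913, (9, 360)), ((-263115795852241753293698864487694946651247647515959088863949129452835145919705685127947933206194424126), (4, 255)), ((-6), (21, 36)), (37536201042306234423074030052982847518551336010830745746530389319408218167245813525, (3, 147)), ((-263115795852241753286747716146527125461789493802443746730883849301610788061710454449425674610700681864), (1, 172)), (8341378009401385427349784456218410559678436335152700636968222035044751016585715780, (26, 38))]),
   ([0, 0, 0, 0, 0, 0, 0, 0, 0, 7],
    [((-219263163210201461087929847223066868894438757357445975408466911248394218993436437142057999278975902481), (0, 228)), ((-43852632642040292221061543615197284373616828328246866148225413057049906216160069341029648216416599054), (0, 20)), (109631581605100730538056447521540786436179948022234946891127781794034969120416415730684962698372498834, (14, 132)), (5560918672934256951566522970812273706452416082206139433862912882719051555215341861, (20, 113)), (87705265284080584434129266638051574379356779885951088843426920313297225998168027119202131389978161589, (16, 360)), ((-5329213728228662911917917847028428968683431526113743294816649463942751940875148262),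 (11, 15)), ((-41730701446336405810508674183625830510446), (25, 73)), ((-2780459336467128475783261485406136853226020252946561203105309152325699461370373918), (28, 6)), (87705265284080584434708528999815559478478292695410700687848828771734052388406696426209947383574382150, (9, 360)), ((-43852632642040292215616477414615824441874607919326514810658188242139190986617614187991322201032404022), (4, 255)), ((-1), (21, 36)), (6256033507051039070512338342163807919758556001805124291088398219901369694540968915, (3, 147)), ((-43852632642040292214457952691087854243631582300407291121813974883601798010285075741570945768450113644), (1, 172)), (1390229668233564237891630742703068426613072722525450106161370339174125169430952630, (26, 38))])]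

/-- The certificate. -/
def certH : CentralTable.Cert where
  deg := 100
  m0 := 7
  m1 := 7
  N := 864
  rels := certHRels
  P := 10
  g0 := 825292516840666061222984290628879628555170207652449024296376126345096341136559109994105316419068673188008625451470733649534046760093993754213469089289608604640821307004212943544886797619544471723409884754170240
  g1 := 1702735042742670056156981895300359635345644653679565078146916351386040445736633697408223455740990694672896959725287099595260697148551524791484758144587525210686603426893036229412527842926530919212511831265476864
  h0 := 825292516840666061222984290628879628555170207652449024296376126345096341136559109994105316419068673188008625451470733649534046760093993754213469089289608604640821307004212943544886797619544471723409884754170240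
  h1 := 825292516840666061222984290628879628555170207652449024296376126345096341136559109994105316419068673188008625451470733649534046760093993754213469089289608604640821307004212943544886797619544471723409884754170240
  next := certHNext
  lab := certHLab
  word := certHWord
  perm := certHPerm
  par := certHPar
  L := certHL
  kind := certHKind
  rank := certHRank
  via := certHVia
  pv := [1728, 21, 132, 301, 97, 293, 271, 274, 749, 625]
  combos := certHCombos

def certJNext0 : Janko.Tree (ℕ) :=
  (.node (.node (.node (.node (.leaf 1) (.leaf 81)) (.node (.leaf 46) (.leaf 93))) (.node (.node (.leaf 26) (.leaf 67)) (.leaf 66))) (.node (.node (.node (.leaf 15) (.leaf 74)) (.leaf 57)) (.node (.node (.leaf 35) (.leaf 89)) (.leaf 30))))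

def certJNext1 : Janko.Tree (ℕ) :=
  (.node (.node (.node (.node (.leaf 2) (.leaf 29)) (.node (.leaf 44) (.leaf 92))) (.node (.node (.leaf 27) (.leaf 51)) (.leaf 67))) (.node (.node (.node (.leaf 16) (.leaf 72)) (.leaf 35)) (.node (.node (.leaf 36) (.leaf 94)) (.leaf 74))))

def certJNext2 : Janko.Tree (ℕ) :=
  (.node (.node (.node (.node (.leaf 3) (.leaf 52)) (.node (.leaf 47) (.leaf 88))) (.node (.node (.leaf 28) (.leaf 40)) (.leaf 68))) (.node (.node (.node (.leaf 12) (.leaf 18)) (.leaf 58)) (.node (.node (.leaf 37) (.leaf 85)) (.leaf 75))))

def certJNext3 : Janko.Tree (ℕ) :=
  (.node (.node (.node (.node (.leaf 4) (.leaf 82)) (.node (.leaf 48) (.leaf 98))) (.node (.node (.leaf 25) (.leaf 58)) (.leaf 69))) (.node (.node (.node (.leaf 15) (.leaf 85)) (.leaf 13)) (.node (.node (.leaf 0) (.leaf 95)) (.leaf 68))))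

def certJNext4 : Janko.Tree (ℕ) :=
  (.node (.node (.node (.node (.leaf 5) (.leaf 31)) (.node (.leaf 49) (.leaf 97))) (.node (.node (.leaf 29) (.leaf 14)) (.leaf 45))) (.node (.node (.node (.leaf 17) (.leaf 83)) (.leaf 59)) (.node (.node (.leaf 38) (.leaf 96)) (.leaf 60))))

def certJNext5 : Janko.Tree (ℕ) :=
  (.node (.node (.node (.node (.leaf 6) (.leaf 80)) (.node (.leaf 1) (.leaf 99))) (.node (.node (.leaf 30) (.leaf 81)) (.leaf 70))) (.node (.node (.node (.leaf 18) (.leaf 86)) (.leaf 60)) (.node (.node (.leaf 34) (.leaf 97)) (.leaf 66))))

def certJNext6 : Janko.Tree (ℕ) :=
  (.node (.node (.node (.node (.leaf 7) (.leaf 48)) (.node (.leaf 50) (.leaf 90))) (.node (.node (.leaf 21) (.leaf 16)) (.leaf 22))) (.node (.node (.node (.leaf 4) (.leaf 77)) (.leaf 61)) (.node (.node (.leaf 39) (.leaf 95)) (.leaf 76))))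

def certJNext7 : Janko.Tree (ℕ) :=
  (.node (.node (.node (.node (.leaf 8) (.leaf 63)) (.node (.leaf 46) (.leaf 75))) (.node (.node (.leaf 31) (.leaf 38)) (.leaf 65))) (.node (.node (.node (.leaf 19) (.leaf 61)) (.leaf 53)) (.node (.node (.leaf 40) (.leaf 96)) (.leaf 77))))

def certJNext8 : Janko.Tree (ℕ) :=
  (.node (.node (.node (.node (.leaf 9) (.leaf 70)) (.leaf 51)) (.node (.node (.leaf 2) (.leaf 64)) (.leaf 36))) (.node (.node (.node (.leaf 20) (.leaf 79)) (.leaf 62)) (.node (.node (.leaf 41) (.leaf 94)) (.leaf 71))))

def certJNext9 : Janko.Tree (ℕ) :=
  (.node (.node (.node (.node (.leaf 10) (.leaf 83)) (.leaf 52)) (.node (.node (.leaf 20) (.leaf 91)) (.leaf 47))) (.node (.node (.node (.leaf 21) (.leaf 87)) (.leaf 28)) (.node (.node (.leaf 5) (.leaf 43)) (.leaf 50))))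

def certJNext10 : Janko.Tree (ℕ) :=
  (.node (.node (.node (.node (.leaf 11) (.leaf 8)) (.leaf 53)) (.node (.node (.leaf 0) (.leaf 92)) (.leaf 55))) (.node (.node (.node (.leaf 19) (.leaf 84)) (.leaf 63)) (.node (.node (.leaf 42) (.leaf 87)) (.leaf 78))))

def certJNext11 : Janko.Tree (ℕ) :=
  (.node (.node (.node (.node (.leaf 9) (.leaf 56)) (.leaf 11)) (.node (.node (.leaf 17) (.leaf 57)) (.leaf 71))) (.node (.node (.node (.leaf 22) (.leaf 88)) (.leaf 64)) (.node (.node (.leaf 37) (.leaf 59)) (.leaf 79))))

def certJNext12 : Janko.Tree (ℕ) :=
  (.node (.node (.node (.node (.leaf 6) (.leaf 82)) (.leaf 54)) (.node (.node (.leaf 32) (.leaf 86)) (.leaf 72))) (.node (.node (.node (.leaf 23) (.leaf 27)) (.leaf 65)) (.node (.node (.leaf 43) (.leaf 98)) (.leaf 80))))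

def certJNext13 : Janko.Tree (ℕ) :=
  (.node (.node (.node (.node (.leaf 12) (.leaf 78)) (.leaf 55)) (.node (.node (.leaf 33) (.leaf 54)) (.leaf 39))) (.node (.node (.node (.leaf 24) (.leaf 89)) (.leaf 3)) (.node (.node (.leaf 26) (.leaf 76)) (.leaf 7))))

def certJNext14 : Janko.Tree (ℕ) :=
  (.node (.node (.node (.node (.leaf 13) (.leaf 10)) (.leaf 56)) (.node (.node (.leaf 34) (.leaf 91)) (.leaf 69))) (.node (.node (.node (.leaf 25) (.leaf 73)) (.leaf 24)) (.node (.node (.leaf 44) (.leaf 99)) (.leaf 33))))

def certJNext15 : Janko.Tree (ℕ) :=
  (.node (.node (.node (.node (.leaf 14) (.leaf 84)) (.leaf 49)) (.node (.node (.leaf 32) (.leaf 93)) (.leaf 73))) (.node (.node (.node (.leaf 23) (.leaf 90)) (.leaf 62)) (.node (.node (.leaf 45) (.leaf 42)) (.leaf 41))))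

def certJNext : Janko.Tree (ℕ) :=
  (.node (.node (.node (.node certJNext0 certJNext8) (.node certJNext4 certJNext12)) (.node (.node certJNext2 certJNext10) (.node certJNext6 certJNext14))) (.node (.node (.node certJNext1 certJNext9) (.node certJNext5 certJNext13)) (.node (.node certJNext3 certJNext11) (.node certJNext7 certJNext15))))

def certJLab0 : Janko.Tree (List Bool) :=
  (.node (.node (.node (.node (.leaf []) (.leaf [])) (.node (.leaf []) (.leaf [false, true, false, true, true, false, false, true, false]))) (.node (.node (.leaf []) (.leaf [false, false, false, false, true, true, false, true, false, false])) (.leaf []))) (.node (.node (.node (.leaf []) (.leaf [])) (.leaf [])) (.node (.node (.leaf []) (.leaf [true, true, true, false, true, false, false, true, false, true, true, true])) (.leaf [true, true, false, false, true, false, false, false, true, true, true, true, true, false, false]))))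

def certJLab1 : Janko.Tree (List Bool) :=
  (.node (.node (.node (.node (.leaf []) (.leaf [false, true, true, true, false, true, false, false, true, true, true, true])) (.node (.leaf []) (.leaf []))) (.node (.node (.leaf []) (.leaf [false, false, true, false, false, false, true, false, true])) (.leaf []))) (.node (.node (.node (.leaf []) (.leaf [false, false, false, true, true, true, true, true, false, false, false, true, false, false, true, true])) (.leaf [])) (.node (.node (.leaf []) (.leaf [])) (.leaf []))))

def certJLab2 : Janko.Tree (List Bool) :=
  (.node (.node (.node (.node (.leaf []) (.leaf [false, true, true, false, false, true, false, false, true])) (.node (.leaf []) (.leaf [false, true, false, false, true, false, false, false, true]))) (.node (.node (.leaf []) (.leaf [true, true, false, false, false, true, true, true])) (.leaf []))) (.node (.node (.node (.leaf [false, true, true, true, false, true, false, false, true, true, true, true]) (.leaf [])) (.leaf [])) (.node (.node (.leaf []) (.leaf [])) (.leaf []))))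

def certJLab3 : Janko.Tree (List Bool) :=
  (.node (.node (.node (.node (.leaf []) (.leaf [])) (.node (.leaf []) (.leaf [true, true, true, true, false, true, false, false, true, false, true, true, true, true]))) (.node (.node (.leaf []) (.leaf [false, true, true, true, false, true, false, false, true, true, true, true])) (.leaf []))) (.node (.node (.node (.leaf []) (.leaf [])) (.leaf [false, false, false, true, true, false, true, true, true])) (.node (.node (.leaf []) (.leaf [])) (.leaf []))))

def certJLab4 : Janko.Tree (List Bool) :=
  (.node (.node (.node (.node (.leaf []) (.leaf [false, false, false, false, true, true, false, true, false, false])) (.node (.leaf []) (.leaf [true, false, true, true, false, false, true, true, true, false, false]))) (.node (.node (.leaf []) (.leaf [])) (.leaf [true, false, false, true, false, true, true, true, false, true, true, true, false]))) (.node (.node (.node (.leaf []) (.leaf [])) (.leaf [])) (.node (.node (.leaf []) (.leaf [])) (.leaf []))))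

def certJLab5 : Janko.Tree (List Bool) :=
  (.node (.node (.node (.node (.leaf []) (.leaf [])) (.node (.leaf []) (.leaf [true, true, true, false, true, false, false, true, false, true, true, true]))) (.node (.node (.leaf []) (.leaf [true, false, false, true, false, true, true, true, false, true, true, true, false])) (.leaf []))) (.node (.node (.node (.leaf []) (.leaf [])) (.leaf [])) (.node (.node (.leaf []) (.leaf [])) (.leaf [false, true, true, false, true, false, false, true]))))

def certJLab6 : Janko.Tree (List Bool) :=
  (.node (.node (.node (.node (.leaf []) (.leaf [false, false, false, false, true, true, false, true, false, false])) (.node (.leaf []) (.leaf [false, false, true, true, false, false, true, false, false, false, true, true, true, true]))) (.node (.node (.leaf [false, true, true, true, false, true, false, false, true, true, true, true]) (.leaf [])) (.leaf [false, true, true, false, false, true, false, false, true]))) (.node (.node (.node (.leaf [false, true, true, true, false, true, false, false, true, true, true, true]) (.leaf [false, true, false, true, true, false, false, true, true, true, false, true, true])) (.leaf [])) (.node (.node (.leaf []) (.leaf [true, true, true, false, true, false,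 false, true, false, true, true, true])) (.leaf []))))

def certJLab7 : Janko.Tree (List Bool) :=
  (.node (.node (.node (.node (.leaf []) (.leaf [])) (.node (.leaf []) (.leaf [false, false, false, true, true, true, true, true, false, false, false, true, false, false, true, true]))) (.node (.node (.leaf []) (.leaf [true, true, false, false, true, false, false, false, true, true, true, true, true, false, false])) (.leaf []))) (.node (.node (.node (.leaf []) (.leaf [true, true, false, false, true, false, false, false, true, true, true, true, true, false, false])) (.leaf [])) (.node (.node (.leaf []) (.leaf [])) (.leaf []))))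

def certJLab8 : Janko.Tree (List Bool) :=
  (.node (.node (.node (.node (.leaf []) (.leaf [])) (.leaf [])) (.node (.node (.leaf [true, true, true, false, false, false, true, true, false, false, true, false, false, false]) (.leaf [false, false, false, true, true, false, true, true, true])) (.leaf [false, true, true, false, false, true, false, false, true]))) (.node (.node (.node (.leaf []) (.leaf [])) (.leaf [])) (.node (.node (.leaf []) (.leaf [false, true, false, false, true, false, false, false, true])) (.leaf []))))

def certJLab9 : Janko.Tree (List Bool) :=
  (.node (.node (.node (.node (.leaf []) (.leaf [])) (.leaf [])) (.node (.node (.leaf [false, true, true, true, false, true, false, false, true, true, true, true]) (.leaf [])) (.leaf []))) (.node (.node (.node (.leaf []) (.leaf [])) (.leaf [false, true, true, true, false, true, false, false, true, true, true, true])) (.node (.node (.leaf [false, false, false, true, true, false, true, true, true]) (.leaf [])) (.leaf [false, true, true, true, false, true, false, false, true, false, true]))))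

def certJLab10 : Janko.Tree (List Bool) :=
  (.node (.node (.node (.node (.leaf []) (.leaf [])) (.leaf [])) (.node (.node (.leaf [false, false, false, true, true, false, true, true, true]) (.leaf [])) (.leaf []))) (.node (.node (.node (.leaf []) (.leaf [])) (.leaf [])) (.node (.node (.leaf []) (.leaf [false, true, false, true, true, false, false, true, false])) (.leaf []))))

def certJLab11 : Janko.Tree (List Bool) :=
  (.node (.node (.node (.node (.leaf []) (.leaf [false, false, false, true, true, true, true, true, false, false, false, true, false, false, true, true])) (.leaf [false, false, false, true, true, false, true, true, true])) (.node (.node (.leaf []) (.leaf [false, false, false, true, true, true, true, true, false, false, false, true, false, false, true, true])) (.leaf []))) (.node (.node (.node (.leaf []) (.leaf [])) (.leaf [])) (.node (.node (.leaf []) (.leaf [false, true, false, false, true, false, false, false, true])) (.leaf []))))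

def certJLab12 : Janko.Tree (List Bool) :=
  (.node (.node (.node (.node (.leaf [false, true, true, true, false, true, false, false, true, true, true, true]) (.leaf [])) (.leaf [])) (.node (.node (.leaf []) (.leaf [false, false, false, true, true, true, true, true, false, false, false, true, false, false, true, true])) (.leaf []))) (.node (.node (.node (.leaf []) (.leaf [false, false, false, true, true, true, true, true, false, false, false, true, false, false, true, true])) (.leaf [])) (.node (.node (.leaf []) (.leaf [])) (.leaf []))))

def certJLab13 : Janko.Tree (List Bool) :=
  (.node (.node (.node (.node (.leaf []) (.leaf [true, true, false, false, true, false, false, false, true, true, true, true, true, false, false])) (.leaf [])) (.node (.node (.leaf []) (.leaf [false, false, true, false, true, true, true, false, false, true, false, false, true, true])) (.leaf [false, false, false, true, true, true, true, true, false, false, false, true, false, false, true, true]))) (.node (.node (.node (.leaf []) (.leaf [])) (.leaf [])) (.node (.node (.leaf []) (.leaf [false, true, false, true, true, false, false, true, false])) (.leaf []))))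

def certJLab14 : Janko.Tree (List Bool) :=
  (.node (.node (.node (.node (.leaf []) (.leaf [])) (.leaf [])) (.node (.node (.leaf []) (.leaf [])) (.leaf []))) (.node (.node (.node (.leaf []) (.leaf [])) (.leaf [false, false, true, false, false, false, true, false, true])) (.node (.node (.leaf []) (.leaf [])) (.leaf [false, true, false, false, false, true, false, false, true, true, true]))))

def certJLab15 : Janko.Tree (List Bool) :=
  (.node (.node (.node (.node (.leaf []) (.leaf [])) (.leaf [])) (.node (.node (.leaf []) (.leaf [])) (.leaf []))) (.node (.node (.node (.leaf []) (.leaf [])) (.leaf [])) (.node (.node (.leaf []) (.leaf [true, true, true, true, false, true, false, false, true, false, true, true, true, true])) (.leaf [false, true, true, true, false, true, false, false, true, true, true, true]))))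

def certJLab : Janko.Tree (List Bool) :=
  (.node (.node (.node (.node certJLab0 certJLab8) (.node certJLab4 certJLab12)) (.node (.node certJLab2 certJLab10) (.node certJLab6 certJLab14))) (.node (.node (.node certJLab1 certJLab9) (.node certJLab5 certJLab13)) (.node (.node certJLab3 certJLab11) (.node certJLab7 certJLab15))))

def certJWord0 : Janko.Tree (List Bool) :=
  (.node (.node (.node (.node (.leaf []) (.leaf [true, false, false, true, true, true, true])) (.node (.leaf [false, false, false, false, true, false]) (.leaf [false, true, true, true, true, false, false, true, true, false]))) (.node (.node (.leaf [false, false, true, true]) (.leaf [true, false, false, true, true, false, false, false])) (.leaf [false, false, false, false, true, true, true]))) (.node (.node (.node (.leaf [false, false, true]) (.leaf [false, false, true, true, false, false, false, false])) (.leaf [false, false, true, true, true, true])) (.node (.node (.leaf [false, false, false, true, true]) (.leaf [false, true, true, true, false, false, false, true, true])) (.leaf [false, false, true, true, true, false, false]))))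

def certJWord1 : Janko.Tree (List Bool) :=
  (.node (.node (.node (.node (.leaf [false]) (.leaf [false, false, false, false, true, false, false, false])) (.node (.leaf [false, false, false, false, true, true]) (.leaf [false, true, true, true, true, false, false, true, true, true]))) (.node (.node (.leaf [false, true, true, false]) (.leaf [true, false, false, true, true, true, true, false])) (.leaf [false, false, false, true, false, false, false]))) (.node (.node (.node (.leaf [false, true, false]) (.leaf [false, false, true, true, false, false, true, true])) (.leaf [false, true, true, false, false, false])) (.node (.node (.leaf [false, false, true, false, false]) (.leaf [false, true, true, true, true, false, false, false, true])) (.leaf [false, false, true, true, true, true, false]))))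

def certJWord2 : Janko.Tree (List Bool) :=
  (.node (.node (.node (.node (.leaf [true]) (.leaf [false, false, false, false, true, true, true, false])) (.node (.leaf [false, false, false, true, false, false]) (.leaf [false, true, true, true, false, false, false, true, true, true, false]))) (.node (.node (.leaf [false, true, true, true]) (.leaf [false, false, false, false, true, false, false, false, true])) (.leaf [false, false, false, true, true, false, false]))) (.node (.node (.node (.leaf [false, true, true]) (.leaf [false, false, true, true, true, false, false, true])) (.leaf [false, true, true, true, false, false])) (.node (.node (.leaf [false, false, true, true, false]) (.leaf [false, true, true, true, true, false, false, true, true])) (.leaf [false, true, true, false, false, false, false]))))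

def certJWord3 : Janko.Tree (List Bool) :=
  (.node (.node (.node (.node (.leaf [false, false]) (.leaf [false, false, false, false, true, true, true, true])) (.node (.leaf [false, false, false, true, true, false]) (.leaf [false, true, true, true, true, false, false, false, true, true, false]))) (.node (.node (.leaf [true, false, false, true]) (.leaf [false, false, false, true, false, false, false, false, true])) (.leaf [false, false, false, true, true, true, false]))) (.node (.node (.node (.leaf [true, false, false]) (.leaf [false, false, true, true, true, true, false, false])) (.leaf [false, true, true, true, true, false])) (.node (.node (.leaf [false, false, true, true, true]) (.leaf [false, false, true, false, false, false, false, true, true, true])) (.leaf [false, true, true, true, false, false, false]))))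

def certJWord4 : Janko.Tree (List Bool) :=
  (.node (.node (.node (.node (.leaf [false, true]) (.leaf [false, false, false, true, false, false, false, false])) (.leaf [false, false, false, true, true, true])) (.node (.node (.leaf [true, true, true, false]) (.leaf [false, false, true, false, false, false, false, true, true])) (.leaf [false, false, false, true, true, true, true]))) (.node (.node (.node (.leaf [true, true, true]) (.leaf [false, true, true, true, false, false, false, false])) (.leaf [true, false, false, true, true, false])) (.node (.node (.leaf [false, true, true, false, false]) (.leaf [false, false, true, true, false, false, true, true, true, false])) (.leaf [false, true, true, true, false, false, true]))))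

def certJWord5 : Janko.Tree (List Bool) :=
  (.node (.node (.node (.node (.leaf [true, false]) (.leaf [false, false, false, true, false, false, false, true])) (.leaf [false, false, true, false, false, false])) (.node (.node (.leaf [true, true, true, true]) (.leaf [false, false, true, true, false, false, true, true, true])) (.leaf [false, false, true, false, false, false, false]))) (.node (.node (.node (.leaf [false, false, false, false]) (.leaf [false, true, true, true, false, false, false, true])) (.leaf [true, false, false, true, true, true])) (.node (.node (.leaf [false, true, true, true, false]) (.leaf [false, true, true, true, false, false, false, false, true, true])) (.leaf [false, true, true, true, true, false, false]))))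

def certJWord6 : Janko.Tree (List Bool) :=
  (.node (.node (.node (.node (.leaf [true, true]) (.leaf [false, false, false, true, true, false, false, true])) (.leaf [false, false, true, true, false, false])) (.node (.node (.leaf [false, false, false, false, true]) (.leaf [false, false, true, true, true, false, false, true, true])) (.leaf [false, false, true, true, false, false, false]))) (.node (.node (.node (.leaf [false, false, false, true]) (.leaf [false, true, true, true, true, false, false, false])) (.leaf [false, false, false, false, true, false, false])) (.node (.node (.leaf [false, true, true, true, true]) (.leaf [false, true, true, true, false, false, false, true, true, true])) (.leaf [true, false, false, true, true, false, false]))))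

def certJWord7 : Janko.Tree (List Bool) :=
  (.node (.node (.node (.node (.leaf [false, false, false]) (.leaf [false, false, true, false, false, false, false, true])) (.leaf [false, false, true, true, true, false])) (.node (.node (.leaf [false, false, false, true, false]) (.leaf [false, true, true, true, false, false, false, false, true])) (.leaf [false, false, true, true, false, false, true]))) (.node (.node (.node (.leaf [false, false, true, false]) (.leaf [false, true, true, true, true, false, false, true])) (.leaf [false, false, false, false, true, true, false])) (.node (.node (.leaf [true, false, false, true, true]) (.leaf [false, true, true, true, true, false, false, false, true, true])) (.leaf [true, false, false, true, true, true, false]))))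

def certJWord : Janko.Tree (List Bool) :=
  (.node (.node (.node certJWord0 certJWord4) (.node certJWord2 certJWord6)) (.node (.node certJWord1 certJWord5) (.node certJWord3 certJWord7)))

def certJPerm0 : Janko.Tree (ℕ) :=
  (.node (.node (.node (.node (.leaf 4100094770554042515533122004313285236735003534074830538881045787921142082201184208296423565880205964959118971074454247199955378650214568923506906026203450061729621922836307612900092799561144844784840892852764800) (.leaf 713100825542440430441116938266730508526610909259279309177310333291122017159579284749058106340562343917782074396716199950967884717200058877812923955097482456424446034094293576210265308775809448514161394268128170)) (.node (.leaf 3674919708333128020227091985848799209246310181746931978293207711434063744202857692438854675846048392012912184403370647053744392311347479738306849933195677934424146120393343129606105978289419766987439883915616686) (.leaf 1281366285332915127215704916683694325372062499537418496713188646650907275737392084065457767694542377828408758300564640921233542520543879274039358500990448827929296922827948684476916733920021451719649045068291024))) (.node (.node (.leaf 1986380499909202816571577190309966842894520141257504339612108801486259944480185036032776456469020678706720217918107955095128474380674470320567093005546980193261141116270788914867315292637369665052274058060858287)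 (.leaf 2276910766966999756638740680418661626095572740466438294765620710165463228349053457676184939653616087015268117310145009780693267360469729791058588817549135380450372088817670875469380833572808253709023220050815198)) (.leaf 3222190424916047600638810660932582285095722867508539674460234433489057487199742536075658991879762769084073771033986391451797764155315775640167255254867718539916008810898712695181365099873271269281306125101959827))) (.node (.node (.node (.leaf 2003939779050697452234549602814840353159627757222762085219518895027006604410866564586763710958978695195460250683074148166477909908933269319254743383830049442913346778458663817769086045978593749884629225908623767) (.leaf 11008856229955713871327623756217855190953235955788731617178197049924595108997277747834641651101883463401978971689459777153757086468322232261419996405954904690502016144100139562602491717743671822492094922837914)) (.leaf 1978689239528913409369495888573424734954680594592942905650050084024078214854771509285031350966518737719837650118725635191104046740693604529571400007727789379637569268652880363739229414346169818117890909170848832)) (.node (.node (.leaf 3018302974524692985561505556043551391208890972764857985694348166226266706415469753024365006518809868132483457717571167954387089348862001155789598766172803089960936768715470554343379224470523228418879126350611934)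 (.leaf 1959498381036355205767349563282232518002050916680372892035278758801079953441418223175480467624722657949817595351047313818288192371606816232853888873105101521679470979011233996198611978762727737986509573645453268)) (.leaf 3715376542539731651892410879841658197581502147520184426950914084712336863352424589904439590688912166326047404983965771673254535383396795795324595760741100348508765527625213626328646216024913459989648727695698690))))

def certJPerm1 : Janko.Tree (ℕ) :=
  (.node (.node (.node (.node (.leaf 3812002213551569965693858994438394162604613654463844820855551655597369139024901822146738035073173363366550981409302568806255506921271088600892276083280366260958740979054484637172915406646534453445983553941064908) (.leaf 3557376105856823576740001483008502805684561098729820576384402010681908716355765511307038153020954941860935633125171724947801172927858682016529033633138470652835587776686453695694401467774448914513865704093173935)) (.node (.leaf 3227749666411801628231363618939873563010497232738405706639228280110906577115175560102325609563363827301534448797219769823201906283927829357072729275810239098513437551084939325887031056417050289352055450556984283) (.leaf 2122361597917768455424086521268544080652968984398720729699402227797411162901832650637496348067945658855959173714984311153060771661278778731581829192257451139653157188052321817380807146146691451239996008005311202)))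 (.node (.node (.leaf 4076222581899154013291134949343678771879416812550474204527768115981492778731858974981415969766011098165602737345260241769040643576663278338683795037513040038656870652093015424383700670515702765773962625799165868) (.leaf 46420665279288520502901560560094058774605923198695862440747439121923102136227943619268919118757798071032476042255696329319037926163243080410222898038904701701276349805575783555546897094862408070611920921677389)) (.leaf 2493026728163013643207589785980681740971085169785101115776953248160964315701681493170684249707205804063487118446010891441844365698285527855770576737559486335106802353420867805408005473695568408504816030997145424))) (.node (.node (.node (.leaf 3688359106731064165251965796002512774973815383864095582069113009043088932736151421148423880311530528289448559661182950280748736691265395431823366001451978172447542506487724539811401991391768706126281618413863171) (.leaf 1371910922217176273008955932827645768119956104415684443511994549195982383655534336696162499902390635029152709906070273882312553150403405050145384560313345976842862397736010351470090217981709534419899175560810916)) (.leaf 89369203726135539663949248737868618995378931144465216964069419963622980943106513856421382547047400843296591736980809548036086579902593921003728606605938230807098819295478575098940837307452552860888632275266731))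 (.node (.node (.leaf 4076785841464549959088012744796848413580851827577132697286932955438476164451926547017883451147454510326767330464969781716131280943826019359334138300912798509555206892831324749983706364746447782486084189884236834) (.leaf 3165631522290040983485447236123463819528113329703272440461045903847969411654479426329752183249897752990379582260174922074200729525179387881357274162108734087519629029395755265080020119362609778790307201104421081)) (.leaf 333672493360421536764179885614660783491700920958270034086136399430062361164045260524788801196006187915628740037183260802822632591062703158155216846634794615213241606819216432692122772927535483759318789087929926))))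

def certJPerm2 : Janko.Tree (ℕ) :=
  (.node (.node (.node (.node (.leaf 4099378797640334834444348471315870177714796982788354498090214764236676198563663708477426445973727437086003607706910723484583118195854807184457298051825747296006593912642683385186903705059666565846961590008009485) (.leaf 2273070345477925946394641942551175599756452610018037476076960369078910867175888826791967417052287997971752293641917484198826219660820420390678505173681630147262294697883608247369063578018521514128035182439066048)) (.node (.leaf 3794743070867124156683354864165465402548530929856345032993716656942215353894966286014718673269348496276793133315927364396034280762154110436713669005533477340645793597851789700389356622560174114832346006365721811) (.leaf 3760712279215298171493756625094355739134966672413674099339668888634098486106246799270986665986794034720372099994734028950234986743849517734867434188398324763702656925387124455077563605692119941699924152260847704))) (.node (.node (.leaf 3787290195941465685851023430889700541915910565832952956196402004457006212879053852649539034290248059665309407060564099107773948820812322072660763097261326552829318416332284346050870316237103696181146871565414086) (.leaf 3552589926327056837523113920472251011268130302249255703176915536251145820653148396753924175172094461193355160925931849247698177014978136937772042348183507643865328688348630418459553035788063707492583985252855052))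 (.leaf 2549529374630122060796035716201156229872180365869160929055111384890308306175899333314913599622431680928045661306994869595222164277296635359321751973830652734327479869102105517951541431164533406497571215724038935))) (.node (.node (.node (.leaf 3789130658946798080926065677476558710457107041693894437651114453877506915943161817328008077993155266491403953382569526076165692052359751682108950324647616799260389899271792332290243667899251222645826005180238544) (.leaf 3710625897268829793726798438226163719780381027581611021612955147645272565159465034593695940034355019443016913605059816182956826045027203193883789337592137578382057523887200204842075182950004455116356678298191620)) (.leaf 3064190739368249747872477770629901906413056155188445677656644731469824065382697529352611480577987738799513163746815134550869290055115640159540229992316103291022550356587553888281332378606621845271069810286534210)) (.node (.node (.leaf 3783725875065934226700219948342768912213721180625656528766082041496450243026671610419873836610726446679431744420540714072954465207494262508809364930891396755510841991597694565062178523868902689438066928463818540) (.leaf 2100068399081354850125515931788226973783411447133865076109540700098419793072605636243378252491327235607366881196602082896788022824494007020851723803350093554527043141986017313784003617736193683497168252893889813))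 (.leaf 1740896461252715487973488145204864062949715524349169176672108001629571338873136515787713751360364654514214510725204894408725784681695310135948112423419890675898286207714303511745352897939218872936379324971687335))))

def certJPerm3 : Janko.Tree (ℕ) :=
  (.node (.node (.node (.node (.leaf 1990095415201315285900163784066838517994888545122028625514963901699882077808520898623255537383813845725755177640779681575891208381895286420635370343016191613093471074148927872884450410020123113407123704521069126) (.leaf 3205479020125806375179597506499779300182492441818235212522696779611641814724054320859720780327034425494411274457337770969292161865166678307243917985498800990348451547900270898399841881199991563515877065077663022)) (.node (.leaf 1982838330756325063082437382369564746409487460842213991886099267536694202916761513319721167343084276758939777685070118895343435577132659185760661998870312166085604193928011571102959528406686663637173396233956780) (.leaf 2122569743149832272456840881951277300255660983455672879568911070385556129529894465556276254787911124307245964530947092249372263930311116461039473785504160056109290892597890616695553019888719796004333868924381904))) (.node (.node (.leaf 720685944206454329835372182340155911043287460675131118870006891252379827774922736159720952809638189840179751401006541724560114579268948938104875940048086655682502330496555518731352497803915731930353165059009299)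 (.leaf 356156600748099664653510924952543090468834136831044843728733806386992317533371079611133409094066819886862324053606319450247505981238855931570980154032499739209374292183460446534212898441977203743988378837429137)) (.leaf 3543578634141086965296647228439484579645462490077016321652936668367782479764643888875340192904325036495567299035689801773231537276099239781571975177860347930466394483341066961632136779494492233701149000924090627))) (.node (.node (.node (.leaf 699909892849483968649807268409858733013823417725896133758029978250409375178197884819935125827954813634237039335262203634040791467319847735828511362192365556820370878251445995573317083229581300903950291674127821) (.leaf 3464678696820509711875083579556782787331778428345624618583065964472001691057854942137775390777220998684950359854652910674761249220055202802936661704884577488563532438174491109099895305855798300246600118650578077)) (.leaf 1279729125774693945899032438315825977054372174279356635459536802111822525645228288586735802084209991895832805848045755126138011798910617897097228073421260669663232599706126889418435687983557128429426202234110028)) (.node (.node (.leaf 1999933671586539037437357935837405772982195516326021532122872608342729226170849428711617658888227935615402840268111299208216716946818698292901118861448403257201445941623408932815440845386261669354512405346443487)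 (.leaf 1297273669318964484592713525654431565587368435897585731320152141625862063184190955859457393356506555283109152915364897930489855018216050502136679667810180535223473130168894768067853928403848406875082434316657099)) (.leaf 1938874398716095090891617875966366224120126922909715231130781041745889305313578225184689545403389453125391182640486270417424301894662570092066380041242585835510723559870016874062572548375361087446136307464597985))))

def certJPerm4 : Janko.Tree (ℕ) :=
  (.node (.node (.node (.node (.leaf 3812427195303916999309689507035036446476863826512163596311353282620574878152694077909536447299135116359677052599517743987762282342046048370385265918463009597078007811772194341505923631168824526702716558006953886) (.leaf 334940442979221951276923890960178123923476214244681119172793578931697697786978148378404525643109495472989780077995172999259757290720731761967240552874446529768090865094909458628924081947222944149808327506817476)) (.leaf 3023110662143098786093450302484130732735630400111738573001082710170758502916000963047224375832879981370111642957863036215924415915691816331347692555086341481024057556405188953889451347540384024539827246281991089)) (.node (.node (.leaf 1508522691960413179412768197889302249005901359702955451000191394144645086211511748112478581055835824087361440066813679561019627423301906303557757805226182737233636417147499912117293903199227816957644923052613666)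 (.leaf 1292677042433429717742066115870992883173243568421763836670450728648495491200367214406671454083147161033729583725884273570432964958379577073027864500348118348326775590831277892364674664175476664204255851440968741)) (.leaf 3013560069314669156838919064754762616746345684719114456505199693596169615058509797379026572422841012713778661686901309501661630444990512306751938871528837039609287286988949422741635854703887744790871645763897421))) (.node (.node (.node (.leaf 4092692969785590764664250180880316927486137439250172499300926463507930557352127723671105415999262722840165533168581989501819677346043991071491379994502771619124727845190547305611118926703040679275688699462183884) (.leaf 209693360045504184004945290318285056717811971513788463453599266659696229433723240445520028347735008260615853613462954609567213075754637088212773019444607385873258354016700153454746362987853081411230579121050932)) (.leaf 3683939414989025870806326483027530574989978678434036159795627737452388991642103463043106289615504562278590931331922030151608794876294240141593680272507237628618319331602820728503748006792072579593821182348958754)) (.node (.node (.leaf 2523533936421258479708305789437981877454644636429981083633014296505788278901873267539670434437188521510402338034769990455687582621889925265824984062512026519790572544181272731373198344059600683891213451010068621)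 (.leaf 1278318891859348268088318414260432668731238339149756415897486210569377840243265643142295072230966569816749822012200046835229657616710186812802414051301554296212524878939445411359055037720525236798497230280909340)) (.leaf 3059688227344304365275927164784554399561926495159325507983379028796382799830319388862318581648789888200489881270693923993982590412295336415215248210213425690986156926743029093035310276322443419809946839813087886))))

def certJPerm5 : Janko.Tree (ℕ) :=
  (.node (.node (.node (.node (.leaf 3679281785236954567722965844686269114609207739402206178318313667732102947665128794366314031406690561046458878739256483939543466015777048425118589442972817779960946054461134372709866779630801948305061805751656732) (.leaf 2479737471888160082162156008419252635580567435437988081320323854791269284438637006458117157277231171874154638711466203444804087116767565231401309077803410885068986627621057781612683203786252062449548258677597462)) (.leaf 2595517619494586708011130953107463764125826570910538039139609502585172949245640132777256772939477037734982718457439208561694531629812324914405951412391998544054283684322917232351897680688752162827248801709122720)) (.node (.node (.leaf 4098917000766949034238978916240276315452690266029516584051685602039037810373642829933612163041651319301726037078126125140704536272315813903133482591443944444942102699242396524719756389037563439692101565318156956)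 (.leaf 1361940437336331899412416846035724217529683154164614849115817721110759757990816322116117043641366764286289844668074044723599311517830396172157419441523260765142382231088319415881404678321334664262267755247180857)) (.leaf 1289693740871973254177108845094614620360698927075749079644130783621490635025911733006800577371120776835568178576880923518294553968671228916497045300230721436906963097632263665492528476542123870038307253381458136))) (.node (.node (.node (.leaf 3233820164464406151687793585648902827481494755639121502078083379747799093328356171508942299369595084034869994214944276492606600546872951372451208175493089261241132938649467665558380241523313727378659455278128689) (.leaf 1954719174587681466813301886811446862167618516144062808102231573000100040691792112898570824447639871043353535895076912470530506082032888233143171482717153476372533762770815028283139322394161446553814459410867120)) (.leaf 703225313622416001504466216138021663933404243364282009759747462072934700464549741184358227144541633437528861673628580130261738144739055111594631260630790221009178563568170235788565332366348433141008258861428376)) (.node (.node (.leaf 2607775217968775551840859909998969301290312349753793024083819493453633772804550645223967858316607439081869908037270113798895992696318923243302877180078967437056475091880949097065174646059017220145276314972251859)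 (.leaf 211089367326722088177420857961503189987751308979306680141127615366413339804220022769691940492220048083553588894779310570374474804690589256677955831313773756342317429858267140628674220590538169767110260677956781)) (.leaf 2097280503664925072860049699654007178924395725483857811646893803816310243285537870118320115033128246826090495162695069111597800892419194879401744843718672169955213330301940978482968415005624574569627953558067237))))

def certJPerm6 : Janko.Tree (ℕ) :=
  (.node (.node (.node (.node (.leaf 4081137159233097649190370553465223182021664135602401290450414324449414789153476710324275890031373642942483164229129776109417501531269442894698864362227342338987208839764484683391994448281244032001395254404850592) (.leaf 2558295383399539801951738389286678433914523899480794549591701105935579909133847239887765034887681953456134774519913816787489153347052887725665589628419562488631612656736186063299949100929359879239706927709163668)) (.leaf 1370606457643246727743886269509696050882828342124409162669366093615400521832092993299286500896427774506442242384930115571931623151142668583348817424522392670414884991325744698799829014354865449442350105039576862)) (.node (.node (.leaf 3231858482416831070385690473256743756778586409685593629429804556393751504211975665870604997177958457282131278324582436407157568466002804099598630332578207346535871999583133658322671751213966034452625390890883743)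 (.leaf 3709479801138952066319157957774359102136865429340626700944789026604604055178719523079091656939258351855242802800155069389970381841196544550426327319615261539916597231719592893801392055817822416363034295248537011)) (.leaf 1113498719518980474156646512351271713542320469398656152171192235625786509192392850496988168817595687918846566203249328706889672706547035349914505222371568435762483934219422643224927146395037574386314059466271929))) (.node (.node (.node (.leaf 3017502557386967037207304492221216205083198707482685908376273514788588971769929132020336412912534317269135394061962639749815908886388660346493997075079374799744286357875749779444525027778902190674997363798665787) (.leaf 3185013530921375912560561951410282283599790169570277944096480102571269220613355872023486093798068033606100973067948030292103152629065746304543255098268178507097973238209322778315745216918135280966940847952732130)) (.leaf 1991032660052297475624177332454933961788798978219316856674955849017907216686580622218985595833340697656647661618988954984896823394714822740166111217181490863086390707903469561878642843078508331184803641514329756)) (.node (.node (.leaf 3796499626390985509706507291197703612727008972583657163060367050040627352389260862519016603677707870984119911740054269695790785769044828049583972020668457475910595657427798841845727864162038394383736659751423619)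 (.leaf 1935472533758898152254589902460195337156763026056319073561447114468051604023396076583802162631219461088151856586285319201134857272490340747526805934629841965233720648796887949260516400965379384538289980272799540)) (.leaf 3022205974030796126797546546900404305800606129789568515990252673763152641446678252718578096618845584532125910469935559848776253047123605508619185573961368429633254526787437884224588569319493426936942218124807939))))

def certJPerm7 : Janko.Tree (ℕ) :=
  (.node (.node (.node (.node (.leaf 3026469408802870918650129318161696951510054413976816104722444726136911695261330094782152436937402747250846704966575690294839406527891341244016616950779156194244920712213254232685433426530447127429483815972691935) (.leaf 1280426580485707889671296958772388540171272680575143865346050366970547216632608257225042386154554539104462421883694977099792268318554131948767450498488738142953367231268632548945895163504944706822323630706476494)) (.leaf 2477699773252116040700061234099601496481707575039606708830655964475573553072182162221810940649487458860913911648832926224064558931445680368363253216853246832172016543899890752648412453465580614172650689550210844)) (.node (.node (.leaf 3688689328478912717388841205643673300087112097942221561260326692172631350615446464260516558301297136406464969147163336896690641386426288485245908076924745557601505851566443067668858878008616293464956404970882381)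 (.leaf 213039220302825668112455619660803211696197531784184470624582896605522655009203077059195840871790100066531446272705749929494515121147259616912150305534747587581050767711347884744276273412910872336740604449390781)) (.leaf 1359127089917144512605056579385622345774381666457185583930918259022912642337903243689934006029055522399042340972266023192534159500571124002732623460134152693202206104035350377531662955379137450056740851266576075))) (.node (.node (.node (.leaf 3688968587494991327479594687670501393056564129658771839736957852177880340265798940334063302101182582048903180945067602945541651213378555064743885748530649642307836560982913468587353253016977849627623145733508544) (.leaf 2101737526880034525686491738710108678942970583518009824137081461181906572151971473388547042201031781236384922111537872297885695532039390894744761962803697328507484263825853772627881088837771245696944003819318746)) (.leaf 3025794991660731708719918043483320606595169221915639018979058828147509037104525551397202550248336917297777652034432826337711822187569301370526789012407307900912777493121728068403090644946499385526630796229512236)) (.node (.node (.leaf 727070445946185558838551151478069085455770533429710937814530185571849125088007164649867950714313675760818564710563066844792997100905675274763119944104868464647589795662309846224338340746334924305919924211401480)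 (.leaf 3191477537830421915989774792228005606204053682297421388820326833198670333250201587379081003144549465950702485348956298007241045428901888611386938032689819102256474230737963483866992223512441983353649190788326071)) (.leaf 3220535265728416655122390339666514436546155466940703009444154545497443482990412451432387802075150161649293119070274107557333249750743396068958215936305597512947493908906459245232998628929459711099064231647593644))))

def certJPerm : Janko.Tree (ℕ) :=
  (.node (.node (.node certJPerm0 certJPerm4) (.node certJPerm2 certJPerm6)) (.node (.node certJPerm1 certJPerm5) (.node certJPerm3 certJPerm7)))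

def certJPar0 : Janko.Tree (ℕ × Bool) :=
  (.node (.node (.node (.node (.leaf (0, false)) (.leaf (45, true))) (.node (.leaf (22, false)) (.leaf (90, false)))) (.node (.node (.leaf (8, true)) (.leaf (62, false))) (.leaf (33, true)))) (.node (.node (.node (.leaf (3, true)) (.leaf (54, false))) (.leaf (27, true))) (.node (.node (.leaf (14, true)) (.leaf (77, true))) (.leaf (39, false)))))

def certJPar1 : Janko.Tree (ℕ × Bool) :=
  (.node (.node (.node (.node (.leaf (0, false)) (.leaf (46, false))) (.node (.leaf (22, true)) (.leaf (90, true)))) (.node (.node (.leaf (10, false)) (.leaf (64, false))) (.leaf (34, false)))) (.node (.node (.node (.leaf (4, false)) (.leaf (55, true))) (.leaf (28, false))) (.node (.node (.leaf (15, false)) (.leaf (78, true))) (.leaf (40, false)))))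

def certJPar2 : Janko.Tree (ℕ × Bool) :=
  (.node (.node (.node (.node (.leaf (0, true)) (.leaf (48, false))) (.node (.leaf (23, false)) (.leaf (94, false)))) (.node (.node (.leaf (10, true)) (.leaf (65, true))) (.leaf (35, false)))) (.node (.node (.node (.leaf (4, true)) (.leaf (56, true))) (.leaf (29, false))) (.node (.node (.leaf (16, false)) (.leaf (79, true))) (.leaf (41, false)))))

def certJPar3 : Janko.Tree (ℕ × Bool) :=
  (.node (.node (.node (.node (.leaf (1, false)) (.leaf (48, true))) (.node (.leaf (24, false)) (.leaf (95, false)))) (.node (.node (.leaf (11, true)) (.leaf (68, true))) (.leaf (36, false)))) (.node (.node (.node (.leaf (5, false)) (.leaf (57, false))) (.leaf (30, false))) (.node (.node (.leaf (16, true)) (.leaf (84, true))) (.leaf (42, false)))))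

def certJPar4 : Janko.Tree (ℕ × Bool) :=
  (.node (.node (.node (.node (.leaf (1, true)) (.leaf (49, false))) (.leaf (24, true))) (.node (.node (.leaf (12, false)) (.leaf (71, true))) (.leaf (36, true)))) (.node (.node (.node (.leaf (6, true)) (.leaf (59, false))) (.leaf (31, false))) (.node (.node (.leaf (17, false)) (.leaf (85, false))) (.leaf (42, true)))))

def certJPar5 : Janko.Tree (ℕ × Bool) :=
  (.node (.node (.node (.node (.leaf (2, false)) (.leaf (49, true))) (.leaf (25, false))) (.node (.node (.leaf (12, true)) (.leaf (73, true))) (.leaf (37, false)))) (.node (.node (.node (.leaf (7, false)) (.leaf (59, true))) (.leaf (31, true))) (.node (.node (.leaf (18, false)) (.leaf (87, true))) (.leaf (43, false)))))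

def certJPar6 : Janko.Tree (ℕ × Bool) :=
  (.node (.node (.node (.node (.leaf (2, true)) (.leaf (50, true))) (.leaf (26, false))) (.node (.node (.leaf (13, true)) (.leaf (74, true))) (.leaf (38, false)))) (.node (.node (.node (.leaf (7, true)) (.leaf (61, false))) (.leaf (32, false))) (.node (.node (.leaf (18, true)) (.leaf (88, true))) (.leaf (44, false)))))

def certJPar7 : Janko.Tree (ℕ × Bool) :=
  (.node (.node (.node (.node (.leaf (3, false)) (.leaf (53, true))) (.leaf (27, false))) (.node (.node (.leaf (14, false)) (.leaf (76, true))) (.leaf (38, true)))) (.node (.node (.node (.leaf (8, false)) (.leaf (61, true))) (.leaf (33, false))) (.node (.node (.leaf (19, true)) (.leaf (89, true))) (.leaf (45, false)))))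

def certJPar : Janko.Tree (ℕ × Bool) :=
  (.node (.node (.node certJPar0 certJPar4) (.node certJPar2 certJPar6)) (.node (.node certJPar1 certJPar5) (.node certJPar3 certJPar7)))

def certJL0 : Janko.Tree (List ℤ) :=
  (.node (.node (.node (.node (.leaf []) (.leaf [])) (.node (.leaf []) (.leaf [(-131), 53, 15, 3, 7]))) (.node (.node (.leaf []) (.leaf [18, (-3), 0, (-1), (-1)])) (.leaf []))) (.node (.node (.node (.leaf []) (.leaf [0, (-1), 0, 0, 0])) (.node (.leaf []) (.leaf [(-7), 4, (-2), 0, 1]))) (.node (.node (.leaf []) (.leaf [104, (-55), (-6), (-1), (-4)])) (.leaf [0, 0, 0, 1, 0]))))

def certJL1 : Janko.Tree (List ℤ) :=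
  (.node (.node (.node (.node (.leaf []) (.leaf [(-5), 4, (-1), 0, 0])) (.node (.leaf [1, (-2), 0, 0, 0]) (.leaf [(-3), 2, 0, 0, 0]))) (.node (.node (.leaf []) (.leaf [0, 0, 0, 0, 1])) (.leaf []))) (.node (.node (.node (.leaf []) (.leaf [(-6), 9, 0, (-1), 0])) (.node (.leaf [(-2), 1, 0, 0, 0]) (.leaf [14, (-7), 0, 0, 0]))) (.node (.node (.leaf []) (.leaf [])) (.leaf []))))

def certJL2 : Janko.Tree (List ℤ) :=
  (.node (.node (.node (.node (.leaf []) (.leaf [6, 4, (-7), 0, (-1)])) (.node (.leaf []) (.leaf [(-111), 97, (-4), 6, 2]))) (.node (.node (.leaf []) (.leaf [93, (-47), (-7), (-2), (-4)])) (.leaf []))) (.node (.node (.node (.leaf [0, 1, (-1), 0, 0]) (.leaf [4, (-2), 0, 0, 0])) (.node (.leaf []) (.leaf [0, 7, 0, 0, 0]))) (.node (.node (.leaf []) (.leaf [(-5), 4, 0, 0, 0])) (.leaf []))))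

def certJL3 : Janko.Tree (List ℤ) :=
  (.node (.node (.node (.node (.leaf []) (.leaf [])) (.node (.leaf []) (.leaf [(-157), 81, (-1), 4, 4]))) (.node (.node (.leaf [2, (-2), 0, 0, 0]) (.leaf [(-6), 6, (-1), 0, 0])) (.leaf []))) (.node (.node (.node (.leaf [1, (-1), 0, 0, 0]) (.leaf [])) (.node (.leaf [2, 0, 1, 0, 0]) (.leaf [7, 0, 0, 0, 0]))) (.node (.node (.leaf [0, 1, 0, 0, 0]) (.leaf [])) (.leaf [11, (-11), 0, 0, 0]))))

def certJL4 : Janko.Tree (List ℤ) :=
  (.node (.node (.node (.node (.leaf []) (.leaf [25, (-13), 0, (-1), (-1)])) (.node (.leaf []) (.leaf [175, (-123), 25, (-5), 0]))) (.node (.node (.leaf []) (.leaf [(-1), 2, 0, 0, 0])) (.leaf [(-183), 113, 0, 5, 4]))) (.node (.node (.node (.leaf []) (.leaf [9, (-9), 0, 0, 0])) (.node (.leaf []) (.leaf [0, 0, 7, 0, 0]))) (.node (.node (.leaf []) (.leaf [])) (.leaf [0, (-1), 0, 0, 0]))))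

def certJL5 : Janko.Tree (List ℤ) :=
  (.node (.node (.node (.node (.leaf []) (.leaf [(-32), 24, 7, 0, 0])) (.node (.leaf [0, 1, 0, 0, 0]) (.leaf [183, (-94), (-13), (-4), (-4)]))) (.node (.node (.leaf []) (.leaf [(-69), 33, 7, 2, 1])) (.leaf []))) (.node (.node (.node (.leaf []) (.leaf [])) (.leaf [])) (.node (.node (.leaf [2, (-2), 0, 0, 0]) (.leaf [])) (.leaf [12, (-8), (-6), 1, (-2)]))))

def certJL6 : Janko.Tree (List ℤ) :=
  (.node (.node (.node (.node (.leaf []) (.leaf [(-43), 16, 0, 2, 2])) (.node (.leaf []) (.leaf [(-191), 114, 0, 4, (-1)]))) (.node (.node (.leaf [0, 1, (-1), 0, 0]) (.leaf [(-9), 10, 0, 0, 0])) (.leaf [(-16), 3, 7, 0, 2]))) (.node (.node (.node (.leaf [(-3), 3, (-1), 0, 0]) (.leaf [(-98), 50, 6, 2, 4])) (.leaf [])) (.node (.node (.leaf []) (.leaf [165, (-91), (-6), (-4), (-1)])) (.leaf []))))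

def certJL7 : Janko.Tree (List ℤ) :=
  (.node (.node (.node (.node (.leaf []) (.leaf [(-2), 0, 0, 0, 0])) (.node (.leaf [2, (-2), 0, 0, 0]) (.leaf [(-12), 5, 7, (-1), 0]))) (.node (.node (.leaf []) (.leaf [(-31), 23, 7, 1, 0])) (.leaf [3, (-3), 0, 0, 0]))) (.node (.node (.node (.leaf []) (.leaf [(-14), 8, 7, 1, 0])) (.leaf [4, (-4), 0, 0, 0])) (.node (.node (.leaf []) (.leaf [(-6), 5, 0, 0, 0])) (.leaf []))))

def certJL8 : Janko.Tree (List ℤ) :=
  (.node (.node (.node (.node (.leaf []) (.leaf [0, (-1), 0, 0, 0])) (.node (.leaf []) (.leaf [1, 0, 0, 0, 0]))) (.node (.node (.leaf [3, (-4), 2, 0, 0]) (.leaf [4, (-2), 1, 0, 0])) (.leaf [3, 0, 0, 0, (-1)]))) (.node (.node (.node (.leaf []) (.leaf [0, (-1), 0, 0, 0])) (.leaf [])) (.node (.node (.leaf []) (.leaf [(-221), 112, 16, 6, 2])) (.leaf [2, (-2), 0, 0, 0]))))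

def certJL9 : Janko.Tree (List ℤ) :=
  (.node (.node (.node (.node (.leaf []) (.leaf [])) (.node (.leaf []) (.leaf [0, 1, 0, 0, 0]))) (.node (.node (.leaf [(-4), 5, (-1), 0, 0]) (.leaf [])) (.leaf [12, (-6), (-7), 0, 0]))) (.node (.node (.node (.leaf []) (.leaf [])) (.leaf [(-1), 1, (-1), 0, 0])) (.node (.node (.leaf [3, (-2), 1, 0, 0]) (.leaf [5, (-3), 0, 0, 0])) (.leaf [55, (-31), 8, (-2), (-1)]))))

def certJL10 : Janko.Tree (List ℤ) :=
  (.node (.node (.node (.node (.leaf []) (.leaf [(-1), 2, 0, 0, 0])) (.node (.leaf []) (.leaf [2, (-1), 0, 0, 0]))) (.node (.node (.leaf [0, 0, 1, 0, 0]) (.leaf [])) (.leaf [(-7), 6, 0, 0, 0]))) (.node (.node (.node (.leaf [0, (-1), 0, 0, 0]) (.leaf [1, (-1), 0, 0, 0])) (.leaf [])) (.node (.node (.leaf []) (.leaf [170, (-90), (-16), (-3), (-2)])) (.leaf []))))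

def certJL11 : Janko.Tree (List ℤ) :=
  (.node (.node (.node (.node (.leaf [1, (-1), 0, 0, 0]) (.leaf [(-5), 7, 0, (-1), 0])) (.node (.leaf [2, (-1), 1, 0, 0]) (.leaf []))) (.node (.node (.leaf [(-2), 1, 0, 0, 0]) (.leaf [20, (-12), (-7), (-1), 0])) (.leaf []))) (.node (.node (.node (.leaf []) (.leaf [])) (.leaf [])) (.node (.node (.leaf [3, (-3), 0, 0, 0]) (.leaf [2, 15, (-1), 0, (-1)])) (.leaf []))))

def certJL12 : Janko.Tree (List ℤ) :=
  (.node (.node (.node (.node (.leaf [2, (-1), (-1), 0, 0]) (.leaf [1, (-1), 0, 0, 0])) (.node (.leaf []) (.leaf []))) (.node (.node (.leaf []) (.leaf [28, (-18), (-7), (-1), 0])) (.leaf []))) (.node (.node (.node (.leaf []) (.leaf [(-7), 7, 0, (-1), 0])) (.leaf [])) (.node (.node (.leaf []) (.leaf [])) (.leaf []))))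

def certJL13 : Janko.Tree (List ℤ) :=
  (.node (.node (.node (.node (.leaf []) (.leaf [(-3), 5, 0, 1, 0])) (.node (.leaf []) (.leaf [(-1), 3, 0, 0, 0]))) (.node (.node (.leaf []) (.leaf [(-21), 10, 7, 2, 0])) (.leaf [16, (-7), (-7), (-1), 0]))) (.node (.node (.node (.leaf []) (.leaf [])) (.leaf [0, 1, 0, 0, 0])) (.node (.node (.leaf [(-2), 1, 0, 0, 0]) (.leaf [361, (-186), (-30), (-9), (-8)])) (.leaf [0, 2, 0, 0, 0]))))

def certJL14 : Janko.Tree (List ℤ) :=
  (.node (.node (.node (.node (.leaf []) (.leaf [(-2), 3, 0, 0, 0])) (.node (.leaf []) (.leaf [5, (-3), 0, 0, 0]))) (.node (.node (.leaf []) (.leaf [(-13), 14, 7, 0, (-3)])) (.leaf [8, (-8), 0, 0, 0]))) (.node (.node (.node (.leaf []) (.leaf [(-4), 3, 0, 0, 0])) (.leaf [(-13), 5, 7, 0, 1])) (.node (.node (.leaf []) (.leaf [])) (.leaf [17, (-21), (-7), 1, 1]))))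

def certJL15 : Janko.Tree (List ℤ) :=
  (.node (.node (.node (.node (.leaf []) (.leaf [])) (.node (.leaf [10, (-10), 0, 0, 0]) (.leaf [0, 7, 0, 0, 0]))) (.node (.node (.leaf [1, (-1), 0, 0, 0]) (.leaf [])) (.leaf []))) (.node (.node (.node (.leaf [1, (-1), 0, 0, 0]) (.leaf [])) (.leaf [(-12), 4, 7, 0, 0])) (.node (.node (.leaf []) (.leaf [(-152), 78, (-1), 4, 4])) (.leaf [0, 0, (-1), 0, 0]))))

def certJL : Janko.Tree (List ℤ) :=
  (.node (.node (.node (.node certJL0 certJL8) (.node certJL4 certJL12)) (.node (.node certJL2 certJL10) (.node certJL6 certJL14))) (.node (.node (.node certJL1 certJL9) (.node certJL5 certJL13)) (.node (.node certJL3 certJL11) (.node certJL7 certJL15))))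

def certJKind0 : Janko.Tree (ℕ) :=
  (.node (.node (.node (.node (.leaf 0) (.leaf 0)) (.node (.leaf 0) (.leaf 3))) (.node (.node (.leaf 0) (.leaf 3)) (.leaf 0))) (.node (.node (.node (.leaf 0) (.leaf 3)) (.node (.leaf 0) (.leaf 3))) (.node (.node (.leaf 0) (.leaf 3)) (.leaf 2))))

def certJKind1 : Janko.Tree (ℕ) :=
  (.node (.node (.node (.node (.leaf 0) (.leaf 3)) (.node (.leaf 3) (.leaf 3))) (.node (.node (.leaf 0) (.leaf 2)) (.leaf 0))) (.node (.node (.node (.leaf 0) (.leaf 3)) (.node (.leaf 3) (.leaf 3))) (.node (.node (.leaf 0) (.leaf 0)) (.leaf 0))))

def certJKind2 : Janko.Tree (ℕ) :=
  (.node (.node (.node (.node (.leaf 0) (.leaf 3)) (.node (.leaf 0) (.leaf 3))) (.node (.node (.leaf 0) (.leaf 3)) (.leaf 0))) (.node (.node (.node (.leaf 3) (.leaf 3)) (.node (.leaf 0) (.leaf 3))) (.node (.node (.leaf 0) (.leaf 3)) (.leaf 0))))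

def certJKind3 : Janko.Tree (ℕ) :=
  (.node (.node (.node (.node (.leaf 0) (.leaf 0)) (.node (.leaf 0) (.leaf 3))) (.node (.node (.leaf 3) (.leaf 3)) (.leaf 0))) (.node (.node (.node (.leaf 3) (.leaf 0)) (.node (.leaf 3) (.leaf 3))) (.node (.node (.leaf 2) (.leaf 0)) (.leaf 3))))

def certJKind4 : Janko.Tree (ℕ) :=
  (.node (.node (.node (.node (.leaf 0) (.leaf 3)) (.node (.leaf 0) (.leaf 3))) (.node (.node (.leaf 0) (.leaf 3)) (.leaf 3))) (.node (.node (.node (.leaf 0) (.leaf 3)) (.node (.leaf 0) (.leaf 3))) (.node (.node (.leaf 0) (.leaf 0)) (.leaf 3))))

def certJKind5 : Janko.Tree (ℕ) :=
  (.node (.node (.node (.node (.leaf 0) (.leaf 3)) (.node (.leaf 3) (.leaf 3))) (.node (.node (.leaf 0) (.leaf 3)) (.leaf 0))) (.node (.node (.node (.leaf 0) (.leaf 0)) (.leaf 0)) (.node (.node (.leaf 3) (.leaf 0)) (.leaf 3))))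

def certJKind6 : Janko.Tree (ℕ) :=
  (.node (.node (.node (.node (.leaf 0) (.leaf 3)) (.node (.leaf 0) (.leaf 3))) (.node (.node (.leaf 3) (.leaf 3)) (.leaf 3))) (.node (.node (.node (.leaf 3) (.leaf 3)) (.leaf 0)) (.node (.node (.leaf 0) (.leaf 3)) (.leaf 0))))

def certJKind7 : Janko.Tree (ℕ) :=
  (.node (.node (.node (.node (.leaf 0) (.leaf 3)) (.node (.leaf 3) (.leaf 3))) (.node (.node (.leaf 0) (.leaf 3)) (.leaf 3))) (.node (.node (.node (.leaf 0) (.leaf 3)) (.leaf 3)) (.node (.node (.leaf 0) (.leaf 3)) (.leaf 0))))

def certJKind8 : Janko.Tree (ℕ) :=
  (.node (.node (.node (.node (.leaf 0) (.leaf 3)) (.node (.leaf 0) (.leaf 2))) (.node (.node (.leaf 3) (.leaf 3)) (.leaf 3))) (.node (.node (.node (.leaf 0) (.leaf 3)) (.leaf 0)) (.node (.node (.leaf 0) (.leaf 3)) (.leaf 3))))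

def certJKind9 : Janko.Tree (ℕ) :=
  (.node (.node (.node (.node (.leaf 0) (.leaf 0)) (.node (.leaf 0) (.leaf 3))) (.node (.node (.leaf 3) (.leaf 0)) (.leaf 3))) (.node (.node (.node (.leaf 0) (.leaf 0)) (.leaf 3)) (.node (.node (.leaf 3) (.leaf 3)) (.leaf 3))))

def certJKind10 : Janko.Tree (ℕ) :=
  (.node (.node (.node (.node (.leaf 0) (.leaf 3)) (.node (.leaf 0) (.leaf 3))) (.node (.node (.leaf 2) (.leaf 0)) (.leaf 3))) (.node (.node (.node (.leaf 3) (.leaf 3)) (.leaf 0)) (.node (.node (.leaf 0) (.leaf 3)) (.leaf 0))))

def certJKind11 : Janko.Tree (ℕ) :=
  (.node (.node (.node (.node (.leaf 3) (.leaf 3)) (.node (.leaf 3) (.leaf 1))) (.node (.node (.leaf 3) (.leaf 3)) (.leaf 0))) (.node (.node (.node (.leaf 0) (.leaf 0)) (.leaf 0)) (.node (.node (.leaf 3) (.leaf 3)) (.leaf 0))))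

def certJKind12 : Janko.Tree (ℕ) :=
  (.node (.node (.node (.node (.leaf 3) (.leaf 3)) (.node (.leaf 0) (.leaf 1))) (.node (.node (.leaf 0) (.leaf 3)) (.leaf 0))) (.node (.node (.node (.leaf 0) (.leaf 3)) (.leaf 0)) (.node (.node (.leaf 0) (.leaf 0)) (.leaf 0))))

def certJKind13 : Janko.Tree (ℕ) :=
  (.node (.node (.node (.node (.leaf 0) (.leaf 3)) (.node (.leaf 0) (.leaf 3))) (.node (.node (.leaf 0) (.leaf 3)) (.leaf 3))) (.node (.node (.node (.leaf 0) (.leaf 0)) (.leaf 3)) (.node (.node (.leaf 3) (.leaf 3)) (.leaf 3))))

def certJKind14 : Janko.Tree (ℕ) :=
  (.node (.node (.node (.node (.leaf 0) (.leaf 3)) (.node (.leaf 0) (.leaf 3))) (.node (.node (.leaf 0) (.leaf 3)) (.leaf 3))) (.node (.node (.node (.leaf 0) (.leaf 3)) (.leaf 3)) (.node (.node (.leaf 0) (.leaf 0)) (.leaf 3))))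

def certJKind15 : Janko.Tree (ℕ) :=
  (.node (.node (.node (.node (.leaf 0) (.leaf 0)) (.node (.leaf 3) (.leaf 3))) (.node (.node (.leaf 3) (.leaf 0)) (.leaf 0))) (.node (.node (.node (.leaf 3) (.leaf 0)) (.leaf 3)) (.node (.node (.leaf 0) (.leaf 3)) (.leaf 3))))

def certJKind : Janko.Tree (ℕ) :=
  (.node (.node (.node (.node certJKind0 certJKind8) (.node certJKind4 certJKind12)) (.node (.node certJKind2 certJKind10) (.node certJKind6 certJKind14))) (.node (.node (.node certJKind1 certJKind9) (.node certJKind5 certJKind13)) (.node (.node certJKind3 certJKind11) (.node certJKind7 certJKind15))))

def certJRank0 : Janko.Tree (ℕ) :=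
  (.node (.node (.node (.node (.leaf 0) (.leaf 0)) (.node (.leaf 0) (.leaf 106))) (.node (.node (.leaf 0) (.leaf 89)) (.leaf 0))) (.node (.node (.node (.leaf 0) (.leaf 40)) (.node (.leaf 0) (.leaf 87))) (.node (.node (.leaf 0) (.leaf 99)) (.leaf 70))))

def certJRank1 : Janko.Tree (ℕ) :=
  (.node (.node (.node (.node (.leaf 0) (.leaf 66)) (.node (.leaf 55) (.leaf 30))) (.node (.node (.leaf 0) (.leaf 82)) (.leaf 0))) (.node (.node (.node (.leaf 0) (.leaf 76)) (.node (.leaf 10) (.leaf 64))) (.node (.node (.leaf 0) (.leaf 0)) (.leaf 0))))

def certJRank2 : Janko.Tree (ℕ) :=
  (.node (.node (.node (.node (.leaf 0) (.leaf 85)) (.node (.leaf 0) (.leaf 112))) (.node (.node (.leaf 0) (.leaf 96)) (.leaf 0))) (.node (.node (.node (.leaf 59) (.leaf 33)) (.node (.leaf 0) (.leaf 61))) (.node (.node (.leaf 0) (.leaf 42)) (.leaf 0))))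

def certJRank3 : Janko.Tree (ℕ) :=
  (.node (.node (.node (.node (.leaf 0) (.leaf 0)) (.node (.leaf 0) (.leaf 103))) (.node (.node (.leaf 21) (.leaf 68)) (.leaf 0))) (.node (.node (.node (.leaf 17) (.leaf 0)) (.node (.leaf 51) (.leaf 60))) (.node (.node (.leaf 2) (.leaf 0)) (.leaf 38))))

def certJRank4 : Janko.Tree (ℕ) :=
  (.node (.node (.node (.node (.leaf 0) (.leaf 92)) (.node (.leaf 0) (.leaf 111))) (.node (.node (.leaf 0) (.leaf 6)) (.leaf 97))) (.node (.node (.node (.leaf 0) (.leaf 39)) (.node (.leaf 0) (.leaf 44))) (.node (.node (.leaf 0) (.leaf 0)) (.leaf 26))))

def certJRank5 : Janko.Tree (ℕ) :=
  (.node (.node (.node (.node (.leaf 0) (.leaf 90)) (.node (.leaf 16) (.leaf 102))) (.node (.node (.leaf 0) (.leaf 95)) (.leaf 0))) (.node (.node (.node (.leaf 0) (.leaf 0)) (.leaf 0)) (.node (.node (.leaf 19) (.leaf 0)) (.leaf 91))))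

def certJRank6 : Janko.Tree (ℕ) :=
  (.node (.node (.node (.node (.leaf 0) (.leaf 93)) (.node (.leaf 0) (.leaf 108))) (.node (.node (.leaf 49) (.leaf 37)) (.leaf 86))) (.node (.node (.node (.leaf 47) (.leaf 98)) (.leaf 0)) (.node (.node (.leaf 0) (.leaf 100)) (.leaf 0))))

def certJRank7 : Janko.Tree (ℕ) :=
  (.node (.node (.node (.node (.leaf 0) (.leaf 53)) (.node (.leaf 9) (.leaf 80))) (.node (.node (.leaf 0) (.leaf 72)) (.leaf 12))) (.node (.node (.node (.leaf 0) (.leaf 78)) (.leaf 24)) (.node (.node (.leaf 0) (.leaf 31)) (.leaf 0))))

def certJRank8 : Janko.Tree (ℕ) :=
  (.node (.node (.node (.node (.leaf 0) (.leaf 8)) (.node (.leaf 0) (.leaf 1))) (.node (.node (.leaf 63) (.leaf 67)) (.leaf 83))) (.node (.node (.node (.leaf 0) (.leaf 35)) (.leaf 0)) (.node (.node (.leaf 0) (.leaf 109)) (.leaf 25))))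

def certJRank9 : Janko.Tree (ℕ) :=
  (.node (.node (.node (.node (.leaf 0) (.leaf 0)) (.node (.leaf 0) (.leaf 3))) (.node (.node (.leaf 65) (.leaf 0)) (.leaf 58))) (.node (.node (.node (.leaf 0) (.leaf 0)) (.leaf 54)) (.node (.node (.leaf 46) (.leaf 29)) (.leaf 94))))

def certJRank10 : Janko.Tree (ℕ) :=
  (.node (.node (.node (.node (.leaf 0) (.leaf 14)) (.node (.leaf 0) (.leaf 11))) (.node (.node (.leaf 43) (.leaf 0)) (.leaf 32))) (.node (.node (.node (.leaf 50) (.leaf 69)) (.leaf 0)) (.node (.node (.leaf 0) (.leaf 107)) (.leaf 0))))

def certJRank11 : Janko.Tree (ℕ) :=
  (.node (.node (.node (.node (.leaf 18) (.leaf 71)) (.node (.leaf 48) (.leaf 0))) (.node (.node (.leaf 22) (.leaf 77)) (.leaf 0))) (.node (.node (.node (.leaf 0) (.leaf 0)) (.leaf 0)) (.node (.node (.leaf 27) (.leaf 105)) (.leaf 0))))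

def certJRank12 : Janko.Tree (ℕ) :=
  (.node (.node (.node (.node (.leaf 45) (.leaf 7)) (.node (.leaf 0) (.leaf 0))) (.node (.node (.leaf 0) (.leaf 75)) (.leaf 0))) (.node (.node (.node (.leaf 0) (.leaf 81)) (.leaf 0)) (.node (.node (.leaf 0) (.leaf 0)) (.leaf 0))))

def certJRank13 : Janko.Tree (ℕ) :=
  (.node (.node (.node (.node (.leaf 0) (.leaf 79)) (.node (.leaf 0) (.leaf 15))) (.node (.node (.leaf 0) (.leaf 74)) (.leaf 73))) (.node (.node (.node (.leaf 0) (.leaf 0)) (.leaf 4)) (.node (.node (.leaf 28) (.leaf 110)) (.leaf 56))))

def certJRank14 : Janko.Tree (ℕ) :=
  (.node (.node (.node (.node (.leaf 0) (.leaf 23)) (.node (.leaf 0) (.leaf 20))) (.node (.node (.leaf 0) (.leaf 104)) (.leaf 36))) (.node (.node (.node (.leaf 0) (.leaf 34)) (.leaf 84)) (.node (.node (.leaf 0) (.leaf 0)) (.leaf 88))))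

def certJRank15 : Janko.Tree (ℕ) :=
  (.node (.node (.node (.node (.leaf 0) (.leaf 0)) (.node (.leaf 41) (.leaf 62))) (.node (.node (.leaf 5) (.leaf 0)) (.leaf 0))) (.node (.node (.node (.leaf 13) (.leaf 0)) (.leaf 57)) (.node (.node (.leaf 0) (.leaf 101)) (.leaf 52))))

def certJRank : Janko.Tree (ℕ) :=
  (.node (.node (.node (.node certJRank0 certJRank8) (.node certJRank4 certJRank12)) (.node (.node certJRank2 certJRank10) (.node certJRank6 certJRank14))) (.node (.node (.node certJRank1 certJRank9) (.node certJRank5 certJRank13)) (.node (.node certJRank3 certJRank11) (.node certJRank7 certJRank15))))

def certJVia0 : Janko.Tree (ℕ × ℕ) :=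
  (.node (.node (.node (.node (.leaf (0, 0)) (.leaf (0, 0))) (.node (.leaf (0, 0)) (.leaf (12, 96)))) (.node (.node (.leaf (0, 0)) (.leaf (9, 70))) (.leaf (0, 0)))) (.node (.node (.node (.leaf (0, 0)) (.leaf (3, 83))) (.node (.leaf (0, 0)) (.leaf (8, 36)))) (.node (.node (.leaf (0, 0)) (.leaf (5, 88))) (.leaf (3, 0)))))

def certJVia1 : Janko.Tree (ℕ × ℕ) :=
  (.node (.node (.node (.node (.leaf (0, 0)) (.leaf (4, 64))) (.node (.leaf (6, 45)) (.leaf (2, 90)))) (.node (.node (.leaf (0, 0)) (.leaf (4, 0))) (.leaf (0, 0)))) (.node (.node (.node (.leaf (0, 0)) (.leaf (0, 86))) (.node (.leaf (4, 46)) (.leaf (9, 71)))) (.node (.node (.leaf (0, 0)) (.leaf (0, 0))) (.leaf (0, 0)))))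

def certJVia2 : Janko.Tree (ℕ × ℕ) :=
  (.node (.node (.node (.node (.leaf (0, 0)) (.leaf (11, 82))) (.node (.leaf (0, 0)) (.leaf (11, 99)))) (.node (.node (.leaf (0, 0)) (.leaf (12, 82))) (.leaf (0, 0)))) (.node (.node (.node (.leaf (6, 31)) (.leaf (5, 73))) (.node (.leaf (0, 0)) (.leaf (10, 31)))) (.node (.node (.leaf (0, 0)) (.leaf (1, 89))) (.leaf (0, 0)))))

def certJVia3 : Janko.Tree (ℕ × ℕ) :=
  (.node (.node (.node (.node (.leaf (0, 0)) (.leaf (0, 0))) (.node (.leaf (0, 0)) (.leaf (4, 99)))) (.node (.node (.leaf (6, 23)) (.leaf (1, 84))) (.leaf (0, 0)))) (.node (.node (.node (.leaf (2, 23)) (.leaf (0, 0))) (.node (.leaf (5, 13)) (.leaf (11, 31)))) (.node (.node (.leaf (1, 0)) (.leaf (0, 0))) (.leaf (2, 83)))))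

def certJVia4 : Janko.Tree (ℕ × ℕ) :=
  (.node (.node (.node (.node (.leaf (0, 0)) (.leaf (9, 82))) (.node (.leaf (0, 0)) (.leaf (12, 98)))) (.node (.node (.leaf (0, 0)) (.leaf (1, 82))) (.leaf (10, 70)))) (.node (.node (.node (.leaf (0, 0)) (.leaf (1, 74))) (.node (.leaf (0, 0)) (.leaf (12, 21)))) (.node (.node (.leaf (0, 0)) (.leaf (0, 0))) (.leaf (3, 71)))))

def certJVia5 : Janko.Tree (ℕ × ℕ) :=
  (.node (.node (.node (.node (.leaf (0, 0)) (.leaf (0, 80))) (.node (.leaf (5, 82)) (.leaf (6, 94)))) (.node (.node (.leaf (0, 0)) (.leaf (12, 89))) (.leaf (0, 0)))) (.node (.node (.node (.leaf (0, 0)) (.leaf (0, 0))) (.leaf (0, 0))) (.node (.node (.leaf (2, 16)) (.leaf (0, 0))) (.leaf (8, 69)))))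

def certJVia6 : Janko.Tree (ℕ × ℕ) :=
  (.node (.node (.node (.node (.leaf (0, 0)) (.leaf (3, 80))) (.node (.leaf (0, 0)) (.leaf (3, 99)))) (.node (.node (.leaf (6, 19)) (.leaf (5, 83))) (.leaf (10, 82)))) (.node (.node (.node (.leaf (5, 71)) (.leaf (3, 84))) (.leaf (0, 0))) (.node (.node (.leaf (0, 0)) (.leaf (10, 91))) (.leaf (0, 0)))))

def certJVia7 : Janko.Tree (ℕ × ℕ) :=
  (.node (.node (.node (.node (.leaf (0, 0)) (.leaf (4, 67))) (.node (.leaf (0, 82)) (.leaf (12, 95)))) (.node (.node (.leaf (0, 0)) (.leaf (12, 85))) (.leaf (2, 82)))) (.node (.node (.node (.leaf (0, 0)) (.leaf (6, 90))) (.leaf (2, 71))) (.node (.node (.leaf (0, 0)) (.leaf (4, 96))) (.leaf (0, 0)))))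

def certJVia8 : Janko.Tree (ℕ × ℕ) :=
  (.node (.node (.node (.node (.leaf (0, 0)) (.leaf (3, 82))) (.node (.leaf (0, 0)) (.leaf (0, 0)))) (.node (.node (.leaf (3, 20)) (.leaf (6, 84))) (.leaf (6, 82)))) (.node (.node (.node (.leaf (0, 0)) (.leaf (3, 79))) (.leaf (0, 0))) (.node (.node (.leaf (0, 0)) (.leaf (9, 99))) (.leaf (1, 60)))))

def certJVia9 : Janko.Tree (ℕ × ℕ) :=
  (.node (.node (.node (.node (.leaf (0, 0)) (.leaf (0, 0))) (.node (.leaf (0, 0)) (.leaf (1, 8)))) (.node (.node (.leaf (5, 20)) (.leaf (0, 0))) (.leaf (4, 62)))) (.node (.node (.node (.leaf (0, 0)) (.leaf (0, 0))) (.leaf (0, 31))) (.node (.node (.leaf (6, 17)) (.leaf (6, 85))) (.leaf (12, 78)))))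

def certJVia10 : Janko.Tree (ℕ × ℕ) :=
  (.node (.node (.node (.node (.leaf (0, 0)) (.leaf (1, 69))) (.node (.leaf (0, 0)) (.leaf (2, 24)))) (.node (.node (.leaf (2, 0)) (.leaf (0, 0))) (.leaf (2, 85)))) (.node (.node (.node (.leaf (3, 21)) (.leaf (5, 77))) (.leaf (0, 0))) (.node (.node (.leaf (0, 0)) (.leaf (8, 96))) (.leaf (0, 0)))))

def certJVia11 : Janko.Tree (ℕ × ℕ) :=
  (.node (.node (.node (.node (.leaf (2, 15)) (.leaf (11, 73))) (.node (.leaf (2, 18)) (.leaf (0, 0)))) (.node (.node (.leaf (4, 25)) (.leaf (4, 85))) (.leaf (0, 0)))) (.node (.node (.node (.leaf (0, 0)) (.leaf (0, 0))) (.leaf (0, 0))) (.node (.node (.leaf (0, 71)) (.leaf (8, 68))) (.leaf (0, 0)))))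

def certJVia12 : Janko.Tree (ℕ × ℕ) :=
  (.node (.node (.node (.node (.leaf (2, 21)) (.leaf (1, 70))) (.node (.leaf (0, 0)) (.leaf (0, 0)))) (.node (.node (.leaf (0, 0)) (.leaf (6, 86))) (.leaf (0, 0)))) (.node (.node (.node (.leaf (0, 0)) (.leaf (10, 89))) (.leaf (0, 0))) (.node (.node (.leaf (0, 0)) (.leaf (0, 0))) (.leaf (0, 0)))))

def certJVia13 : Janko.Tree (ℕ × ℕ) :=
  (.node (.node (.node (.node (.leaf (0, 0)) (.leaf (11, 89))) (.node (.leaf (0, 0)) (.leaf (5, 69)))) (.node (.node (.leaf (0, 0)) (.leaf (4, 86))) (.leaf (6, 69)))) (.node (.node (.node (.leaf (0, 0)) (.leaf (0, 0))) (.leaf (1, 22))) (.node (.node (.leaf (4, 34)) (.leaf (11, 90))) (.leaf (6, 44)))))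

def certJVia14 : Janko.Tree (ℕ × ℕ) :=
  (.node (.node (.node (.node (.leaf (0, 0)) (.leaf (1, 71))) (.node (.leaf (0, 0)) (.leaf (6, 32)))) (.node (.node (.leaf (0, 0)) (.leaf (1, 87))) (.leaf (3, 69)))) (.node (.node (.node (.leaf (0, 0)) (.leaf (1, 79))) (.leaf (2, 52))) (.node (.node (.leaf (0, 0)) (.leaf (0, 0))) (.leaf (8, 74)))))

def certJVia15 : Janko.Tree (ℕ × ℕ) :=
  (.node (.node (.node (.node (.leaf (0, 0)) (.leaf (0, 0))) (.node (.leaf (0, 83)) (.leaf (7, 31)))) (.node (.node (.leaf (0, 32)) (.leaf (0, 0))) (.leaf (0, 0)))) (.node (.node (.node (.leaf (2, 32)) (.leaf (0, 0))) (.leaf (12, 45))) (.node (.node (.leaf (0, 0)) (.leaf (12, 91))) (.leaf (2, 45)))))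

def certJVia : Janko.Tree (ℕ × ℕ) :=
  (.node (.node (.node (.node certJVia0 certJVia8) (.node certJVia4 certJVia12)) (.node (.node certJVia2 certJVia10) (.node certJVia6 certJVia14))) (.node (.node (.node certJVia1 certJVia9) (.node certJVia5 certJVia13)) (.node (.node certJVia3 certJVia11) (.node certJVia7 certJVia15))))

def certJRels : List (List Bool) :=
  [
   [false, true, false, true, false, true],
   [false, false, true, false, false, true],
   [false, true, true, false, true, true],
   [false, false, false, false, false, false, false],
   [true, true, true, true, true, true, true],
   [false, false, false, true, false, false, false, true, false, false, false, true],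
   [false, true, true, true, false, true, true, true, false, true, true, true],
   [false, false, true, true, false, false, true, true, false, false, true, true, false, false, true, true, false, false, true, true, false, false, true, true, false, false, true, true],
   [false, false, false, true, true, true, false, false, false, true, true, true, false, false, false, true, true, true, false, false, false, true, true, true, false, false, false, true, true, true],
   [false, false, false, false, true, false, false, false, false, true, false, false, false, false, true, false, false, false, false, true, false, false, false, false, true, false, false, false, false, true, false, false, false, false, true],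
   [false, false, true, false, true, false, false, true, false, true, false, false, true, false, true, false, false, true, false, true, false, false, true, false, true, false, false, true, false, true, false, false, true, false, true],
   [false, true, false, true, true, false, true, false, true, true, false, true, false, true, true, false, true, false, true, true, false, true, false, true, true, false, true, false, true, true, false, true, false, true, true],
   [false, true, true, true, true, false, true, true, true, true, false, true, true, true, true, false, true, true, true, true, false, true, true, true, true, false, true, true, true, true, false, true, true, true, true]]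

def certJCombos : List (List ℤ × List (ℤ × (ℕ × ℕ))) :=
  [
   ([14, 0, 0, 0, 0],
    [(58861306, (6, 47)), (92496645, (0, 75)), ((-86890397), (0, 38)), ((-73810046), (8, 8)), (20554451, (8, 65)), (231, (12, 39)), ((-20554990), (5, 45))]),
   ([(-7), 7, 0, 0, 0],
    [((-16817647), (6, 47)), ((-26427819), (0, 75)), (24826022, (0, 38)), (21088749, (8, 8)), ((-5872746), (8, 65)), ((-66), (12, 39)), (5872900, (5, 45))]),
   ([(-7), 0, 7, 0, 0],
    [((-33635042), (6, 47)), ((-52855241), (0, 75)), (49651670, (0, 38)), (42177182, (8, 8)), ((-11745404), (8, 65)), ((-132), (12, 39)), (11745712, (5, 45))]),
   ([(-7), 0, 0, 7, 0],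
    [((-29556835), (6, 47)), ((-46446611), (0, 75)), (43631463, (0, 38)), (37063251, (8, 8)), ((-10321287), (8, 65)), ((-116), (12, 39)), (10321560, (5, 45))]),
   ([0, 0, 0, 0, 7],
    [((-21), (6, 47)), ((-38), (0, 75)), (34, (0, 38)), (30, (8, 8)), ((-8), (8, 65)), (8, (5, 45))])]

/-- The certificate. -/
def certJ : CentralTable.Cert where
  deg := 100
  m0 := 7
  m1 := 7
  N := 100
  rels := certJRels
  P := 5
  g0 := 3812002213551569965693858994438394162604613654463844820855551655597369139024901822146738035073173363366550981409302568806255506921271088600892276083280366260958740979054484637172915406646534453445983553941064908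
  g1 := 4099378797640334834444348471315870177714796982788354498090214764236676198563663708477426445973727437086003607706910723484583118195854807184457298051825747296006593912642683385186903705059666565846961590008009485
  h0 := 825292516840666061222984290628879628555170207652449024296376126345096341136559109994105316419068673188008625451470733649534046760093993754213469089289608604640821307004212943544886797619544471723409884754170240
  h1 := 1702735042742670056156981895300359635345644653679565078146916351386040445736633697408223455740990694672896959725287099595260697148551524791484758144587525210686603426893036229412527842926530919212511831265476864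
  next := certJNext
  lab := certJLab
  word := certJWord
  perm := certJPerm
  par := certJPar
  L := certJL
  kind := certJKind
  rank := certJRank
  via := certJVia
  pv := [200, 51, 42, 112, 161]
  combos := certJCombos

/-- The four generators of order seven as words. -/
def wordA : List Bool := [false, true, true, true, true, false, true, true, false, true, false, true, true, true, true, true, true, true, true]

def wordB : List Bool := [true, true, true, true, false, true, true, true, false, true, true, true, true, true, true, true]

def wordX : List Bool := [true, false, true, true, false, false, true, true, false, false]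

def wordY : List Bool := [false, false, true, false, true, false, false, true, false, true, false, false]

/-- The generators of the subgroup as words in the new ones. -/
def subWord0 : List Bool := [true, false, false, false, true, false, false, true, true, true, false, true, true, false, false]

def subWord1 : List Bool := [true, true, false, true, true, true, false, true, true, true, false]

end Cfsg.Agent.Lie.J2Cert
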