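import Cfsg.Agent.Lib.Lie.JankoPack

/-!
Certificate data for the subgroup of index 100 (generated).
-/

set_option autoImplicit false
set_option maxRecDepth 100000
set_option maxHeartbeats 0

namespace Cfsg.Agent.Lie.J2Cert

def subGens : List (ℕ × ℕ × Bool) := [(107, 437, true), (31, 2548, false)]

def subConjA0 : Janko.Tree (ℕ) :=
  (.node (.node (.node (.node (.node (.leaf 107) (.leaf 224)) (.leaf 114)) (.node (.leaf 9) (.leaf 236))) (.node (.node (.node (.leaf 214) (.leaf 223)) (.leaf 91)) (.node (.leaf 217) (.leaf 256)))) (.node (.node (.node (.node (.leaf 135) (.leaf 143)) (.leaf 282)) (.node (.leaf 12) (.leaf 208))) (.node (.node (.node (.leaf 67) (.leaf 251)) (.leaf 199)) (.node (.leaf 60) (.leaf 155)))))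

def subConjA1 : Janko.Tree (ℕ) :=
  (.node (.node (.node (.node (.node (.leaf 210) (.leaf 170)) (.leaf 285)) (.node (.leaf 156) (.leaf 151))) (.node (.node (.node (.leaf 196) (.leaf 113)) (.leaf 253)) (.node (.leaf 279) (.leaf 164)))) (.node (.node (.node (.node (.leaf 6) (.leaf 5)) (.leaf 145)) (.node (.leaf 140) (.leaf 167))) (.node (.node (.node (.leaf 242) (.leaf 305)) (.leaf 90)) (.node (.leaf 289) (.leaf 175)))))

def subConjA2 : Janko.Tree (ℕ) :=
  (.node (.node (.node (.node (.node (.leaf 44) (.leaf 249)) (.leaf 45)) (.node (.leaf 82) (.leaf 10))) (.node (.node (.node (.leaf 181) (.leaf 235)) (.leaf 127)) (.node (.leaf 88) (.leaf 87)))) (.node (.node (.node (.node (.leaf 182) (.leaf 132)) (.leaf 296)) (.node (.leaf 66) (.leaf 1))) (.node (.node (.node (.leaf 27) (.leaf 206)) (.leaf 157)) (.node (.leaf 128) (.leaf 49)))))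

def subConjA3 : Janko.Tree (ℕ) :=
  (.node (.node (.node (.node (.node (.leaf 204) (.leaf 41)) (.leaf 188)) (.node (.leaf 48) (.leaf 264))) (.node (.node (.node (.leaf 191) (.leaf 148)) (.leaf 47)) (.node (.leaf 19) (.leaf 301)))) (.node (.node (.node (.node (.leaf 99) (.leaf 141)) (.leaf 125)) (.node (.leaf 262) (.leaf 230))) (.node (.node (.node (.leaf 23) (.leaf 152)) (.leaf 218)) (.node (.leaf 22) (.leaf 106)))))

def subConjA4 : Janko.Tree (ℕ) :=
  (.node (.node (.node (.node (.node (.leaf 58) (.leaf 270)) (.leaf 274)) (.node (.leaf 24) (.leaf 33))) (.node (.node (.node (.leaf 36) (.leaf 271)) (.leaf 225)) (.node (.leaf 149) (.leaf 169)))) (.node (.node (.node (.node (.leaf 244) (.leaf 233)) (.leaf 291)) (.node (.leaf 70) (.leaf 37))) (.node (.node (.node (.leaf 116) (.leaf 205)) (.leaf 247)) (.node (.leaf 52) (.leaf 20)))))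

def subConjA5 : Janko.Tree (ℕ) :=
  (.node (.node (.node (.node (.node (.leaf 273) (.leaf 267)) (.leaf 298)) (.node (.leaf 138) (.leaf 277))) (.node (.node (.node (.leaf 212) (.leaf 14)) (.leaf 57)) (.node (.leaf 302) (.leaf 72)))) (.node (.node (.node (.node (.leaf 25) (.leaf 197)) (.leaf 100)) (.node (.leaf 168) (.leaf 213))) (.node (.node (.node (.leaf 8) (.leaf 309)) (.leaf 34)) (.node (.leaf 42) (.leaf 303)))))

def subConjA6 : Janko.Tree (ℕ) :=
  (.node (.node (.node (.node (.node (.leaf 17) (.leaf 83)) (.leaf 39)) (.node (.leaf 84) (.leaf 313))) (.node (.node (.node (.leaf 31) (.leaf 62)) (.leaf 89)) (.node (.leaf 94) (.leaf 211)))) (.node (.node (.node (.node (.leaf 115) (.leaf 172)) (.leaf 174)) (.node (.leaf 173) (.leaf 32))) (.node (.node (.node (.leaf 219) (.leaf 171)) (.leaf 18)) (.node (.leaf 11) (.leaf 297)))))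

def subConjA7 : Janko.Tree (ℕ) :=
  (.node (.node (.node (.node (.node (.leaf 252) (.leaf 231)) (.leaf 16)) (.node (.leaf 78) (.leaf 176))) (.node (.node (.node (.leaf 134) (.leaf 266)) (.leaf 209)) (.node (.leaf 136) (.leaf 263)))) (.node (.node (.node (.node (.leaf 51) (.leaf 97)) (.leaf 193)) (.node (.leaf 226) (.leaf 237))) (.node (.node (.node (.leaf 200) (.leaf 201)) (.leaf 73)) (.node (.leaf 104) (.leaf 180)))))

def subConjA8 : Janko.Tree (ℕ) :=
  (.node (.node (.node (.node (.node (.leaf 53) (.leaf 195)) (.leaf 103)) (.node (.leaf 229) (.leaf 55))) (.node (.node (.node (.leaf 232) (.leaf 146)) (.leaf 85)) (.node (.leaf 119) (.leaf 40)))) (.node (.node (.node (.node (.leaf 68) (.leaf 280)) (.leaf 307)) (.node (.leaf 98) (.leaf 137))) (.node (.node (.node (.leaf 189) (.leaf 312)) (.leaf 30)) (.node (.leaf 121) (.leaf 74)))))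

def subConjA9 : Janko.Tree (ℕ) :=
  (.node (.node (.node (.node (.node (.leaf 64) (.leaf 286)) (.leaf 216)) (.node (.leaf 183) (.leaf 311))) (.node (.node (.node (.leaf 259) (.leaf 246)) (.leaf 228)) (.node (.leaf 220) (.leaf 276)))) (.node (.node (.node (.node (.leaf 21) (.leaf 154)) (.leaf 299)) (.node (.leaf 166) (.leaf 96))) (.node (.node (.node (.leaf 165) (.leaf 198)) (.leaf 159)) (.node (.leaf 120) (.leaf 258)))))

def subConjA10 : Janko.Tree (ℕ) :=
  (.node (.node (.node (.node (.node (.leaf 194) (.leaf 295)) (.leaf 69)) (.node (.leaf 248) (.leaf 202))) (.node (.node (.node (.leaf 117) (.leaf 133)) (.leaf 257)) (.node (.leaf 243) (.leaf 186)))) (.node (.node (.node (.node (.leaf 207) (.leaf 144)) (.leaf 281)) (.node (.leaf 177) (.leaf 179))) (.node (.node (.node (.leaf 4) (.leaf 126)) (.leaf 234)) (.node (.leaf 123) (.leaf 142)))))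

def subConjA11 : Janko.Tree (ℕ) :=
  (.node (.node (.node (.node (.node (.leaf 118) (.leaf 261)) (.leaf 15)) (.node (.leaf 75) (.leaf 111))) (.node (.node (.node (.leaf 110) (.leaf 153)) (.leaf 310)) (.node (.leaf 0) (.leaf 290)))) (.node (.node (.node (.node (.leaf 50) (.leaf 95)) (.leaf 240)) (.node (.leaf 160) (.leaf 54))) (.node (.node (.leaf 190) (.leaf 255)) (.node (.leaf 122) (.leaf 304)))))

def subConjA12 : Janko.Tree (ℕ) :=
  (.node (.node (.node (.node (.node (.leaf 80) (.leaf 28)) (.leaf 81)) (.node (.leaf 93) (.leaf 3))) (.node (.node (.node (.leaf 2) (.leaf 254)) (.leaf 278)) (.node (.leaf 109) (.leaf 192)))) (.node (.node (.node (.node (.leaf 268) (.leaf 46)) (.leaf 65)) (.node (.leaf 239) (.leaf 105))) (.node (.node (.leaf 112) (.leaf 131)) (.node (.leaf 61) (.leaf 7)))))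

def subConjA13 : Janko.Tree (ℕ) :=
  (.node (.node (.node (.node (.node (.leaf 287) (.leaf 77)) (.leaf 275)) (.node (.leaf 269) (.leaf 308))) (.node (.node (.node (.leaf 130) (.leaf 227)) (.leaf 86)) (.node (.leaf 108) (.leaf 215)))) (.node (.node (.node (.node (.leaf 29) (.leaf 129)) (.leaf 178)) (.node (.leaf 76) (.leaf 222))) (.node (.node (.leaf 124) (.leaf 56)) (.node (.leaf 147) (.leaf 161)))))

def subConjA14 : Janko.Tree (ℕ) :=
  (.node (.node (.node (.node (.node (.leaf 293) (.leaf 260)) (.leaf 250)) (.node (.leaf 71) (.leaf 306))) (.node (.node (.node (.leaf 284) (.leaf 101)) (.leaf 150)) (.node (.leaf 43) (.leaf 79)))) (.node (.node (.node (.node (.leaf 184) (.leaf 265)) (.leaf 63)) (.node (.leaf 102) (.leaf 221))) (.node (.node (.leaf 294) (.leaf 59)) (.node (.leaf 314) (.leaf 300)))))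

def subConjA15 : Janko.Tree (ℕ) :=
  (.node (.node (.node (.node (.node (.leaf 139) (.leaf 292)) (.leaf 272)) (.node (.leaf 238) (.leaf 26))) (.node (.node (.node (.leaf 163) (.leaf 245)) (.leaf 241)) (.node (.leaf 203) (.leaf 92)))) (.node (.node (.node (.node (.leaf 38) (.leaf 13)) (.leaf 185)) (.node (.leaf 283) (.leaf 288))) (.node (.node (.leaf 158) (.leaf 35)) (.node (.leaf 162) (.leaf 187)))))

def subConjA : Janko.Tree (ℕ) :=
  (.node (.node (.node (.node subConjA0 subConjA8) (.node subConjA4 subConjA12)) (.node (.node subConjA2 subConjA10) (.node subConjA6 subConjA14))) (.node (.node (.node subConjA1 subConjA9) (.node subConjA5 subConjA13)) (.node (.node subConjA3 subConjA11) (.node subConjA7 subConjA15))))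

def subConjB0 : Janko.Tree (ℕ) :=
  (.node (.node (.node (.node (.node (.leaf 182) (.leaf 95)) (.leaf 26)) (.node (.leaf 212) (.leaf 133))) (.node (.node (.node (.leaf 287) (.leaf 206)) (.leaf 197)) (.node (.leaf 7) (.leaf 181)))) (.node (.node (.node (.node (.leaf 47) (.leaf 161)) (.leaf 21)) (.node (.leaf 71) (.leaf 313))) (.node (.node (.node (.leaf 261) (.leaf 231)) (.leaf 29)) (.node (.leaf 204) (.leaf 193)))))

def subConjB1 : Janko.Tree (ℕ) :=
  (.node (.node (.node (.node (.node (.leaf 18) (.leaf 37)) (.leaf 110)) (.node (.leaf 259) (.leaf 218))) (.node (.node (.node (.leaf 52) (.leaf 303)) (.leaf 119)) (.node (.leaf 131) (.leaf 152)))) (.node (.node (.node (.node (.leaf 134) (.leaf 217)) (.leaf 202)) (.node (.leaf 196) (.leaf 39))) (.node (.node (.node (.leaf 230) (.leaf 302)) (.leaf 158)) (.node (.leaf 84) (.leaf 227)))))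

def subConjB2 : Janko.Tree (ℕ) :=
  (.node (.node (.node (.node (.node (.leaf 35) (.leaf 233)) (.leaf 269)) (.node (.leaf 125) (.leaf 234))) (.node (.node (.node (.leaf 130) (.leaf 99)) (.leaf 286)) (.node (.leaf 61) (.leaf 177)))) (.node (.node (.node (.node (.leaf 241) (.leaf 136)) (.leaf 154)) (.node (.leaf 146) (.leaf 73))) (.node (.node (.node (.leaf 171) (.leaf 251)) (.leaf 43)) (.node (.leaf 274) (.leaf 297)))))

def subConjB3 : Janko.Tree (ℕ) :=
  (.node (.node (.node (.node (.node (.leaf 27) (.leaf 311)) (.leaf 138)) (.node (.leaf 148) (.leaf 144))) (.node (.node (.node (.leaf 207) (.leaf 211)) (.leaf 299)) (.node (.leaf 89) (.leaf 288)))) (.node (.node (.node (.node (.leaf 98) (.leaf 0)) (.leaf 60)) (.node (.leaf 139) (.leaf 314))) (.node (.node (.node (.leaf 166) (.leaf 173)) (.leaf 128)) (.node (.leaf 188) (.leaf 185)))))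

def subConjB4 : Janko.Tree (ℕ) :=
  (.node (.node (.node (.node (.node (.leaf 22) (.leaf 66)) (.leaf 225)) (.node (.leaf 102) (.leaf 248))) (.node (.node (.node (.leaf 109) (.leaf 122)) (.leaf 306)) (.node (.leaf 224) (.leaf 32)))) (.node (.node (.node (.node (.leaf 78) (.leaf 232)) (.leaf 246)) (.node (.leaf 48) (.leaf 210))) (.node (.node (.node (.leaf 76) (.leaf 273)) (.leaf 236)) (.node (.leaf 201) (.leaf 238)))))

def subConjB5 : Janko.Tree (ℕ) :=
  (.node (.node (.node (.node (.node (.leaf 5) (.leaf 266)) (.leaf 62)) (.node (.leaf 8) (.leaf 285))) (.node (.node (.node (.leaf 13) (.leaf 69)) (.leaf 58)) (.node (.leaf 291) (.leaf 174)))) (.node (.node (.node (.node (.leaf 140) (.leaf 46)) (.leaf 53)) (.node (.leaf 74) (.leaf 101))) (.node (.node (.node (.leaf 163) (.leaf 271)) (.leaf 51)) (.node (.leaf 4) (.leaf 280)))))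

def subConjB6 : Janko.Tree (ℕ) :=
  (.node (.node (.node (.node (.node (.leaf 16) (.leaf 301)) (.leaf 283)) (.node (.leaf 67) (.leaf 147))) (.node (.node (.node (.leaf 243) (.leaf 59)) (.leaf 275)) (.node (.leaf 25) (.leaf 180)))) (.node (.node (.node (.node (.leaf 56) (.leaf 208)) (.leaf 216)) (.node (.leaf 81) (.leaf 1))) (.node (.node (.node (.leaf 304) (.leaf 260)) (.leaf 282)) (.node (.leaf 156) (.leaf 70)))))

def subConjB7 : Janko.Tree (ℕ) :=
  (.node (.node (.node (.node (.node (.leaf 205) (.leaf 178)) (.leaf 118)) (.node (.leaf 107) (.leaf 36))) (.node (.node (.node (.leaf 34) (.leaf 113)) (.leaf 135)) (.node (.leaf 129) (.leaf 55)))) (.node (.node (.node (.node (.leaf 88) (.leaf 189)) (.leaf 141)) (.node (.leaf 41) (.leaf 94))) (.node (.node (.node (.leaf 255) (.leaf 237)) (.leaf 200)) (.node (.leaf 50) (.leaf 49)))))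

def subConjB8 : Janko.Tree (ℕ) :=
  (.node (.node (.node (.node (.node (.leaf 11) (.leaf 175)) (.leaf 284)) (.node (.leaf 86) (.leaf 278))) (.node (.node (.node (.leaf 219) (.leaf 240)) (.leaf 116)) (.node (.leaf 14) (.leaf 229)))) (.node (.node (.node (.node (.leaf 262) (.leaf 213)) (.leaf 150)) (.node (.leaf 105) (.leaf 250))) (.node (.node (.node (.leaf 117) (.leaf 292)) (.leaf 226)) (.node (.leaf 191) (.leaf 68)))))

def subConjB9 : Janko.Tree (ℕ) :=
  (.node (.node (.node (.node (.node (.leaf 97) (.leaf 220)) (.leaf 268)) (.node (.leaf 157) (.leaf 40))) (.node (.node (.node (.leaf 93) (.leaf 245)) (.leaf 115)) (.node (.leaf 65) (.leaf 215)))) (.node (.node (.node (.node (.leaf 184) (.leaf 263)) (.leaf 199)) (.node (.leaf 179) (.leaf 190))) (.node (.node (.node (.leaf 6) (.leaf 296)) (.leaf 38)) (.node (.leaf 20) (.leaf 137)))))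

def subConjB10 : Janko.Tree (ℕ) :=
  (.node (.node (.node (.node (.node (.leaf 290) (.leaf 239)) (.leaf 256)) (.node (.leaf 63) (.leaf 305))) (.node (.node (.node (.leaf 17) (.leaf 308)) (.leaf 279)) (.node (.leaf 221) (.leaf 104)))) (.node (.node (.node (.node (.leaf 45) (.leaf 249)) (.leaf 195)) (.node (.leaf 24) (.leaf 80))) (.node (.node (.node (.leaf 214) (.leaf 159)) (.leaf 120)) (.node (.leaf 192) (.leaf 257)))))

def subConjB11 : Janko.Tree (ℕ) :=
  (.node (.node (.node (.node (.node (.leaf 64) (.leaf 298)) (.leaf 2)) (.node (.leaf 198) (.leaf 160))) (.node (.node (.node (.leaf 281) (.leaf 270)) (.leaf 176)) (.node (.leaf 183) (.leaf 272)))) (.node (.node (.node (.node (.leaf 42) (.leaf 164)) (.leaf 265)) (.node (.leaf 223) (.leaf 127))) (.node (.node (.leaf 92) (.leaf 254)) (.node (.leaf 242) (.leaf 264)))))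

def subConjB12 : Janko.Tree (ℕ) :=
  (.node (.node (.node (.node (.node (.leaf 79) (.leaf 100)) (.leaf 149)) (.node (.leaf 28) (.leaf 293))) (.node (.node (.node (.leaf 244) (.leaf 169)) (.leaf 75)) (.node (.leaf 228) (.leaf 295)))) (.node (.node (.node (.node (.leaf 33) (.leaf 172)) (.leaf 90)) (.node (.leaf 126) (.leaf 9))) (.node (.node (.leaf 44) (.leaf 85)) (.node (.leaf 165) (.leaf 294)))))

def subConjB13 : Janko.Tree (ℕ) :=
  (.node (.node (.node (.node (.node (.leaf 186) (.leaf 19)) (.leaf 194)) (.node (.leaf 143) (.leaf 96))) (.node (.node (.node (.leaf 253) (.leaf 277)) (.leaf 30)) (.node (.leaf 209) (.leaf 83)))) (.node (.node (.node (.node (.leaf 108) (.leaf 203)) (.leaf 111)) (.node (.leaf 142) (.leaf 309))) (.node (.node (.leaf 153) (.leaf 310)) (.node (.leaf 91) (.leaf 121)))))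

def subConjB14 : Janko.Tree (ℕ) :=
  (.node (.node (.node (.node (.node (.leaf 168) (.leaf 82)) (.leaf 87)) (.node (.leaf 10) (.leaf 162))) (.node (.node (.node (.leaf 187) (.leaf 267)) (.leaf 276)) (.node (.leaf 155) (.leaf 114)))) (.node (.node (.node (.node (.leaf 170) (.leaf 124)) (.leaf 72)) (.node (.leaf 258) (.leaf 312))) (.node (.node (.leaf 252) (.leaf 289)) (.node (.leaf 222) (.leaf 167)))))

def subConjB15 : Janko.Tree (ℕ) :=
  (.node (.node (.node (.node (.node (.leaf 3) (.leaf 106)) (.leaf 77)) (.node (.leaf 12) (.leaf 23))) (.node (.node (.node (.leaf 57) (.leaf 145)) (.leaf 15)) (.node (.leaf 112) (.leaf 247)))) (.node (.node (.node (.node (.leaf 123) (.leaf 235)) (.leaf 31)) (.node (.leaf 103) (.leaf 307))) (.node (.node (.leaf 54) (.leaf 132)) (.node (.leaf 151) (.leaf 300)))))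

def subConjB : Janko.Tree (ℕ) :=
  (.node (.node (.node (.node subConjB0 subConjB8) (.node subConjB4 subConjB12)) (.node (.node subConjB2 subConjB10) (.node subConjB6 subConjB14))) (.node (.node (.node subConjB1 subConjB9) (.node subConjB5 subConjB13)) (.node (.node subConjB3 subConjB11) (.node subConjB7 subConjB15))))

def subPts : List (ℕ) := [5, 7, 314, 190, 222, 38, 245, 217, 236, 205, 31, 243, 70, 230, 101, 280, 67, 92, 180, 302, 49, 113, 309, 297, 159, 295, 122, 62, 312, 96, 133, 123, 48, 192, 305, 246, 289, 202, 106, 266, 271, 308, 261, 185, 145, 59, 294, 211, 213, 148, 303, 267, 273, 291, 252, 126, 247, 84, 292, 239, 242, 221, 298]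

def subImA : List (ℕ) := [52, 54, 55, 45, 61, 10, 50, 29, 33, 41, 5, 38, 57, 47, 19, 15, 32, 59, 56, 14, 60, 36, 22, 35, 43, 39, 31, 46, 28, 7, 62, 26, 16, 8, 34, 23, 21, 37, 11, 25, 58, 9, 51, 24, 44, 3, 27, 13, 48, 53, 6, 42, 0, 49, 1, 2, 18, 12, 40, 17, 20, 4, 30]

def subImB : List (ℕ) := [0, 9, 24, 36, 28, 11, 15, 3, 25, 29, 31, 43, 16, 18, 53, 48, 49, 55, 8, 51, 13, 57, 40, 6, 10, 21, 33, 54, 58, 1, 27, 60, 42, 30, 19, 12, 50, 34, 61, 59, 38, 52, 39, 5, 37, 17, 45, 2, 14, 35, 44, 62, 7, 47, 46, 4, 20, 32, 26, 56, 23, 22, 41]

def subSetA0 : Janko.Tree (ℕ) :=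
  (.node (.node (.node (.leaf 0) (.leaf 22)) (.node (.leaf 18) (.leaf 96))) (.node (.node (.leaf 14) (.leaf 91)) (.leaf 24)))

def subSetA1 : Janko.Tree (ℕ) :=
  (.node (.node (.node (.leaf 1) (.leaf 78)) (.node (.leaf 8) (.leaf 41))) (.node (.node (.leaf 17) (.leaf 25)) (.leaf 61)))

def subSetA2 : Janko.Tree (ℕ) :=
  (.node (.node (.node (.leaf 2) (.leaf 30)) (.node (.leaf 63) (.leaf 42))) (.node (.node (.leaf 32) (.leaf 58)) (.leaf 46)))

def subSetA3 : Janko.Tree (ℕ) :=
  (.node (.node (.node (.leaf 3) (.leaf 87)) (.node (.leaf 35) (.leaf 54))) (.node (.node (.leaf 26) (.leaf 38)) (.leaf 20)))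

def subSetA4 : Janko.Tree (ℕ) :=
  (.node (.node (.node (.leaf 74) (.leaf 68)) (.leaf 36)) (.node (.node (.leaf 51) (.leaf 92)) (.leaf 9)))

def subSetA5 : Janko.Tree (ℕ) :=
  (.node (.node (.node (.leaf 5) (.leaf 44)) (.leaf 55)) (.node (.node (.leaf 93) (.leaf 39)) (.leaf 53)))

def subSetA6 : Janko.Tree (ℕ) :=
  (.node (.node (.node (.leaf 6) (.leaf 70)) (.leaf 83)) (.node (.node (.leaf 64) (.leaf 10)) (.leaf 99)))

def subSetA7 : Janko.Tree (ℕ) :=
  (.node (.node (.node (.leaf 72) (.leaf 71)) (.leaf 85)) (.node (.node (.leaf 23) (.leaf 67)) (.leaf 37)))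

def subSetA8 : Janko.Tree (ℕ) :=
  (.node (.node (.node (.leaf 33) (.leaf 7)) (.leaf 15)) (.node (.node (.leaf 48) (.leaf 45)) (.leaf 95)))

def subSetA9 : Janko.Tree (ℕ) :=
  (.node (.node (.node (.leaf 52) (.leaf 31)) (.leaf 97)) (.node (.node (.leaf 81) (.leaf 90)) (.leaf 77)))

def subSetA10 : Janko.Tree (ℕ) :=
  (.node (.node (.node (.leaf 86) (.leaf 4)) (.leaf 98)) (.node (.node (.leaf 19) (.leaf 89)) (.leaf 82)))

def subSetA11 : Janko.Tree (ℕ) :=
  (.node (.node (.node (.leaf 12) (.leaf 60)) (.leaf 59)) (.node (.node (.leaf 94) (.leaf 80)) (.leaf 43)))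

def subSetA12 : Janko.Tree (ℕ) :=
  (.node (.node (.node (.leaf 11) (.leaf 76)) (.leaf 69)) (.node (.node (.leaf 28) (.leaf 84)) (.leaf 75)))

def subSetA13 : Janko.Tree (ℕ) :=
  (.node (.node (.node (.leaf 13) (.leaf 57)) (.leaf 88)) (.node (.node (.leaf 79) (.leaf 21)) (.leaf 49)))

def subSetA14 : Janko.Tree (ℕ) :=
  (.node (.node (.node (.leaf 16) (.leaf 65)) (.leaf 50)) (.node (.node (.leaf 66) (.leaf 27)) (.leaf 62)))

def subSetA15 : Janko.Tree (ℕ) :=
  (.node (.node (.node (.leaf 40) (.leaf 29)) (.leaf 47)) (.node (.node (.leaf 73) (.leaf 56)) (.leaf 34)))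

def subSetA : Janko.Tree (ℕ) :=
  (.node (.node (.node (.node subSetA0 subSetA8) (.node subSetA4 subSetA12)) (.node (.node subSetA2 subSetA10) (.node subSetA6 subSetA14))) (.node (.node (.node subSetA1 subSetA9) (.node subSetA5 subSetA13)) (.node (.node subSetA3 subSetA11) (.node subSetA7 subSetA15))))

def subSetB0 : Janko.Tree (ℕ) :=
  (.node (.node (.node (.leaf 0) (.leaf 30)) (.node (.leaf 69) (.leaf 39))) (.node (.node (.leaf 72) (.leaf 54)) (.leaf 66)))

def subSetB1 : Janko.Tree (ℕ) :=
  (.node (.node (.node (.leaf 47) (.leaf 98)) (.node (.leaf 45) (.leaf 93))) (.node (.node (.leaf 5) (.leaf 84)) (.leaf 16)))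

def subSetB2 : Janko.Tree (ℕ) :=
  (.node (.node (.node (.leaf 6) (.leaf 31)) (.node (.leaf 28) (.leaf 88))) (.node (.node (.leaf 20) (.leaf 55)) (.leaf 76)))

def subSetB3 : Janko.Tree (ℕ) :=
  (.node (.node (.node (.leaf 62) (.leaf 70)) (.node (.leaf 8) (.leaf 81))) (.node (.node (.leaf 3) (.leaf 38)) (.leaf 95)))

def subSetB4 : Janko.Tree (ℕ) :=
  (.node (.node (.node (.leaf 25) (.leaf 96)) (.leaf 11)) (.node (.node (.leaf 90) (.leaf 27)) (.leaf 34)))

def subSetB5 : Janko.Tree (ℕ) :=
  (.node (.node (.node (.leaf 33) (.leaf 60)) (.leaf 83)) (.node (.node (.leaf 14) (.leaf 29)) (.leaf 17)))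

def subSetB6 : Janko.Tree (ℕ) :=
  (.node (.node (.node (.leaf 53) (.leaf 59)) (.leaf 52)) (.node (.node (.leaf 19) (.leaf 63)) (.leaf 24)))

def subSetB7 : Janko.Tree (ℕ) :=
  (.node (.node (.node (.leaf 80) (.leaf 43)) (.leaf 4)) (.node (.node (.leaf 85) (.leaf 71)) (.leaf 9)))

def subSetB8 : Janko.Tree (ℕ) :=
  (.node (.node (.node (.leaf 50) (.leaf 49)) (.leaf 41)) (.node (.node (.leaf 26) (.leaf 82)) (.leaf 77)))

def subSetB9 : Janko.Tree (ℕ) :=
  (.node (.node (.node (.leaf 65) (.leaf 79)) (.leaf 92)) (.node (.node (.leaf 21) (.leaf 89)) (.leaf 97)))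

def subSetB10 : Janko.Tree (ℕ) :=
  (.node (.node (.node (.leaf 78) (.leaf 48)) (.leaf 46)) (.node (.node (.leaf 68) (.leaf 56)) (.leaf 10)))

def subSetB11 : Janko.Tree (ℕ) :=
  (.node (.node (.node (.leaf 86) (.leaf 51)) (.leaf 91)) (.node (.node (.leaf 15) (.leaf 94)) (.leaf 61)))

def subSetB12 : Janko.Tree (ℕ) :=
  (.node (.node (.node (.leaf 37) (.leaf 13)) (.leaf 57)) (.node (.node (.leaf 35) (.leaf 99)) (.leaf 44)))

def subSetB13 : Janko.Tree (ℕ) :=
  (.node (.node (.node (.leaf 12) (.leaf 22)) (.leaf 58)) (.node (.node (.leaf 18) (.leaf 87)) (.leaf 67)))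

def subSetB14 : Janko.Tree (ℕ) :=
  (.node (.node (.node (.leaf 7) (.leaf 42)) (.leaf 2)) (.node (.node (.leaf 73) (.leaf 32)) (.leaf 23)))

def subSetB15 : Janko.Tree (ℕ) :=
  (.node (.node (.node (.leaf 64) (.leaf 40)) (.leaf 36)) (.node (.node (.leaf 74) (.leaf 75)) (.leaf 1)))

def subSetB : Janko.Tree (ℕ) :=
  (.node (.node (.node (.node subSetB0 subSetB8) (.node subSetB4 subSetB12)) (.node (.node subSetB2 subSetB10) (.node subSetB6 subSetB14))) (.node (.node (.node subSetB1 subSetB9) (.node subSetB5 subSetB13)) (.node (.node subSetB3 subSetB11) (.node subSetB7 subSetB15))))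

def subLabel0 : Janko.Tree (ℕ) :=
  (.node (.node (.node (.leaf 0) (.leaf 2)) (.node (.leaf 2) (.leaf 2))) (.node (.node (.leaf 2) (.leaf 2)) (.leaf 2)))

def subLabel1 : Janko.Tree (ℕ) :=
  (.node (.node (.node (.leaf 1) (.leaf 1)) (.node (.leaf 1) (.leaf 2))) (.node (.node (.leaf 1) (.leaf 2)) (.leaf 2)))

def subLabel2 : Janko.Tree (ℕ) :=
  (.node (.node (.node (.leaf 1) (.leaf 2)) (.node (.leaf 1) (.leaf 1))) (.node (.node (.leaf 2) (.leaf 1)) (.leaf 1)))

def subLabel3 : Janko.Tree (ℕ) :=
  (.node (.node (.node (.leaf 2) (.leaf 2)) (.node (.leaf 1) (.leaf 2))) (.node (.node (.leaf 2) (.leaf 1)) (.leaf 2)))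

def subLabel4 : Janko.Tree (ℕ) :=
  (.node (.node (.node (.leaf 2) (.leaf 2)) (.leaf 1)) (.node (.node (.leaf 2) (.leaf 2)) (.leaf 1)))

def subLabel5 : Janko.Tree (ℕ) :=
  (.node (.node (.node (.leaf 1) (.leaf 2)) (.leaf 1)) (.node (.node (.leaf 2) (.leaf 2)) (.leaf 1)))

def subLabel6 : Janko.Tree (ℕ) :=
  (.node (.node (.node (.leaf 1) (.leaf 2)) (.leaf 1)) (.node (.node (.leaf 2) (.leaf 1)) (.leaf 2)))

def subLabel7 : Janko.Tree (ℕ) :=
  (.node (.node (.node (.leaf 2) (.leaf 2)) (.leaf 2)) (.node (.node (.leaf 2) (.leaf 2)) (.leaf 1)))

def subLabel8 : Janko.Tree (ℕ) :=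
  (.node (.node (.node (.leaf 1) (.leaf 2)) (.leaf 2)) (.node (.node (.leaf 2) (.leaf 1)) (.leaf 2)))

def subLabel9 : Janko.Tree (ℕ) :=
  (.node (.node (.node (.leaf 1) (.leaf 2)) (.leaf 2)) (.node (.node (.leaf 2) (.leaf 2)) (.leaf 2)))

def subLabel10 : Janko.Tree (ℕ) :=
  (.node (.node (.node (.leaf 1) (.leaf 2)) (.leaf 1)) (.node (.node (.leaf 2) (.leaf 2)) (.leaf 1)))

def subLabel11 : Janko.Tree (ℕ) :=
  (.node (.node (.node (.leaf 1) (.leaf 2)) (.leaf 2)) (.node (.node (.leaf 2) (.leaf 2)) (.leaf 2)))

def subLabel12 : Janko.Tree (ℕ) :=
  (.node (.node (.node (.leaf 1) (.leaf 1)) (.leaf 2)) (.node (.node (.leaf 1) (.leaf 2)) (.leaf 2)))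

def subLabel13 : Janko.Tree (ℕ) :=
  (.node (.node (.node (.leaf 1) (.leaf 2)) (.leaf 1)) (.node (.node (.leaf 2) (.leaf 2)) (.leaf 2)))

def subLabel14 : Janko.Tree (ℕ) :=
  (.node (.node (.node (.leaf 2) (.leaf 1)) (.leaf 1)) (.node (.node (.leaf 2) (.leaf 2)) (.leaf 2)))

def subLabel15 : Janko.Tree (ℕ) :=
  (.node (.node (.node (.leaf 2) (.leaf 2)) (.leaf 1)) (.node (.node (.leaf 2) (.leaf 2)) (.leaf 1)))

def subLabel : Janko.Tree (ℕ) :=
  (.node (.node (.node (.node subLabel0 subLabel8) (.node subLabel4 subLabel12)) (.node (.node subLabel2 subLabel10) (.node subLabel6 subLabel14))) (.node (.node (.node subLabel1 subLabel9) (.node subLabel5 subLabel13)) (.node (.node subLabel3 subLabel11) (.node subLabel7 subLabel15))))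

def subRank0 : Janko.Tree (ℕ) :=
  (.node (.node (.node (.leaf 0) (.leaf 8)) (.node (.leaf 6) (.leaf 11))) (.node (.node (.leaf 9) (.leaf 10)) (.leaf 7)))

def subRank1 : Janko.Tree (ℕ) :=
  (.node (.node (.node (.leaf 0) (.leaf 7)) (.node (.leaf 10) (.leaf 8))) (.node (.node (.leaf 12) (.leaf 7)) (.leaf 11)))

def subRank2 : Janko.Tree (ℕ) :=
  (.node (.node (.node (.leaf 9) (.leaf 8)) (.node (.leaf 6) (.leaf 8))) (.node (.node (.leaf 5) (.leaf 10)) (.leaf 9)))

def subRank3 : Janko.Tree (ℕ) :=
  (.node (.node (.node (.leaf 0) (.leaf 10)) (.node (.leaf 8) (.leaf 9))) (.node (.node (.leaf 10) (.leaf 6)) (.leaf 7)))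

def subRank4 : Janko.Tree (ℕ) :=
  (.node (.node (.node (.leaf 5) (.leaf 10)) (.leaf 2)) (.node (.node (.leaf 6) (.leaf 8)) (.leaf 8)))

def subRank5 : Janko.Tree (ℕ) :=
  (.node (.node (.node (.leaf 13) (.leaf 7)) (.leaf 5)) (.node (.node (.leaf 7) (.leaf 3)) (.leaf 11)))

def subRank6 : Janko.Tree (ℕ) :=
  (.node (.node (.node (.leaf 10) (.leaf 11)) (.leaf 7)) (.node (.node (.leaf 9) (.leaf 4)) (.leaf 10)))

def subRank7 : Janko.Tree (ℕ) :=
  (.node (.node (.node (.leaf 9) (.leaf 10)) (.leaf 4)) (.node (.node (.leaf 2) (.leaf 9)) (.leaf 6)))

def subRank8 : Janko.Tree (ℕ) :=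
  (.node (.node (.node (.leaf 9) (.leaf 10)) (.leaf 6)) (.node (.node (.leaf 8) (.leaf 9)) (.leaf 8)))

def subRank9 : Janko.Tree (ℕ) :=
  (.node (.node (.node (.leaf 7) (.leaf 10)) (.leaf 7)) (.node (.node (.leaf 6) (.leaf 8)) (.leaf 9)))

def subRank10 : Janko.Tree (ℕ) :=
  (.node (.node (.node (.leaf 5) (.leaf 6)) (.leaf 7)) (.node (.node (.leaf 9) (.leaf 7)) (.leaf 11)))

def subRank11 : Janko.Tree (ℕ) :=
  (.node (.node (.node (.leaf 3) (.leaf 9)) (.leaf 11)) (.node (.node (.leaf 9) (.leaf 11)) (.leaf 12)))

def subRank12 : Janko.Tree (ℕ) :=
  (.node (.node (.node (.leaf 4) (.leaf 10)) (.leaf 8)) (.node (.node (.leaf 7) (.leaf 8)) (.leaf 8)))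

def subRank13 : Janko.Tree (ℕ) :=
  (.node (.node (.node (.leaf 11) (.leaf 9)) (.leaf 10)) (.node (.node (.leaf 4) (.leaf 8)) (.leaf 12)))

def subRank14 : Janko.Tree (ℕ) :=
  (.node (.node (.node (.leaf 8) (.leaf 6)) (.leaf 8)) (.node (.node (.leaf 9) (.leaf 10)) (.leaf 1)))

def subRank15 : Janko.Tree (ℕ) :=
  (.node (.node (.node (.leaf 7) (.leaf 5)) (.leaf 1)) (.node (.node (.leaf 9) (.leaf 8)) (.leaf 5)))

def subRank : Janko.Tree (ℕ) :=
  (.node (.node (.node (.node subRank0 subRank8) (.node subRank4 subRank12)) (.node (.node subRank2 subRank10) (.node subRank6 subRank14))) (.node (.node (.node subRank1 subRank9) (.node subRank5 subRank13)) (.node (.node subRank3 subRank11) (.node subRank7 subRank15))))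

def subPar0 : Janko.Tree (ℕ × Bool) :=
  (.node (.node (.node (.leaf (0, false)) (.leaf (15, true))) (.node (.leaf (18, false)) (.leaf (68, true)))) (.node (.node (.leaf (14, false)) (.leaf (7, true))) (.leaf (74, true))))

def subPar1 : Janko.Tree (ℕ × Bool) :=
  (.node (.node (.node (.leaf (1, false)) (.leaf (78, false))) (.node (.leaf (8, false)) (.leaf (41, false)))) (.node (.node (.leaf (53, true)) (.leaf (25, false))) (.leaf (72, true))))

def subPar2 : Janko.Tree (ℕ × Bool) :=
  (.node (.node (.node (.leaf (46, true)) (.leaf (48, true))) (.node (.leaf (63, false)) (.leaf (65, true)))) (.node (.node (.leaf (29, true)) (.leaf (88, true))) (.leaf (46, false))))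

def subPar3 : Janko.Tree (ℕ × Bool) :=
  (.node (.node (.node (.leaf (3, false)) (.leaf (87, false))) (.node (.leaf (28, true)) (.leaf (92, true)))) (.node (.node (.leaf (26, false)) (.leaf (37, true))) (.leaf (20, false))))

def subPar4 : Janko.Tree (ℕ × Bool) :=
  (.node (.node (.node (.leaf (39, true)) (.leaf (26, true))) (.leaf (47, true))) (.node (.node (.leaf (18, true)) (.leaf (81, true))) (.leaf (9, false))))

def subPar5 : Janko.Tree (ℕ × Bool) :=
  (.node (.node (.node (.leaf (17, true)) (.leaf (32, true))) (.leaf (12, true))) (.node (.node (.leaf (25, true)) (.leaf (23, true))) (.leaf (6, true))))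

def subPar6 : Janko.Tree (ℕ × Bool) :=
  (.node (.node (.node (.leaf (2, true)) (.leaf (67, true))) (.leaf (83, false))) (.node (.node (.leaf (64, false)) (.leaf (11, true))) (.leaf (99, false))))

def subPar7 : Janko.Tree (ℕ × Bool) :=
  (.node (.node (.node (.leaf (14, true)) (.leaf (87, true))) (.leaf (85, false))) (.node (.node (.leaf (62, true)) (.leaf (93, true))) (.leaf (37, false))))

def subPar8 : Janko.Tree (ℕ × Bool) :=
  (.node (.node (.node (.leaf (35, true)) (.leaf (16, true))) (.leaf (79, true))) (.node (.node (.leaf (48, false)) (.leaf (98, true))) (.leaf (90, true))))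

def subPar9 : Janko.Tree (ℕ × Bool) :=
  (.node (.node (.node (.leaf (55, true)) (.leaf (30, true))) (.leaf (40, true))) (.node (.node (.leaf (4, true)) (.leaf (90, false))) (.leaf (44, true))))

def subPar10 : Janko.Tree (ℕ × Bool) :=
  (.node (.node (.node (.leaf (86, false)) (.leaf (4, false))) (.leaf (78, true))) (.node (.node (.leaf (24, true)) (.leaf (20, true))) (.leaf (45, true))))

def subPar11 : Janko.Tree (ℕ × Bool) :=
  (.node (.node (.node (.leaf (36, true)) (.leaf (60, false))) (.leaf (71, true))) (.node (.node (.leaf (84, true)) (.leaf (80, false))) (.leaf (70, true))))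

def subPar12 : Janko.Tree (ℕ × Bool) :=
  (.node (.node (.node (.leaf (11, false)) (.leaf (50, true))) (.leaf (69, false))) (.node (.node (.leaf (34, true)) (.leaf (41, true))) (.leaf (69, true))))

def subPar13 : Janko.Tree (ℕ × Bool) :=
  (.node (.node (.node (.leaf (76, true)) (.leaf (56, true))) (.leaf (88, false))) (.node (.node (.leaf (85, true)) (.leaf (21, false))) (.leaf (49, false))))

def subPar14 : Janko.Tree (ℕ × Bool) :=
  (.node (.node (.node (.leaf (21, true)) (.leaf (10, true))) (.leaf (42, true))) (.node (.node (.leaf (66, false)) (.leaf (27, false))) (.leaf (3, true))))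

def subPar15 : Janko.Tree (ℕ × Bool) :=
  (.node (.node (.node (.leaf (40, false)) (.leaf (29, false))) (.leaf (1, true))) (.node (.node (.leaf (66, true)) (.leaf (51, true))) (.leaf (86, true))))

def subPar : Janko.Tree (ℕ × Bool) :=
  (.node (.node (.node (.node subPar0 subPar8) (.node subPar4 subPar12)) (.node (.node subPar2 subPar10) (.node subPar6 subPar14))) (.node (.node (.node subPar1 subPar9) (.node subPar5 subPar13)) (.node (.node subPar3 subPar11) (.node subPar7 subPar15))))

def subRoots : List ℕ := [0, 1, 3]

def subWordsU : List (List ℕ) := [[1, 5, 10, 1], [9, 2]]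

def subTrans : List (List Bool) := [
  [],
  [true, false, true, false],
  [false, true, true, false, true, true, false],
  [true, true, false],
  [true, true, true, false, true, true, false],
  [false, true, true, false, true, true, false, true, true, false],
  [false, true, true, true, true, false],
  [true, false],
  [true, false, true, false, true, false, true, true, false],
  [true, true, false, true, false],
  [true, true, false, true, true, false, true, true, false],
  [true, false, true, true, false, true, true, false, true, true, false],
  [false, true, false, true, true, true, false],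
  [true, true, true, false, true, false, true, true, false],
  [true, true, true, false, true, true, true, true, false],
  [true, false, true, true, true, true, false],
  [false, true, true, false, true, true, true, false],
  [true, false, true, true, false],
  [false, true, false, true, false, true, true, false],
  [true, true, true, true, true, true, true, true, false],
  [true, true, false, true, false, true, true, false],
  [false, true, true, true, false],
  [true, false, true, true, true, false, true, true, false],
  [true, false, true, true, false, true, false, true, true, false],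
  [true, false, true, true, false, true, true, false],
  [false, true, true, true, true, false, true, true, true, false],
  [true, true, true, true, true, true, false, true, true, false],
  [false, true, false, true, false, true, false],
  [true, true, true, true, false, true, true, false],
  [false, true, false],
  [false, true, false, true, true, true, false, true, true, true, false],
  [true, true, true, false, true, true, false, true, true, false],
  [true, true, false, true, true, true, false],
  [false, true, false, true, false, true, false, true, true, false],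
  [true, true, true, true, true, true, true, false],
  [true, true, false, true, true, false, true, true, true, false],
  [true, true, true, false],
  [true, true, true, true, true, true, false],
  [true, false, true, true, true, true, true, false, true, true, false],
  [true, true, true, true, false, true, true, true, false],
  [false, true, true, true, true, true, false, true, true, false],
  [false, true, true, false, true, false],
  [true, true, true, false, true, true, true, false],
  [false, true, false, true, true, false, true, true, false],
  [true, true, true, true, true, false],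
  [false, true, true, false],
  [true, false, true, false, true, false],
  [false, true, true, true, false, true, false, true, true, false],
  [true, true, false, true, true, true, true, false],
  [true, false, true, true, false, true, true, true, false],
  [true, true, true, true, false],
  [false, true, true, true, false, true, true, true, false],
  [false],
  [false, true, false, true, true, false, true, true, true, false],
  [false, true, false, true, false],
  [true, true, false, true, true, false],
  [true, false, true, false, true, true, false],
  [true, false, true, true, true, false],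
  [true, true, true, true, true, false, true, true, false],
  [false, true, false, true, true, false],
  [false, true, true, false, true, false, true, true, false],
  [false, true, true, true, false, true, true, false],
  [true, false, true, true, true, false, true, true, true, false]]

def subStab : List (List Bool) := [
  [],
  [true],
  [true, true],
  [true, true, true],
  [true, true, true, true],
  [true, true, true, true, true],
  [true, true, true, true, true, true],
  [true, true, true, true, true, true, true],
  [false, true, false, true, true, false, true, false],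
  [true, true, true, true, true, true, true, true],
  [false, true, false, true, true, false, true, false, true],
  [true, false, true, false, true, true, false, true, false],
  [true, true, true, true, true, true, true, true, true],
  [false, true, false, true, true, false, true, false, true, true],
  [true, false, true, false, true, true, false, true, false, true],
  [true, true, false, true, false, true, true, false, true, false],
  [true, true, true, true, true, true, true, true, true, true],
  [false, true, false, true, true, false, true, false, true, true, true],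
  [false, true, false, true, true, true, true, true, false, true, false],
  [true, false, true, false, true, true, false, true, false, true, true],
  [true, true, false, true, false, true, true, false, true, false, true],
  [true, true, true, true, true, true, true, true, true, true, true],
  [false, true, false, true, true, false, true, false, true, true, true, true],
  [false, true, false, true, true, true, true, true, false, true, false, true],
  [true, false, true, false, true, true, false, true, false, true, true, true],
  [true, false, true, false, true, true, true, true, true, false, true, false],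
  [true, true, false, true, false, true, true, false, true, false, true, true],
  [false, true, false, true, true, false, true, false, true, true, true, true, true],
  [false, true, false, true, true, true, true, true, false, true, false, true, true],
  [false, true, true, true, false, true, true, true, false, true, true, true, false],
  [true, false, true, false, true, true, false, true, false, true, true, true, true],
  [true, false, true, false, true, true, true, true, true, false, true, false, true],
  [true, true, false, true, false, true, true, false, true, false, true, true, true],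
  [true, true, false, true, false, true, true, true, true, true, false, true, false],
  [false, true, false, true, true, false, true, false, true, true, true, true, true, true],
  [false, true, false, true, true, false, true, true, false, true, true, false, true, false],
  [false, true, false, true, true, true, true, true, false, true, false, true, true, true],
  [false, true, false, true, true, true, true, true, true, true, true, false, true, false],
  [true, false, true, false, true, true, false, true, false, true, true, true, true, true],
  [true, false, true, false, true, true, true, true, true, false, true, false, true, true],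
  [true, true, false, true, false, true, true, false, true, false, true, true, true, true],
  [true, true, false, true, false, true, true, true, true, true, false, true, false, true],
  [false, true, false, true, true, false, true, false, true, true, true, true, true, true, true],
  [false, true, false, true, true, false, true, true, false, true, true, false, true, false, true],
  [false, true, false, true, true, true, true, true, false, true, false, true, true, true, true],
  [false, true, true, true, true, true, false, true, true, true, true, true, true, true, false],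
  [false, true, true, true, true, true, true, true, false, true, true, true, true, true, false],
  [true, false, true, false, true, true, false, true, false, true, true, true, true, true, true],
  [true, false, true, false, true, true, false, true, true, false, true, true, false, true, false],
  [true, false, true, false, true, true, true, true, true, false, true, false, true, true, true],
  [true, true, false, true, false, true, true, false, true, false, true, true, true, true, true],
  [true, true, false, true, false, true, true, true, true, true, false, true, false, true, true],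
  [false, true, false, true, false, true, false, true, false, true, true, true, true, false, true, false],
  [false, true, false, true, false, true, false, true, true, false, true, false, true, false, true, false],
  [false, true, false, true, true, false, true, false, true, true, true, true, true, true, true, true],
  [false, true, false, true, true, true, true, false, true, false, true, false, true, false, true, false],
  [false, true, false, true, true, true, true, true, false, true, false, true, true, true, true, true],
  [false, true, true, true, true, false, true, false, true, true, false, true, true, true, true, false],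
  [false, true, true, true, true, false, true, true, false, true, false, true, true, true, true, false],
  [false, true, true, true, true, true, false, true, false, true, true, true, true, true, true, false],
  [true, false, true, false, true, true, false, true, false, true, true, true, true, true, true, true],
  [true, false, true, false, true, true, true, true, true, false, true, false, true, true, true, true],
  [true, true, false, true, false, true, true, false, true, false, true, true, true, true, true, true],
  [false, true, false, true, false, true, false, true, false, true, true, true, true, false, true, false, true],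
  [false, true, false, true, true, false, true, true, false, true, true, true, true, true, false, true, false],
  [false, true, false, true, true, true, true, false, true, false, true, false, true, false, true, false, true],
  [false, true, false, true, true, true, true, true, false, true, false, true, true, true, true, true, true],
  [false, true, false, true, true, true, true, true, false, true, true, false, true, true, false, true, false],
  [false, true, true, true, true, false, true, true, false, true, false, true, true, true, true, false, true],
  [false, true, true, true, true, true, false, true, false, true, false, true, true, true, true, true, false],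
  [false, true, true, true, true, true, false, true, false, true, true, true, true, true, true, false, true],
  [true, false, true, false, true, false, true, false, true, false, true, true, true, true, false, true, false],
  [true, false, true, false, true, true, false, true, false, true, true, true, true, true, true, true, true],
  [true, false, true, false, true, true, true, true, true, false, true, false, true, true, true, true, true],
  [true, false, true, true, true, true, false, true, false, true, true, false, true, true, true, true, false],
  [true, true, false, true, false, true, true, false, true, false, true, true, true, true, true, true, true],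
  [false, true, false, true, false, true, false, true, false, true, true, true, true, false, true, false, true, true],
  [false, true, false, true, true, false, true, true, false, true, true, true, true, true, false, true, false, true],
  [false, true, false, true, true, true, true, true, false, true, false, true, true, true, true, true, true, true],
  [false, true, true, true, false, true, true, true, false, true, true, false, true, true, true, false, true, false],
  [false, true, true, true, true, false, true, true, false, true, false, true, true, true, true, false, true, true],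
  [false, true, true, true, true, true, false, true, false, true, false, true, true, true, true, true, false, true],
  [false, true, true, true, true, true, false, true, false, true, true, true, true, true, true, false, true, true],
  [true, false, true, false, true, true, true, true, true, false, true, false, true, true, true, true, true, true],
  [true, false, true, false, true, true, true, true, true, false, true, true, false, true, true, false, true, false],
  [true, false, true, true, true, true, true, false, true, false, true, false, true, true, true, true, true, false],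
  [true, true, false, true, false, true, true, false, true, false, true, true, true, true, true, true, true, true],
  [true, true, false, true, true, true, true, false, true, false, true, true, false, true, true, true, true, false],
  [false, true, false, true, false, true, false, true, false, true, true, true, true, true, true, true, false, true, false],
  [false, true, false, true, false, true, false, true, true, false, true, false, true, true, true, true, false, true, false],
  [false, true, false, true, true, false, true, true, false, true, true, true, true, true, false, true, false, true, true],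
  [false, true, false, true, true, true, true, true, false, true, false, true, true, true, true, true, true, true, true],
  [false, true, false, true, true, true, true, true, true, true, false, true, false, true, false, true, false, true, false],
  [false, true, true, true, true, false, true, true, false, true, false, true, true, true, true, false, true, true, true],
  [false, true, true, true, true, true, false, true, false, true, true, true, true, true, true, false, true, true, true],
  [true, false, true, true, true, true, true, false, true, false, true, false, true, true, true, true, true, false, true]]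

end Cfsg.Agent.Lie.J2Cert
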