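import Cfsg.Agent.Lib.Lie.Ico.SimpleDefs
import Cfsg.Agent.Lib.Lie.Ico.SubgroupData

/-!
Boolean tests for the subgroup of index 100.
-/

set_option autoImplicit false
set_option maxRecDepth 100000
set_option maxHeartbeats 0

namespace Cfsg.Agent.Lie.J2Cert

/-- The generators of the subgroup. -/
def subGen (n : Bool) : ℕ × ℕ × Bool := subGens.getD (if n then 1 else 0) (0, 0, false)

/-- Their action on the reflections. -/
def subConj (n : Bool) (j : ℕ) : ℕ := if n then subConjB.get j else subConjA.get j

/-- Their action on the hundred sets. -/
def subSet (n : Bool) (q : ℕ) : ℕ := if n then subSetB.get q else subSetA.get q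

/-- Their action on the 63 points. -/
def subIm (n : Bool) (u : ℕ) : ℕ := if n then subImB.getD u 0 else subImA.getD u 0

/-- Conjugation on one reflection. -/
def subConjCheck (n : Bool) (j : ℕ) : Bool := conjOk (cmat (subGen n)) j (subConj n j)

/-- Action on one of the sets and its orbit. -/
def subSetCheck (q : ℕ) : Bool :=
  (([false, true].all fun n => Nat.blt (subSet n q) 100 &&
    (List.range 315).all fun j => (setMasks.getD q 0).testBit j == (setMasks.getD (subSet n q) 0).testBit (subConj n j))) &&
  (Nat.blt (subLabel.get q) 3 &&
    ((Nat.beq (subRank.get q) 0 && Nat.beq q (subRoots.getD (subLabel.get q) 0)) ||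
      (Nat.blt (subRank.get (subPar.get q).1) (subRank.get q) &&
        (Nat.blt (subPar.get q).1 100 && (Nat.beq (subSet (subPar.get q).2 (subPar.get q).1) q &&
          Nat.beq (subLabel.get (subPar.get q).1) (subLabel.get q))))))

/-- The labels are invariant. -/
def subLabelCheck (q : ℕ) : Bool :=
  Nat.beq (subLabel.get (subSet false q)) (subLabel.get q) && Nat.beq (subLabel.get (subSet true q)) (subLabel.get q)

/-- The point map. -/
def subPtCheck (u : ℕ) : Bool :=
  Nat.blt (subPts.getD u 0) 315 && ([false, true].all fun n =>
    Nat.blt (subIm n u) 63 && Nat.beq (subConj n (subPts.getD u 0)) (subPts.getD (subIm n u) 0))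

/-- The image of a point under a word. -/
def evalSub (w : List Bool) (u : ℕ) : ℕ := w.foldr subIm u

end Cfsg.Agent.Lie.J2Cert
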