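import Mathlib
import Cfsg.Agent.Lib.Lie.Ico.SubgroupDefs
import Cfsg.Agent.Lib.Lie.Ico.MultData

/-!
Definitions of the checks for the multiplier of the Hall–Janko group.
-/

set_option autoImplicit false
set_option maxRecDepth 20000

namespace Cfsg.Agent.Lie.J2Cert

open Cfsg.Agent.Lie CentralTable

/-- A packed permutation of the hundred sets. -/
def pk (f : ℕ → ℕ) : ℕ := (List.range 100).foldr (fun i acc => (f i <<< (7 * i)) + acc) 0

/-- The action of a generator on the hundred sets. -/
def actPk (n : Bool) : ℕ := pk fun i => bif n then setActY.getD i 0 else setActX.getD i 0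

/-- The action of a generator of the subgroup. -/
def subPk (n : Bool) : ℕ := pk fun i => subSet n i

/-- The packings are correct. -/
def pkCheck (k : ℕ) : Bool :=
  [false, true].all fun n => Nat.beq (pget (actPk n) k) (bif n then setActY.getD k 0 else setActX.getD k 0) &&
    Nat.beq (pget (subPk n) k) (subSet n k)

/-- The generators of order seven as words. -/
def wordCheck (k : ℕ) : Bool :=
  (Nat.beq (Cert.evalP (actPk false) (actPk true) wordX k) (pget certJ.g0 k) &&
    Nat.beq (Cert.evalP (actPk false) (actPk true) wordY k) (pget certJ.g1 k)) &&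
  ((Nat.beq (Cert.evalP (subPk false) (subPk true) wordA k) (pget certH.g0 k) &&
    Nat.beq (Cert.evalP (subPk false) (subPk true) wordB k) (pget certH.g1 k)) &&
  ((Nat.beq (pget certJ.h0 k) (pget certH.g0 k) && Nat.beq (pget certJ.h1 k) (pget certH.g1 k)) &&
  ((Nat.beq (pget certH.h0 k) (pget certH.g0 k) && Nat.beq (pget certH.h1 k) (pget certH.g0 k)) &&
  ((Nat.beq (Cert.evalP certH.g0 certH.g1 subWord0 k) (subSet false k) &&
    Nat.beq (Cert.evalP certH.g0 certH.g1 subWord1 k) (subSet true k)) &&
  ((Nat.beq (Cert.evalP certJ.g0 certJ.g1 (List.replicate 7 false) k) k &&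
    Nat.beq (Cert.evalP certJ.g0 certJ.g1 (List.replicate 7 true) k) k) &&
  (Nat.beq (Cert.evalP certH.g0 certH.g1 (List.replicate 7 false) k) k &&
    Nat.beq (Cert.evalP certH.g0 certH.g1 (List.replicate 7 true) k) k))))))

/-- The targets for the subgroup: seven times each unit vector. -/
def targetH : Bool :=
  certH.combos.map Prod.fst == (List.range certH.P).map fun p => vsmul 7 (vunit certH.P p)

/-- Which parameters of the big table agree with the first one. -/
def nJ : List ℤ := [1, 1, 1, 1, 0]

/-- The targets for the group. -/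
def targetJ : Bool :=
  certJ.combos.map Prod.fst == vsmul 14 (vunit certJ.P 0) ::
    ((List.range certJ.P).tail.map fun p => vadd (vsmul 7 (vunit certJ.P p)) (vsmul (-7 * nJ.getD p 0) (vunit certJ.P 0)))

end Cfsg.Agent.Lie.J2Cert
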