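import Mathlib
import Cfsg.Agent.Lib.Lie.Ico.MultDefs

/-!
Kernel checks for the multiplier of the Hall–Janko group.
-/

set_option autoImplicit false
set_option maxRecDepth 100000
set_option maxHeartbeats 0

namespace Cfsg.Agent.Lie.J2Cert

open Cfsg.Agent.Lie CentralTable

theorem mult_pk_ok : (List.range 100).all pkCheck = true := by decide +kernel

theorem mult_word_ok : (List.range 100).all wordCheck = true := by decide +kernel

theorem certJ_edges : (List.range 100).all certJ.edgeCheck = true := by decide +kernel

theorem certJ_tree : (List.range 100).all certJ.treeCheck = true := by decide +kernel

theorem certJ_rels : certJ.rels.all certJ.relCheck = true := by decide +kernel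

theorem certJ_vars : (List.range certJ.V).all certJ.varCheck = true := by decide +kernel

theorem certJ_combos : certJ.combos.all certJ.comboCheck = true := by decide +kernel

theorem certJ_points : (List.range 100).all (fun i => Nat.beq i 0 || !Nat.beq (pget (certJ.perm.get i) 0) 0) = true := by
  decide +kernel

theorem certH_edges : (List.range 864).all certH.edgeCheck = true := by decide +kernel

theorem certH_tree : (List.range 864).all certH.treeCheck = true := by decide +kernel

theorem certH_rels : certH.rels.all certH.relCheck = true := by decide +kernel

theorem certH_vars : (List.range certH.V).all certH.varCheck = true := by decide +kernel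

theorem certH_combos : certH.combos.all certH.comboCheck = true := by decide +kernel

theorem cert_targets : targetH = true ∧ targetJ = true := by decide +kernel

end Cfsg.Agent.Lie.J2Cert
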