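import Mathlib
import Cfsg.Agent.Lib.Lie.Ico.MultDefs

/-!
The generators of the subgroup as words in the two generators of order seven, and transitivity.
-/

set_option autoImplicit false
set_option maxRecDepth 100000
set_option maxHeartbeats 0

namespace Cfsg.Agent.Lie.J2Cert

open Cfsg.Agent.Lie CentralTable

/-- The subgroup generators in the generators of the group. -/
def abWord0 : List Bool := [false, false, true, true, true, false, false, false, false, false, true, true, false, false, false, false, true, true, false, false, false, true, true, true, true, false, false, false, true, true, false, false, false, true]

def abWord1 : List Bool := [false, true, true, true, false, false, false, false, true, true, true, true, false, false, true, true, true, false, false, true, true, true, true, false, false, false, true, true, true, false, false, true, true, true]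

theorem abWord_ok : (List.range 100).all (fun k =>
    Nat.beq (Cert.evalP certJ.g0 certJ.g1 abWord0 k) (pget certH.g0 k) &&
      Nat.beq (Cert.evalP certJ.g0 certJ.g1 abWord1 k) (pget certH.g1 k)) = true := by decide +kernel

theorem certJ_orbit : (List.range 100).all (fun q =>
    (List.range 100).any fun i => Nat.beq (pget (certJ.perm.get i) q) 0) = true := by decide +kernel

end Cfsg.Agent.Lie.J2Cert
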