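import Cfsg.Agent.Lib.Lie.Ico.SubgroupDefs
import Cfsg.Agent.Lib.Lie.G2TwoUnitary.Tables

/-!
Kernel checks: the subgroup of index 100.
-/

set_option autoImplicit false
set_option maxRecDepth 100000
set_option maxHeartbeats 0

namespace Cfsg.Agent.Lie.J2Cert

theorem subConj_ok : ((List.range 315).all fun j => subConjCheck false j && subConjCheck true j) = true := by
  decide +kernel

theorem subGen_ok : (cBound (subGen false) && cBound (subGen true)) = true := by decide +kernel

theorem subSet_ok : ((List.range 100).all fun q => subSetCheck q && subLabelCheck q) = true := by decide +kernel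

theorem subLabel_count : subRoots.length = 3 ∧ (List.range 100).countP (fun q => Nat.beq (subLabel.get q) 1) = 36 ∧
    (List.range 100).countP (fun q => Nat.beq (subLabel.get q) 2) = 63 ∧ subSet false 0 = 0 ∧ subSet true 0 = 0 ∧
    (subRoots.getD 1 0 < 100 ∧ subRoots.getD 2 0 < 100) ∧
    subLabel.get (subRoots.getD 1 0) = 1 ∧ subLabel.get (subRoots.getD 2 0) = 2 := by
  decide +kernel

theorem subPt_ok : ((List.range 63).all fun u => subPtCheck u) = true := by decide +kernel

theorem subPt_cover : ((List.range 315).all fun j =>
    (setMasks.getD 0 0).testBit j == (List.range 63).any fun u => Nat.beq (subPts.getD u 0) j) = true ∧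
    ((List.range 63).all fun u => (List.range u).all fun v => !(Nat.beq (subPts.getD u 0) (subPts.getD v 0))) = true := by
  decide +kernel

theorem subTrans_ok : subTrans.length = 63 ∧
    ((List.range 63).all fun u => Nat.beq (evalSub (subTrans.getD u []) 0) u) = true := by
  decide +kernel

theorem subStab_ok : subStab.length = 96 ∧ (subStab.all fun w => Nat.beq (evalSub w 0) 0) = true ∧
    (subStab.map fun w => (List.range 63).map (evalSub w)).Nodup := by
  decide +kernel

theorem subWordU_ok : subWordsU.length = 2 ∧ (subWordsU.all fun w => w.all fun r => Nat.blt r 12) = true ∧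
    ((List.range 63).all fun u =>
      Nat.beq ((subWordsU.getD 0 []).foldr
        (fun r v => G2Two.perm r (if G2Two.twist r = 1 then G2Two.tau v else v)) u) (subIm false u) &&
      Nat.beq ((subWordsU.getD 1 []).foldr
        (fun r v => G2Two.perm r (if G2Two.twist r = 1 then G2Two.tau v else v)) u) (subIm true u)) = true := by
  decide +kernel

end Cfsg.Agent.Lie.J2Cert
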