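import Mathlib
import Cfsg.Agent.Lib.Lie.Ico.Hundred
import Cfsg.Agent.Lib.Lie.Ico.SubgroupChecks
import Cfsg.Agent.Lib.Lie.G2TwoUnitary.Main

/-!
The subgroup of index 100 is the unitary group of dimension 3 over nine elements.
-/

set_option autoImplicit false
set_option maxRecDepth 20000
set_option maxHeartbeats 1000000

noncomputable section

namespace Cfsg.Agent.Lie.J2Cert

open Cfsg.Agent.Lie Janko Cfsg.Spor Matrix

/-- The action on the hundred sets. -/
@[reducible] def setAction : MulAction J2 (Fin 100) := MulAction.compHom (Fin 100) setHomJ2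

theorem setHomJ2_proj (f : twoJ2) (q : Fin 100) : setHomJ2 (proj f) q = setImage f q := rfl

theorem set_transitive (q : Fin 100) : ∃ x : J2, setHomJ2 x 0 = q := by
  obtain ⟨q, hq⟩ := q
  induction q using Nat.strong_induction_on with
  | _ q ih =>
    rcases Nat.eq_zero_or_pos q with rfl | h0
    · exact ⟨1, by rw [map_one]; rfl⟩
    obtain ⟨p, hp, n, hn⟩ : ∃ p < q, ∃ n : Bool, (if n then setActY.getD p 0 else setActX.getD p 0) = q := by
      have h : ∀ k : Fin 100, 0 < k.val → (setPar.getD k.val (0, false)).1 < k.val ∧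
          (if (setPar.getD k.val (0, false)).2 then setActY.getD (setPar.getD k.val (0, false)).1 0
            else setActX.getD (setPar.getD k.val (0, false)).1 0) = k.val := by decide +kernel
      exact ⟨_, (h ⟨q, hq⟩ h0).1, _, (h ⟨q, hq⟩ h0).2⟩
    obtain ⟨x, hx⟩ := ih p hp (hp.trans hq)
    obtain ⟨f, -, hact⟩ := exists_gen n
    refine ⟨proj f * x, ?_⟩
    rw [map_mul, Equiv.Perm.mul_apply, hx, setHomJ2_proj]
    have hc := List.all_eq_true.1 set_ok p (List.mem_range.2 (hp.trans hq))
    simp only [setCheck, Bool.and_eq_true, Nat.blt_eq, List.all_eq_true, List.mem_range, beq_iff_eq] at hc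
    refine setImage_eq fun j => ?_
    rw [hact]
    cases n
    · show (maskAt ⟨p, _⟩).testBit j = (setMasks.getD q 0).testBit (conjX.get j)
      exact ((hc.2.2 j j.2).1).trans (congrArg (fun k => (setMasks.getD k 0).testBit (conjX.get j)) (show setActX.getD p 0 = q from hn))
    · show (maskAt ⟨p, _⟩).testBit j = (setMasks.getD q 0).testBit (conjY.get j)
      exact ((hc.2.2 j j.2).2).trans (congrArg (fun k => (setMasks.getD k 0).testBit (conjY.get j)) (show setActY.getD p 0 = q from hn))

/-- The stabiliser of the first set. -/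
def Sub100 : Subgroup J2 := letI := setAction; MulAction.stabilizer J2 (0 : Fin 100)

theorem mem_sub (x : J2) : x ∈ Sub100 ↔ setHomJ2 x 0 = 0 := Iff.rfl

theorem sub_index : Sub100.index = 100 := by
  letI := setAction
  haveI : MulAction.IsPretransitive J2 (Fin 100) := MulAction.isPretransitive_iff_base 0 |>.2 set_transitive
  show (MulAction.stabilizer J2 (0 : Fin 100)).index = 100
  rw [MulAction.index_stabilizer_of_transitive, Nat.card_fin]

theorem sub_card : Nat.card Sub100 = 6048 := by
  have h := Subgroup.card_mul_index Sub100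
  rw [sub_index, card_J2] at h
  omega

/-- One of the 63 points. -/
def pt (u : Fin 63) : Fin 315 := ⟨subPts.getD u 0, by
  have h := List.all_eq_true.1 subPt_ok u (List.mem_range.2 u.2)
  simp only [subPtCheck, Bool.and_eq_true, Nat.blt_eq] at h
  exact h.1⟩

theorem pt_injective : Function.Injective pt := by
  intro u v e
  by_contra hne
  have key : ∀ a b : Fin 63, b.val < a.val → pt a ≠ pt b := by
    intro a b hba e'
    have h := List.all_eq_true.1 (List.all_eq_true.1 subPt_cover.2 a (List.mem_range.2 a.2)) b (List.mem_range.2 hba)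
    simp only [Bool.not_eq_true', ← Bool.not_eq_true, Nat.beq_eq] at h
    exact h (congrArg Fin.val e')
  rcases lt_or_gt_of_ne (fun h => hne (Fin.ext h)) with h | h
  · exact key v u h e.symm
  · exact key u v h e

theorem mem_set_iff (j : Fin 315) : (maskAt 0).testBit j = true ↔ ∃ u, pt u = j := by
  have h := List.all_eq_true.1 subPt_cover.1 j (List.mem_range.2 j.2)
  rw [beq_iff_eq] at h
  show (setMasks.getD 0 0).testBit j = true ↔ _
  rw [h, List.any_eq_true]
  simp only [List.mem_range, Nat.beq_eq]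
  exact ⟨fun ⟨u, hu, e⟩ => ⟨⟨u, hu⟩, Fin.ext e⟩, fun ⟨u, e⟩ => ⟨u, u.2, congrArg Fin.val e⟩⟩

theorem exists_ptImage (x : Sub100) (u : Fin 63) : ∃ v, pt v = (x : J2) • pt u := by
  obtain ⟨f, hf⟩ := proj_surjective (x : J2)
  have h0 : setImage f 0 = 0 := by
    rw [← setHomJ2_proj, hf]
    exact x.2
  have h := setImage_spec f 0 (pt u)
  rw [h0, (mem_set_iff _).2 ⟨u, rfl⟩] at h
  rw [← hf, smul_proj]
  exact (mem_set_iff _).1 h.symm

/-- The image of one of the 63 points. -/
def ptImage (x : Sub100) (u : Fin 63) : Fin 63 := (exists_ptImage x u).choose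

theorem ptImage_spec (x : Sub100) (u : Fin 63) : pt (ptImage x u) = (x : J2) • pt u := (exists_ptImage x u).choose_spec

/-- The action on the 63 points. -/
def ptHom : Sub100 →* Equiv.Perm (Fin 63) :=
  MonoidHom.mk' (fun x => Equiv.ofBijective (ptImage x) (Finite.injective_iff_bijective.1 fun u v e => by
    have h := ptImage_spec x u
    rw [e, ptImage_spec x v] at h
    exact pt_injective (MulAction.injective _ h).symm)) fun x y => Equiv.ext fun u => pt_injective (by
    show pt (ptImage (x * y) u) = pt (ptImage x (ptImage y u))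
    rw [ptImage_spec, ptImage_spec, ptImage_spec, Subgroup.coe_mul, mul_smul])

theorem exists_subGen (n : Bool) : ∃ f : twoJ2, ∃ h : proj f ∈ Sub100,
    (∀ j : Fin 315, ((proj f • j : Fin 315) : ℕ) = subConj n j) ∧
    (∀ q : Fin 100, (setHomJ2 (proj f) q : ℕ) = subSet n q) ∧
    ∀ u : Fin 63, (ptHom ⟨proj f, h⟩ u : ℕ) = subIm n u := by
  have hb := subGen_ok
  simp only [Bool.and_eq_true] at hb
  obtain ⟨f, hf⟩ := exists_cmat (c := subGen n) (by cases n; exacts [hb.1, hb.2])
  have hconj : ∀ j : Fin 315, ((proj f • j : Fin 315) : ℕ) = subConj n j := fun j => by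
    have h := List.all_eq_true.1 subConj_ok j (List.mem_range.2 j.2)
    simp only [Bool.and_eq_true, subConjCheck] at h
    obtain ⟨_, e⟩ := conjOk_spec hf j.2 (i := subConj n j) (by cases n; exacts [h.1, h.2])
    rw [smul_proj, show (⟨(j : ℕ), j.2⟩ : Fin 315) = j from rfl] at *
    rw [e]
  have hset : ∀ q : Fin 100, (setHomJ2 (proj f) q : ℕ) = subSet n q := fun q => by
    have h := List.all_eq_true.1 subSet_ok q (List.mem_range.2 q.2)
    simp only [subSetCheck, Bool.and_eq_true, List.all_cons, List.all_nil, Bool.and_true, Nat.blt_eq,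
      List.all_eq_true, List.mem_range, beq_iff_eq] at h
    obtain ⟨⟨⟨⟨a1, b1⟩, a2, b2⟩, -⟩, -⟩ := h
    obtain ⟨hlt, hbit⟩ : subSet n q < 100 ∧ ∀ j < 315,
        (setMasks.getD q 0).testBit j = (setMasks.getD (subSet n q) 0).testBit (subConj n j) := by
      cases n
      exacts [⟨a1, b1⟩, ⟨a2, b2⟩]
    rw [setHomJ2_proj, setImage_eq (r := ⟨subSet n q, hlt⟩) fun j => by
      rw [← smul_proj, hconj]
      exact hbit j j.2]
  have hmem : proj f ∈ Sub100 := by
    rw [mem_sub]
    refine Fin.ext ?_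
    rw [hset]
    obtain ⟨-, -, -, c0, c1, -⟩ := subLabel_count
    cases n
    exacts [c0, c1]
  refine ⟨f, hmem, hconj, hset, fun u => ?_⟩
  have h := List.all_eq_true.1 subPt_ok u (List.mem_range.2 u.2)
  simp only [subPtCheck, Bool.and_eq_true, List.all_cons, List.all_nil, Bool.and_true, Nat.blt_eq, Nat.beq_eq] at h
  obtain ⟨-, ⟨a1, b1⟩, a2, b2⟩ := h
  obtain ⟨hlt, he⟩ : subIm n u < 63 ∧ subConj n (subPts.getD u 0) = subPts.getD (subIm n u) 0 := by
    cases n
    exacts [⟨a1, b1⟩, ⟨a2, b2⟩]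
  have : ptHom ⟨proj f, hmem⟩ u = ⟨subIm n u, hlt⟩ := pt_injective (Fin.ext (by
    show (pt (ptImage ⟨proj f, hmem⟩ u) : ℕ) = _
    rw [ptImage_spec, hconj]
    exact he))
  rw [this]

/-- A generator of the subgroup. -/
def subElt (n : Bool) : Sub100 := ⟨_, (exists_subGen n).choose_spec.choose⟩

theorem subElt_set (n : Bool) (q : Fin 100) : (setHomJ2 (subElt n : J2) q : ℕ) = subSet n q :=
  (exists_subGen n).choose_spec.choose_spec.2.1 q

theorem subElt_pt (n : Bool) (u : Fin 63) : (ptHom (subElt n) u : ℕ) = subIm n u :=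
  (exists_subGen n).choose_spec.choose_spec.2.2 u

/-- The group generated by the two permutations. -/
def imGroup : Subgroup (Equiv.Perm (Fin 63)) := Subgroup.closure (Set.range fun n => ptHom (subElt n))

theorem eval_perm (w : List Bool) : ∃ g ∈ imGroup, ∀ u : Fin 63, (g u : ℕ) = evalSub w u := by
  induction w with
  | nil => exact ⟨1, one_mem _, fun u => rfl⟩
  | cons b w ih =>
    obtain ⟨g, hg, e⟩ := ih
    refine ⟨ptHom (subElt b) * g, mul_mem (Subgroup.subset_closure ⟨b, rfl⟩) hg, fun u => ?_⟩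
    rw [Equiv.Perm.mul_apply, subElt_pt, e]
    rfl

theorem imGroup_card : 6048 ≤ Nat.card imGroup := by
  choose g hg he using eval_perm
  let r : Fin 63 → imGroup := fun u => ⟨g (subTrans.getD u []), hg _⟩
  let s : Fin 96 → imGroup := fun k => ⟨g (subStab.getD k []), hg _⟩
  have hr : ∀ u : Fin 63, (r u : Equiv.Perm (Fin 63)) 0 = u := fun u => Fin.ext (by
    rw [he]
    exact Nat.eq_of_beq_eq_true (List.all_eq_true.1 subTrans_ok.2 u (List.mem_range.2 u.2)))
  obtain ⟨hlen, hfix, hnd⟩ := subStab_ok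
  have hs : ∀ k : Fin 96, (s k : Equiv.Perm (Fin 63)) 0 = 0 := fun k => Fin.ext (by
    rw [he]
    refine Nat.eq_of_beq_eq_true (List.all_eq_true.1 hfix _ ?_)
    rw [List.getD_eq_getElem _ _ (by rw [hlen]; exact k.2)]
    exact List.getElem_mem _)
  have hinj : Function.Injective fun p : Fin 63 × Fin 96 => r p.1 * s p.2 := by
    rintro ⟨u, k⟩ ⟨v, l⟩ e
    have e0 := congrArg (fun x : imGroup => (x : Equiv.Perm (Fin 63)) 0) e
    simp only [Subgroup.coe_mul, Equiv.Perm.mul_apply, hs, hr] at e0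
    subst e0
    refine Prod.ext rfl (Fin.ext ((hnd.getElem_inj_iff (hi := by rw [List.length_map, hlen]; exact k.2)
      (hj := by rw [List.length_map, hlen]; exact l.2)).1 ?_))
    rw [List.getElem_map, List.getElem_map]
    refine List.map_congr_left fun a ha => ?_
    have ek := congrArg (fun x : imGroup => ((x : Equiv.Perm (Fin 63)) ⟨a, List.mem_range.1 ha⟩ : ℕ))
      (mul_left_cancel e)
    simp only [s, he, List.getD_eq_getElem _ _ (show k.val < subStab.length by rw [hlen]; exact k.2),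
      List.getD_eq_getElem _ _ (show l.val < subStab.length by rw [hlen]; exact l.2)] at ek
    exact ek
  have := Nat.card_le_card_of_injective _ hinj
  rwa [Nat.card_prod, Nat.card_fin, Nat.card_fin] at this

theorem ptHom_facts : ptHom.range = imGroup ∧ Function.Injective ptHom ∧
    Subgroup.closure (Set.range subElt) = ⊤ := by
  have hle : imGroup ≤ ptHom.range := (Subgroup.closure_le _).2 (by rintro _ ⟨n, rfl⟩; exact ⟨_, rfl⟩)
  have hrc : Nat.card ptHom.range ≤ 6048 := sub_card ▸ Nat.card_le_card_of_surjective _ ptHom.rangeRestrict_surjective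
  have heq : imGroup = ptHom.range := Subgroup.eq_of_le_of_card_ge hle (hrc.trans imGroup_card)
  have hinj : Function.Injective ptHom := by
    have hb : Function.Bijective ptHom.rangeRestrict :=
      ptHom.rangeRestrict_surjective.bijective_of_nat_card_le (by rw [sub_card, ← heq]; exact imGroup_card)
    exact fun a b e => hb.1 (Subtype.ext e)
  refine ⟨heq.symm, hinj, Subgroup.map_injective hinj ?_⟩
  rw [MonoidHom.map_closure, ← MonoidHom.range_eq_map, ← heq, ← Set.range_comp]
  rfl

theorem sub_equiv_PSU {F : Type} [Field F] [Fintype F] (hF : Fintype.card F = 9) :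
    Nonempty (Sub100 ≃* Cfsg.PSU 3 F 3) := by
  classical
  obtain ⟨i, hi⟩ := G2Two.exists_sqrt hF
  obtain ⟨p, e, σ, -, -, -, -, hσ⟩ := Cfsg.Agent.Classical.exists_usigma (F := F) (q := 3) (by rw [hF]; norm_num)
  obtain ⟨π, hπ⟩ := G2Two.exists_U_action hσ hF hi
  letI : StarRing F := Cfsg.Agent.Small.Hermitian.starRingOfInvolution σ.toRingHom hσ.involutive
  have hZ : Subgroup.center (Cfsg.SU 3 F 3) = ⊥ := Subgroup.eq_bot_of_card_eq _ (by
    rw [Cfsg.Agent.Classical.UCount.card_center_SU hσ (by norm_num)]; rfl)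
  have hSU : Nat.card (Cfsg.SU 3 F 3) = 6048 := by
    have h := Cfsg.Agent.Classical.UCount.card_SU hσ (n := 3) (by norm_num)
    rw [Cfsg.Agent.Classical.UCount.card_GU hσ 3] at h
    rw [show (3 : ℕ) ^ (3 * (3 - 1) / 2) * (∏ k ∈ Finset.range 3,
      (if Even k then (3 : ℕ) ^ (k + 1) + 1 else 3 ^ (k + 1) - 1)) = 24192 by decide] at h
    omega
  haveI : Finite (Cfsg.SU 3 F 3) := Nat.finite_of_card_ne_zero (by rw [hSU]; norm_num)
  have hτ : ∀ a : Fin 63, G2Two.tau a < 63 := fun a => (G2Two.point_U a a.isLt).2.1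
  let tw : ℕ → Fin 63 → Fin 63 := fun r a => if G2Two.twist r = 1 then ⟨G2Two.tau a, hτ a⟩ else a
  have htw : ∀ r a, tw r (tw r a) = a := fun r a => by
    simp only [tw]
    split_ifs
    · exact Fin.ext (G2Two.point_U a a.isLt).2.2.1
    · rfl
  have hgen : ∀ r < 12, ∃ g : Cfsg.SU 3 F 3, ∀ a : Fin 63, (π g a : ℕ) = G2Two.perm r (tw r a) := by
    intro r hr
    obtain ⟨g, hg⟩ := G2Two.exists_table_matrix hσ hF hi hr
    refine ⟨g, fun b => ?_⟩
    have hact : ∀ a : Fin 63, π g (tw r a) = ⟨G2Two.perm r a, (G2Two.table_G r hr a a.isLt).1⟩ := by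
      intro a
      refine (hπ g _ _).mp ⟨G2Two.el i (G2Two.findU (G2Two.imU r a 0) (G2Two.imU r a 1) (G2Two.imU r a 2) % 16),
        funext fun t => ?_⟩
      have hidx : ((tw r a : Fin 63) : ℕ) = if G2Two.twist r = 1 then G2Two.tau a else (a : ℕ) := by
        simp only [tw]
        split_ifs <;> rfl
      rw [Pi.smul_apply, smul_eq_mul, Matrix.mulVec, dotProduct, Fin.sum_univ_three]
      simp only [G2Two.vU, hg, hidx, Fin.val_zero, Fin.val_one, Fin.val_two, ← G2Two.el_mul hF hi, ← G2Two.el_add hF]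
      exact congrArg (G2Two.el i) ((G2Two.table_U r hr a a.isLt).2 t t.isLt)
    rw [show π g b = π g (tw r (tw r b)) by rw [htw], hact]
  have hword : ∀ w : List ℕ, (∀ r ∈ w, r < 12) → ∃ g : Cfsg.SU 3 F 3, ∀ a : Fin 63, (π g a : ℕ) =
      w.foldr (fun r v => G2Two.perm r (if G2Two.twist r = 1 then G2Two.tau v else v)) a := by
    intro w
    induction w with
    | nil => exact fun _ => ⟨1, fun a => by rw [map_one]; rfl⟩
    | cons r w ih =>
      intro hw
      obtain ⟨g, hg⟩ := ih fun x hx => hw x (List.mem_cons_of_mem _ hx)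
      obtain ⟨h, hh⟩ := hgen r (hw r List.mem_cons_self)
      refine ⟨h * g, fun a => ?_⟩
      rw [map_mul, Equiv.Perm.mul_apply, hh, List.foldr_cons, ← hg a]
      simp only [tw]
      split_ifs <;> rfl
  obtain ⟨hlen, hall, heval⟩ := subWordU_ok
  have hin : imGroup ≤ π.range := by
    refine (Subgroup.closure_le _).2 ?_
    rintro _ ⟨n, rfl⟩
    obtain ⟨g, hg⟩ := hword (subWordsU.getD (if n then 1 else 0) []) fun r hr => by
      have hm : subWordsU.getD (if n then 1 else 0) [] ∈ subWordsU := by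
        rw [List.getD_eq_getElem _ _ (by rw [hlen]; split <;> norm_num)]
        exact List.getElem_mem _
      exact Nat.blt_eq.mp (List.all_eq_true.1 (List.all_eq_true.1 hall _ hm) r hr)
    refine ⟨g, Equiv.ext fun a => Fin.ext ?_⟩
    have h := List.all_eq_true.1 heval a (List.mem_range.2 a.2)
    simp only [Bool.and_eq_true, Nat.beq_eq] at h
    rw [subElt_pt, hg]
    cases n
    exacts [h.1, h.2]
  have hrc : Nat.card π.range ≤ 6048 := hSU ▸ Nat.card_le_card_of_surjective _ π.rangeRestrict_surjective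
  have heq : imGroup = π.range := Subgroup.eq_of_le_of_card_ge hin (hrc.trans imGroup_card)
  have hπinj : Function.Injective π := by
    have hb : Function.Bijective π.rangeRestrict :=
      π.rangeRestrict_surjective.bijective_of_nat_card_le (by rw [hSU, ← heq]; exact imGroup_card)
    exact fun a b e => hb.1 (Subtype.ext e)
  obtain ⟨h1, h2, -⟩ := ptHom_facts
  exact ⟨(MonoidHom.ofInjective h2).trans ((MulEquiv.subgroupCongr (h1.trans heq)).trans
    ((MonoidHom.ofInjective hπinj).symm.trans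
      ((QuotientGroup.quotientBot).symm.trans (QuotientGroup.quotientMulEquivOfEq hZ.symm))))⟩

theorem label_invariant {x : J2} (hx : x ∈ Sub100) : ∀ q : Fin 100, subLabel.get (setHomJ2 x q) = subLabel.get q := by
  have hx' : (⟨x, hx⟩ : Sub100) ∈ Subgroup.closure (Set.range subElt) := by
    rw [ptHom_facts.2.2]; exact Subgroup.mem_top _
  suffices ∀ y ∈ Subgroup.closure (Set.range subElt), ∀ q : Fin 100,
      subLabel.get (setHomJ2 (y : J2) q) = subLabel.get q from this _ hx'
  intro y hy
  induction hy using Subgroup.closure_induction with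
  | mem s hs =>
    obtain ⟨n, rfl⟩ := hs
    intro q
    rw [subElt_set]
    have h := List.all_eq_true.1 subSet_ok q (List.mem_range.2 q.2)
    simp only [subLabelCheck, Bool.and_eq_true, Nat.beq_eq] at h
    cases n
    exacts [h.2.1, h.2.2]
  | one => intro q; simp
  | mul a b _ _ ia ib =>
    intro q
    rw [Subgroup.coe_mul, map_mul, Equiv.Perm.mul_apply, ia, ib]
  | inv a _ ia =>
    intro q
    conv_rhs => rw [show q = setHomJ2 (a : J2) (setHomJ2 ((a⁻¹ : Sub100) : J2) q) by
      rw [← Equiv.Perm.mul_apply, ← map_mul, Subgroup.coe_inv, mul_inv_cancel, map_one]; rfl]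
    rw [ia]

theorem orbit_root (q : Fin 100) : ∃ x ∈ Sub100, ∀ r : Fin 100,
    (r : ℕ) = subRoots.getD (subLabel.get q) 0 → setHomJ2 x r = q := by
  induction hr : subRank.get q using Nat.strong_induction_on generalizing q with
  | _ k ih =>
    have h := List.all_eq_true.1 subSet_ok q (List.mem_range.2 q.2)
    simp only [subSetCheck, Bool.and_eq_true, Bool.or_eq_true, Nat.blt_eq, Nat.beq_eq] at h
    obtain ⟨⟨-, -, h⟩, -⟩ := h
    rcases h with ⟨-, he⟩ | ⟨hlt, hp, hact, hlab⟩
    · exact ⟨1, one_mem _, fun r e => by rw [map_one]; exact Fin.ext (e.trans he.symm)⟩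
    · obtain ⟨x, hx, hxr⟩ := ih _ (hr ▸ hlt) ⟨_, hp⟩ rfl
      refine ⟨subElt (subPar.get q).2 * x, mul_mem (subElt (subPar.get q).2).2 hx, fun r e => ?_⟩
      rw [map_mul, Equiv.Perm.mul_apply, hxr r (by rw [hlab]; exact e)]
      exact Fin.ext (by rw [subElt_set]; exact hact)

/-- The rank three permutation action on the cosets. -/
theorem exists_cosets : ∃ c₁ c₂ : J2 ⧸ Sub100,
    (MulAction.orbit Sub100 c₁).ncard = 36 ∧ (MulAction.orbit Sub100 c₂).ncard = 63 := by
  classical
  let e : J2 ⧸ Sub100 → Fin 100 := fun c => Quotient.liftOn' c (fun x => setHomJ2 x 0) fun a b h => by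
    rw [QuotientGroup.leftRel_apply, mem_sub, map_mul, Equiv.Perm.mul_apply, map_inv,
      Equiv.Perm.inv_eq_iff_eq] at h
    exact h.symm
  have he : ∀ x : J2, e (x : J2 ⧸ Sub100) = setHomJ2 x 0 := fun _ => rfl
  have hinj : Function.Injective e := by
    intro a b h
    obtain ⟨a, rfl⟩ := QuotientGroup.mk_surjective a
    obtain ⟨b, rfl⟩ := QuotientGroup.mk_surjective b
    rw [he, he] at h
    refine QuotientGroup.eq.2 ?_
    rw [mem_sub, map_mul, Equiv.Perm.mul_apply, map_inv, Equiv.Perm.inv_eq_iff_eq]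
    exact h.symm
  have key : ∀ l k : ℕ, ∀ hk : subRoots.getD l 0 < 100, subLabel.get (subRoots.getD l 0) = l →
      (List.range 100).countP (fun q => Nat.beq (subLabel.get q) l) = k →
      ∃ c : J2 ⧸ Sub100, (MulAction.orbit Sub100 c).ncard = k := by
    intro l k hk hl hcount
    obtain ⟨x, hx⟩ := set_transitive ⟨_, hk⟩
    refine ⟨(x : J2 ⧸ Sub100), ?_⟩
    have himg : e '' MulAction.orbit Sub100 (x : J2 ⧸ Sub100) =
        ↑((Finset.univ : Finset (Fin 100)).filter fun q => Nat.beq (subLabel.get q.val) l = true) := by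
      ext q
      simp only [Set.mem_image, Finset.coe_filter, Finset.mem_univ, true_and, Set.mem_setOf_eq, Nat.beq_eq]
      constructor
      · rintro ⟨_, ⟨h, rfl⟩, rfl⟩
        show subLabel.get (setHomJ2 ((h : J2) * x) 0) = l
        rw [map_mul, Equiv.Perm.mul_apply, label_invariant h.2, hx]
        exact hl
      · intro hq
        obtain ⟨y, hy, hyr⟩ := orbit_root q
        refine ⟨((⟨y, hy⟩ : Sub100) • (x : J2 ⧸ Sub100)), ⟨_, rfl⟩, ?_⟩
        show setHomJ2 (y * x) 0 = q
        rw [map_mul, Equiv.Perm.mul_apply, hx]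
        exact hyr _ (by rw [hq])
    rw [← Set.ncard_image_of_injective _ hinj, himg, Set.ncard_coe_finset,
      card_filter_eq 100 fun q => Nat.beq (subLabel.get q) l]
    exact hcount
  obtain ⟨-, n1, n2, -, -, ⟨r1, r2⟩, l1, l2⟩ := subLabel_count
  obtain ⟨c1, h1⟩ := key 1 36 r1 l1 n1
  obtain ⟨c2, h2⟩ := key 2 63 r2 l2 n2
  exact ⟨c1, c2, h1, h2⟩

theorem subgroup_structure : ∃ H : Subgroup J2, H.index = 100 ∧ (∃ (F : Type) (_ : Field F) (_ : Fintype F),
    Fintype.card F = 9 ∧ Nonempty (↥H ≃* Cfsg.PSU 3 F 3)) ∧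
    ∃ c₁ c₂ : J2 ⧸ H, (MulAction.orbit ↥H c₁).ncard = 36 ∧ (MulAction.orbit ↥H c₂).ncard = 63 := by
  haveI : Fact (Nat.Prime 3) := ⟨Nat.prime_three⟩
  haveI : Finite (GaloisField 3 2) := inferInstance
  letI : Fintype (GaloisField 3 2) := Fintype.ofFinite _
  have hc : Fintype.card (GaloisField 3 2) = 9 := by
    rw [← Nat.card_eq_fintype_card, GaloisField.card 3 2 (by norm_num)]
    norm_num
  exact ⟨Sub100, sub_index, ⟨GaloisField 3 2, inferInstance, inferInstance, hc, sub_equiv_PSU hc⟩, exists_cosets⟩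

end Cfsg.Agent.Lie.J2Cert
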