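import Mathlib
import Cfsg.Prelude.Def_KGroupFacts
import Cfsg.Agent.Lib.Solv.SchurSmall
import Cfsg.Agent.Lib.Lie.CentralTable
import Cfsg.Agent.Lib.Lie.StemSylow
import Cfsg.Agent.Lib.Lie.Ico.Subgroup
import Cfsg.Agent.Lib.Lie.Ico.MultChecks
import Cfsg.Agent.Lib.Lie.Ico.MultWords

/-!
The Schur multiplier of the Hall–Janko group has order two.
-/

set_option autoImplicit false
set_option maxRecDepth 20000
set_option maxHeartbeats 1000000
set_option linter.style.haveILetI false

noncomputable section

namespace Cfsg.Agent.Lie.J2Cert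

open Cfsg.Agent.Lie Cfsg.Spor CentralTable

attribute [local irreducible] actPk subPk pget Cert.evalP Cert.edgeCheck Cert.treeCheck Cert.relCheck
  Cert.varCheck Cert.comboCheck pkCheck wordCheck

theorem exists_actGen (n : Bool) : ∃ g : J2, CentralTable.Rep setHomJ2 g (actPk n) := by
  obtain ⟨f, -, hact⟩ := exists_gen n
  refine ⟨proj f, fun q => ?_⟩
  have hc := List.all_eq_true.1 set_ok q (List.mem_range.2 q.2)
  simp only [setCheck, Bool.and_eq_true, Nat.blt_eq, List.all_eq_true, List.mem_range, beq_iff_eq] at hc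
  have hp := List.all_eq_true.1 mult_pk_ok q (List.mem_range.2 q.2)
  unfold pkCheck at hp
  simp only [List.all_cons, List.all_nil, Bool.and_true, Bool.and_eq_true, Nat.beq_eq] at hp
  rw [setHomJ2_proj]
  cases n
  · rw [hp.1.1, cond_false, setImage_eq (r := ⟨setActX.getD q 0, hc.1⟩) fun j => by
      rw [hact]
      exact (hc.2.2 j j.2).1]
  · rw [hp.2.1, cond_true, setImage_eq (r := ⟨setActY.getD q 0, hc.2.1⟩) fun j => by
      rw [hact]
      exact (hc.2.2 j j.2).2]

theorem rep_subElt (n : Bool) : CentralTable.Rep setHomJ2 (subElt n : J2) (subPk n) := by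
  intro q
  rw [subElt_set]
  have hp := List.all_eq_true.1 mult_pk_ok q (List.mem_range.2 q.2)
  unfold pkCheck at hp
  simp only [List.all_cons, List.all_nil, Bool.and_true, Bool.and_eq_true, Nat.beq_eq] at hp
  cases n
  exacts [hp.1.2.symm, hp.2.2.symm]

theorem word_facts (k : Fin 100) :
    (Cert.evalP (actPk false) (actPk true) wordX k = pget certJ.g0 k ∧
      Cert.evalP (actPk false) (actPk true) wordY k = pget certJ.g1 k) ∧
    (Cert.evalP (subPk false) (subPk true) wordA k = pget certH.g0 k ∧
      Cert.evalP (subPk false) (subPk true) wordB k = pget certH.g1 k) ∧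
    (pget certJ.h0 k = pget certH.g0 k ∧ pget certJ.h1 k = pget certH.g1 k) ∧
    (pget certH.h0 k = pget certH.g0 k ∧ pget certH.h1 k = pget certH.g0 k) ∧
    (Cert.evalP certH.g0 certH.g1 subWord0 k = subSet false k ∧
      Cert.evalP certH.g0 certH.g1 subWord1 k = subSet true k) ∧
    (Cert.evalP certJ.g0 certJ.g1 (List.replicate 7 false) k = k ∧
      Cert.evalP certJ.g0 certJ.g1 (List.replicate 7 true) k = k) ∧
    (Cert.evalP certH.g0 certH.g1 (List.replicate 7 false) k = k ∧
      Cert.evalP certH.g0 certH.g1 (List.replicate 7 true) k = k) := by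
  have h := List.all_eq_true.1 mult_word_ok k (List.mem_range.2 k.2)
  unfold wordCheck at h
  simp only [Bool.and_eq_true, Nat.beq_eq] at h
  exact h

/-- The two generators of order seven of the group. -/
theorem exists_xy : ∃ x : Bool → J2, ∀ s, CentralTable.Rep setHomJ2 (x s) (bif s then certJ.g1 else certJ.g0) := by
  choose g hg using exists_actGen
  refine ⟨fun s => CentralTable.ev g (bif s then wordY else wordX), fun s k => ?_⟩
  rw [CentralTable.rep_ev (a := actPk false) (b := actPk true) (fun s => by cases s <;> exact hg _)]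
  cases s
  exacts [(word_facts k).1.1, (word_facts k).1.2]

/-- The two generators of order seven of the subgroup. -/
theorem exists_ab : ∃ a : Bool → J2, (∀ s, a s ∈ Sub100) ∧
    ∀ s, CentralTable.Rep setHomJ2 (a s) (bif s then certH.g1 else certH.g0) := by
  refine ⟨fun s => CentralTable.ev (fun t => (subElt t : J2)) (bif s then wordB else wordA), fun s => ?_, fun s k => ?_⟩
  · exact (Subgroup.closure_le Sub100).2 (by rintro _ ⟨t, rfl⟩; exact (subElt t).2) (CentralTable.ev_mem _ _)
  · rw [CentralTable.rep_ev (a := subPk false) (b := subPk true) (fun s => by cases s <;> exact rep_subElt _)]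
    cases s
    exacts [(word_facts k).2.1.1, (word_facts k).2.1.2]

theorem pow_seven_eq_one {g : Bool → J2} {p q : ℕ} (hg : ∀ s, CentralTable.Rep setHomJ2 (g s) (bif s then q else p))
    (h0 : ∀ k : Fin 100, Cert.evalP p q (List.replicate 7 false) k = k)
    (h1 : ∀ k : Fin 100, Cert.evalP p q (List.replicate 7 true) k = k) (s : Bool) : g s ^ 7 = 1 := by
  refine CentralTable.eq_of_rep setHomJ2_injective fun k => ?_
  rw [show g s ^ 7 = CentralTable.ev g (List.replicate 7 s) by rw [CentralTable.ev, List.map_replicate, List.prod_replicate],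
    CentralTable.rep_ev hg, map_one]
  cases s
  exacts [h0 k, h1 k]

theorem closure_ab {a : Bool → J2} (hmem : ∀ s, a s ∈ Sub100)
    (ha : ∀ s, CentralTable.Rep setHomJ2 (a s) (bif s then certH.g1 else certH.g0)) :
    Subgroup.closure (Set.range a) = Sub100 := by
  refine le_antisymm ((Subgroup.closure_le _).2 (by rintro _ ⟨s, rfl⟩; exact hmem s)) ?_
  have hsub : ∀ n, (subElt n : J2) ∈ Subgroup.closure (Set.range a) := by
    intro n
    have : (subElt n : J2) = CentralTable.ev a (bif n then subWord1 else subWord0) := by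
      refine CentralTable.eq_of_rep setHomJ2_injective fun k => ?_
      rw [subElt_set, CentralTable.rep_ev ha]
      cases n
      exacts [(word_facts k).2.2.2.2.1.1.symm, (word_facts k).2.2.2.2.1.2.symm]
    rw [this]
    exact CentralTable.ev_mem _ _
  intro g hg
  have h : Subgroup.closure (Set.range subElt) ≤ (Subgroup.closure (Set.range a)).comap Sub100.subtype :=
    (Subgroup.closure_le _).2 (by rintro _ ⟨n, rfl⟩; exact hsub n)
  rw [ptHom_facts.2.2] at h
  exact h (Subgroup.mem_top (⟨g, hg⟩ : Sub100))

/-- The kernel of a stem extension of the Hall–Janko group has no element of order seven. -/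
theorem no_seven {Γ : Type*} [Group Γ] [Finite Γ] (σ : Γ →* J2) (hσ : Cfsg.IsStemExtension σ) :
    ∀ z : σ.ker, orderOf z ≠ 7 := by
  intro z hz
  obtain ⟨-, hc, hd⟩ := hσ
  haveI : Fact (Nat.Prime 7) := ⟨by norm_num⟩
  have hzo : orderOf (z : Γ) = 7 := by rwa [Subgroup.orderOf_coe]
  have hzc : ∀ g : Γ, g * z = z * g := Subgroup.mem_center_iff.1 (hc z.2)
  haveI : (Subgroup.zpowers (z : Γ)).Normal := ⟨fun x hx g => by
    have hx' := hc (Subgroup.zpowers_le.2 z.2 hx)
    rwa [Subgroup.mem_center_iff.1 hx' g, mul_inv_cancel_right]⟩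
  have hpg : IsPGroup 7 (Subgroup.zpowers (z : Γ)) :=
    IsPGroup.of_card (n := 1) (by rw [Nat.card_zpowers, hzo, pow_one])
  obtain ⟨P, hP⟩ := hpg.exists_le_sylow
  have hpm : IsPGroup 7 ((P : Subgroup Γ).map σ) := P.isPGroup'.map σ
  obtain ⟨n, hn⟩ := hpm.exists_card_eq
  have hn1 : n ≤ 1 := by
    by_contra hgt
    have hdvd : 7 ^ n ∣ 604800 := by
      rw [← hn, ← card_J2]
      exact Subgroup.card_subgroup_dvd_card _
    have h2 : (7 : ℕ) ^ 2 ∣ 604800 := (pow_dvd_pow 7 (by omega)).trans hdvd
    norm_num at h2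
  haveI : IsMulCommutative (P : Subgroup Γ) := by
    refine StemSylow.comm_of_cyclic_image σ hc _ ?_
    rcases Nat.le_one_iff_eq_zero_or_eq_one.1 hn1 with rfl | rfl
    · haveI := (Nat.card_eq_one_iff_unique.1 (by rw [hn, pow_zero])).1
      infer_instance
    · exact isCyclic_of_prime_card (by rw [hn, pow_one])
  letI : CommGroup (P : Subgroup Γ) := { (inferInstance : Group (P : Subgroup Γ)) with mul_comm := mul_comm' }
  haveI : (P : Subgroup Γ).FiniteIndex := inferInstance
  have ht := MonoidHom.transfer_eq_pow (MonoidHom.id (P : Subgroup Γ)) (z : Γ) (fun k g _ => by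
    rw [mul_assoc, ← (Commute.pow_right (show Commute g (z : Γ) from hzc g) k).eq, inv_mul_cancel_left])
  have hker : (z : Γ) ∈ (MonoidHom.transfer (MonoidHom.id (P : Subgroup Γ))).ker :=
    Abelianization.commutator_subset_ker _ (hd z.2)
  rw [MonoidHom.mem_ker, ht] at hker
  have he : (z : Γ) ^ (P : Subgroup Γ).index = 1 := congrArg Subtype.val hker
  have := orderOf_dvd_of_pow_eq_one he
  rw [hzo] at this
  exact P.not_dvd_index this

theorem seven_inj {Γ : Type*} [Group Γ] [Finite Γ] (σ : Γ →* J2) (hσ : Cfsg.IsStemExtension σ) {z : σ.ker}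
    (h : z ^ 7 = 1) : z = 1 := by
  haveI : Fact (Nat.Prime 7) := ⟨by norm_num⟩
  by_contra hne
  exact no_seven σ hσ z (orderOf_eq_prime h hne)

/-- A lift whose seventh power is trivial. -/
theorem exists_lift {Γ : Type*} [Group Γ] [Finite Γ] (σ : Γ →* J2) (hσ : Cfsg.IsStemExtension σ) {g : J2}
    (hg : g ^ 7 = 1) : ∃ x : Γ, σ x = g ∧ x ^ 7 = 1 := by
  obtain ⟨x, hx⟩ := hσ.1 g
  have hinj : Function.Injective fun z : σ.ker => z ^ 7 := by
    intro z w e
    have hcomm : Commute z w⁻¹ := Subtype.ext (Subgroup.mem_center_iff.1 (hσ.2.1 (w⁻¹).2) z)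
    have h1 : (z * w⁻¹) ^ 7 = 1 := by
      rw [hcomm.mul_pow, inv_pow]
      exact mul_inv_eq_one.2 e
    exact mul_inv_eq_one.1 (seven_inj σ hσ h1)
  obtain ⟨z, hz⟩ := (Finite.injective_iff_surjective.1 hinj) ⟨x ^ 7, by rw [MonoidHom.mem_ker, map_pow, hx, hg]⟩
  refine ⟨x * (z : Γ)⁻¹, by rw [map_mul, map_inv, MonoidHom.mem_ker.1 z.2, inv_one, mul_one, hx], ?_⟩
  have hcomm : Commute x (z : Γ)⁻¹ := Subgroup.mem_center_iff.1 (inv_mem (hσ.2.1 z.2)) x
  rw [hcomm.mul_pow, inv_pow]
  exact mul_inv_eq_one.2 (congrArg Subtype.val hz).symm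

theorem certH_valid : certH.Valid where
  npos := by rw [show certH.N = 864 by unfold certH; rfl]; norm_num
  edges i hi := List.all_eq_true.1 certH_edges i (List.mem_range.2 (by
    rwa [show certH.N = 864 by unfold certH; rfl] at hi))
  tree i hi := List.all_eq_true.1 certH_tree i (List.mem_range.2 (by
    rwa [show certH.N = 864 by unfold certH; rfl] at hi))
  rels := List.all_eq_true.1 certH_rels
  vars v hv := List.all_eq_true.1 certH_vars v (List.mem_range.2 hv)
  combos := List.all_eq_true.1 certH_combos

theorem certJ_valid : certJ.Valid where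
  npos := by rw [show certJ.N = 100 by unfold certJ; rfl]; norm_num
  edges i hi := List.all_eq_true.1 certJ_edges i (List.mem_range.2 (by
    rwa [show certJ.N = 100 by unfold certJ; rfl] at hi))
  tree i hi := List.all_eq_true.1 certJ_tree i (List.mem_range.2 (by
    rwa [show certJ.N = 100 by unfold certJ; rfl] at hi))
  rels := List.all_eq_true.1 certJ_rels
  vars v hv := List.all_eq_true.1 certJ_vars v (List.mem_range.2 hv)
  combos := List.all_eq_true.1 certJ_combos

section Stem

variable {Γ : Type*} [Group Γ] [Finite Γ] (σ : Γ →* J2) (hσ : Cfsg.IsStemExtension σ)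
include hσ

theorem lin_zero {A : Type*} [AddCommGroup A] (u : ℕ → A) :
    ∀ (v : List ℤ) (k : ℕ), (∀ p < k + v.length, k ≤ p → u p = 0) → CentralTable.lin u v k = 0
  | [], k, _ => rfl
  | a :: v, k, h => by
    rw [CentralTable.lin, h k (by simp) le_rfl, smul_zero, zero_add]
    exact lin_zero u v (k + 1) fun p hp hk => h p (by simp only [List.length_cons]; omega) (by omega)

/-- Lifts of order seven of the subgroup generators generate a copy of the subgroup. -/
theorem sub_injective (y : Bool → Γ) (hy : ∀ s, CentralTable.Rep setHomJ2 (σ (y s)) (bif s then certH.g1 else certH.g0))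
    (hy7 : ∀ s, y s ^ 7 = 1) (hmem : ∀ s, σ (y s) ∈ Sub100) :
    ∀ g ∈ Subgroup.closure (Set.range y), σ g = 1 → g = 1 := by
  have hev : ∀ (w : List Bool) (s : Bool), CentralTable.ev (fun _ : Bool => y s) w = y s ^ w.length := fun w s => by
    rw [CentralTable.ev, List.map_const', List.prod_replicate]
  have hinjL : ∀ w, σ (CentralTable.ev (fun _ : Bool => y false) w) = 1 → CentralTable.ev (fun _ : Bool => y false) w = 1 := by
    intro w hw
    rw [hev] at hw ⊢
    rw [map_pow] at hw
    have hne : σ (y false) ≠ 1 := fun e => by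
      have h0 := hy false 0
      rw [e, map_one] at h0
      have hd : pget certH.g0 0 = 0 := h0.symm
      have h1 : ∀ k : Fin 100, pget certH.g0 k = k := fun k => by
        have h0 := hy false k
        rw [e, map_one] at h0
        exact h0.symm
      have : (List.range 100).all (fun k => Nat.beq (pget certH.g0 k) k) = true := by
        rw [List.all_eq_true]
        exact fun k hk => by rw [Nat.beq_eq]; exact h1 ⟨k, List.mem_range.1 hk⟩
      exact absurd this (by decide +kernel)
    haveI : Fact (Nat.Prime 7) := ⟨by norm_num⟩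
    have ho : orderOf (σ (y false)) = 7 := orderOf_eq_prime (by rw [← map_pow, hy7, map_one]) hne
    obtain ⟨m, hm⟩ := ho ▸ orderOf_dvd_of_pow_eq_one hw
    rw [hm, pow_mul, hy7, one_pow]
  let S : Setup certH Γ J2 :=
    { σ := σ, φ := setHomJ2, faithful := setHomJ2_injective, central := hσ.2.1, x := y, y := fun _ => y false
      rep_x := hy
      rep_y := fun s k => by
        refine (hy false k).trans ?_
        cases s
        exacts [(word_facts k).2.2.2.1.1.symm, (word_facts k).2.2.2.1.2.symm]
      pow_x := fun s => by cases s <;> exact hy7 _, inj := hinjL, valid := certH_valid }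
  letI := S.kerGroup
  have hu : ∀ p < certH.P, S.u p = 0 := by
    intro p hp
    have hT := cert_targets.1
    rw [targetH, beq_iff_eq] at hT
    have hmem' : vsmul 7 (vunit certH.P p) ∈ certH.combos.map Prod.fst := by
      rw [hT]; exact List.mem_map_of_mem (List.mem_range.2 hp)
    obtain ⟨c, hc, e⟩ := List.mem_map.1 hmem'
    have h := S.combo hc
    rw [e, CentralTable.lin_vsmul, CentralTable.lin_vunit _ hp] at h
    have h7 : (S.u p).toMul ^ 7 = 1 := by
      have := congrArg Additive.toMul h
      rwa [toMul_zsmul, zpow_ofNat, toMul_zero] at this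
    have := seven_inj σ hσ h7
    exact Additive.toMul.injective this
  have hval : ∀ v < certH.V, (S.val v : Γ) = 1 := by
    intro v hv
    have hlen : (certH.L.get v).length ≤ certH.P := by
      have h : (List.range certH.V).all (fun v => Nat.ble (certH.L.get v).length certH.P) = true := by
        decide +kernel
      exact Nat.le_of_ble_eq_true (List.all_eq_true.1 h v (List.mem_range.2 hv))
    have h := S.main_lin v hv
    rw [lin_zero σ hσ S.u _ 0 fun p hp _ => hu p (by omega)] at h
    have h' : S.val v = 1 := congrArg Additive.toMul h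
    rw [h']
    rfl
  have hset : (Subgroup.closure (Set.range y) : Set Γ) ⊆
      Set.range fun q : Fin 7 × Fin 864 => y false ^ q.1.val * S.t q.2 := by
    intro g hg
    obtain ⟨i, hi, z, hz, l, rfl⟩ := S.cover ⊥ (fun v hv => by rw [Subgroup.mem_bot]; exact hval v hv) hg
    rw [Subgroup.mem_bot.1 hz, one_mul]
    have hi' : i < 864 := by rwa [show certH.N = 864 by unfold certH; rfl] at hi
    refine ⟨(⟨l.length % 7, Nat.mod_lt _ (by norm_num)⟩, ⟨i, hi'⟩), ?_⟩
    show y false ^ (l.length % 7) * S.t i = CentralTable.ev (fun _ : Bool => y false) l * S.t i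
    rw [hev, ← pow_mod_orderOf (y false) l.length]
    congr 1
    rcases (Nat.dvd_prime (by norm_num : Nat.Prime 7)).1 (orderOf_dvd_of_pow_eq_one (hy7 false)) with h | h
    · rw [orderOf_eq_one_iff] at h
      simp [h]
    · rw [h]
  have hcard : Nat.card (Subgroup.closure (Set.range y)) ≤ 6048 := by
    rw [← SetLike.coe_sort_coe, Nat.card_coe_set_eq]
    refine (Set.ncard_le_ncard hset).trans ?_
    rw [← Nat.card_coe_set_eq]
    exact (Finite.card_range_le _).trans (by simp)
  have himg : (Subgroup.closure (Set.range y)).map σ = Sub100 := by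
    rw [MonoidHom.map_closure, ← Set.range_comp]
    exact closure_ab (a := σ ∘ y) hmem hy
  have hb : Function.Bijective ((σ.comp (Subgroup.closure (Set.range y)).subtype).rangeRestrict) := by
    refine MonoidHom.rangeRestrict_surjective _ |>.bijective_of_nat_card_le ?_
    rw [MonoidHom.range_comp, Subgroup.range_subtype, himg, sub_card]
    exact hcard
  intro g hg h1
  have : (⟨g, hg⟩ : Subgroup.closure (Set.range y)) = 1 := hb.1 (Subtype.ext (by
    show σ g = σ 1
    rw [h1, map_one]))
  exact congrArg Subtype.val this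

/-- Every stem kernel is generated by one element of order at most two. -/
theorem kernel_bound : ∃ g : σ.ker, g ^ 2 = 1 ∧ ∀ k : σ.ker, k ∈ Subgroup.zpowers g := by
  obtain ⟨x, hx⟩ := exists_xy
  obtain ⟨a, hmem, ha⟩ := exists_ab
  have hx7 := pow_seven_eq_one hx (fun k => (word_facts k).2.2.2.2.2.1.1) (fun k => (word_facts k).2.2.2.2.2.1.2)
  have ha7 := pow_seven_eq_one ha (fun k => (word_facts k).2.2.2.2.2.2.1) (fun k => (word_facts k).2.2.2.2.2.2.2)
  choose X hX hX7 using fun s => exists_lift σ hσ (hx7 s)
  choose Y hY hY7 using fun s => exists_lift σ hσ (ha7 s)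
  have hsub := sub_injective σ hσ Y (fun s => (hY s).symm ▸ ha s) hY7 (fun s => (hY s).symm ▸ hmem s)
  let S : Setup certJ Γ J2 :=
    { σ := σ, φ := setHomJ2, faithful := setHomJ2_injective, central := hσ.2.1, x := X, y := Y
      rep_x := fun s => (hX s).symm ▸ hx s
      rep_y := fun s k => by
        rw [hY s]
        refine (ha s k).trans ?_
        cases s
        exacts [(word_facts k).2.2.1.1.symm, (word_facts k).2.2.1.2.symm]
      pow_x := fun s => by cases s <;> exact hX7 _, inj := fun w hw => hsub _ (CentralTable.ev_mem _ _) hw, valid := certJ_valid }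
  letI := S.kerGroup
  have hP : certJ.P = 5 := by unfold certJ; rfl
  have hN : certJ.N = 100 := by unfold certJ; rfl
  have hT := cert_targets.2
  rw [targetJ, beq_iff_eq] at hT
  have hmemT : ∀ v ∈ vsmul 14 (vunit certJ.P 0) :: ((List.range certJ.P).tail.map fun p =>
      vadd (vsmul 7 (vunit certJ.P p)) (vsmul (-7 * nJ.getD p 0) (vunit certJ.P 0))), CentralTable.lin S.u v 0 = 0 := by
    intro v hv
    rw [← hT] at hv
    obtain ⟨c, hc, rfl⟩ := List.mem_map.1 hv
    exact S.combo hc
  have h7 : ∀ e : Additive σ.ker, (7 : ℤ) • e = 0 → e = 0 := by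
    intro e he
    have h7 : (Additive.toMul e) ^ 7 = 1 := by
      have := congrArg Additive.toMul he
      rwa [toMul_zsmul, zpow_ofNat, toMul_zero] at this
    exact Additive.toMul.injective (seven_inj σ hσ h7)
  have h2 : (2 : ℤ) • S.u 0 = 0 := by
    refine h7 _ ?_
    rw [smul_smul]
    have := hmemT _ List.mem_cons_self
    rwa [CentralTable.lin_vsmul, CentralTable.lin_vunit _ (by omega)] at this
  have hu : ∀ p < certJ.P, ∃ n : ℤ, S.u p = n • S.u 0 := by
    intro p hp
    rcases Nat.eq_zero_or_pos p with rfl | h0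
    · exact ⟨1, (one_smul _ _).symm⟩
    refine ⟨nJ.getD p 0, sub_eq_zero.1 (h7 _ ?_)⟩
    have hv : p ∈ (List.range certJ.P).tail := by
      rw [hP]
      rw [hP] at hp
      interval_cases p <;> decide
    have := hmemT _ (List.mem_cons_of_mem _ (List.mem_map_of_mem hv))
    rw [CentralTable.lin_vadd, CentralTable.lin_vsmul, CentralTable.lin_vsmul, CentralTable.lin_vunit _ hp, CentralTable.lin_vunit _ (by omega)] at this
    rw [smul_sub, smul_smul, sub_eq_add_neg, ← neg_smul]
    simpa using this
  refine ⟨Additive.toMul (S.u 0), ?_, fun k => ?_⟩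
  · have := congrArg Additive.toMul h2
    rwa [toMul_zsmul, zpow_ofNat, toMul_zero] at this
  have hlin : ∀ (v : List ℤ) (j : ℕ), j + v.length ≤ certJ.P →
      Additive.toMul (CentralTable.lin S.u v j) ∈ Subgroup.zpowers (Additive.toMul (S.u 0)) := by
    intro v
    induction v with
    | nil => exact fun j _ => one_mem _
    | cons a v ih =>
      intro j hj
      simp only [List.length_cons] at hj
      obtain ⟨n, hn⟩ := hu j (by omega)
      rw [CentralTable.lin, toMul_add, toMul_zsmul]
      refine mul_mem (Subgroup.zpow_mem _ ?_ _) (ih (j + 1) (by omega))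
      rw [hn, toMul_zsmul]
      exact Subgroup.zpow_mem _ (Subgroup.mem_zpowers _) _
  let Z : Subgroup Γ := (Subgroup.zpowers (Additive.toMul (S.u 0))).map σ.ker.subtype
  have hval : ∀ v < certJ.V, (S.val v : Γ) ∈ Z := by
    intro v hv
    refine ⟨S.val v, ?_, rfl⟩
    have hlen : (certJ.L.get v).length ≤ certJ.P := by
      have h : (List.range certJ.V).all (fun v => Nat.ble (certJ.L.get v).length certJ.P) = true := by
        decide +kernel
      exact Nat.le_of_ble_eq_true (List.all_eq_true.1 h v (List.mem_range.2 hv))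
    have h := congrArg Additive.toMul (S.main_lin v hv)
    rw [show S.val v = Additive.toMul (S.aval v) from rfl, h]
    exact hlin _ 0 (by omega)
  have hgenG : Subgroup.closure (Set.range x) = ⊤ := by
    have hx' : ∀ i < certJ.N, σ (S.t i) ∈ Subgroup.closure (Set.range x) := fun i _ => by
      show σ (CentralTable.ev X _) ∈ _
      rw [CentralTable.map_ev, show (fun s => σ (X s)) = x from funext hX]
      exact CentralTable.ev_mem _ _
    have hle : Sub100 ≤ Subgroup.closure (Set.range x) := by
      rw [← closure_ab hmem ha]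
      refine (Subgroup.closure_le _).2 ?_
      rintro _ ⟨s, rfl⟩
      rw [show a s = CentralTable.ev x (bif s then abWord1 else abWord0) from CentralTable.eq_of_rep setHomJ2_injective fun k => by
        have h := List.all_eq_true.1 abWord_ok k (List.mem_range.2 k.2)
        simp only [Bool.and_eq_true, Nat.beq_eq] at h
        rw [CentralTable.rep_ev hx, ha s k]
        cases s
        exacts [h.1.symm, h.2.symm]]
      exact CentralTable.ev_mem x _
    refine eq_top_iff.2 fun g _ => ?_
    have hq := List.all_eq_true.1 certJ_orbit (setHomJ2 g⁻¹ 0 : Fin 100) (List.mem_range.2 (Fin.is_lt _))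
    rw [List.any_eq_true] at hq
    obtain ⟨i, hi, hq⟩ := hq
    rw [List.mem_range] at hi
    have hiN : i < certJ.N := by omega
    have hfix : g * (σ (S.t i))⁻¹ ∈ Sub100 := by
      have e : setHomJ2 (σ (S.t i)) (setHomJ2 g⁻¹ 0) = 0 :=
        Fin.ext ((S.rep_t i hiN _).trans (Nat.eq_of_beq_eq_true hq))
      rw [mem_sub, map_mul, Equiv.Perm.mul_apply, map_inv]
      rw [show (setHomJ2 (σ (S.t i)))⁻¹ 0 = setHomJ2 g⁻¹ 0 from by rw [Equiv.Perm.inv_eq_iff_eq, e], map_inv]
      exact Equiv.apply_symm_apply _ _
    have := mul_mem (hle hfix) (hx' i hiN)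
    rwa [inv_mul_cancel_right] at this
  have hgenΓ : Subgroup.closure (Set.range X) ⊔ Subgroup.center Γ = ⊤ :=
    Solv.closure_sup_center_eq_top σ hσ.2.1 _ (by rw [← Set.range_comp, show σ ∘ X = x from funext hX, hgenG])
  have hk : (k : Γ) ∈ Subgroup.closure (Set.range X) := by
    haveI : (Subgroup.closure (Set.range X)).Normal := by
      refine ⟨fun n hn g => ?_⟩
      obtain ⟨u, hu', c, hc, rfl⟩ := Subgroup.mem_sup_of_normal_right.1 (hgenΓ.ge (Subgroup.mem_top g))
      have hcn : c * n = n * c := (Subgroup.mem_center_iff.1 hc n).symm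
      rw [mul_assoc u c n, hcn, mul_inv_rev, ← mul_assoc u n c, mul_assoc (u * n) c, mul_inv_cancel_left]
      exact mul_mem (mul_mem hu' hn) (inv_mem hu')
    refine Solv.commutator_le_of_gen _ (Set.range X) hgenΓ (fun p hp q hq => ?_) (hσ.2.2 k.2)
    have hp' := Subgroup.subset_closure (k := Set.range X) hp
    have hq' := Subgroup.subset_closure (k := Set.range X) hq
    rw [commutatorElement_def]
    exact mul_mem (mul_mem (mul_mem hp' hq') (inv_mem hp')) (inv_mem hq')
  obtain ⟨i, hi, z, hz, l, e⟩ := S.cover Z hval hk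
  have hzk : σ z = 1 := by
    obtain ⟨w, -, rfl⟩ := hz
    exact w.2
  have hi0 : i = 0 := by
    have h := congrArg σ e
    rw [MonoidHom.mem_ker.1 k.2, map_mul, map_mul, hzk, one_mul, eq_comm, mul_eq_one_iff_eq_inv] at h
    have hfix : setHomJ2 (σ (S.t i)) 0 = 0 := by
      rw [← mem_sub, ← inv_mem_iff, ← h, CentralTable.map_ev]
      exact (closure_ab hmem ha).le (by
        rw [show (fun s => σ (Y s)) = a from funext hY]
        exact CentralTable.ev_mem _ _)
    have hp := List.all_eq_true.1 certJ_points i (List.mem_range.2 (by omega))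
    simp only [Bool.or_eq_true, Bool.not_eq_true', Nat.beq_eq] at hp
    refine hp.resolve_right fun hne => ?_
    rw [← Bool.not_eq_true, Nat.beq_eq] at hne
    exact hne (((S.rep_t i hi) (⟨0, by omega⟩ : Fin 100)).symm.trans (congrArg Fin.val hfix))
  subst hi0
  rw [S.t_zero, mul_one] at e
  have hl : CentralTable.ev Y l = 1 := hsub _ (CentralTable.ev_mem _ _) (by
    have h := congrArg σ e
    rwa [MonoidHom.mem_ker.1 k.2, map_mul, hzk, one_mul, eq_comm] at h)
  rw [hl, mul_one] at e
  rw [← e] at hz
  obtain ⟨w, hw, hwe⟩ := hz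
  rwa [show k = w from Subtype.ext hwe.symm]

end Stem

theorem refl_sq_one (j : Fin 315) : refl j * refl j = 1 := Subtype.ext (Ico.lineRefl_sq j)

/-- The double cover is perfect. -/
theorem cover_perfect : commutator twoJ2 = ⊤ := by
  have hc : ∀ j, Abelianization.of (refl j) = Abelianization.of (refl 0) := fun j => by
    obtain ⟨f, hf⟩ := exists_to j
    have := congrArg Abelianization.of (refl_conj f 0)
    rw [hf, map_mul, map_mul, map_inv, mul_comm (Abelianization.of f), mul_inv_cancel_right] at this
    exact this.symm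
  have hpair : ∀ a b : Fin 315, Abelianization.of (refl a * refl b) = 1 := fun a b => by
    rw [map_mul, hc a, hc b, ← map_mul, refl_sq_one, map_one]
  rw [← Abelianization.ker_of, eq_top_iff]
  intro z _
  rw [MonoidHom.mem_ker]
  suffices ∀ g ∈ K, ∀ f : twoJ2, Ico.beta f = g → Abelianization.of f = 1 from this _ (beta_mem z) z rfl
  intro g hg
  induction hg using Subgroup.closure_induction with
  | mem s hs =>
    intro f hf
    rcases hs with hs | hs
    · rw [show f = refl ⟨_, genIdx_lt 0⟩ * refl ⟨_, genIdx_lt 1⟩ from Ico.beta_injective (by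
        rw [hf, hs, map_mul, beta_reflElt, beta_reflElt]; rfl)]
      exact hpair _ _
    · rw [show f = refl ⟨_, genIdx_lt 2⟩ * refl ⟨_, genIdx_lt 3⟩ from Ico.beta_injective (by
        rw [hf, Set.mem_singleton_iff.1 hs, map_mul, beta_reflElt, beta_reflElt]; rfl)]
      exact hpair _ _
  | one =>
    intro f hf
    rw [show f = 1 from Ico.beta_injective (hf.trans (map_one _).symm), map_one]
  | mul a b ha hb ia ib =>
    intro f hf
    obtain ⟨fa, hfa⟩ := exists_beta (g := a) ha
    obtain ⟨fb, hfb⟩ := exists_beta (g := b) hb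
    rw [show f = fa * fb from Ico.beta_injective (by rw [hf, map_mul, hfa, hfb]), map_mul, ia fa hfa,
      ib fb hfb, one_mul]
  | inv a ha ia =>
    intro f hf
    rw [← inv_inv f, map_inv, ia f⁻¹ (by rw [map_inv, hf, inv_inv]), inv_one]

/-- The Schur multiplier of the Hall–Janko group is cyclic of order two. -/
theorem multiplier_two : Cfsg.HasCyclicSchurMultiplier J2 2 := by
  refine Solv.hasCyclicSchur_of ⟨twoJ2, inferInstance, inferInstance, proj, ⟨proj_surjective, ?_, ?_⟩, ?_⟩
    fun Γ _ _ σ hσ => kernel_bound σ hσ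
  · rw [show proj.ker = Subgroup.center twoJ2 from QuotientGroup.ker_mk' _]
  · rw [cover_perfect]
    exact le_top
  · haveI : Fact (Nat.Prime 2) := ⟨Nat.prime_two⟩
    refine ⟨mulEquivOfPrimeCardEq (p := 2) ?_ (by simp)⟩
    rw [show proj.ker = Subgroup.center twoJ2 from QuotientGroup.ker_mk' _]
    exact card_center

end Cfsg.Agent.Lie.J2Cert
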