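import Cfsg.Agent.Lib.Lie.JankoPack

/-!
Certificate data for simplicity, the involution centraliser and the degree 100 action (generated).
-/

set_option autoImplicit false
set_option maxRecDepth 100000
set_option maxHeartbeats 0

namespace Cfsg.Agent.Lie.J2Cert

def conjX0 : Janko.Tree (ℕ) :=
  (.node (.node (.node (.node (.node (.leaf 1) (.leaf 253)) (.leaf 112)) (.node (.leaf 98) (.leaf 181))) (.node (.node (.node (.leaf 42) (.leaf 294)) (.leaf 103)) (.node (.leaf 26) (.leaf 139)))) (.node (.node (.node (.node (.leaf 28) (.leaf 215)) (.leaf 43)) (.node (.leaf 119) (.leaf 246))) (.node (.node (.node (.leaf 72) (.leaf 281)) (.leaf 222)) (.node (.leaf 56) (.leaf 275)))))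

def conjX1 : Janko.Tree (ℕ) :=
  (.node (.node (.node (.node (.node (.leaf 0) (.leaf 286)) (.leaf 180)) (.node (.leaf 19) (.leaf 115))) (.node (.node (.node (.leaf 51) (.leaf 309)) (.leaf 50)) (.node (.leaf 138) (.leaf 261)))) (.node (.node (.node (.node (.leaf 30) (.leaf 143)) (.leaf 145)) (.node (.leaf 121) (.leaf 250))) (.node (.node (.node (.leaf 74) (.leaf 314)) (.leaf 227)) (.node (.leaf 159) (.leaf 241)))))

def conjX2 : Janko.Tree (ℕ) :=
  (.node (.node (.node (.node (.node (.leaf 4) (.leaf 223)) (.leaf 182)) (.node (.leaf 101) (.leaf 237))) (.node (.node (.node (.leaf 52) (.leaf 174)) (.leaf 214)) (.node (.leaf 140) (.leaf 162)))) (.node (.node (.node (.node (.leaf 31) (.leaf 277)) (.leaf 198)) (.node (.leaf 123) (.leaf 251))) (.node (.node (.node (.leaf 76) (.leaf 313)) (.leaf 122)) (.node (.leaf 161) (.leaf 276)))))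

def conjX3 : Janko.Tree (ℕ) :=
  (.node (.node (.node (.node (.node (.leaf 6) (.leaf 288)) (.leaf 179)) (.node (.leaf 102) (.leaf 239))) (.node (.node (.node (.leaf 15) (.leaf 177)) (.leaf 216)) (.node (.leaf 141) (.leaf 263)))) (.node (.node (.node (.node (.leaf 32) (.leaf 300)) (.leaf 147)) (.node (.leaf 125) (.leaf 252))) (.node (.node (.node (.leaf 78) (.leaf 296)) (.leaf 58)) (.node (.leaf 100) (.leaf 187)))))

def conjX4 : Janko.Tree (ℕ) :=
  (.node (.node (.node (.node (.node (.leaf 8) (.leaf 289)) (.leaf 183)) (.node (.leaf 92) (.leaf 240))) (.node (.node (.node (.leaf 55) (.leaf 308)) (.leaf 217)) (.node (.leaf 142) (.leaf 265)))) (.node (.node (.node (.node (.leaf 3) (.leaf 301)) (.leaf 201)) (.node (.leaf 126) (.leaf 109))) (.node (.node (.node (.leaf 40) (.leaf 287)) (.leaf 229)) (.node (.leaf 164) (.leaf 279)))))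

def conjX5 : Janko.Tree (ℕ) :=
  (.node (.node (.node (.node (.node (.leaf 10) (.leaf 290)) (.leaf 45)) (.node (.leaf 105) (.leaf 242))) (.node (.node (.node (.leaf 57) (.leaf 238)) (.leaf 168)) (.node (.leaf 144) (.leaf 219)))) (.node (.node (.node (.node (.leaf 35) (.leaf 295)) (.leaf 118)) (.node (.leaf 127) (.leaf 243))) (.node (.node (.node (.leaf 81) (.leaf 299)) (.leaf 150)) (.node (.leaf 33) (.leaf 280)))))

def conjX6 : Janko.Tree (ℕ) :=
  (.node (.node (.node (.node (.node (.leaf 11) (.leaf 262)) (.leaf 186)) (.node (.leaf 106) (.leaf 67))) (.node (.node (.node (.leaf 7) (.leaf 235)) (.leaf 104)) (.node (.leaf 146) (.leaf 205)))) (.node (.node (.node (.node (.leaf 17) (.leaf 278)) (.leaf 158)) (.node (.leaf 128) (.leaf 254))) (.node (.node (.node (.leaf 82) (.leaf 270)) (.leaf 230)) (.node (.leaf 166) (.leaf 185)))))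

def conjX7 : Janko.Tree (ℕ) :=
  (.node (.node (.node (.node (.node (.leaf 13) (.leaf 291)) (.leaf 188)) (.node (.leaf 108) (.leaf 221))) (.node (.node (.node (.leaf 60) (.leaf 311)) (.leaf 220)) (.node (.leaf 148) (.leaf 266)))) (.node (.node (.node (.node (.leaf 37) (.leaf 209)) (.leaf 204)) (.node (.leaf 23) (.leaf 211))) (.node (.node (.node (.leaf 84) (.leaf 274)) (.leaf 59)) (.node (.leaf 167) (.leaf 282)))))

def conjX8 : Janko.Tree (ℕ) :=
  (.node (.node (.node (.node (.node (.leaf 14) (.leaf 292)) (.leaf 190)) (.node (.leaf 110) (.leaf 213))) (.node (.node (.node (.leaf 62) (.leaf 285)) (.leaf 99)) (.node (.leaf 149) (.leaf 267)))) (.node (.node (.node (.node (.leaf 38) (.leaf 303)) (.leaf 206)) (.node (.leaf 131) (.leaf 256))) (.node (.node (.node (.leaf 86) (.leaf 310)) (.leaf 89)) (.node (.leaf 169) (.leaf 283)))))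

def conjX9 : Janko.Tree (ℕ) :=
  (.node (.node (.node (.node (.node (.leaf 16) (.leaf 293)) (.leaf 191)) (.node (.leaf 49) (.leaf 160))) (.node (.node (.node (.leaf 63) (.leaf 312)) (.leaf 135)) (.node (.leaf 151) (.leaf 95)))) (.node (.node (.node (.node (.leaf 39) (.leaf 304)) (.leaf 208)) (.node (.leaf 97) (.leaf 77))) (.node (.node (.node (.leaf 87) (.leaf 247)) (.leaf 153)) (.node (.leaf 170) (.leaf 232)))))

def conjX10 : Janko.Tree (ℕ) :=
  (.node (.node (.node (.node (.node (.leaf 18) (.leaf 248)) (.leaf 184)) (.node (.leaf 91) (.leaf 245))) (.node (.node (.node (.leaf 65) (.leaf 194)) (.leaf 53)) (.node (.leaf 29) (.leaf 189)))) (.node (.node (.node (.node (.leaf 41) (.leaf 306)) (.leaf 210)) (.node (.leaf 132) (.leaf 257))) (.node (.node (.node (.leaf 88) (.leaf 255)) (.leaf 61)) (.node (.leaf 152) (.leaf 244)))))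

def conjX11 : Janko.Tree (ℕ) :=
  (.node (.node (.node (.node (.node (.leaf 20) (.leaf 207)) (.leaf 124)) (.node (.leaf 113) (.leaf 83))) (.node (.node (.node (.leaf 66) (.leaf 260)) (.leaf 75)) (.node (.leaf 154) (.leaf 259)))) (.node (.node (.node (.node (.leaf 21) (.leaf 231)) (.leaf 212)) (.node (.leaf 73) (.leaf 129))) (.node (.node (.leaf 90) (.leaf 200)) (.node (.leaf 94) (.leaf 107)))))

def conjX12 : Janko.Tree (ℕ) :=
  (.node (.node (.node (.node (.node (.leaf 22) (.leaf 218)) (.leaf 79)) (.node (.leaf 114) (.leaf 69))) (.node (.node (.node (.leaf 9) (.leaf 196)) (.leaf 172)) (.node (.leaf 85) (.leaf 269)))) (.node (.node (.node (.node (.leaf 44) (.leaf 305)) (.leaf 155)) (.node (.leaf 133) (.leaf 80))) (.node (.node (.leaf 47) (.leaf 120)) (.node (.leaf 173) (.leaf 272)))))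

def conjX13 : Janko.Tree (ℕ) :=
  (.node (.node (.node (.node (.node (.leaf 24) (.leaf 258)) (.leaf 165)) (.node (.leaf 116) (.leaf 130))) (.node (.node (.node (.leaf 68) (.leaf 197)) (.leaf 224)) (.node (.leaf 156) (.leaf 271)))) (.node (.node (.node (.node (.leaf 46) (.leaf 302)) (.leaf 48)) (.node (.leaf 134) (.leaf 176))) (.node (.node (.leaf 93) (.leaf 137)) (.node (.leaf 175) (.leaf 163)))))

def conjX14 : Janko.Tree (ℕ) :=
  (.node (.node (.node (.node (.node (.leaf 2) (.leaf 297)) (.leaf 193)) (.node (.leaf 117) (.leaf 178))) (.node (.node (.node (.leaf 70) (.leaf 307)) (.leaf 225)) (.node (.leaf 157) (.leaf 228)))) (.node (.node (.node (.node (.leaf 12) (.leaf 268)) (.leaf 192)) (.node (.leaf 54) (.leaf 199))) (.node (.node (.leaf 34) (.leaf 233)) (.node (.leaf 36) (.leaf 226)))))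

def conjX15 : Janko.Tree (ℕ) :=
  (.node (.node (.node (.node (.node (.leaf 27) (.leaf 298)) (.leaf 195)) (.node (.leaf 64) (.leaf 249))) (.node (.node (.node (.leaf 25) (.leaf 202)) (.leaf 203)) (.node (.leaf 111) (.leaf 273)))) (.node (.node (.node (.node (.leaf 5) (.leaf 264)) (.leaf 171)) (.node (.leaf 136) (.leaf 236))) (.node (.node (.leaf 96) (.leaf 234)) (.node (.leaf 71) (.leaf 284)))))

def conjX : Janko.Tree (ℕ) :=
  (.node (.node (.node (.node conjX0 conjX8) (.node conjX4 conjX12)) (.node (.node conjX2 conjX10) (.node conjX6 conjX14))) (.node (.node (.node conjX1 conjX9) (.node conjX5 conjX13)) (.node (.node conjX3 conjX11) (.node conjX7 conjX15))))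

def conjY0 : Janko.Tree (ℕ) :=
  (.node (.node (.node (.node (.node (.leaf 2) (.leaf 234)) (.leaf 179)) (.node (.leaf 99) (.leaf 183))) (.node (.node (.node (.leaf 50) (.leaf 308)) (.leaf 213)) (.node (.leaf 132) (.leaf 166)))) (.node (.node (.node (.node (.leaf 29) (.leaf 249)) (.leaf 196)) (.node (.leaf 120) (.leaf 230))) (.node (.node (.node (.leaf 73) (.leaf 313)) (.leaf 170)) (.node (.leaf 84) (.leaf 271)))))

def conjY1 : Janko.Tree (ℕ) :=
  (.node (.node (.node (.node (.node (.leaf 3) (.leaf 287)) (.leaf 181)) (.node (.leaf 100) (.leaf 236))) (.node (.node (.node (.leaf 10) (.leaf 233)) (.leaf 141)) (.node (.leaf 139) (.leaf 149)))) (.node (.node (.node (.node (.leaf 4) (.leaf 227)) (.leaf 197)) (.node (.leaf 122) (.leaf 106))) (.node (.node (.node (.leaf 75) (.leaf 245)) (.leaf 228)) (.node (.leaf 160) (.leaf 144)))))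

def conjY2 : Janko.Tree (ℕ) :=
  (.node (.node (.node (.node (.node (.leaf 5) (.leaf 164)) (.leaf 121)) (.node (.leaf 27) (.leaf 238))) (.node (.node (.node (.leaf 53) (.leaf 293)) (.leaf 215)) (.node (.leaf 78) (.leaf 262)))) (.node (.node (.node (.node (.leaf 11) (.leaf 254)) (.leaf 199)) (.node (.leaf 124) (.leaf 216))) (.node (.node (.node (.leaf 77) (.leaf 290)) (.leaf 156)) (.node (.leaf 162) (.leaf 277)))))

def conjY3 : Janko.Tree (ℕ) :=
  (.node (.node (.node (.node (.node (.leaf 7) (.leaf 186)) (.leaf 173)) (.node (.leaf 103) (.leaf 217))) (.node (.node (.node (.leaf 54) (.leaf 297)) (.leaf 76)) (.node (.leaf 41) (.leaf 264)))) (.node (.node (.node (.node (.leaf 33) (.leaf 282)) (.leaf 200)) (.node (.leaf 35) (.leaf 190))) (.node (.node (.node (.leaf 79) (.leaf 275)) (.leaf 229)) (.node (.leaf 163) (.leaf 278)))))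

def conjY4 : Janko.Tree (ℕ) :=
  (.node (.node (.node (.node (.node (.leaf 9) (.leaf 169)) (.leaf 184)) (.node (.leaf 104) (.leaf 241))) (.node (.node (.node (.leaf 56) (.leaf 310)) (.leaf 218)) (.node (.leaf 143) (.leaf 126)))) (.node (.node (.node (.node (.leaf 34) (.leaf 302)) (.leaf 202)) (.node (.leaf 74) (.leaf 253))) (.node (.node (.node (.leaf 80) (.leaf 301)) (.leaf 210)) (.node (.leaf 161) (.leaf 146)))))

def conjY5 : Janko.Tree (ℕ) :=
  (.node (.node (.node (.node (.node (.leaf 0) (.leaf 280)) (.leaf 185)) (.node (.leaf 28) (.leaf 101))) (.node (.node (.node (.leaf 58) (.leaf 306)) (.leaf 138)) (.node (.leaf 145) (.leaf 128)))) (.node (.node (.node (.node (.leaf 18) (.leaf 298)) (.leaf 203)) (.node (.leaf 108) (.leaf 113))) (.node (.node (.node (.leaf 20) (.leaf 291)) (.leaf 86)) (.node (.leaf 165) (.leaf 281)))))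

def conjY6 : Janko.Tree (ℕ) :=
  (.node (.node (.node (.node (.node (.leaf 12) (.leaf 175)) (.leaf 187)) (.node (.leaf 107) (.leaf 243))) (.node (.node (.node (.leaf 59) (.leaf 311)) (.leaf 219)) (.node (.leaf 147) (.leaf 159)))) (.node (.node (.node (.node (.leaf 36) (.leaf 198)) (.leaf 68)) (.node (.leaf 129) (.leaf 255))) (.node (.node (.node (.leaf 83) (.leaf 300)) (.leaf 131)) (.node (.leaf 98) (.leaf 148)))))

def conjY7 : Janko.Tree (ℕ) :=
  (.node (.node (.node (.node (.node (.leaf 1) (.leaf 261)) (.leaf 189)) (.node (.leaf 109) (.leaf 244))) (.node (.node (.node (.leaf 61) (.leaf 312)) (.leaf 221)) (.node (.leaf 44) (.leaf 133)))) (.node (.node (.node (.node (.leaf 6) (.leaf 257)) (.leaf 205)) (.node (.leaf 130) (.leaf 114))) (.node (.node (.node (.leaf 85) (.leaf 265)) (.leaf 140)) (.node (.leaf 168) (.leaf 201)))))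

def conjY8 : Janko.Tree (ℕ) :=
  (.node (.node (.node (.node (.node (.leaf 15) (.leaf 273)) (.leaf 167)) (.node (.leaf 111) (.leaf 102))) (.node (.node (.node (.leaf 13) (.leaf 284)) (.leaf 188)) (.node (.leaf 150) (.leaf 134)))) (.node (.node (.node (.node (.leaf 8) (.leaf 263)) (.leaf 207)) (.node (.leaf 110) (.leaf 180))) (.node (.node (.node (.leaf 22) (.leaf 266)) (.leaf 96)) (.node (.leaf 52) (.leaf 151)))))

def conjY9 : Janko.Tree (ℕ) :=
  (.node (.node (.node (.node (.node (.leaf 17) (.leaf 294)) (.leaf 62)) (.node (.leaf 30) (.leaf 204))) (.node (.node (.node (.leaf 64) (.leaf 309)) (.leaf 222)) (.node (.leaf 152) (.leaf 267)))) (.node (.node (.node (.node (.leaf 40) (.leaf 305)) (.leaf 209)) (.node (.leaf 37) (.leaf 251))) (.node (.node (.node (.leaf 51) (.leaf 314)) (.leaf 231)) (.node (.leaf 87) (.leaf 237)))))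

def conjY10 : Janko.Tree (ℕ) :=
  (.node (.node (.node (.node (.node (.leaf 19) (.leaf 295)) (.leaf 117)) (.node (.leaf 112) (.leaf 246))) (.node (.node (.node (.leaf 14) (.leaf 242)) (.leaf 125)) (.node (.leaf 153) (.leaf 268)))) (.node (.node (.node (.node (.leaf 42) (.leaf 307)) (.leaf 211)) (.node (.leaf 60) (.leaf 258))) (.node (.node (.node (.leaf 89) (.leaf 304)) (.leaf 220)) (.node (.leaf 171) (.leaf 191)))))

def conjY11 : Janko.Tree (ℕ) :=
  (.node (.node (.node (.node (.node (.leaf 21) (.leaf 289)) (.leaf 63)) (.node (.leaf 31) (.leaf 225))) (.node (.node (.node (.leaf 66) (.leaf 240)) (.leaf 81)) (.node (.leaf 155) (.leaf 250)))) (.node (.node (.node (.node (.leaf 43) (.leaf 286)) (.leaf 70)) (.node (.leaf 38) (.leaf 224))) (.node (.node (.leaf 91) (.leaf 232)) (.node (.leaf 172) (.leaf 195)))))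

def conjY12 : Janko.Tree (ℕ) :=
  (.node (.node (.node (.node (.node (.leaf 23) (.leaf 256)) (.leaf 192)) (.node (.leaf 115) (.leaf 247))) (.node (.node (.node (.leaf 67) (.leaf 292)) (.leaf 223)) (.node (.leaf 55) (.leaf 270)))) (.node (.node (.node (.node (.leaf 45) (.leaf 269)) (.leaf 127)) (.node (.leaf 90) (.leaf 259))) (.node (.node (.leaf 92) (.leaf 119)) (.node (.leaf 174) (.leaf 283)))))

def conjY13 : Janko.Tree (ℕ) :=
  (.node (.node (.node (.node (.node (.leaf 25) (.leaf 296)) (.leaf 116)) (.node (.leaf 32) (.leaf 248))) (.node (.node (.node (.leaf 69) (.leaf 288)) (.leaf 182)) (.node (.leaf 46) (.leaf 272)))) (.node (.node (.node (.node (.leaf 47) (.leaf 214)) (.leaf 72)) (.node (.leaf 135) (.leaf 136))) (.node (.node (.leaf 94) (.leaf 93)) (.node (.leaf 176) (.leaf 206)))))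

def conjY14 : Janko.Tree (ℕ) :=
  (.node (.node (.node (.node (.node (.leaf 26) (.leaf 193)) (.leaf 194)) (.node (.leaf 118) (.leaf 212))) (.node (.node (.node (.leaf 71) (.leaf 303)) (.leaf 82)) (.node (.leaf 158) (.leaf 142)))) (.node (.node (.node (.node (.leaf 48) (.leaf 252)) (.leaf 88)) (.node (.leaf 39) (.leaf 260))) (.node (.node (.leaf 95) (.leaf 154)) (.node (.leaf 177) (.leaf 239)))))

def conjY15 : Janko.Tree (ℕ) :=
  (.node (.node (.node (.node (.node (.leaf 24) (.leaf 299)) (.leaf 65)) (.node (.leaf 57) (.leaf 105))) (.node (.node (.node (.leaf 16) (.leaf 276)) (.leaf 226)) (.node (.leaf 157) (.leaf 274)))) (.node (.node (.node (.node (.leaf 49) (.leaf 279)) (.leaf 208)) (.node (.leaf 137) (.leaf 123))) (.node (.node (.leaf 97) (.leaf 235)) (.node (.leaf 178) (.leaf 285)))))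

def conjY : Janko.Tree (ℕ) :=
  (.node (.node (.node (.node conjY0 conjY8) (.node conjY4 conjY12)) (.node (.node conjY2 conjY10) (.node conjY6 conjY14))) (.node (.node (.node conjY1 conjY9) (.node conjY5 conjY13)) (.node (.node conjY3 conjY11) (.node conjY7 conjY15))))

def stabGens : List (ℕ × ℕ × Bool) := [(90, 440, false), (29, 1235, true)]

def stabActA0 : Janko.Tree (ℕ) :=
  (.node (.node (.node (.node (.node (.leaf 0) (.leaf 245)) (.leaf 149)) (.node (.leaf 102) (.leaf 188))) (.node (.node (.node (.leaf 132) (.leaf 106)) (.leaf 176)) (.node (.leaf 44) (.leaf 119)))) (.node (.node (.node (.node (.leaf 311) (.leaf 202)) (.leaf 146)) (.node (.leaf 66) (.leaf 42))) (.node (.node (.node (.leaf 97) (.leaf 50)) (.leaf 291)) (.node (.leaf 244) (.leaf 94)))))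

def stabActA1 : Janko.Tree (ℕ) :=
  (.node (.node (.node (.node (.node (.leaf 65) (.leaf 28)) (.leaf 283)) (.node (.leaf 59) (.leaf 99))) (.node (.node (.node (.leaf 180) (.leaf 224)) (.leaf 184)) (.node (.leaf 270) (.leaf 135)))) (.node (.node (.node (.node (.leaf 129) (.leaf 213)) (.leaf 267)) (.node (.leaf 88) (.leaf 166))) (.node (.node (.node (.leaf 234) (.leaf 3)) (.leaf 304)) (.node (.leaf 294) (.leaf 141)))))

def stabActA2 : Janko.Tree (ℕ) :=
  (.node (.node (.node (.node (.node (.leaf 74) (.leaf 195)) (.leaf 155)) (.node (.leaf 89) (.leaf 236))) (.node (.node (.node (.leaf 147) (.leaf 101)) (.leaf 144)) (.node (.leaf 157) (.leaf 226)))) (.node (.node (.node (.node (.leaf 84) (.leaf 199)) (.leaf 10)) (.node (.leaf 219) (.leaf 196))) (.node (.node (.node (.leaf 171) (.leaf 26)) (.leaf 56)) (.node (.leaf 96) (.leaf 85)))))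

def stabActA3 : Janko.Tree (ℕ) :=
  (.node (.node (.node (.node (.node (.leaf 138) (.leaf 34)) (.leaf 272)) (.node (.leaf 156) (.leaf 194))) (.node (.node (.node (.leaf 268) (.leaf 71)) (.leaf 46)) (.node (.leaf 204) (.leaf 76)))) (.node (.node (.node (.node (.leaf 81) (.leaf 289)) (.leaf 250)) (.node (.leaf 98) (.leaf 9))) (.node (.node (.node (.leaf 263) (.leaf 301)) (.leaf 16)) (.node (.leaf 212) (.leaf 174)))))

def stabActA4 : Janko.Tree (ℕ) :=
  (.node (.node (.node (.node (.node (.leaf 214) (.leaf 137)) (.leaf 57)) (.node (.leaf 216) (.leaf 61))) (.node (.node (.node (.leaf 112) (.leaf 295)) (.leaf 122)) (.node (.leaf 201) (.leaf 183)))) (.node (.node (.node (.node (.leaf 22) (.leaf 108)) (.leaf 235)) (.node (.leaf 238) (.leaf 243))) (.node (.node (.node (.leaf 239) (.leaf 254)) (.leaf 8)) (.node (.leaf 287) (.leaf 186)))))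

def stabActA5 : Janko.Tree (ℕ) :=
  (.node (.node (.node (.node (.node (.leaf 160) (.leaf 308)) (.leaf 159)) (.node (.leaf 262) (.leaf 161))) (.node (.node (.node (.leaf 168) (.leaf 241)) (.leaf 285)) (.node (.leaf 130) (.leaf 111)))) (.node (.node (.node (.node (.leaf 265) (.leaf 87)) (.leaf 237)) (.node (.leaf 143) (.leaf 140))) (.node (.node (.node (.leaf 131) (.leaf 173)) (.leaf 185)) (.node (.leaf 293) (.leaf 221)))))

def stabActA6 : Janko.Tree (ℕ) :=
  (.node (.node (.node (.node (.node (.leaf 107) (.leaf 55)) (.leaf 62)) (.node (.leaf 69) (.leaf 14))) (.node (.node (.node (.leaf 30) (.leaf 297)) (.leaf 6)) (.node (.leaf 109) (.leaf 273)))) (.node (.node (.node (.node (.leaf 282) (.leaf 32)) (.leaf 133)) (.node (.leaf 197) (.leaf 271))) (.node (.node (.node (.leaf 182) (.leaf 145)) (.leaf 165)) (.node (.leaf 12) (.leaf 217)))))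

def stabActA7 : Janko.Tree (ℕ) :=
  (.node (.node (.node (.node (.node (.leaf 43) (.leaf 19)) (.leaf 284)) (.node (.leaf 5) (.leaf 302))) (.node (.node (.node (.leaf 179) (.leaf 189)) (.leaf 45)) (.node (.leaf 191) (.leaf 1)))) (.node (.node (.node (.node (.leaf 231) (.leaf 104)) (.leaf 90)) (.node (.leaf 126) (.leaf 264))) (.node (.node (.node (.leaf 41) (.leaf 172)) (.leaf 47)) (.node (.leaf 73) (.leaf 163)))))

def stabActA8 : Janko.Tree (ℕ) :=
  (.node (.node (.node (.node (.node (.leaf 253) (.leaf 252)) (.leaf 83)) (.node (.leaf 86) (.leaf 92))) (.node (.node (.node (.leaf 266) (.leaf 93)) (.leaf 113)) (.node (.leaf 29) (.leaf 209)))) (.node (.node (.node (.node (.leaf 230) (.leaf 240)) (.leaf 227)) (.node (.leaf 51) (.leaf 178))) (.node (.node (.node (.leaf 123) (.leaf 203)) (.leaf 72)) (.node (.leaf 4) (.leaf 278)))))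

def stabActA9 : Janko.Tree (ℕ) :=
  (.node (.node (.node (.node (.node (.leaf 256) (.leaf 299)) (.leaf 229)) (.node (.leaf 275) (.leaf 125))) (.node (.node (.node (.leaf 70) (.leaf 37)) (.leaf 36)) (.node (.leaf 136) (.leaf 150)))) (.node (.node (.node (.node (.leaf 276) (.leaf 77)) (.leaf 127)) (.node (.leaf 200) (.leaf 38))) (.node (.node (.node (.leaf 248) (.leaf 33)) (.leaf 281)) (.node (.leaf 54) (.leaf 309)))))

def stabActA10 : Janko.Tree (ℕ) :=
  (.node (.node (.node (.node (.node (.leaf 255) (.leaf 114)) (.leaf 11)) (.node (.leaf 25) (.leaf 60))) (.node (.node (.node (.leaf 279) (.leaf 21)) (.leaf 260)) (.node (.leaf 48) (.leaf 277)))) (.node (.node (.node (.node (.leaf 296) (.leaf 251)) (.leaf 124)) (.node (.leaf 249) (.leaf 290))) (.node (.node (.node (.leaf 79) (.leaf 258)) (.leaf 169)) (.node (.leaf 17) (.leaf 95)))))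

def stabActA11 : Janko.Tree (ℕ) :=
  (.node (.node (.node (.node (.node (.leaf 269) (.leaf 118)) (.leaf 177)) (.node (.leaf 207) (.leaf 128))) (.node (.node (.node (.leaf 225) (.leaf 222)) (.leaf 139)) (.node (.leaf 232) (.leaf 154)))) (.node (.node (.node (.node (.leaf 292) (.leaf 164)) (.leaf 218)) (.node (.leaf 181) (.leaf 18))) (.node (.node (.leaf 23) (.leaf 187)) (.node (.leaf 68) (.leaf 175)))))

def stabActA12 : Janko.Tree (ℕ) :=
  (.node (.node (.node (.node (.node (.leaf 310) (.leaf 210)) (.leaf 24)) (.node (.leaf 257) (.leaf 134))) (.node (.node (.node (.leaf 40) (.leaf 233)) (.leaf 39)) (.node (.leaf 2) (.leaf 314)))) (.node (.node (.node (.node (.leaf 152) (.leaf 7)) (.leaf 215)) (.node (.leaf 80) (.leaf 306))) (.node (.node (.leaf 53) (.leaf 103)) (.node (.leaf 205) (.leaf 67)))))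

def stabActA13 : Janko.Tree (ℕ) :=
  (.node (.node (.node (.node (.node (.leaf 280) (.leaf 305)) (.leaf 206)) (.node (.leaf 91) (.leaf 148))) (.node (.node (.node (.leaf 261) (.leaf 116)) (.leaf 151)) (.node (.leaf 198) (.leaf 312)))) (.node (.node (.node (.node (.leaf 208) (.leaf 121)) (.leaf 105)) (.node (.leaf 220) (.leaf 211))) (.node (.node (.leaf 35) (.leaf 78)) (.node (.leaf 153) (.leaf 313)))))

def stabActA14 : Janko.Tree (ℕ) :=
  (.node (.node (.node (.node (.node (.leaf 64) (.leaf 288)) (.leaf 142)) (.node (.leaf 27) (.leaf 117))) (.node (.node (.node (.leaf 52) (.leaf 58)) (.leaf 223)) (.node (.leaf 13) (.leaf 82)))) (.node (.node (.node (.node (.leaf 63) (.leaf 120)) (.leaf 228)) (.node (.leaf 110) (.leaf 298))) (.node (.node (.leaf 193) (.leaf 158)) (.node (.leaf 49) (.leaf 167)))))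

def stabActA15 : Janko.Tree (ℕ) :=
  (.node (.node (.node (.node (.node (.leaf 307) (.leaf 286)) (.leaf 75)) (.node (.leaf 274) (.leaf 242))) (.node (.node (.node (.leaf 190) (.leaf 192)) (.leaf 20)) (.node (.leaf 170) (.leaf 247)))) (.node (.node (.node (.node (.leaf 31) (.leaf 15)) (.leaf 300)) (.node (.leaf 259) (.leaf 115))) (.node (.node (.leaf 246) (.leaf 303)) (.node (.leaf 100) (.leaf 162)))))

def stabActA : Janko.Tree (ℕ) :=
  (.node (.node (.node (.node stabActA0 stabActA8) (.node stabActA4 stabActA12)) (.node (.node stabActA2 stabActA10) (.node stabActA6 stabActA14))) (.node (.node (.node stabActA1 stabActA9) (.node stabActA5 stabActA13)) (.node (.node stabActA3 stabActA11) (.node stabActA7 stabActA15))))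

def stabActB0 : Janko.Tree (ℕ) :=
  (.node (.node (.node (.node (.node (.leaf 0) (.leaf 276)) (.leaf 216)) (.node (.leaf 273) (.leaf 180))) (.node (.node (.node (.leaf 132) (.leaf 227)) (.leaf 307)) (.node (.leaf 137) (.leaf 62)))) (.node (.node (.node (.node (.leaf 279) (.leaf 100)) (.leaf 174)) (.node (.leaf 308) (.leaf 129))) (.node (.node (.node (.leaf 123) (.leaf 111)) (.leaf 154)) (.node (.leaf 82) (.leaf 296)))))

def stabActB1 : Janko.Tree (ℕ) :=
  (.node (.node (.node (.node (.node (.leaf 1) (.leaf 182)) (.leaf 297)) (.node (.leaf 59) (.leaf 292))) (.node (.node (.node (.leaf 270) (.leaf 74)) (.leaf 150)) (.node (.leaf 211) (.leaf 155)))) (.node (.node (.node (.node (.leaf 170) (.leaf 218)) (.leaf 172)) (.node (.leaf 104) (.leaf 28))) (.node (.node (.node (.leaf 70) (.leaf 146)) (.leaf 34)) (.node (.leaf 117) (.leaf 304)))))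

def stabActB2 : Janko.Tree (ℕ) :=
  (.node (.node (.node (.node (.node (.leaf 143) (.leaf 198)) (.leaf 135)) (.node (.leaf 261) (.leaf 4))) (.node (.node (.node (.leaf 311) (.leaf 109)) (.leaf 255)) (.node (.leaf 13) (.leaf 290)))) (.node (.node (.node (.node (.leaf 97) (.leaf 207)) (.leaf 200)) (.node (.leaf 148) (.leaf 199))) (.node (.node (.node (.leaf 171) (.leaf 275)) (.leaf 299)) (.node (.leaf 113) (.leaf 72)))))

def stabActB3 : Janko.Tree (ℕ) :=
  (.node (.node (.node (.node (.node (.leaf 215) (.leaf 47)) (.leaf 166)) (.node (.leaf 243) (.leaf 286))) (.node (.node (.node (.leaf 186) (.leaf 36)) (.leaf 197)) (.node (.leaf 288) (.leaf 84)))) (.node (.node (.node (.node (.leaf 87) (.leaf 128)) (.leaf 241)) (.node (.leaf 222) (.leaf 193))) (.node (.node (.node (.leaf 77) (.leaf 61)) (.leaf 17)) (.node (.leaf 45) (.leaf 212)))))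

def stabActB4 : Janko.Tree (ℕ) :=
  (.node (.node (.node (.node (.node (.leaf 7) (.leaf 173)) (.leaf 23)) (.node (.leaf 220) (.leaf 56))) (.node (.node (.node (.leaf 191) (.leaf 20)) (.leaf 49)) (.node (.leaf 287) (.leaf 151)))) (.node (.node (.node (.node (.leaf 18) (.leaf 15)) (.leaf 285)) (.node (.leaf 189) (.leaf 269))) (.node (.node (.node (.leaf 76) (.leaf 115)) (.leaf 217)) (.node (.leaf 224) (.leaf 9)))))

def stabActB5 : Janko.Tree (ℕ) :=
  (.node (.node (.node (.node (.node (.leaf 184) (.leaf 66)) (.leaf 119)) (.node (.leaf 293) (.leaf 21))) (.node (.node (.node (.leaf 266) (.leaf 69)) (.leaf 235)) (.node (.leaf 284) (.leaf 310)))) (.node (.node (.node (.node (.leaf 313) (.leaf 208)) (.leaf 58)) (.node (.leaf 35) (.leaf 101))) (.node (.node (.node (.leaf 30) (.leaf 139)) (.leaf 168)) (.node (.leaf 164) (.leaf 210)))))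

def stabActB6 : Janko.Tree (ℕ) :=
  (.node (.node (.node (.node (.node (.leaf 5) (.leaf 281)) (.leaf 103)) (.node (.leaf 114) (.leaf 258))) (.node (.node (.node (.leaf 169) (.leaf 39)) (.leaf 131)) (.node (.leaf 236) (.leaf 120)))) (.node (.node (.node (.node (.leaf 238) (.leaf 278)) (.leaf 219)) (.node (.leaf 94) (.leaf 225))) (.node (.node (.node (.leaf 85) (.leaf 177)) (.leaf 79)) (.node (.leaf 44) (.leaf 99)))))

def stabActB7 : Janko.Tree (ℕ) :=
  (.node (.node (.node (.node (.node (.leaf 64) (.leaf 40)) (.leaf 130)) (.node (.leaf 27) (.leaf 251))) (.node (.node (.node (.leaf 41) (.leaf 232)) (.leaf 264)) (.node (.leaf 112) (.leaf 231)))) (.node (.node (.node (.node (.leaf 32) (.leaf 88)) (.leaf 228)) (.node (.leaf 283) (.leaf 3))) (.node (.node (.node (.leaf 95) (.leaf 185)) (.leaf 90)) (.node (.leaf 133) (.leaf 196)))))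

def stabActB8 : Janko.Tree (ℕ) :=
  (.node (.node (.node (.node (.node (.leaf 239) (.leaf 142)) (.leaf 159)) (.node (.leaf 256) (.leaf 156))) (.node (.node (.node (.leaf 277) (.leaf 247)) (.leaf 309)) (.node (.leaf 16) (.leaf 33)))) (.node (.node (.node (.node (.leaf 140) (.leaf 203)) (.leaf 289)) (.node (.leaf 12) (.leaf 300))) (.node (.node (.node (.leaf 253) (.leaf 25)) (.leaf 272)) (.node (.leaf 230) (.leaf 248)))))

def stabActB9 : Janko.Tree (ℕ) :=
  (.node (.node (.node (.node (.node (.leaf 204) (.leaf 209)) (.leaf 249)) (.node (.leaf 26) (.leaf 86))) (.node (.node (.node (.leaf 234) (.leaf 263)) (.leaf 237)) (.node (.leaf 53) (.leaf 75)))) (.node (.node (.node (.node (.leaf 106) (.leaf 147)) (.leaf 165)) (.node (.leaf 10) (.leaf 124))) (.node (.node (.node (.leaf 65) (.leaf 301)) (.leaf 229)) (.node (.leaf 22) (.leaf 122)))))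

def stabActB10 : Janko.Tree (ℕ) :=
  (.node (.node (.node (.node (.node (.leaf 80) (.leaf 19)) (.leaf 31)) (.node (.leaf 63) (.leaf 125))) (.node (.node (.node (.leaf 37) (.leaf 268)) (.leaf 118)) (.node (.leaf 274) (.leaf 267)))) (.node (.node (.node (.node (.leaf 136) (.leaf 242)) (.leaf 202)) (.node (.leaf 183) (.leaf 194))) (.node (.node (.node (.leaf 149) (.leaf 226)) (.leaf 108)) (.node (.leaf 259) (.leaf 179)))))

def stabActB11 : Janko.Tree (ℕ) :=
  (.node (.node (.node (.node (.node (.leaf 252) (.leaf 206)) (.leaf 126)) (.node (.leaf 152) (.leaf 245))) (.node (.node (.node (.leaf 314) (.leaf 73)) (.leaf 51)) (.node (.leaf 176) (.leaf 291)))) (.node (.node (.node (.node (.leaf 93) (.leaf 42)) (.leaf 213)) (.node (.leaf 29) (.leaf 116))) (.node (.node (.leaf 57) (.leaf 43)) (.node (.leaf 71) (.leaf 280)))))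

def stabActB12 : Janko.Tree (ℕ) :=
  (.node (.node (.node (.node (.node (.leaf 81) (.leaf 205)) (.leaf 195)) (.node (.leaf 192) (.leaf 121))) (.node (.node (.node (.leaf 250) (.leaf 302)) (.leaf 145)) (.node (.leaf 110) (.leaf 102)))) (.node (.node (.node (.node (.leaf 105) (.leaf 214)) (.leaf 223)) (.node (.leaf 138) (.leaf 68))) (.node (.node (.leaf 46) (.leaf 298)) (.node (.leaf 52) (.leaf 11)))))

def stabActB13 : Janko.Tree (ℕ) :=
  (.node (.node (.node (.node (.node (.leaf 188) (.leaf 162)) (.leaf 260)) (.node (.leaf 91) (.leaf 98))) (.node (.node (.node (.leaf 89) (.leaf 157)) (.leaf 55)) (.node (.leaf 187) (.leaf 257)))) (.node (.node (.node (.node (.leaf 50) (.leaf 134)) (.leaf 163)) (.node (.leaf 127) (.leaf 175))) (.node (.node (.leaf 201) (.leaf 246)) (.node (.leaf 303) (.leaf 240)))))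

def stabActB14 : Janko.Tree (ℕ) :=
  (.node (.node (.node (.node (.node (.leaf 24) (.leaf 60)) (.leaf 92)) (.node (.leaf 312) (.leaf 294))) (.node (.node (.node (.leaf 295) (.leaf 306)) (.leaf 144)) (.node (.leaf 54) (.leaf 244)))) (.node (.node (.node (.node (.leaf 265) (.leaf 271)) (.leaf 141)) (.node (.leaf 160) (.leaf 83))) (.node (.node (.leaf 161) (.leaf 181)) (.node (.leaf 190) (.leaf 305)))))

def stabActB15 : Janko.Tree (ℕ) :=
  (.node (.node (.node (.node (.node (.leaf 282) (.leaf 14)) (.leaf 2)) (.node (.leaf 38) (.leaf 78))) (.node (.node (.node (.leaf 96) (.leaf 107)) (.leaf 221)) (.node (.leaf 262) (.leaf 8)))) (.node (.node (.node (.node (.leaf 167) (.leaf 6)) (.leaf 178)) (.node (.leaf 158) (.leaf 254))) (.node (.node (.leaf 233) (.leaf 153)) (.node (.leaf 48) (.leaf 67)))))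

def stabActB : Janko.Tree (ℕ) :=
  (.node (.node (.node (.node stabActB0 stabActB8) (.node stabActB4 stabActB12)) (.node (.node stabActB2 stabActB10) (.node stabActB6 stabActB14))) (.node (.node (.node stabActB1 stabActB9) (.node stabActB5 stabActB13)) (.node (.node stabActB3 stabActB11) (.node stabActB7 stabActB15))))

def orbitLabel0 : Janko.Tree (ℕ) :=
  (.node (.node (.node (.node (.node (.leaf 0) (.leaf 2)) (.leaf 2)) (.node (.leaf 4) (.leaf 2))) (.node (.node (.node (.leaf 1) (.leaf 2)) (.leaf 2)) (.node (.leaf 5) (.leaf 2)))) (.node (.node (.node (.node (.leaf 5) (.leaf 2)) (.leaf 3)) (.node (.leaf 3) (.leaf 5))) (.node (.node (.node (.leaf 2) (.leaf 5)) (.leaf 2)) (.node (.leaf 2) (.leaf 2)))))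

def orbitLabel1 : Janko.Tree (ℕ) :=
  (.node (.node (.node (.node (.node (.leaf 1) (.leaf 2)) (.leaf 5)) (.node (.leaf 1) (.leaf 2))) (.node (.node (.node (.leaf 2) (.leaf 2)) (.leaf 2)) (.node (.leaf 2) (.leaf 4)))) (.node (.node (.node (.node (.leaf 5) (.leaf 4)) (.leaf 5)) (.node (.leaf 5) (.leaf 2))) (.node (.node (.node (.leaf 5) (.leaf 3)) (.leaf 5)) (.node (.leaf 5) (.leaf 5)))))

def orbitLabel2 : Janko.Tree (ℕ) :=
  (.node (.node (.node (.node (.node (.leaf 2) (.leaf 4)) (.leaf 4)) (.node (.leaf 3) (.leaf 4))) (.node (.node (.node (.leaf 5) (.leaf 4)) (.leaf 3)) (.node (.leaf 2) (.leaf 4)))) (.node (.node (.node (.node (.leaf 2) (.leaf 2)) (.leaf 3)) (.node (.leaf 2) (.leaf 2))) (.node (.node (.node (.leaf 5) (.leaf 2)) (.leaf 2)) (.node (.leaf 5) (.leaf 2)))))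

def orbitLabel3 : Janko.Tree (ℕ) :=
  (.node (.node (.node (.node (.node (.leaf 3) (.leaf 5)) (.leaf 2)) (.node (.leaf 3) (.leaf 4))) (.node (.node (.node (.leaf 2) (.leaf 2)) (.leaf 2)) (.node (.leaf 2) (.leaf 2)))) (.node (.node (.node (.node (.leaf 5) (.leaf 2)) (.leaf 5)) (.node (.leaf 2) (.leaf 2))) (.node (.node (.node (.leaf 5) (.leaf 2)) (.leaf 5)) (.node (.leaf 3) (.leaf 3)))))

def orbitLabel4 : Janko.Tree (ℕ) :=
  (.node (.node (.node (.node (.node (.leaf 4) (.leaf 5)) (.leaf 1)) (.node (.leaf 2) (.leaf 2))) (.node (.node (.node (.leaf 2) (.leaf 2)) (.leaf 5)) (.node (.leaf 2) (.leaf 5)))) (.node (.node (.node (.node (.leaf 2) (.leaf 2)) (.leaf 2)) (.node (.leaf 2) (.leaf 3))) (.node (.node (.node (.leaf 2) (.leaf 3)) (.leaf 2)) (.node (.leaf 2) (.leaf 2)))))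

def orbitLabel5 : Janko.Tree (ℕ) :=
  (.node (.node (.node (.node (.node (.leaf 2) (.leaf 3)) (.leaf 2)) (.node (.leaf 5) (.leaf 2))) (.node (.node (.node (.leaf 5) (.leaf 5)) (.leaf 2)) (.node (.leaf 4) (.leaf 5)))) (.node (.node (.node (.node (.leaf 2) (.leaf 5)) (.leaf 2)) (.node (.leaf 2) (.leaf 4))) (.node (.node (.node (.leaf 2) (.leaf 5)) (.leaf 5)) (.node (.leaf 5) (.leaf 2)))))

def orbitLabel6 : Janko.Tree (ℕ) :=
  (.node (.node (.node (.node (.node (.leaf 2) (.leaf 5)) (.leaf 2)) (.node (.leaf 5) (.leaf 4))) (.node (.node (.node (.leaf 2) (.leaf 5)) (.leaf 2)) (.node (.leaf 4) (.leaf 4)))) (.node (.node (.node (.node (.leaf 2) (.leaf 1)) (.leaf 2)) (.node (.leaf 2) (.leaf 4))) (.node (.node (.node (.leaf 2) (.leaf 5)) (.leaf 2)) (.node (.leaf 5) (.leaf 2)))))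

def orbitLabel7 : Janko.Tree (ℕ) :=
  (.node (.node (.node (.node (.node (.leaf 4) (.leaf 5)) (.leaf 4)) (.node (.leaf 2) (.leaf 2))) (.node (.node (.node (.leaf 5) (.leaf 2)) (.leaf 3)) (.node (.leaf 2) (.leaf 1)))) (.node (.node (.node (.node (.leaf 1) (.leaf 5)) (.leaf 5)) (.node (.leaf 5) (.leaf 3))) (.node (.node (.node (.leaf 5) (.leaf 5)) (.leaf 5)) (.node (.leaf 2) (.leaf 2)))))

def orbitLabel8 : Janko.Tree (ℕ) :=
  (.node (.node (.node (.node (.node (.leaf 2) (.leaf 3)) (.leaf 2)) (.node (.leaf 2) (.leaf 3))) (.node (.node (.node (.leaf 5) (.leaf 2)) (.leaf 5)) (.node (.leaf 5) (.leaf 2)))) (.node (.node (.node (.node (.leaf 4) (.leaf 2)) (.leaf 2)) (.node (.leaf 5) (.leaf 2))) (.node (.node (.node (.leaf 2) (.leaf 2)) (.leaf 2)) (.node (.leaf 4) (.leaf 1)))))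

def orbitLabel9 : Janko.Tree (ℕ) :=
  (.node (.node (.node (.node (.node (.leaf 2) (.leaf 2)) (.leaf 5)) (.node (.leaf 2) (.leaf 2))) (.node (.node (.node (.leaf 5) (.leaf 5)) (.leaf 2)) (.node (.leaf 2) (.leaf 2)))) (.node (.node (.node (.node (.leaf 2) (.leaf 5)) (.leaf 2)) (.node (.leaf 3) (.leaf 2))) (.node (.node (.node (.leaf 1) (.leaf 2)) (.leaf 5)) (.node (.leaf 2) (.leaf 5)))))

def orbitLabel10 : Janko.Tree (ℕ) :=
  (.node (.node (.node (.node (.node (.leaf 3) (.leaf 5)) (.leaf 3)) (.node (.leaf 2) (.leaf 2))) (.node (.node (.node (.leaf 5) (.leaf 2)) (.leaf 5)) (.node (.leaf 2) (.leaf 5)))) (.node (.node (.node (.node (.leaf 2) (.leaf 2)) (.leaf 2)) (.node (.leaf 5) (.leaf 4))) (.node (.node (.node (.leaf 2) (.leaf 4)) (.leaf 2)) (.node (.leaf 5) (.leaf 5)))))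

def orbitLabel11 : Janko.Tree (ℕ) :=
  (.node (.node (.node (.node (.node (.leaf 3) (.leaf 5)) (.leaf 5)) (.node (.leaf 2) (.leaf 2))) (.node (.node (.node (.leaf 4) (.leaf 2)) (.leaf 5)) (.node (.leaf 2) (.leaf 2)))) (.node (.node (.node (.node (.leaf 2) (.leaf 5)) (.leaf 4)) (.node (.leaf 5) (.leaf 2))) (.node (.node (.leaf 1) (.leaf 4)) (.node (.leaf 2) (.leaf 2)))))

def orbitLabel12 : Janko.Tree (ℕ) :=
  (.node (.node (.node (.node (.node (.leaf 5) (.leaf 2)) (.leaf 4)) (.node (.leaf 2) (.leaf 2))) (.node (.node (.node (.leaf 5) (.leaf 2)) (.leaf 5)) (.node (.leaf 2) (.leaf 4)))) (.node (.node (.node (.node (.leaf 2) (.leaf 4)) (.leaf 3)) (.node (.leaf 3) (.leaf 2))) (.node (.node (.leaf 2) (.leaf 2)) (.node (.leaf 2) (.leaf 3)))))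

def orbitLabel13 : Janko.Tree (ℕ) :=
  (.node (.node (.node (.node (.node (.leaf 2) (.leaf 3)) (.leaf 5)) (.node (.leaf 5) (.leaf 2))) (.node (.node (.node (.leaf 3) (.leaf 2)) (.leaf 5)) (.node (.leaf 4) (.leaf 2)))) (.node (.node (.node (.node (.leaf 5) (.leaf 2)) (.leaf 2)) (.node (.leaf 2) (.leaf 2))) (.node (.node (.leaf 2) (.leaf 2)) (.node (.leaf 2) (.leaf 2)))))

def orbitLabel14 : Janko.Tree (ℕ) :=
  (.node (.node (.node (.node (.node (.leaf 4) (.leaf 2)) (.leaf 3)) (.node (.leaf 2) (.leaf 5))) (.node (.node (.node (.leaf 2) (.leaf 2)) (.leaf 3)) (.node (.leaf 2) (.leaf 2)))) (.node (.node (.node (.node (.leaf 2) (.leaf 4)) (.leaf 5)) (.node (.leaf 2) (.leaf 2))) (.node (.node (.leaf 2) (.leaf 5)) (.node (.leaf 5) (.leaf 3)))))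

def orbitLabel15 : Janko.Tree (ℕ) :=
  (.node (.node (.node (.node (.node (.leaf 2) (.leaf 4)) (.leaf 2)) (.node (.leaf 2) (.leaf 2))) (.node (.node (.node (.leaf 5) (.leaf 2)) (.leaf 2)) (.node (.leaf 5) (.leaf 2)))) (.node (.node (.node (.node (.leaf 3) (.leaf 2)) (.leaf 2)) (.node (.leaf 5) (.leaf 3))) (.node (.node (.leaf 2) (.leaf 2)) (.node (.leaf 2) (.leaf 3)))))

def orbitLabel : Janko.Tree (ℕ) :=
  (.node (.node (.node (.node orbitLabel0 orbitLabel8) (.node orbitLabel4 orbitLabel12)) (.node (.node orbitLabel2 orbitLabel10) (.node orbitLabel6 orbitLabel14))) (.node (.node (.node orbitLabel1 orbitLabel9) (.node orbitLabel5 orbitLabel13)) (.node (.node orbitLabel3 orbitLabel11) (.node orbitLabel7 orbitLabel15))))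

def orbitPar0 : Janko.Tree (ℕ × Bool) :=
  (.node (.node (.node (.node (.node (.leaf (0, false)) (.leaf (72, true))) (.leaf (203, false))) (.node (.leaf (7, true)) (.leaf (76, true)))) (.node (.node (.node (.leaf (23, true)) (.leaf (99, true))) (.leaf (5, false))) (.node (.leaf (114, false)) (.leaf (289, false))))) (.node (.node (.node (.node (.leaf (104, true)) (.leaf (184, true))) (.leaf (162, false))) (.node (.leaf (92, false)) (.leaf (29, false)))) (.node (.node (.node (.leaf (106, false)) (.leaf (177, false))) (.leaf (160, false))) (.node (.leaf (36, false)) (.leaf (280, false))))))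

def orbitPar1 : Janko.Tree (ℕ × Bool) :=
  (.node (.node (.node (.node (.node (.leaf (0, false)) (.leaf (76, false))) (.leaf (208, true))) (.node (.leaf (1, false)) (.leaf (211, true)))) (.node (.node (.node (.leaf (232, true)) (.leaf (152, true))) (.leaf (62, true))) (.node (.leaf (48, false)) (.leaf (214, true))))) (.node (.node (.node (.node (.leaf (179, true)) (.leaf (64, true))) (.leaf (310, false))) (.node (.leaf (12, true)) (.leaf (265, true)))) (.node (.node (.node (.leaf (164, true)) (.leaf (269, false))) (.leaf (310, true))) (.node (.leaf (114, true)) (.leaf (147, true))))))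

def orbitPar2 : Janko.Tree (ℕ × Bool) :=
  (.node (.node (.node (.node (.node (.leaf (0, false)) (.leaf (314, false))) (.leaf (135, true))) (.node (.leaf (261, true)) (.leaf (218, true)))) (.node (.node (.node (.leaf (177, true)) (.leaf (218, false))) (.leaf (269, true))) (.node (.leaf (205, true)) (.leaf (314, true))))) (.node (.node (.node (.node (.leaf (219, false)) (.leaf (106, true))) (.leaf (305, true))) (.node (.leaf (238, false)) (.leaf (268, false)))) (.node (.node (.node (.leaf (304, false)) (.leaf (302, true))) (.leaf (159, true))) (.node (.leaf (70, true)) (.leaf (207, false))))))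

def orbitPar3 : Janko.Tree (ℕ × Bool) :=
  (.node (.node (.node (.node (.node (.leaf (0, false)) (.leaf (95, false))) (.leaf (53, false))) (.node (.leaf (252, false)) (.leaf (258, false)))) (.node (.node (.node (.leaf (85, true)) (.leaf (235, true))) (.leaf (157, true))) (.node (.leaf (246, true)) (.leaf (152, false))))) (.node (.node (.node (.node (.leaf (263, false)) (.leaf (306, true))) (.leaf (34, false))) (.node (.leaf (136, false)) (.leaf (97, true)))) (.node (.node (.node (.leaf (88, false)) (.leaf (15, false))) (.leaf (39, false))) (.node (.leaf (223, false)) (.leaf (67, true))))))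

def orbitPar4 : Janko.Tree (ℕ × Bool) :=
  (.node (.node (.node (.node (.node (.leaf (0, false)) (.leaf (170, false))) (.leaf (32, false))) (.node (.leaf (123, false)) (.leaf (247, true)))) (.node (.node (.node (.leaf (169, false)) (.leaf (27, false))) (.leaf (117, true))) (.node (.leaf (127, false)) (.leaf (158, false))))) (.node (.node (.node (.node (.leaf (292, true)) (.leaf (25, false))) (.leaf (205, false))) (.node (.leaf (227, true)) (.leaf (243, true)))) (.node (.node (.node (.leaf (124, true)) (.leaf (261, false))) (.leaf (192, true))) (.node (.leaf (219, true)) (.leaf (238, true))))))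

def orbitPar5 : Janko.Tree (ℕ × Bool) :=
  (.node (.node (.node (.node (.node (.leaf (71, false)) (.leaf (45, false))) (.leaf (150, false))) (.node (.leaf (293, true)) (.leaf (86, false)))) (.node (.node (.node (.leaf (42, true)) (.leaf (117, false))) (.leaf (182, false))) (.node (.leaf (213, true)) (.leaf (185, true))))) (.node (.node (.node (.node (.leaf (197, true)) (.leaf (40, true))) (.leaf (58, true))) (.node (.leaf (242, false)) (.leaf (155, true)))) (.node (.node (.node (.leaf (60, false)) (.leaf (168, true))) (.leaf (91, false))) (.node (.leaf (206, false)) (.leaf (256, false))))))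

def orbitPar6 : Janko.Tree (ℕ × Bool) :=
  (.node (.node (.node (.node (.node (.leaf (287, true)) (.leaf (111, true))) (.leaf (204, false))) (.node (.leaf (41, false)) (.leaf (258, true)))) (.node (.node (.node (.leaf (217, false)) (.leaf (206, true))) (.leaf (209, false))) (.node (.leaf (64, false)) (.leaf (120, true))))) (.node (.node (.node (.node (.leaf (121, true)) (.leaf (248, false))) (.leaf (233, false))) (.node (.leaf (72, false)) (.leaf (4, false)))) (.node (.node (.node (.leaf (110, true)) (.leaf (12, false))) (.leaf (54, false))) (.node (.leaf (267, false)) (.leaf (63, false))))))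

def orbitPar7 : Janko.Tree (ℕ × Bool) :=
  (.node (.node (.node (.node (.node (.leaf (4, true)) (.leaf (51, false))) (.leaf (225, false))) (.node (.leaf (123, true)) (.leaf (274, false)))) (.node (.node (.node (.leaf (172, false)) (.leaf (292, false))) (.leaf (31, true))) (.node (.leaf (134, true)) (.leaf (23, false))))) (.node (.node (.node (.node (.leaf (59, false)) (.leaf (16, true))) (.leaf (173, false))) (.node (.leaf (19, true)) (.leaf (3, true)))) (.node (.node (.node (.leaf (262, false)) (.leaf (34, true))) (.leaf (228, false))) (.node (.leaf (133, true)) (.leaf (239, false))))))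

def orbitPar8 : Janko.Tree (ℕ × Bool) :=
  (.node (.node (.node (.node (.node (.leaf (239, true)) (.leaf (215, false))) (.leaf (105, false))) (.node (.leaf (242, true)) (.leaf (146, true)))) (.node (.node (.node (.leaf (263, true)) (.leaf (240, true))) (.leaf (181, true))) (.node (.leaf (81, true)) (.leaf (295, true))))) (.node (.node (.node (.node (.leaf (14, true)) (.leaf (13, false))) (.leaf (75, true))) (.node (.leaf (81, false)) (.leaf (68, false)))) (.node (.node (.node (.leaf (178, false)) (.leaf (78, true))) (.leaf (5, true))) (.node (.leaf (286, false)) (.leaf (57, false))))))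

def orbitPar9 : Janko.Tree (ℕ × Bool) :=
  (.node (.node (.node (.node (.node (.leaf (211, false)) (.leaf (30, true))) (.leaf (260, false))) (.node (.leaf (119, false)) (.leaf (61, true)))) (.node (.node (.node (.leaf (39, true)) (.leaf (294, false))) (.leaf (38, true))) (.node (.leaf (157, false)) (.leaf (63, true))))) (.node (.node (.node (.node (.leaf (74, false)) (.leaf (262, true))) (.leaf (125, false))) (.node (.leaf (45, true)) (.leaf (246, false)))) (.node (.node (.node (.leaf (59, true)) (.leaf (21, true))) (.leaf (311, true))) (.node (.leaf (204, true)) (.leaf (137, true))))))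

def orbitPar10 : Janko.Tree (ℕ × Bool) :=
  (.node (.node (.node (.node (.node (.leaf (146, false)) (.leaf (40, false))) (.leaf (3, false))) (.node (.leaf (2, false)) (.leaf (272, false)))) (.node (.node (.node (.leaf (208, false)) (.leaf (188, true))) (.leaf (111, false))) (.node (.leaf (25, true)) (.leaf (41, true))))) (.node (.node (.node (.node (.leaf (306, false)) (.leaf (15, true))) (.leaf (235, false))) (.node (.leaf (151, false)) (.leaf (155, false)))) (.node (.node (.node (.leaf (302, false)) (.leaf (43, true))) (.leaf (35, true))) (.node (.leaf (164, false)) (.leaf (147, false))))))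

def orbitPar11 : Janko.Tree (ℕ × Bool) :=
  (.node (.node (.node (.node (.node (.leaf (138, false)) (.leaf (145, false))) (.leaf (171, false))) (.node (.leaf (143, false)) (.leaf (312, false)))) (.node (.node (.node (.leaf (7, false)) (.leaf (265, false))) (.leaf (50, false))) (.node (.leaf (6, false)) (.leaf (148, false))))) (.node (.node (.node (.node (.leaf (78, false)) (.leaf (129, false))) (.leaf (225, true))) (.node (.leaf (77, false)) (.leaf (150, true)))) (.node (.node (.leaf (65, false)) (.leaf (109, true))) (.node (.leaf (48, true)) (.leaf (282, false))))))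

def orbitPar12 : Janko.Tree (ℕ × Bool) :=
  (.node (.node (.node (.node (.node (.leaf (0, false)) (.leaf (35, false))) (.leaf (24, true))) (.node (.leaf (227, false)) (.leaf (99, false)))) (.node (.node (.node (.leaf (118, true)) (.leaf (159, false))) (.leaf (145, true))) (.node (.leaf (276, false)) (.leaf (102, true))))) (.node (.node (.node (.node (.leaf (257, false)) (.leaf (135, false))) (.leaf (67, false))) (.node (.leaf (142, true)) (.leaf (68, true)))) (.node (.node (.leaf (270, true)) (.leaf (13, true))) (.node (.leaf (217, true)) (.leaf (11, true))))))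

def orbitPar13 : Janko.Tree (ℕ × Bool) :=
  (.node (.node (.node (.node (.node (.leaf (110, false)) (.leaf (11, false))) (.leaf (241, false))) (.node (.leaf (51, true)) (.leaf (124, false)))) (.node (.node (.node (.leaf (167, false)) (.leaf (307, false))) (.leaf (260, true))) (.node (.leaf (102, false)) (.leaf (169, true))))) (.node (.node (.node (.node (.leaf (104, false)) (.leaf (148, true))) (.leaf (301, true))) (.node (.leaf (27, true)) (.leaf (175, true)))) (.node (.node (.leaf (307, true)) (.leaf (84, true))) (.node (.leaf (201, false)) (.leaf (8, false))))))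

def orbitPar14 : Janko.Tree (ℕ × Bool) :=
  (.node (.node (.node (.node (.node (.leaf (271, true)) (.leaf (97, false))) (.leaf (264, true))) (.node (.leaf (207, true)) (.leaf (267, true)))) (.node (.node (.node (.leaf (60, true)) (.leaf (199, false))) (.leaf (144, true))) (.node (.leaf (108, true)) (.leaf (84, false))))) (.node (.node (.node (.node (.leaf (38, false)) (.leaf (271, false))) (.leaf (95, true))) (.node (.leaf (86, true)) (.leaf (299, false)))) (.node (.node (.leaf (224, true)) (.leaf (126, true))) (.node (.leaf (139, true)) (.leaf (223, true))))))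

def orbitPar15 : Janko.Tree (ℕ × Bool) :=
  (.node (.node (.node (.node (.node (.leaf (276, true)) (.leaf (214, false))) (.leaf (2, true))) (.node (.leaf (182, true)) (.leaf (75, false)))) (.node (.node (.node (.leaf (259, true)) (.leaf (125, true))) (.leaf (251, false))) (.node (.leaf (304, true)) (.leaf (52, false))))) (.node (.node (.node (.node (.leaf (138, true)) (.leaf (116, false))) (.leaf (133, false))) (.node (.leaf (250, false)) (.leaf (156, true)))) (.node (.node (.leaf (74, true)) (.leaf (36, true))) (.node (.leaf (93, true)) (.leaf (162, true))))))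

def orbitPar : Janko.Tree (ℕ × Bool) :=
  (.node (.node (.node (.node orbitPar0 orbitPar8) (.node orbitPar4 orbitPar12)) (.node (.node orbitPar2 orbitPar10) (.node orbitPar6 orbitPar14))) (.node (.node (.node orbitPar1 orbitPar9) (.node orbitPar5 orbitPar13)) (.node (.node orbitPar3 orbitPar11) (.node orbitPar7 orbitPar15))))

def orbitRank0 : Janko.Tree (ℕ) :=
  (.node (.node (.node (.node (.node (.leaf 0) (.leaf 6)) (.leaf 7)) (.node (.leaf 2) (.leaf 6))) (.node (.node (.node (.leaf 4) (.leaf 5)) (.leaf 8)) (.node (.leaf 8) (.leaf 5)))) (.node (.node (.node (.node (.leaf 3) (.leaf 9)) (.leaf 5)) (.node (.leaf 5) (.leaf 4))) (.node (.node (.node (.leaf 4) (.leaf 3)) (.leaf 9)) (.node (.leaf 8) (.leaf 8)))))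

def orbitRank1 : Janko.Tree (ℕ) :=
  (.node (.node (.node (.node (.node (.leaf 0) (.leaf 6)) (.leaf 5)) (.node (.leaf 1) (.leaf 7))) (.node (.node (.node (.leaf 9) (.leaf 4)) (.leaf 7)) (.node (.leaf 5) (.leaf 2)))) (.node (.node (.node (.node (.leaf 6) (.leaf 3)) (.leaf 2)) (.node (.leaf 1) (.leaf 8))) (.node (.node (.node (.leaf 7) (.leaf 4)) (.leaf 2)) (.node (.leaf 8) (.leaf 5)))))

def orbitRank2 : Janko.Tree (ℕ) :=
  (.node (.node (.node (.node (.node (.leaf 0) (.leaf 4)) (.leaf 4)) (.node (.leaf 6) (.leaf 5))) (.node (.node (.node (.leaf 3) (.leaf 5)) (.leaf 4)) (.node (.leaf 7) (.leaf 4)))) (.node (.node (.node (.node (.leaf 6) (.leaf 4)) (.leaf 5)) (.node (.leaf 7) (.leaf 8))) (.node (.node (.node (.leaf 4) (.leaf 7)) (.leaf 7)) (.node (.leaf 7) (.leaf 4)))))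

def orbitRank3 : Janko.Tree (ℕ) :=
  (.node (.node (.node (.node (.node (.leaf 0) (.leaf 7)) (.leaf 9)) (.node (.leaf 4) (.leaf 5))) (.node (.node (.node (.leaf 6) (.leaf 9)) (.leaf 8)) (.node (.leaf 4) (.leaf 4)))) (.node (.node (.node (.node (.leaf 5) (.leaf 8)) (.leaf 4)) (.node (.leaf 10) (.leaf 6))) (.node (.node (.node (.leaf 3) (.leaf 5)) (.leaf 5)) (.node (.leaf 7) (.leaf 5)))))

def orbitRank4 : Janko.Tree (ℕ) :=
  (.node (.node (.node (.node (.node (.leaf 0) (.leaf 6)) (.leaf 5)) (.node (.leaf 6) (.leaf 9))) (.node (.node (.node (.leaf 7) (.leaf 6)) (.leaf 6)) (.node (.leaf 8) (.leaf 8)))) (.node (.node (.node (.node (.leaf 7) (.leaf 3)) (.leaf 7)) (.node (.leaf 5) (.leaf 6))) (.node (.node (.node (.leaf 6) (.leaf 6)) (.leaf 7)) (.node (.leaf 6) (.leaf 7)))))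

def orbitRank5 : Janko.Tree (ℕ) :=
  (.node (.node (.node (.node (.node (.leaf 7) (.leaf 5)) (.leaf 5)) (.node (.leaf 7) (.leaf 7))) (.node (.node (.node (.leaf 6) (.leaf 6)) (.leaf 8)) (.node (.leaf 5) (.leaf 6)))) (.node (.node (.node (.node (.leaf 8) (.leaf 6)) (.leaf 8)) (.node (.leaf 5) (.leaf 4))) (.node (.node (.node (.leaf 8) (.leaf 8)) (.leaf 6)) (.node (.leaf 5) (.leaf 7)))))

def orbitRank6 : Janko.Tree (ℕ) :=
  (.node (.node (.node (.node (.node (.leaf 8) (.leaf 5)) (.leaf 6)) (.node (.leaf 6) (.leaf 5))) (.node (.node (.node (.leaf 5) (.leaf 5)) (.leaf 9)) (.node (.leaf 3) (.leaf 5)))) (.node (.node (.node (.node (.leaf 7) (.leaf 5)) (.leaf 4)) (.node (.leaf 6) (.leaf 1))) (.node (.node (.node (.leaf 6) (.leaf 1)) (.leaf 7)) (.node (.leaf 4) (.leaf 3)))))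

def orbitRank7 : Janko.Tree (ℕ) :=
  (.node (.node (.node (.node (.node (.leaf 1) (.leaf 4)) (.leaf 3)) (.node (.leaf 6) (.leaf 5))) (.node (.node (.node (.leaf 4) (.leaf 7)) (.leaf 3)) (.node (.leaf 7) (.leaf 4)))) (.node (.node (.node (.node (.leaf 3) (.leaf 4)) (.leaf 8)) (.node (.leaf 6) (.leaf 1))) (.node (.node (.node (.leaf 6) (.leaf 4)) (.leaf 9)) (.node (.leaf 6) (.leaf 8)))))

def orbitRank8 : Janko.Tree (ℕ) :=
  (.node (.node (.node (.node (.node (.leaf 8) (.leaf 2)) (.leaf 9)) (.node (.leaf 5) (.leaf 6))) (.node (.node (.node (.leaf 5) (.leaf 9)) (.leaf 7)) (.node (.leaf 2) (.leaf 8)))) (.node (.node (.node (.node (.leaf 4) (.leaf 7)) (.leaf 3)) (.node (.leaf 2) (.leaf 7))) (.node (.node (.node (.leaf 8) (.leaf 5)) (.leaf 8)) (.node (.leaf 4) (.leaf 4)))))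

def orbitRank9 : Janko.Tree (ℕ) :=
  (.node (.node (.node (.node (.node (.leaf 7) (.leaf 7)) (.leaf 7)) (.node (.leaf 7) (.leaf 7))) (.node (.node (.node (.leaf 5) (.leaf 6)) (.leaf 6)) (.node (.leaf 8) (.leaf 3)))) (.node (.node (.node (.node (.leaf 2) (.leaf 6)) (.leaf 9)) (.node (.leaf 5) (.leaf 4))) (.node (.node (.node (.leaf 3) (.leaf 9)) (.leaf 5)) (.node (.leaf 6) (.leaf 8)))))

def orbitRank10 : Janko.Tree (ℕ) :=
  (.node (.node (.node (.node (.node (.leaf 6) (.leaf 6)) (.leaf 1)) (.node (.leaf 1) (.leaf 10))) (.node (.node (.node (.leaf 5) (.leaf 8)) (.leaf 5)) (.node (.leaf 3) (.leaf 6)))) (.node (.node (.node (.node (.leaf 8) (.leaf 5)) (.leaf 9)) (.node (.leaf 9) (.leaf 4))) (.node (.node (.node (.leaf 7) (.leaf 3)) (.leaf 7)) (.node (.leaf 7) (.leaf 5)))))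

def orbitRank11 : Janko.Tree (ℕ) :=
  (.node (.node (.node (.node (.node (.leaf 2) (.leaf 3)) (.leaf 6)) (.node (.leaf 2) (.leaf 6))) (.node (.node (.node (.leaf 2) (.leaf 8)) (.leaf 5)) (.node (.leaf 9) (.leaf 8)))) (.node (.node (.node (.node (.leaf 5) (.leaf 6)) (.leaf 3)) (.node (.leaf 5) (.leaf 5))) (.node (.node (.leaf 2) (.leaf 5)) (.node (.leaf 5) (.leaf 6)))))

def orbitRank12 : Janko.Tree (ℕ) :=
  (.node (.node (.node (.node (.node (.leaf 0) (.leaf 7)) (.leaf 5)) (.node (.leaf 5) (.leaf 5))) (.node (.node (.node (.leaf 5) (.leaf 7)) (.leaf 3)) (.node (.leaf 4) (.leaf 4)))) (.node (.node (.node (.node (.leaf 7) (.leaf 4)) (.leaf 5)) (.node (.leaf 4) (.leaf 7))) (.node (.node (.leaf 7) (.leaf 7)) (.node (.leaf 5) (.leaf 3)))))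

def orbitRank13 : Janko.Tree (ℕ) :=
  (.node (.node (.node (.node (.node (.leaf 6) (.leaf 3)) (.leaf 6)) (.node (.leaf 4) (.leaf 6))) (.node (.node (.node (.leaf 4) (.leaf 6)) (.leaf 7)) (.node (.leaf 4) (.leaf 7)))) (.node (.node (.node (.node (.leaf 3) (.leaf 8)) (.leaf 7)) (.node (.leaf 6) (.leaf 8))) (.node (.node (.leaf 6) (.leaf 6)) (.node (.leaf 8) (.leaf 9)))))

def orbitRank14 : Janko.Tree (ℕ) :=
  (.node (.node (.node (.node (.node (.leaf 3) (.leaf 6)) (.leaf 3)) (.node (.leaf 4) (.leaf 4))) (.node (.node (.node (.leaf 8) (.leaf 6)) (.leaf 6)) (.node (.leaf 5) (.leaf 6)))) (.node (.node (.node (.node (.leaf 6) (.leaf 3)) (.leaf 7)) (.node (.leaf 7) (.leaf 9))) (.node (.node (.leaf 6) (.leaf 8)) (.node (.leaf 7) (.leaf 7)))))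

def orbitRank15 : Janko.Tree (ℕ) :=
  (.node (.node (.node (.node (.node (.leaf 4) (.leaf 2)) (.leaf 1)) (.node (.leaf 8) (.leaf 3))) (.node (.node (.node (.leaf 8) (.leaf 9)) (.leaf 7)) (.node (.leaf 4) (.leaf 7)))) (.node (.node (.node (.node (.leaf 2) (.leaf 7)) (.leaf 6)) (.node (.leaf 6) (.leaf 6))) (.node (.node (.leaf 2) (.leaf 8)) (.node (.leaf 7) (.leaf 5)))))

def orbitRank : Janko.Tree (ℕ) :=
  (.node (.node (.node (.node orbitRank0 orbitRank8) (.node orbitRank4 orbitRank12)) (.node (.node orbitRank2 orbitRank10) (.node orbitRank6 orbitRank14))) (.node (.node (.node orbitRank1 orbitRank9) (.node orbitRank5 orbitRank13)) (.node (.node orbitRank3 orbitRank11) (.node orbitRank7 orbitRank15))))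

def orbitRoots : List ℕ := [0, 1, 2, 3, 4, 12]

def commuting : List ℕ := [1, 23, 32, 57, 59, 65, 132, 231, 248, 278]

def pentad : List (List ℕ) := [[0, 9], [1, 3], [2, 5], [4, 6], [7, 8]]

def quotGens : List (ℕ × ℕ × Bool) := [(60, 1326, false), (66, 910, true)]

def quotImages : List (List ℕ) := [[132, 231, 1, 248, 23, 278, 57, 65, 32, 59], [278, 59, 65, 132, 231, 32, 248, 23, 57, 1]]

def coreElems : List (ℕ × ℕ × Bool) := [
  (0, 0, false),
  (19, 420, true),
  (98, 839, true),
  (157, 1719, true),
  (98, 2850, false),
  (19, 149, false),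
  (133, 1079, true),
  (39, 1485, false),
  (76, 3455, true),
  (60, 3664, false),
  (39, 2776, false),
  (39, 2863, true),
  (51, 2192, false),
  (64, 3333, false),
  (112, 2786, true),
  (60, 3095, false),
  (98, 3670, false),
  (133, 2318, true),
  (26, 2783, true),
  (112, 1411, false),
  (18, 2391, false),
  (98, 1953, false),
  (36, 1649, true),
  (18, 1126, false),
  (42, 1863, true),
  (157, 3722, true),
  (158, 2404, false),
  (139, 2928, false),
  (157, 3083, true),
  (0, 3, false),
  (42, 791, false),
  (95, 2595, false)]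

def setMasks : List ℕ := [
  43373442315032540209024426795791586811545751978786646256949684487649900936202912075194189217952,
  49819281862031481986810361374925489764328137419622653155260200714041892098017007586364633392288,
  15698741033977045428415792149199447867961976469078777970659390333668644709397624060312362680323,
  2237811632020167214884949078978481293675538099149277077586836179205385368014180464034423514112,
  307739723336134870720766744033303936271693739384976148637114134760775279433870289741176897539,
  26150262978561171964090642196180168115674463012953140494882596891496459569413363364240365191180,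
  16769144331263370119234391259153678941549025304613230638348610477023307552888699334396492382208,
  2039745173282067309227480840964649716407206157478376437113035261217401673142825173081655552,
  16907758331767715608257813460517925681178952994008166585261904239437072904268496038716412870668,
  48274822410679754451303850827234763229071349417064995242053332989009587407106822534487605252848,
  37026693686898711507058680897074574809338085733477933321474168823404212692842741876312009353472,
  110044701878553699113564485793611154967788122356065364435318585537693170632421477605556371616,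
  594965691381050970580195882659080094176250486709558451898352142506154669660634028032259096576,
  64601136741121690868684258576465813810340688229936315043439711494847075515947282216656807526492,
  6781436023627007877847241049233552679964308190302703632020844558927831802155565448718157163776,
  31454239065825045063114231250210740028903830500890699541457367790346244148259414855507104698883,
  37691385261379836662978458736581195409536540282906930917656289929216757977444084340627624480,
  112168278346724220242023884103939540512189908554907498248809368606787890653728232170233823232,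
  35202527970037388698129975277764007210350651427177898241515128155342269817823654719460990788620,
  22962744173196429381686090923784670182867551085586670284050220440382815538836636277375045206019,
  34157530935620382300037968943468841513628486757950729399615472547025222086524652266503301922816,
  56973493448660366988522072627795756998135472953454409008320164141240219759235716101834557885264,
  183589220775633064850923165357447516377592339656985663347704680019640484968321324114934906880,
  470690800044447031656679180398199064360703924276760984214793956451103440458113729662793842688,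
  16615728748748435436796757419230736017033041940113571537884609101959722866934085078160049164,
  16688179330331480909672869711811913598285436371070960013184703291530216135484549634245864587521,
  33684428991762207995036848108631720716237861786005432373894335577891836604127136674935696523264,
  37828644347939994378901519278276119655318886830384164158187339189007051972485316313543344208,
  9517127585498177041707517987874800525995381900537108698637493366144952425604426249630724390915,
  8789069227002676263694815699607658881315158394803701702848947523378631441580286643647054336,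
  16817769886351626276851226892852669662660378208329907412152326317521554741804240136127256812288,
  33804614115154255827427372301609438178110597531788626243054020174717834512542349970473593508352,
  17731891783713469783375077086607234223521018955858462666588819395399900052637597713508703668496,
  50918415750470760620378375120399918468046929328595083471266739592080435294234759209004908412928,
  2103281949207610086532529526019539821202695963884698596488331911765221004808459378937548775424,
  13660372209121587642926221277259413098131760096291433414906972309866242384296597119984466297040,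
  9459995074242491842689449996222448742724152809384796276286428902218282530963536670821848711328,
  8351947604890342428322193951528568429053971053812404826585762972831188402079698702273989853834,
  35070121871882174893452640642300622280431288174780657661334140681121556496792200470619121289300,
  16793467830318354856058569025425644818582147231624087250843214899521159708617652616880065675264,
  12515618788183598548847241294619578074432480249353763491088161903530377949200276997287710834764,
  260748655391266940025242336352267659669912839116558525107483340936163235981928001881841439232,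
  16552006188816426423898697279463450148691884843111314478459687154797546648002891279333982208,
  16785234632125007537923727042782946970745104360348133994365842772089036438573313854645988622352,
  135568480366379851564644588675186006441563285592763812634458967270007746185271753693839508232,
  34165824175510502192070770835923705666463282055915074636000829056112522868436230298570003087872,
  35645425177638692599025663975851475090882690634094537247845173698556945022836969330638785085440,
  588745174284601786050000345894926753676109724720486026686376558530480326329184688985327796256,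
  18774346567612562405923684348567660587498737482903506789198700033996233306505979988731223874066,
  35726555470950040051463177424057744827652378948860990349696672045327915533358581611124613985440,
  24575741077800095561898297255815207566849591197604951027091795507793773438189240139443601411,
  6520591953945108956127686440005039124601095279587836967034826537511177077285427859935432093797,
  13053645965531087690843899548226907507316920015803158239447185646438006312197116859620815750282,
  50543064063006915657783259896611373067643723418524189519847614482802271210414101280835223158784,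
  6257779492562733960591713434239487390851850987838015051952850724335986840483006766574968277076,
  8344033560281112422523665882322809270701478593530904834335744091742097086897124028736350524576,
  2085956684111677082407404776518848249298848609033237920815412028127293255101429325410882428928,
  1042962435822058588770458359502857129820649884147176166249899785613581781576033479566625343760,
  33899175184966260695073066507194162020854008194371288618539368344013728710742967897004376720136,
  21445923718442670879007577185099451154382191880203628262591671483724190093894697397188143693900,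
  14601492279349065200624616870103337265628233004888522535516522201711012120281085432838794683520,
  285312842165113613373891401871543928877215258435986020734010336290852284999201766844724740096,
  30345727440522476236697319534702955064984369819235218797805678856526343942368527970695154499584,
  33913340065819773627900733335356098247518307098040359905485739956893801522560680771454219846816,
  6263018295512325563173862027727864072242958798658178732860483985406930579440424246474440974657,
  373989261181900310132278975794126822342588138302026621450772370132506858762470269536768801,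
  143231036661384135109367051569058619787533606778490426511482304628761095086231661054272512,
  34661942040004379430202345896492455733710307736513287700956724414393374298661848879295102979,
  260740669564569707387599096584885602179074636156757858152914402435309720578240892638316756995,
  654031793073031602654942732462495529914816626958381479577613959771165312930999489344538414098,
  15775316108428394862852985286850595164423569014055177323406505225810818918100829194340339720261,
  9652558771229007326960011218894734463176051617327293385525394711562482680659125079990505833626,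
  2291665718174364591313242768792794315583192177193899795974919633114350926413702725241934368,
  4174014162359841943258808340494977747423698267363642053298615193603420750915668953026078443856,
  5411001385800446694883195812787264229800729371678638851470121763438603976951008990048829704,
  12548141870713911743973387601246622021865310562254934053097078687558024234147304849335950332640,
  9387171785871190495745242114352161083102924921004446473301732550815543721022951372429170353280,
  1080648585555683212938832579184623034734549344776965338657069395477163661816008733932281921539,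
  521486263846109523559727862341382857436001429213151997910638883923446721384664212086886778882,
  2218332710557568246304305106989230407373007289789500092676257014255671325864574474870702849028,
  130370395764358169932997916527391844870797708617369182603274550987297982607242360290270529792,
  60726929757685444440804775865972022998563781184812377708376069060062403247036719180,
  2043004826687557399757961884194644685786598942626417361767661357019065630957379363039877236,
  1043511464736964709028820233607143249407102768521733176983198977542981560542422281280103522561,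
  16948139410037542549802939795512160730151968988779185599097725915068968899333071135793049964547,
  16760736489432350194827987459628801737973621905855459339056188758720414534841841728976355082252,
  1068175963320200681894282859120873707059292491459489650244524395136057794952018237106236162085,
  1989779573173043226512687817574273574485344638076622897212141083165111540244084819001344,
  9713348224385682069328526000997303095814676044694503790630611312751123453023597198752,
  17903758876141818724407045882559247670930402256808776570418216442069673364894132517473712,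
  522499727944972789113714838626133731655850602876572935022558490882267374922143933072507683338,
  138661675968505721353626932627962819536648307427550831836370410614504321062496677232439230979,
  33635633651687942672638946148144138610208546740711449533450587693339188617075114035443985809500,
  146668610671730912969562708530893179932113566862233444293741171817987562332945637085864682508,
  4074087494257720775447447208062540330793384011442160950021116287086433893375776461415671176,
  249640544212865609126832273596641582993139987660233157467339778269211246619856696578149,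
  16752583869374813573471698205053140094235230530190623417353402942068105171423692678493244883036,
  1616304342249761568789226334401959485418905851720676194738726832017444507345744717974674,
  33374797436264220037832124485099926030313708284795204114488742247430600417835610337080730721264,
  32592579992356784888185567543289228249677347513272557969615442477968060216920905470200484355]

def setActX : List ℕ := [1, 3, 2, 6, 4, 9, 0, 11, 13, 14, 16, 18, 20, 21, 22, 15, 24, 26, 27, 28, 29, 30, 5, 33, 35, 37, 17, 7, 19, 41, 8, 39, 44, 45, 47, 10, 49, 51, 32, 31, 54, 12, 36, 58, 59, 61, 62, 63, 65, 66, 68, 69, 70, 53, 57, 60, 72, 74, 75, 38, 56, 23, 46, 76, 78, 52, 42, 67, 50, 25, 48, 64, 55, 80, 40, 79, 34, 77, 86, 43, 85, 82, 89, 90, 91, 92, 71, 87, 93, 94, 95, 84, 73, 96, 81, 97, 98, 83, 88, 99]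

def setActY : List ℕ := [2, 4, 5, 7, 8, 0, 10, 12, 1, 15, 17, 19, 3, 9, 23, 13, 25, 6, 11, 18, 27, 31, 32, 34, 36, 38, 39, 30, 40, 42, 20, 43, 45, 46, 14, 48, 50, 52, 16, 53, 55, 56, 57, 21, 60, 22, 62, 64, 58, 67, 24, 51, 71, 26, 72, 28, 73, 29, 35, 49, 69, 61, 33, 77, 79, 70, 80, 59, 81, 44, 82, 37, 83, 41, 76, 84, 78, 85, 74, 47, 87, 88, 65, 54, 92, 63, 86, 66, 68, 91, 94, 93, 75, 89, 97, 95, 98, 90, 99, 96]

def setPar : List (ℕ × Bool) := [(0, false), (0, false), (0, true), (1, false), (1, true), (2, true), (3, false), (3, true), (4, true), (5, false), (6, true), (7, false), (7, true), (8, false), (9, false), (9, true), (10, false), (10, true), (11, false), (11, true), (12, false), (13, false), (14, false), (14, true), (16, false), (16, true), (17, false), (18, false), (19, false), (20, false), (21, false), (21, true), (22, true), (23, false), (23, true), (24, false), (24, true), (25, false), (25, true), (26, true), (28, true), (29, false), (29, true), (31, true), (32, false), (32, true), (33, true), (34, false), (35, true), (36, false), (36, true),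 (37, false), (37, true), (39, true), (40, false), (40, true), (41, true), (42, true), (43, false), (44, false), (44, true), (45, false), (46, false), (47, false), (47, true), (48, false), (49, false), (49, true), (50, false), (51, false), (52, false), (52, true), (54, true), (56, true), (57, false), (58, false), (63, false), (63, true), (64, false), (64, true), (66, true), (68, true), (70, true), (72, true), (75, true), (77, true), (78, false), (80, true), (81, true), (82, false), (83, false), (84, false), (84, true), (88, false), (89, false), (90, false), (93, false), (94, true), (96, false), (98, true)]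

end Cfsg.Agent.Lie.J2Cert
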