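import Cfsg.Agent.Lib.Lie.Ico.GroupDefs
import Cfsg.Agent.Lib.Lie.Ico.SimpleData

/-!
Boolean tests for simplicity, the involution centraliser and the degree 100 action.
-/

set_option autoImplicit false
set_option maxRecDepth 100000
set_option maxHeartbeats 0

namespace Cfsg.Agent.Lie.J2Cert

open Cfsg.Agent.Lie.Janko (M7)

/-- A decomposed element as a matrix. -/
def cmat (c : ℕ × ℕ × Bool) : M7 := sgn c.2.2 ((borel.get c.1).mul (reps.get c.2.1))

/-- Bounds of a decomposed element. -/
def cBound (c : ℕ × ℕ × Bool) : Bool := Nat.blt c.1 160 && Nat.blt c.2.1 3780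

/-- Equality up to sign. -/
def pmEq (A B : M7) : Bool := A.beq B || (negMat.mul A).beq B

/-- Conjugation by a matrix sends one reflection to another. -/
def conjOk (U : M7) (j i : ℕ) : Bool := (U.mul (reflMat.get j)).beq ((reflMat.get i).mul U) && Nat.blt i 315

/-- Conjugation by the generators of the group. -/
def genConjCheck (j : ℕ) : Bool := conjOk xMat j (conjX.get j) && conjOk yMat j (conjY.get j)

/-- The generators of the stabiliser. -/
def stabGen (n : Bool) : ℕ × ℕ × Bool := stabGens.getD (if n then 1 else 0) (0, 0, false)

/-- The action of the stabiliser generators. -/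
def stabAct (n : Bool) (j : ℕ) : ℕ := if n then stabActB.get j else stabActA.get j

/-- Conjugation by the stabiliser generators and the orbit trees. -/
def orbitCheck (j : ℕ) : Bool :=
  conjOk (cmat (stabGen false)) j (stabAct false j) && (conjOk (cmat (stabGen true)) j (stabAct true j) &&
  (Nat.blt (orbitLabel.get j) 6 &&
    ((Nat.beq (orbitRank.get j) 0 && Nat.beq j (orbitRoots.getD (orbitLabel.get j) 0)) ||
      (Nat.blt (orbitRank.get (orbitPar.get j).1) (orbitRank.get j) &&
        (Nat.blt (orbitPar.get j).1 315 &&
        (Nat.beq (stabAct (orbitPar.get j).2 (orbitPar.get j).1) j &&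
          Nat.beq (orbitLabel.get (orbitPar.get j).1) (orbitLabel.get j)))))))

/-- The number of points in the orbits selected by a mask. -/
def orbitCount (m : ℕ) : ℕ := (List.range 315).countP fun j => m.testBit (orbitLabel.get j)

/-- No union of orbits containing the fixed point has a size dividing 315, except the two trivial ones. -/
def maskCheck (m : ℕ) : Bool :=
  !(m.testBit 0) || Nat.beq m 1 || Nat.beq m 63 || !(Nat.beq (315 % orbitCount m) 0)

/-- The reflections commuting with the first one up to sign. -/
def commCheck (j : ℕ) : Bool :=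
  Nat.beq j 0 || commuting.contains j ||
    !(pmEq ((reflMat.get j).mul (reflMat.get 0)) ((reflMat.get 0).mul (reflMat.get j)))

/-- The members of a pair. -/
def pairMem (k : ℕ) : ℕ × ℕ :=
  (commuting.getD ((pentad.getD k []).getD 0 0) 0, commuting.getD ((pentad.getD k []).getD 1 0) 0)

/-- Membership in a pair. -/
def inPair (k j : ℕ) : Bool := Nat.beq j (pairMem k).1 || Nat.beq j (pairMem k).2

/-- The five pairs. -/
def pairCheck (k : ℕ) : Bool :=
  pmEq ((reflMat.get (pairMem k).1).mul (reflMat.get (pairMem k).2)) (reflMat.get 0) &&
  (pmEq ((reflMat.get (pairMem k).2).mul (reflMat.get (pairMem k).1)) (reflMat.get 0) &&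
  (!(Nat.beq (pairMem k).1 0) && (!(Nat.beq (pairMem k).2 0) && (Nat.blt (pairMem k).1 315 &&
    (Nat.blt (pairMem k).2 315 && (!(Nat.beq (pairMem k).1 (pairMem k).2) &&
      ((List.range k).all fun l => !(inPair l (pairMem k).1) && !(inPair l (pairMem k).2))))))))

/-- The generators of the quotient. -/
def quotGen (n : Bool) : ℕ × ℕ × Bool := quotGens.getD (if n then 1 else 0) (0, 0, false)

/-- The image of a commuting reflection under a generator of the quotient. -/
def quotImage (n : Bool) (i : ℕ) : ℕ := (quotImages.getD (if n then 1 else 0) []).getD i 0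

/-- The generators of the quotient fix the first reflection and move the commuting ones as listed. -/
def quotCheck (n : Bool) : Bool :=
  cBound (quotGen n) && (conjOk (cmat (quotGen n)) 0 0 &&
    (List.range 10).all fun i => conjOk (cmat (quotGen n)) (commuting.getD i 0) (quotImage n i))

/-- An element of the core fixes the first reflection and every pair. -/
def coreCheck (c : ℕ × ℕ × Bool) : Bool :=
  cBound c && (conjOk (cmat c) 0 0 && (List.range 5).all fun k =>
    conjOk (cmat c) (pairMem k).1 (pairMem k).1 || conjOk (cmat c) (pairMem k).1 (pairMem k).2)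

/-- An element is trivial or the first reflection, up to sign. -/
def inCenter (A : M7) : Bool := pmEq A M7.one || pmEq A (reflMat.get 0)

/-- Squares and commutators of two elements of the core. -/
def coreMulCheck (c d : ℕ × ℕ × Bool) : Bool :=
  let A := cmat c
  let B := cmat d
  inCenter (A.mul A) &&
    (pmEq (A.mul B) (B.mul A) || pmEq (A.mul B) ((B.mul A).mul (reflMat.get 0)))

/-- An element of the core that is not central has a partner not commuting with it. -/
def coreCenterCheck (c : ℕ × ℕ × Bool) : Bool :=
  inCenter (cmat c) || coreElems.any fun d => !(pmEq ((cmat c).mul (cmat d)) ((cmat d).mul (cmat c)))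

/-- The two generators permute the hundred sets. -/
def setCheck (q : ℕ) : Bool :=
  Nat.blt (setActX.getD q 0) 100 && (Nat.blt (setActY.getD q 0) 100 && (List.range 315).all fun j =>
    ((setMasks.getD q 0).testBit j == (setMasks.getD (setActX.getD q 0) 0).testBit (conjX.get j)) &&
    ((setMasks.getD q 0).testBit j == (setMasks.getD (setActY.getD q 0) 0).testBit (conjY.get j)))

end Cfsg.Agent.Lie.J2Cert
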